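import Mathlib.AlgebraicGeometry.Morphisms.FiniteType
import Mathlib.AlgebraicGeometry.AffineScheme
import Mathlib.CategoryTheory.Comma.Over.Basic
import Mathlib.RingTheory.FiniteType
import Mathlib.AlgebraicGeometry.Morphisms.QuasiCompact

/-!
# Schemes of finite type have finitely many points with values in a finite field
-/

universe u

open CategoryTheory AlgebraicGeometry

namespace Groth.Agent.AlgStLib.FinitePoints

variable {F : Type u} [Field F] [Finite F]

theorem finite_ringHom {A : CommRingCat.{u}} (ψ : CommRingCat.of F ⟶ A) (hψ : ψ.hom.FiniteType) :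
    Finite {h : A ⟶ CommRingCat.of F // ψ ≫ h = 𝟙 _} := by
  letI := ψ.hom.toAlgebra
  haveI : Algebra.FiniteType F A := hψ
  obtain ⟨n, f, hf⟩ := Algebra.FiniteType.iff_quotient_mvPolynomial''.1 this
  refine Finite.of_injective (fun h i => h.1.hom (f (MvPolynomial.X i))) fun h h' e => Subtype.ext ?_
  have hC : ∀ g : {h : A ⟶ CommRingCat.of F // ψ ≫ h = 𝟙 _}, ∀ c : F, g.1.hom (f (MvPolynomial.C c)) = c := by
    intro g c
    rw [← MvPolynomial.algebraMap_eq, f.commutes]
    exact congrArg (fun k => k.hom c) g.2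
  apply CommRingCat.hom_ext
  refine RingHom.ext fun a => ?_
  obtain ⟨p, rfl⟩ := hf a
  have : h.1.hom.comp f.toRingHom = h'.1.hom.comp f.toRingHom := MvPolynomial.ringHom_ext
    (fun c => (hC h c).trans (hC h' c).symm) (fun i => congrFun e i)
  exact congrFun (congrArg DFunLike.coe this) p

theorem finite_points (X : Over (Spec (CommRingCat.of F))) [LocallyOfFiniteType X.hom] [QuasiCompact X.hom] :
    Finite (Over.mk (𝟙 (Spec (CommRingCat.of F))) ⟶ X) := by
  haveI : CompactSpace X.left := QuasiCompact.compactSpace_of_compactSpace X.hom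
  let 𝒰 := X.left.affineCover.finiteSubcover
  have hfin : Finite 𝒰.I₀ := inferInstance
  let A : 𝒰.I₀ → CommRingCat.{u} := fun i => Γ(𝒰.X i, ⊤)
  haveI : ∀ i, IsAffine (𝒰.X i) := fun i => inferInstanceAs (IsAffine (X.left.affineCover.X _))
  let j : ∀ i, Spec (A i) ⟶ X.left := fun i => (𝒰.X i).isoSpec.inv ≫ 𝒰.f i
  let ψ : ∀ i, CommRingCat.of F ⟶ A i := fun i => Spec.preimage (j i ≫ X.hom)
  have hψ : ∀ i, (ψ i).hom.FiniteType := fun i => by
    rw [← HasRingHomProperty.Spec_iff (P := @LocallyOfFiniteType), Spec.map_preimage]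
    infer_instance
  haveI := fun i => finite_ringHom (ψ i) (hψ i)
  refine Finite.of_surjective (α := Σ i, {h : A i ⟶ CommRingCat.of F // ψ i ≫ h = 𝟙 _})
    (fun p => Over.homMk (Spec.map p.2.1 ≫ j p.1) (by
      show (Spec.map p.2.1 ≫ j p.1) ≫ X.hom = 𝟙 _
      rw [Category.assoc, ← Spec.map_preimage (j p.1 ≫ X.hom), ← Spec.map_comp, p.2.2, Spec.map_id])) fun φ => ?_
  obtain ⟨i, z, hz⟩ := 𝒰.exists_eq (φ.left (IsLocalRing.closedPoint F))
  have hr : Set.range φ.left ⊆ Set.range (j i) := by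
    rintro _ ⟨s, rfl⟩
    refine ⟨(𝒰.X i).isoSpec.hom z, ?_⟩
    rw [← Scheme.Hom.comp_apply, Iso.hom_inv_id_assoc, hz, Subsingleton.elim (IsLocalRing.closedPoint F) s]
  let l := IsOpenImmersion.lift (j i) φ.left hr
  have hl : l ≫ j i = φ.left := IsOpenImmersion.lift_fac _ _ _
  refine ⟨⟨i, Spec.preimage l, Spec.map_injective ?_⟩, Over.OverMorphism.ext ?_⟩
  · rw [Spec.map_comp, Spec.map_preimage, Spec.map_preimage, ← Category.assoc, hl, Spec.map_id]
    exact Over.w φ
  · show Spec.map (Spec.preimage l) ≫ j i = φ.left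
    rw [Spec.map_preimage, hl]

end Groth.Agent.AlgStLib.FinitePoints
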