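import Mathlib.AlgebraicGeometry.AlgClosed.Basic
import Mathlib.AlgebraicGeometry.Morphisms.Smooth
import Mathlib.RingTheory.Spectrum.Prime.Chevalley
import Mathlib.RingTheory.Flat.TorsionFree
import Mathlib.RingTheory.PolynomialAlgebra
import Mathlib.FieldTheory.IsAlgClosed.AlgebraicClosure

/-!
# Rational points over algebraically closed fields
-/

set_option autoImplicit false
universe u

open CategoryTheory AlgebraicGeometry Polynomial
open scoped TensorProduct

namespace Groth.Agent.AlgStLib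

theorem false_of_transcendental {k L Ω : Type u} [Field k] [Field L] [Field Ω] [Infinite k] [Algebra k L]
    [Algebra L Ω] {T : Ω} (hT : Transcendental L T) (C : Subalgebra L Ω) (hfg : C.FG) (hTC : T ∈ C)
    (hinv : ∀ a : k, (T - algebraMap L Ω (algebraMap k L a))⁻¹ ∈ C) : False := by
  let g : L[X] →ₐ[L] C := aeval (⟨T, hTC⟩ : C)
  have hg : Function.Injective g := by
    intro p q h
    refine transcendental_iff_injective.1 hT ?_
    have := congrArg (C.val) h
    rwa [← aeval_algHom_apply, ← aeval_algHom_apply] at this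
  letI : Algebra L[X] C := g.toRingHom.toAlgebra
  haveI : IsScalarTower L L[X] C := IsScalarTower.of_algebraMap_eq fun x => (g.commutes x).symm
  haveI : Algebra.FiniteType L C := C.fg_iff_finiteType.1 hfg
  haveI : Algebra.FiniteType L[X] C := Algebra.FiniteType.of_restrictScalars_finiteType L L[X] C
  haveI : Algebra.FinitePresentation L[X] C := Algebra.FinitePresentation.of_finiteType.1 inferInstance
  haveI : Module.IsTorsionFree L[X] C := by
    haveI : FaithfulSMul L[X] C := (faithfulSMul_iff_algebraMap_injective _ _).2 hg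
    infer_instance
  have ho := PrimeSpectrum.isOpenMap_comap_of_hasGoingDown_of_finitePresentation (R := L[X]) (S := C) _ isOpen_univ
  rw [Set.image_univ] at ho
  haveI : (⊥ : Ideal C).IsPrime := Ideal.isPrime_bot
  have hmem : (⟨⊥, Ideal.isPrime_bot⟩ : PrimeSpectrum L[X]) ∈ Set.range (PrimeSpectrum.comap (algebraMap L[X] C)) :=
    ⟨⟨⊥, Ideal.isPrime_bot⟩, PrimeSpectrum.ext (by
      show Ideal.comap (algebraMap L[X] C) ⊥ = ⊥
      rw [← RingHom.ker_eq_comap_bot]
      exact (RingHom.injective_iff_ker_eq_bot _).1 hg)⟩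
  obtain ⟨_, ⟨_, ⟨r, rfl⟩, rfl⟩, hr, hsub⟩ := PrimeSpectrum.isBasis_basic_opens.exists_subset_of_mem_open hmem ho
  have hr0 : r ≠ 0 := fun h => hr (by rw [h]; exact Ideal.zero_mem _)
  obtain ⟨a, ha⟩ : ∃ a : k, r.eval (algebraMap k L a) ≠ 0 := by
    by_contra hcon
    push_neg at hcon
    exact hr0 (eq_zero_of_infinite_isRoot r (Set.infinite_of_injective_forall_mem
      (algebraMap k L).injective fun a => hcon a))
  let P : PrimeSpectrum L[X] := ⟨Ideal.span {X - Polynomial.C (algebraMap k L a)}, Ideal.IsMaximal.isPrime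
    (PrincipalIdealRing.isMaximal_of_irreducible (irreducible_X_sub_C _))⟩
  obtain ⟨Q, hQ⟩ := hsub (show P ∈ (PrimeSpectrum.basicOpen r : Set (PrimeSpectrum L[X])) from fun h =>
    ha ((dvd_iff_isRoot.1 (Ideal.mem_span_singleton.1 h))))
  have hu : g (X - Polynomial.C (algebraMap k L a)) ∈ Q.asIdeal := by
    have h : X - Polynomial.C (algebraMap k L a) ∈ P.asIdeal := Ideal.mem_span_singleton_self _
    rw [← hQ] at h
    exact h
  have hne : T - algebraMap L Ω (algebraMap k L a) ≠ 0 := fun h => hT ⟨X - Polynomial.C (algebraMap k L a),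
    X_sub_C_ne_zero _, by simpa using h⟩
  refine Q.isPrime.ne_top (Ideal.eq_top_of_isUnit_mem _ hu (IsUnit.of_mul_eq_one ⟨_, hinv a⟩ (Subtype.ext ?_)))
  show ((g (X - Polynomial.C (algebraMap k L a)) : C) : Ω) * _ = 1
  rw [show ((g (X - Polynomial.C (algebraMap k L a)) : C) : Ω) = T - algebraMap L Ω (algebraMap k L a) by simp [g]]
  exact mul_inv_cancel₀ hne

theorem exists_transcendental_pair {k κ : Type u} [Field k] [Field κ] [Algebra k κ] {t : κ}
    (ht : Transcendental k t) :
    ∃ (Ω : Type u) (_ : Field Ω) (i j : κ →+* Ω),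
      i.comp (algebraMap k κ) = j.comp (algebraMap k κ) ∧
        letI := j.toAlgebra; Transcendental κ (i t) := by
  let R := κ ⊗[k] κ
  let f : κ[X] →ₐ[κ] R := aeval ((1 : κ) ⊗ₜ[k] t)
  have hf : Function.Injective f := by
    let m := Algebra.TensorProduct.map (AlgHom.id κ κ) (aeval (R := k) t)
    have e : f = m.comp (polyEquivTensor' k κ).toAlgHom := by
      refine algHom_ext ?_
      simp [f, m, polyEquivTensor_apply]
    rw [e, AlgHom.coe_comp]
    refine Function.Injective.comp ?_ (polyEquivTensor' k κ).injective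
    exact Module.Flat.lTensor_preserves_injective_linearMap (R := k) (M := κ) (aeval (R := k) t).toLinearMap
      (transcendental_iff_injective.1 ht)
  obtain ⟨P, hP, -, hd⟩ := Ideal.exists_le_prime_disjoint (⊥ : Ideal R) (Submonoid.map f (nonZeroDivisors κ[X]))
    (Set.disjoint_left.2 fun x hx hx' => by
      obtain ⟨p, hp, rfl⟩ := hx'
      exact nonZeroDivisors.ne_zero hp (hf (by rw [map_zero]; exact hx)))
  let Ω := FractionRing (R ⧸ P)
  let q : R →+* Ω := (algebraMap (R ⧸ P) Ω).comp (Ideal.Quotient.mk P)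
  have hq : ∀ x, q x = 0 → x ∈ P := fun x hx => Ideal.Quotient.eq_zero_iff_mem.1
    (IsFractionRing.injective (R ⧸ P) Ω (hx.trans (map_zero _).symm))
  refine ⟨Ω, inferInstance, q.comp (Algebra.TensorProduct.includeRight : κ →ₐ[k] R).toRingHom,
    q.comp (Algebra.TensorProduct.includeLeftRingHom : κ →+* R), ?_, ?_⟩
  · ext a
    show q ((1 : κ) ⊗ₜ algebraMap k κ a) = q (algebraMap k κ a ⊗ₜ (1 : κ))
    congr 1
    exact (Algebra.TensorProduct.includeRight.commutes a).trans (Algebra.TensorProduct.includeLeft (S := k).commutes a).symm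
  · letI := (q.comp (Algebra.TensorProduct.includeLeftRingHom : κ →+* R)).toAlgebra
    rintro ⟨p, hp, hp'⟩
    let qA : R →ₐ[κ] Ω := { q with commutes' := fun x => rfl }
    change aeval (qA ((1 : κ) ⊗ₜ[k] t)) p = 0 at hp'
    rw [aeval_algHom_apply] at hp'
    exact Set.disjoint_left.1 hd (hq _ hp') ⟨p, mem_nonZeroDivisors_of_ne_zero hp, rfl⟩

/-- a chart dominating pairs of field valued points has rational closed points -/
theorem exists_section_of_pairs {k : Type u} [Field k] [IsAlgClosed k] {A : CommRingCat.{u}} [Nontrivial A]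
    (φ : CommRingCat.of k ⟶ A) {W : Scheme.{u}} (a b : W ⟶ Spec A) [LocallyOfFiniteType b]
    (H : ∀ (Ω : Type u) [Field Ω] (α β : Spec (CommRingCat.of Ω) ⟶ Spec A), α ≫ Spec.map φ = β ≫ Spec.map φ →
      ∃ (Ω' : Type u) (_ : Field Ω') (h : Spec (CommRingCat.of Ω') ⟶ Spec (CommRingCat.of Ω))
        (g : Spec (CommRingCat.of Ω') ⟶ W), g ≫ a = h ≫ α ∧ g ≫ b = h ≫ β) :
    ∃ r : A ⟶ CommRingCat.of k, φ ≫ r = 𝟙 _ := by
  obtain ⟨m, hm⟩ := Ideal.exists_maximal A
  letI : Field (A ⧸ m) := Ideal.Quotient.field m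
  let κ := A ⧸ m
  let π : A →+* κ := Ideal.Quotient.mk m
  letI : Algebra k κ := (π.comp φ.hom).toAlgebra
  by_cases hκ : Algebra.IsIntegral k κ
  · let e := RingEquiv.ofBijective (algebraMap k κ) (IsAlgClosed.algebraMap_bijective_of_isIntegral (k := k))
    refine ⟨CommRingCat.ofHom (e.symm.toRingHom.comp π), ?_⟩
    ext x
    exact e.symm_apply_apply x
  exfalso
  obtain ⟨t, ht⟩ : ∃ t : κ, Transcendental k t := by
    by_contra hcon
    push_neg at hcon
    exact hκ ⟨fun x => isAlgebraic_iff_isIntegral.1 (not_not.1 (hcon x))⟩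
  obtain ⟨Ω, hΩ, i, j, hij, hT⟩ := exists_transcendental_pair ht
  obtain ⟨Ω', hΩ', h, g, ha, hb⟩ := H Ω (Spec.map (CommRingCat.ofHom (i.comp π)))
    (Spec.map (CommRingCat.ofHom (j.comp π))) (by
      rw [← Spec.map_comp, ← Spec.map_comp]
      congr 1
      ext x
      exact DFunLike.congr_fun hij x)
  let η : Ω →+* Ω' := (Spec.preimage h).hom
  let w := g (IsLocalRing.closedPoint Ω')
  let 𝒰 := W.affineCover
  have hw : w ∈ Set.range (𝒰.f (𝒰.idx w)) := 𝒰.covers w
  let ι := 𝒰.f (𝒰.idx w)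
  have hsub : Set.range g ⊆ Set.range ι := by
    rintro _ ⟨z, rfl⟩
    rwa [Subsingleton.elim z (IsLocalRing.closedPoint Ω')]
  let g' := IsOpenImmersion.lift ι g hsub
  have hg' : g' ≫ ι = g := IsOpenImmersion.lift_fac _ _ _
  obtain ⟨γ, hγ⟩ := Spec.map_surjective g'
  obtain ⟨α, hα⟩ := Spec.map_surjective (ι ≫ a)
  obtain ⟨β, hβ⟩ := Spec.map_surjective (ι ≫ b)
  have hβf : β.hom.FiniteType := by
    rw [← HasRingHomProperty.Spec_iff (P := @LocallyOfFiniteType), hβ]
    exact inferInstanceAs (LocallyOfFiniteType (ι ≫ b))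
  have e₁ : γ.hom.comp α.hom = η.comp (i.comp π) := by
    have : α ≫ γ = CommRingCat.ofHom (i.comp π) ≫ Spec.preimage h := Spec.map_injective (by
      rw [Spec.map_comp, Spec.map_comp, Spec.map_preimage, hγ, hα]
      exact (Category.assoc _ _ _).symm.trans ((congrArg (· ≫ a) hg').trans ha))
    exact congrArg (fun r => r.hom) this
  have e₂ : γ.hom.comp β.hom = η.comp (j.comp π) := by
    have : β ≫ γ = CommRingCat.ofHom (j.comp π) ≫ Spec.preimage h := Spec.map_injective (by
      rw [Spec.map_comp, Spec.map_comp, Spec.map_preimage, hγ, hβ]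
      exact (Category.assoc _ _ _).symm.trans ((congrArg (· ≫ b) hg').trans hb))
    exact congrArg (fun r => r.hom) this
  letI := β.hom.toAlgebra
  obtain ⟨s, hs⟩ := (show Algebra.FiniteType A _ from hβf).out
  letI := (η.comp j).toAlgebra
  let C : Subalgebra κ Ω' := Algebra.adjoin κ (γ.hom '' s)
  have hC : ∀ x, γ.hom x ∈ C := fun x => by
    induction (hs.symm ▸ Algebra.mem_top : x ∈ Algebra.adjoin A (s : Set _)) using Algebra.adjoin_induction with
    | mem x hx => exact Algebra.subset_adjoin ⟨x, hx, rfl⟩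
    | algebraMap r =>
      have : γ.hom (β.hom r) = algebraMap κ Ω' (π r) := DFunLike.congr_fun e₂ r
      show γ.hom (β.hom r) ∈ C
      rw [this]
      exact C.algebraMap_mem _
    | add x y _ _ hx hy => rw [map_add]; exact C.add_mem hx hy
    | mul x y _ _ hx hy => rw [map_mul]; exact C.mul_mem hx hy
  have hTC : ∀ x : κ, η (i x) ∈ C := fun x => by
    obtain ⟨y, rfl⟩ := Ideal.Quotient.mk_surjective x
    rw [show η (i (π y)) = γ.hom (α.hom y) from (DFunLike.congr_fun e₁ y).symm]
    exact hC _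
  letI := j.toAlgebra
  letI := η.toAlgebra
  haveI : IsScalarTower κ Ω Ω' := IsScalarTower.of_algebraMap_eq fun _ => rfl
  have hT' : Transcendental κ (η (i t)) :=
    fun ⟨p, hp, hp'⟩ => hT ⟨p, hp, η.injective (by
      rw [map_zero, ← hp']
      exact (aeval_algHom_apply (IsScalarTower.toAlgHom κ Ω Ω') (i t) p).symm)⟩
  classical
  refine false_of_transcendental (k := k) hT' C ⟨s.image γ.hom, by rw [Finset.coe_image]⟩ (hTC t) fun c => ?_
  have e : η (i (t - algebraMap k κ c)⁻¹) = (η (i t) - algebraMap κ Ω' (algebraMap k κ c))⁻¹ := by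
    rw [map_inv₀, map_inv₀, map_sub, map_sub]
    congr 2
    exact congrArg η (DFunLike.congr_fun hij c)
  rw [← e]
  exact hTC _

end Groth.Agent.AlgStLib
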