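import Groth.Agent.AlgStLib.DiagSurj
import Groth.Agent.AlgStLib.AlgPoint

/-!
# Lifting points over algebraically closed fields along functors with surjective diagonal
-/

set_option autoImplicit false
set_option backward.isDefEq.respectTransparency false
set_option backward.isDefEq.respectTransparency.types false
set_option linter.style.haveILetI false
universe u

noncomputable section

namespace Groth.Agent.AlgStLib

open CategoryTheory CategoryTheory.Limits AlgebraicGeometry Opposite Groth.Agent.FibCatRep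
  Groth.Agent.FibCat2Misc Groth.Agent.AlgSpLib Groth.Agent.StkBasic
open _root_.AlgSp _root_.AlgSt

variable {S : Scheme.{u}} {𝒳 𝒴 : AlgSt.Cat S}

/-- composition of maps of slices -/
def overMapComp {K U V : Over S} (r : K ⟶ U) (s : U ⟶ V) :
    BasedFunctor.comp (AlgSt.overMap r) (AlgSt.overMap s) ≅ AlgSt.overMap (r ≫ s) :=
  BasedNatIso.mkNatIso (NatIso.ofComponents (fun z => Over.isoMk (Iso.refl _)
      (by show 𝟙 _ ≫ z.hom ≫ r ≫ s = (z.hom ≫ r) ≫ s; simp))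
    (fun {z z'} m => Over.OverMorphism.ext ((Category.comp_id _).trans (Category.id_comp _).symm)))
    (fun z => IsHomLift.of_fac' _ _ _ rfl rfl (show 𝟙 z.left = _ by simp; rfl))

/-- the map of slices of an identity -/
def overMapId (K : Over S) : AlgSt.overMap (𝟙 K) ≅ BasedFunctor.id (FibCat.overCat K) :=
  BasedNatIso.mkNatIso (NatIso.ofComponents (fun z => Over.isoMk (Iso.refl _)
      (by show 𝟙 _ ≫ z.hom = z.hom ≫ 𝟙 _; simp))
    (fun {z z'} m => Over.OverMorphism.ext ((Category.comp_id _).trans (Category.id_comp _).symm)))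
    (fun z => IsHomLift.of_fac' _ _ _ rfl rfl (show 𝟙 z.left = _ by simp; rfl))

/-- the functor of an object -/
theorem exists_of_obj (h𝒳 : FibCat.IsFibGrpd 𝒳.p) {K : Over S} (o : 𝒳.obj) (ho : 𝒳.p.obj o = K) :
    ∃ (y : FibCat.overCat K ⥤ᵇ 𝒳) (i : y.obj (Over.mk (𝟙 K)) ≅ o) (h : 𝒳.p.obj (y.obj (Over.mk (𝟙 K))) = 𝒳.p.obj o),
      𝒳.p.map i.hom = eqToHom h ∧ 𝒳.p.map i.inv = eqToHom h.symm := by
  haveI := Groth.Agent.S6409.result h𝒳 K
  let z : 𝒳.p.Fiber K := ⟨o, ho⟩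
  let i := (FibCat.evalAtId 𝒳 K).objObjPreimageIso z
  exact ⟨(FibCat.evalAtId 𝒳 K).objPreimage z, Functor.Fiber.fiberInclusion.mapIso i,
    ((FibCat.evalAtId 𝒳 K).objPreimage z).w_obj _ |>.trans ho.symm, map_of_fiber i.hom, map_of_fiber i.inv⟩

/-- isomorphisms of functors out of a slice from their values at the identity -/
theorem exists_iso_of_top (h𝒳 : FibCat.IsFibGrpd 𝒳.p) {U : Over S} (Φ Ψ : FibCat.overCat U ⥤ᵇ 𝒳)
    (χ : Φ.obj (Over.mk (𝟙 U)) ⟶ Ψ.obj (Over.mk (𝟙 U)))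
    (hχ : 𝒳.p.map χ = eqToHom ((Φ.w_obj _).trans (Ψ.w_obj _).symm)) :
    ∃ i : Φ ≅ Ψ, (appIso i (Over.mk (𝟙 U))).hom = χ := by
  haveI := Groth.Agent.S6409.result h𝒳 U
  haveI : IsIso (𝒳.p.map χ) := by rw [hχ]; infer_instance
  haveI := isIso_of_map h𝒳 χ
  let j : (FibCat.evalAtId 𝒳 U).obj Φ ≅ (FibCat.evalAtId 𝒳 U).obj Ψ :=
    { hom := ⟨χ, IsHomLift.of_fac' 𝒳.p _ _ (Φ.w_obj _) (Ψ.w_obj _) (by rw [hχ]; simp)⟩
      inv := ⟨inv χ, IsHomLift.of_fac' 𝒳.p _ _ (Ψ.w_obj _) (Φ.w_obj _)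
        (by rw [Functor.map_inv, IsIso.inv_eq_of_hom_inv_id]; rw [hχ]; simp)⟩
      hom_inv_id := Subtype.ext (IsIso.hom_inv_id χ)
      inv_hom_id := Subtype.ext (IsIso.inv_hom_id χ) }
  exact ⟨(FibCat.evalAtId 𝒳 U).preimageIso j,
    congrArg Subtype.val ((FibCat.evalAtId 𝒳 U).map_preimage j.hom)⟩

/-- 2-arrows out of a slice are determined at the identity -/
theorem natTrans_ext_top (h𝒳 : FibCat.IsFibGrpd 𝒳.p) {U : Over S} {Φ Ψ : FibCat.overCat U ⥤ᵇ 𝒳} (i j : Φ ≅ Ψ)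
    (h : (appIso i (Over.mk (𝟙 U))).hom = (appIso j (Over.mk (𝟙 U))).hom) (o : (FibCat.overCat U).obj) :
    (appIso i o).hom = (appIso j o).hom := by
  haveI := Groth.Agent.S6409.result h𝒳 U
  have : i.hom = j.hom := (FibCat.evalAtId 𝒳 U).map_injective (Subtype.ext h)
  exact congrArg (fun t => t.toNatTrans.app o) this

/-- pairs of points with isomorphic images lift to the fibre product of a chart with itself -/
theorem exists_pair_lift (h𝒳 : FibCat.IsFibGrpd 𝒳.p) {U : Over S} (x : FibCat.overCat U ⥤ᵇ 𝒳)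
    (hx : RepByAlgSpWith (LocP @Smooth) x) :
    ∃ (W : Over S) (a b : W ⟶ U), Smooth b.left ∧
      ∀ (T : Over S) (α β : T ⟶ U) (_ : BasedFunctor.comp (AlgSt.overMap α) x ≅ BasedFunctor.comp (AlgSt.overMap β) x),
        ∃ (T' : Over S) (h : T' ⟶ T) (g : T' ⟶ W), Surjective h.left ∧ g ≫ a = h ≫ α ∧ g ≫ b = h ≫ β := by
  obtain ⟨F, e, he, hQ⟩ := hx U x
  obtain ⟨W, c, hce, hcs⟩ := F.property.atlas
  obtain ⟨b, hb⟩ := exists_map_eq (c ≫ spMapOfOver (BasedFunctor.comp e (FibCat.fpFst x x)))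
  obtain ⟨a, ha⟩ := exists_map_eq (c ≫ spMapOfOver (BasedFunctor.comp e (FibCat.fpSnd x x)))
  refine ⟨W, a, b, hQ c (𝟙 _) b hce repWith_id' (by rw [Category.comp_id, hb]), fun T α β i => ?_⟩
  obtain ⟨l, hl⟩ := exists_lift_model he
    (FibCat.fpLift (F := x) (G := x) (AlgSt.overMap β) (AlgSt.overMap α) i.symm)
  obtain ⟨T', f₁, f₂, sq, hs⟩ := exists_repWith hcs l
  obtain ⟨g, hg⟩ := exists_map_eq f₁
  exact ⟨T', f₂, g, hs,
    (yon S).map_injective (by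
      rw [Functor.map_comp, Functor.map_comp, ha, hg, sq.w_assoc, hl (FibCat.fpSnd x x) α (Iso.refl _)]),
    (yon S).map_injective (by
      rw [Functor.map_comp, Functor.map_comp, hb, hg, sq.w_assoc, hl (FibCat.fpFst x x) β (Iso.refl _)])⟩

theorem lift_of_diag_surjective (h𝒳 : IsAlgStack Scheme.fppfPrecoverage 𝒳)
    (h𝒴 : IsAlgStack Scheme.fppfPrecoverage 𝒴) {f : 𝒳 ⥤ᵇ 𝒴} (hΔ : AlgSt.IsSurjective (FibCat.diag f))
    (k : Type u) [Field k] [IsAlgClosed k] (s : Spec (CommRingCat.of k) ⟶ S) (y : 𝒴.obj)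
    (hy : 𝒴.p.obj y = Over.mk s)
    (h : AlgSt.Points.mk ⟨k, s, y, hy⟩ ∈ Set.range (AlgSt.Points.map f)) :
    ∃ (x : 𝒳.obj) (φ : f.obj x ⟶ y), 𝒳.p.obj x = Over.mk s ∧ 𝒴.p.IsHomLift (𝟙 (Over.mk s)) φ := by
  let K : Over S := Over.mk s
  obtain ⟨Y, i, hi', hi, -⟩ := exists_of_obj h𝒴.isStack.1 (K := K) y hy
  have hK : IsAlgStack Scheme.fppfPrecoverage (FibCat.overCat K) :=
    isAlgStack_of_equiv (isEquivOver_toOverCat K) (isDM_of_space (isAlgSpaceP_yon K)).1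
  have hZ := isAlgStack_fp h𝒴.isStack h𝒴.diag hK h𝒳 Y f
  let k₀ : ↥K.left := IsLocalRing.closedPoint k
  -- the fibre is not empty
  have hne : ∃ p : AlgSt.Points (FibCat.fp Y f), True := by
    obtain ⟨p, hp⟩ := h
    let T : Over K := Over.mk (Over.homMk (K.left.fromSpecResidueField k₀) rfl :
      Over.mk (K.left.fromSpecResidueField k₀ ≫ K.hom) ⟶ K)
    have e : AlgSt.Points.ofChart Y k₀ = AlgSt.Points.mk ⟨k, s, y, hy⟩ := AlgSt.Points.sound
      ⟨{ K := ↥(K.left.residueField k₀)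
         str := K.left.fromSpecResidueField k₀ ≫ K.hom
         obj := Y.obj T
         lies := Y.w_obj _ }, 𝟙 _,
        Y.map (Over.homMk T.hom (Category.comp_id _) : T ⟶ Over.mk (𝟙 K)) ≫ i.hom, trivial⟩
    obtain ⟨w, -, -⟩ := exists_points_fp h𝒳.isStack.1 h𝒴.isStack.1 hK.isStack.1 f Y
      (AlgSt.Points.ofChart (BasedFunctor.id (FibCat.overCat K)) k₀) p
      (by rw [map_ofChart, hp]; exact e)
    exact ⟨w, trivial⟩
  obtain ⟨p, -⟩ := hne
  obtain ⟨U, x, hx, hx'⟩ := hZ.atlas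
  obtain ⟨t, -⟩ := exists_point_of_surjective hZ.isStack.1 x hx' p
  obtain ⟨j, t', -⟩ := U.left.affineCover.exists_eq t
  let O : Over S := Over.mk (U.left.affineCover.f j ≫ U.hom)
  let d : O ⟶ U := Over.homMk (U.left.affineCover.f j) rfl
  haveI : Etale d.left := inferInstanceAs (Etale (U.left.affineCover.f j))
  let x₁ := BasedFunctor.comp (AlgSt.overMap d) x
  have hx₁ : RepByAlgSpWith (LocP @Smooth) x₁ :=
    repWith_comp (isFibGrpd_overCat (C := Over S) O) (isFibGrpd_overCat (C := Over S) U)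
      cls_smooth.bc cls_smooth.comp cls_smooth.loc (repWith_smooth_overMap d) hx
  obtain ⟨c, ⟨ic⟩⟩ := exists_overMap_iso (BasedFunctor.comp x₁ (FibCat.fpFst Y f))
  obtain ⟨W, a, b, hb, hlift⟩ := exists_pair_lift hZ.isStack.1 x₁ hx₁
  obtain ⟨φ, hφ⟩ := Spec.map_surjective
    (show Spec _ ⟶ Spec (CommRingCat.of k) from c.left)
  haveI hnt : Nonempty ↥O.left := ⟨t'⟩
  haveI : Nontrivial _ := (PrimeSpectrum.nonempty_iff_nontrivial).1 (show Nonempty (PrimeSpectrum _) from hnt)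
  haveI : Smooth (show W.left ⟶ Spec _ from b.left) := hb
  obtain ⟨r, hr⟩ := exists_section_of_pairs φ (show W.left ⟶ Spec _ from a.left)
    (show W.left ⟶ Spec _ from b.left) fun Ω _ α β hαβ => by
      let T : Over S := Over.mk (α ≫ O.hom)
      let α' : T ⟶ O := Over.homMk α rfl
      have hαc : α ≫ c.left = β ≫ c.left :=
        (congrArg (α ≫ ·) hφ.symm).trans (hαβ.trans (congrArg (β ≫ ·) hφ))
      have hw : β ≫ O.hom = α ≫ O.hom := by
        rw [← Over.w c, ← Category.assoc, ← hαc, Category.assoc]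
      let β' : T ⟶ O := Over.homMk β hw
      have hc : α' ≫ c = β' ≫ c := Over.OverMorphism.ext hαc
      let A := BasedFunctor.comp (AlgSt.overMap α') x₁
      let B := BasedFunctor.comp (AlgSt.overMap β') x₁
      let iK : BasedFunctor.comp A (FibCat.fpFst Y f) ≅ BasedFunctor.comp B (FibCat.fpFst Y f) :=
        (Stk.restr (AlgSt.overMap α') _).mapIso ic ≪≫ overMapComp α' c ≪≫
          eqToIso (congrArg AlgSt.overMap hc) ≪≫ (overMapComp β' c).symm ≪≫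
          ((Stk.restr (AlgSt.overMap β') _).mapIso ic).symm
      let iX : BasedFunctor.comp (BasedFunctor.comp A (FibCat.fpSnd Y f)) f ≅
          BasedFunctor.comp (BasedFunctor.comp B (FibCat.fpSnd Y f)) f :=
        ((Stk.restr A _).mapIso (FibCat.fpIso Y f)).symm ≪≫ (post _ Y).mapIso iK ≪≫
          (Stk.restr B _).mapIso (FibCat.fpIso Y f)
      obtain ⟨L, γ, l, μ, -, hμ⟩ :=
        exists_iso_of_diag_surjective h𝒳.isStack.1 h𝒴.isStack.1 hΔ _ _ iX (IsLocalRing.closedPoint Ω)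
      let jZ : BasedFunctor.comp (AlgSt.overMap γ) A ≅ BasedFunctor.comp (AlgSt.overMap γ) B :=
        fpExt ((Stk.restr (AlgSt.overMap γ) _).mapIso iK) μ fun o => by
          let z := (AlgSt.overMap γ).obj o
          have w : f.map (appIso μ o).hom =
              (A.obj z).obj.iso.inv ≫ Y.map (appIso iK z).hom ≫ (B.obj z).obj.iso.hom := hμ o
          show Y.map (appIso iK z).hom ≫ (B.obj z).obj.iso.hom = (A.obj z).obj.iso.hom ≫ f.map (appIso μ o).hom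
          rw [w]
          exact (Iso.hom_inv_id_assoc (A.obj z).obj.iso _).symm
      obtain ⟨T', h', g, hs, ea, eb⟩ := hlift L (γ ≫ α') (γ ≫ β')
        ((Stk.restr _ _).mapIso (Iso.refl x₁) ≪≫ (post _ x₁).mapIso (overMapComp γ α').symm ≪≫ jZ ≪≫
          (post _ x₁).mapIso (overMapComp γ β'))
      haveI := hs
      obtain ⟨t, -⟩ := h'.left.surjective l
      exact ⟨T'.left.residueField t, inferInstance, T'.left.fromSpecResidueField t ≫ (h' ≫ γ).left,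
        T'.left.fromSpecResidueField t ≫ g.left,
        by
          have := congrArg (fun m => T'.left.fromSpecResidueField t ≫ m.left) ea
          simpa [α', T, Category.assoc] using this,
        by
          have := congrArg (fun m => T'.left.fromSpecResidueField t ≫ m.left) eb
          simpa [β', T, Category.assoc] using this⟩
  have hrc : Spec.map r ≫ c.left = 𝟙 K.left :=
    (congrArg (Spec.map r ≫ ·) hφ.symm).trans ((Spec.map_comp φ r).symm.trans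
      ((congrArg Spec.map hr).trans (Spec.map_id _)))
  let r' : K ⟶ O := Over.homMk (Spec.map r) (by
    show Spec.map r ≫ O.hom = K.hom
    rw [← Over.w c]
    exact (Category.assoc _ _ _).symm.trans ((congrArg (· ≫ K.hom) hrc).trans (Category.id_comp _)))
  have hr' : r' ≫ c = 𝟙 K := Over.OverMorphism.ext hrc
  let q := BasedFunctor.comp (AlgSt.overMap r') x₁
  let iq : BasedFunctor.comp (BasedFunctor.comp q (FibCat.fpSnd Y f)) f ≅ Y :=
    ((Stk.restr q _).mapIso (FibCat.fpIso Y f)).symm ≪≫ (post _ Y).mapIso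
      ((Stk.restr (AlgSt.overMap r') _).mapIso ic ≪≫ overMapComp r' c ≪≫
        eqToIso (congrArg AlgSt.overMap hr') ≪≫ overMapId K)
  refine ⟨(BasedFunctor.comp q (FibCat.fpSnd Y f)).obj (Over.mk (𝟙 K)),
    (appIso iq (Over.mk (𝟙 K))).hom ≫ i.hom, (BasedFunctor.comp q (FibCat.fpSnd Y f)).w_obj _,
    IsHomLift.of_fac' _ _ _ ((BasedFunctor.comp (BasedFunctor.comp q (FibCat.fpSnd Y f)) f).w_obj _) hy ?_⟩
  rw [Functor.map_comp, hi]
  erw [map_app iq.hom (Over.mk (𝟙 K))]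
  simp

theorem exists_algClosed_point {T : Scheme.{u}} (τ : ↥T) :
    ∃ (Ω : Type u) (_ : Field Ω) (_ : IsAlgClosed Ω) (g : Spec (CommRingCat.of Ω) ⟶ T),
      g (IsLocalRing.closedPoint Ω) = τ :=
  ⟨AlgebraicClosure (T.residueField τ), inferInstance, inferInstance,
    Spec.map (CommRingCat.ofHom (algebraMap (T.residueField τ) (AlgebraicClosure (T.residueField τ)))) ≫
      T.fromSpecResidueField τ, Scheme.fromSpecResidueField_apply τ _⟩

set_option maxHeartbeats 1000000 in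
theorem diag_surjective_of_liftHom (h𝒳 : FibCat.IsFibGrpd 𝒳.p) (h𝒴 : FibCat.IsFibGrpd 𝒴.p) {f : 𝒳 ⥤ᵇ 𝒴}
    (h : ∀ (k : Type u) [Field k] [IsAlgClosed k] (s : Spec (CommRingCat.of k) ⟶ S) (a₁ a₂ : 𝒳.obj)
      (_ : 𝒳.p.obj a₁ = Over.mk s) (_ : 𝒳.p.obj a₂ = Over.mk s) (β : f.obj a₁ ⟶ f.obj a₂),
      𝒴.p.IsHomLift (𝟙 (Over.mk s)) β →
        ∃ α : a₁ ⟶ a₂, 𝒳.p.IsHomLift (𝟙 (Over.mk s)) α ∧ f.map α = β) :
    AlgSt.IsSurjective (FibCat.diag f) := fun p => by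
  obtain ⟨T, P, τ, rfl⟩ := exists_ofChart (isFibGrpd_fp h𝒳 h𝒳 h𝒴 f f) p
  obtain ⟨Ω, _, _, g, hg⟩ := exists_algClosed_point τ
  let K : Over S := Over.mk (g ≫ T.hom)
  let γ : K ⟶ T := Over.homMk g rfl
  let k₀ : ↥K.left := IsLocalRing.closedPoint Ω
  have hk : γ.left k₀ = τ := hg
  let P' := BasedFunctor.comp (AlgSt.overMap γ) P
  let A := BasedFunctor.comp P' (FibCat.fpFst f f)
  let B := BasedFunctor.comp P' (FibCat.fpSnd f f)
  let i : BasedFunctor.comp A f ≅ BasedFunctor.comp B f := (Stk.restr P' _).mapIso (FibCat.fpIso f f)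
  let o : (FibCat.overCat K).obj := Over.mk (𝟙 K)
  obtain ⟨α, hα, hαβ⟩ := h Ω K.hom (A.obj o) (B.obj o) (A.w_obj o) (B.w_obj o) (appIso i o).hom
    (IsHomLift.of_fac' _ _ _ ((BasedFunctor.comp A f).w_obj o) ((BasedFunctor.comp B f).w_obj o) (by
      erw [map_app i.hom o]
      simp))
  obtain ⟨μ, hμ⟩ := exists_iso_of_top h𝒳 A B α (by
    haveI := hα
    exact (IsHomLift.fac' 𝒳.p (𝟙 (Over.mk K.hom)) α).trans (by simp))
  have key : ∀ z, f.map (appIso μ z).hom = (appIso i z).hom := fun z =>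
    natTrans_ext_top h𝒴 ((post _ f).mapIso μ) i ((congrArg f.map hμ).trans hαβ) z
  have hmem : AlgSt.Points.ofChart (FibCat.fpLift A B i) ((𝟙 K : K ⟶ K).left k₀) ∈
      Set.range (AlgSt.Points.map (FibCat.diag f)) :=
    mem_range_diag (γ := 𝟙 K) (l := k₀) ((Stk.restr (AlgSt.overMap (𝟙 K)) _).mapIso μ) fun z => key _
  rw [← hk, ← ofChart_overMap]
  refine (ofChart_congr (fpExt (a := P') (b := FibCat.fpLift A B i) (Iso.refl _) (Iso.refl _) fun o => ?_) k₀).symm ▸ hmem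
  show f.map (𝟙 _) ≫ (P'.obj o).obj.iso.hom = (P'.obj o).obj.iso.hom ≫ f.map (𝟙 _)
  rw [f.toFunctor.map_id, f.toFunctor.map_id]
  exact (Category.id_comp _).trans (Category.comp_id _).symm

theorem liftHom_of_diag_surjective (h𝒳 : IsAlgStack Scheme.fppfPrecoverage 𝒳)
    (h𝒴 : IsAlgStack Scheme.fppfPrecoverage 𝒴) {f : 𝒳 ⥤ᵇ 𝒴} (hΔ : AlgSt.IsSurjective (FibCat.diag f))
    (k : Type u) [Field k] [IsAlgClosed k] (s : Spec (CommRingCat.of k) ⟶ S) (a₁ a₂ : 𝒳.obj)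
    (h₁ : 𝒳.p.obj a₁ = Over.mk s) (h₂ : 𝒳.p.obj a₂ = Over.mk s) (β : f.obj a₁ ⟶ f.obj a₂)
    (hβ : 𝒴.p.IsHomLift (𝟙 (Over.mk s)) β) :
    ∃ α : a₁ ⟶ a₂, 𝒳.p.IsHomLift (𝟙 (Over.mk s)) α ∧ f.map α = β := by
  let K : Over S := Over.mk s
  let o : (FibCat.overCat K).obj := Over.mk (𝟙 K)
  obtain ⟨A₁, i₁, p₁, hi₁, hi₁'⟩ := exists_of_obj h𝒳.isStack.1 (K := K) a₁ h₁
  obtain ⟨A₂, i₂, p₂, hi₂, hi₂'⟩ := exists_of_obj h𝒳.isStack.1 (K := K) a₂ h₂
  let χ : f.obj (A₁.obj o) ⟶ f.obj (A₂.obj o) := f.map i₁.hom ≫ β ≫ f.map i₂.inv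
  haveI := hβ
  obtain ⟨i, hio⟩ := exists_iso_of_top h𝒴.isStack.1 (BasedFunctor.comp A₁ f) (BasedFunctor.comp A₂ f) χ (by
    show 𝒴.p.map (f.map i₁.hom ≫ β ≫ f.map i₂.inv) = _
    rw [Functor.map_comp, Functor.map_comp, map_map f i₁.hom, map_map f i₂.inv,
      IsHomLift.fac' 𝒴.p (𝟙 (Over.mk s)) β, hi₁, hi₂']
    simp)
  let P := FibCat.fpLift A₁ A₂ i
  obtain ⟨F, e, he, hlft⟩ := repWith_lft_diag h𝒳 h𝒴 f K P
  obtain ⟨L, γ, l, μ, -, hμ⟩ :=
    exists_iso_of_diag_surjective h𝒳.isStack.1 h𝒴.isStack.1 hΔ A₁ A₂ i (IsLocalRing.closedPoint k)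
  let jP : BasedFunctor.comp (AlgSt.overMap γ) P ≅
      BasedFunctor.comp (BasedFunctor.comp (AlgSt.overMap γ) A₁) (FibCat.diag f) :=
    fpExt (Iso.refl _) μ.symm fun z => by
      show f.map (𝟙 _) ≫ 𝟙 _ = (appIso i ((AlgSt.overMap γ).obj z)).hom ≫ f.map (appIso μ z).inv
      rw [← hμ z, f.toFunctor.map_id, ← Functor.map_comp, Iso.hom_inv_id]
      exact (Category.comp_id _).trans (f.toFunctor.map_id _).symm
  obtain ⟨m, -⟩ := exists_lift_model he
    (FibCat.fpLift (F := P) (G := FibCat.diag f) (AlgSt.overMap γ) (BasedFunctor.comp (AlgSt.overMap γ) A₁) jP)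
  obtain ⟨W, d, hde, hds⟩ := F.property.atlas
  let Φ := BasedFunctor.comp e (FibCat.fpFst P (FibCat.diag f))
  obtain ⟨w, hw⟩ := exists_map_eq (d ≫ spMapOfOver Φ)
  haveI : LocallyOfFiniteType (show W.left ⟶ Spec (CommRingCat.of k) from w.left) :=
    hlft d (𝟙 _) w hde repWith_id' (by rw [Category.comp_id, hw])
  obtain ⟨t₀, -⟩ := ofPt_surjective hds (AlgSp.Points.ofPt m l)
  haveI : JacobsonSpace ↥W.left :=
    LocallyOfFiniteType.jacobsonSpace (show W.left ⟶ Spec (CommRingCat.of k) from w.left)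
  obtain ⟨z, -, hz⟩ := nonempty_inter_closedPoints (Z := (Set.univ : Set ↥W.left)) ⟨t₀, trivial⟩
    isClosed_univ.isLocallyClosed
  let r₀ := pointOfClosedPoint (show W.left ⟶ Spec (CommRingCat.of k) from w.left) z hz
  have hr₀ : r₀ ≫ w.left = 𝟙 K.left := pointOfClosedPoint_comp _ _ _
  let r : K ⟶ W := Over.homMk r₀ (by
    show r₀ ≫ W.hom = K.hom
    rw [← Over.w w]
    exact (Category.assoc _ _ _).symm.trans ((congrArg (· ≫ K.hom) hr₀).trans (Category.id_comp _)))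
  have hr : r ≫ w = 𝟙 K := Over.OverMorphism.ext hr₀
  let c : (yon S).obj K ⟶ F.obj := (yon S).map r ≫ d
  obtain ⟨v, hv, ⟨iv⟩⟩ := exists_map_of_chart c Φ
  have hv' : v = 𝟙 K := (yon S).map_injective (by
    rw [hv, Category.assoc, ← hw, ← Functor.map_comp, hr])
  let G := BasedFunctor.comp (BasedFunctor.comp (ofOverCat K) (Stk.ofPshMap c.hom)) e
  let iF : BasedFunctor.comp G (FibCat.fpFst P (FibCat.diag f)) ≅ BasedFunctor.id _ :=
    iv ≪≫ eqToIso (congrArg AlgSt.overMap hv') ≪≫ overMapId K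
  let q := BasedFunctor.comp G (FibCat.fpSnd P (FibCat.diag f))
  let ρ : P ≅ BasedFunctor.comp q (FibCat.diag f) :=
    (post _ P).mapIso iF.symm ≪≫ (Stk.restr G _).mapIso (FibCat.fpIso P (FibCat.diag f))
  let ρ₁ := appIso ((post _ (FibCat.fpFst f f)).mapIso ρ) o
  let ρ₂ := appIso ((post _ (FibCat.fpSnd f f)).mapIso ρ) o
  have hρ₁ : 𝒳.p.map ρ₁.hom = eqToHom ((A₁.w_obj o).trans (q.w_obj o).symm) :=
    map_app ((post _ (FibCat.fpFst f f)).mapIso ρ).hom o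
  have hρ₂ : 𝒳.p.map ρ₂.inv = eqToHom ((q.w_obj o).trans (A₂.w_obj o).symm) :=
    map_app ((post _ (FibCat.fpSnd f f)).mapIso ρ).inv o
  refine ⟨i₁.inv ≫ ρ₁.hom ≫ ρ₂.inv ≫ i₂.hom, IsHomLift.of_fac' _ _ _ h₁ h₂ ?_, ?_⟩
  · rw [Functor.map_comp, Functor.map_comp, Functor.map_comp, hi₁', hρ₁, hρ₂, hi₂]
    simp
  · have w' : f.map ρ₁.hom ≫ 𝟙 _ = (appIso i o).hom ≫ f.map ρ₂.hom := (appIso ρ o).hom.hom.w
    rw [Category.comp_id, hio] at w'
    have e₁ : f.map ρ₁.hom ≫ f.map ρ₂.inv = χ := by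
      rw [w', Category.assoc, ← Functor.map_comp, Iso.hom_inv_id, f.toFunctor.map_id]
      exact Category.comp_id _
    rw [Functor.map_comp, Functor.map_comp, Functor.map_comp, ← Category.assoc (f.map ρ₁.hom), e₁]
    simp only [χ, Category.assoc, ← Functor.map_comp, Iso.inv_hom_id]
    rw [← Category.assoc, ← Functor.map_comp, Iso.inv_hom_id]
    simp

end Groth.Agent.AlgStLib

end
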