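import Groth.Agent.AlgStLib.DiagProps
import Groth.Prelude.Def_StGerb2

/-!
# A group scheme of automorphisms is a model of the inertia at the point
-/

set_option autoImplicit false
set_option backward.isDefEq.respectTransparency false
set_option backward.isDefEq.respectTransparency.types false
set_option linter.style.haveILetI false
universe u

noncomputable section

namespace Groth.Agent.AlgStLib.AutModel

open CategoryTheory CategoryTheory.Limits AlgebraicGeometry Opposite Groth.Agent.AlgSpLib Groth.Agent.StkBasic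
  Groth.Agent.FibCatRep Groth.Agent.AlgStLib
open _root_.AlgSp _root_.AlgSt

variable {S : Scheme.{u}} {𝒳 : AlgSt.Cat S} {U : Over S} (x : FibCat.overCat U ⥤ᵇ 𝒳)
  {G : Over U.left} [GrpObj G]

variable (G) in
/-- the group scheme as a scheme over the base -/
abbrev tot : Over S := Over.mk (G.hom ≫ U.hom)

variable (G) in
/-- its structure morphism -/
abbrev proj : tot G ⟶ U := Over.homMk G.hom rfl

variable (G) in
/-- the point of `U` under a point of the group scheme -/
abbrev base (a : (ofSch (tot G)).obj) : Over U := Over.mk (a.sec.down ≫ proj G)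

variable (G) in
/-- a point of the group scheme as an element of the group of points over its base -/
def elt (a : (ofSch (tot G)).obj) : (Gerb.ptsGrp U G).obj (op (base G a)) :=
  (Over.homMk a.sec.down.left rfl : (Over.iteratedSliceForward U).obj (base G a) ⟶ G)

variable (G) in
/-- a morphism of points of the group scheme as a morphism over `U` -/
abbrev baseMap {a b : (ofSch (tot G)).obj} (m : a ⟶ b) : base G a ⟶ base G b :=
  Over.homMk m.hom (by
    have h : m.hom ≫ b.sec.down = a.sec.down := congrArg ULift.down m.map_sec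
    show m.hom ≫ b.sec.down ≫ proj G = a.sec.down ≫ proj G
    rw [← Category.assoc, h])

lemma map_elt {a b : (ofSch (tot G)).obj} (m : a ⟶ b) :
    (Gerb.ptsGrp U G).map (baseMap G m).op (elt G b) = elt G a := by
  have h : m.hom ≫ b.sec.down = a.sec.down := congrArg ULift.down m.map_sec
  exact Over.OverMorphism.ext (congrArg (fun k : a.base ⟶ tot G => k.left) h)

variable {x} (r : Gerb.AutRep x (Gerb.ptsGrp U G))

/-- the automorphism attached to a point of the group scheme, as an isomorphism of `𝒳` -/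
def autIso (a : (ofSch (tot G)).obj) : x.obj (base G a) ≅ x.obj (base G a) :=
  Functor.Fiber.fiberInclusion.mapIso (r.iso (base G a) (elt G a))

lemma p_autIso (a : (ofSch (tot G)).obj) : 𝒳.p.map (autIso r a).hom = 𝟙 _ :=
  (map_of_fiber (r.iso (base G a) (elt G a)).hom).trans (eqToHom_refl _ _)

lemma autIso_natural {a b : (ofSch (tot G)).obj} (m : a ⟶ b) :
    (autIso r a).hom ≫ x.map (baseMap G m) = x.map (baseMap G m) ≫ (autIso r b).hom := by
  have h := r.natural (baseMap G m) (elt G b)
  rw [map_elt m] at h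
  exact h

/-- the group scheme maps to the inertia -/
def toInertia : ofSch (tot G) ⥤ᵇ FibCat.inertia (FibCat.toSelf 𝒳) where
  toFunctor :=
    { obj := fun a => ⟨x.obj (base G a), autIso r a, p_autIso r a⟩
      map := fun {a b} m => ⟨x.map (baseMap G m), autIso_natural r m⟩
      map_id := fun a => FibCat.InertiaObj.hom_ext
        ((congrArg x.map (Over.OverMorphism.ext rfl)).trans (x.toFunctor.map_id _))
      map_comp := fun {a b c} m m' => FibCat.InertiaObj.hom_ext
        ((congrArg x.map (Over.OverMorphism.ext rfl :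
          baseMap G (m ≫ m') = baseMap G m ≫ baseMap G m')).trans
          (x.toFunctor.map_comp (baseMap G m) (baseMap G m'))) }
  w := CategoryTheory.Functor.ext (fun a => x.w_obj (base G a)) (fun a b m => map_map x (baseMap G m))

variable (x) in
/-- the point on the category of the sheaf -/
abbrev point : ofSch U ⥤ᵇ 𝒳 := BasedFunctor.comp (toOverCat U) x

/-- the comparison functor -/
def model : ofSch (tot G) ⥤ᵇ FibCat.fp (point x) (FibCat.inertiaToBase (FibCat.toSelf 𝒳)) :=
  FibCat.fpLift (ofSpMap ((yon S).map (proj G))) (toInertia r)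
    (BasedNatIso.mkNatIso (NatIso.ofComponents (fun a => Iso.refl (x.obj (base G a)))
      (fun {a b} m => (Category.comp_id _).trans (Category.id_comp _).symm))
      (fun a => IsHomLift.of_fac' 𝒳.p (𝟙 _) _ (x.w_obj (base G a)) (x.w_obj (base G a))
        (show 𝒳.p.map (𝟙 (x.obj (base G a))) = _ by rw [CategoryTheory.Functor.map_id]; simp; rfl)))

lemma prjMap_model : prjMap (model r) = (pyon S).map (proj G) :=
  mapOf_ofPshMap ((pyon S).map (proj G))

theorem isEquivOver_model (h𝒳 : FibCat.IsFibGrpd 𝒳.p) : FibCat.IsEquivOver (model r) := by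
  haveI : (model r).toFunctor.Faithful :=
    ⟨fun {a b} m m' h => Stk.EltObj.hom_ext (congrArg (fun t => t.hom.fst.hom) h)⟩
  haveI : (model r).toFunctor.Full := ⟨fun {a b} M => by
    let m₀ : a.base ⟶ b.base := M.hom.fst.hom
    let ψ : x.obj (base G a) ⟶ x.obj (base G b) := M.hom.snd.hom
    have hm₀ : m₀ ≫ b.sec.down ≫ proj G = a.sec.down ≫ proj G := congrArg ULift.down M.hom.fst.map_sec
    let h : base G a ⟶ base G b := Over.homMk m₀ hm₀
    have hw : x.map h ≫ 𝟙 _ = 𝟙 _ ≫ ψ := M.hom.w
    rw [Category.comp_id, Category.id_comp] at hw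
    have hc : (autIso r a).hom ≫ ψ = ψ ≫ (autIso r b).hom := M.hom.snd.comm
    have hn : (r.iso (base G a) ((Gerb.ptsGrp U G).map h.op (elt G b))).hom.1 ≫ x.map h =
        x.map h ≫ (autIso r b).hom := r.natural h (elt G b)
    rw [← hw] at hc
    have hmap : 𝒳.p.map (r.iso (base G a) ((Gerb.ptsGrp U G).map h.op (elt G b))).hom.1 =
        𝒳.p.map (autIso r a).hom :=
      ((map_of_fiber _).trans (eqToHom_refl _ _)).trans (p_autIso r a).symm
    have he : (Gerb.ptsGrp U G).map h.op (elt G b) = elt G a :=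
      (r.iso (base G a)).injective (Aut.ext (Functor.Fiber.hom_ext
        (cancel h𝒳 (x.map h) hmap (hn.trans hc.symm))))
    have hsec : m₀ ≫ b.sec.down = a.sec.down :=
      Over.OverMorphism.ext (congrArg
        (fun k : (Over.iteratedSliceForward U).obj (base G a) ⟶ G => k.left) he)
    refine ⟨⟨m₀, congrArg ULift.up hsec⟩, ObjectProperty.hom_ext _ (CategoricalPullback.hom_ext
      (Stk.EltObj.hom_ext rfl) (FibCat.InertiaObj.hom_ext ?_))⟩
    exact (congrArg x.map (Over.OverMorphism.ext rfl)).trans hw⟩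
  refine isEquivOver_of_fullyFaithful _ fun η => ?_
  let t : η.obj.fst.base ⟶ U := η.obj.fst.sec.down
  let i : x.obj (Over.mk t) ≅ η.obj.snd.pt := η.obj.iso
  let β : η.obj.snd.pt ≅ η.obj.snd.pt := η.obj.snd.aut
  haveI hi : 𝒳.p.IsHomLift (𝟙 η.obj.fst.base) i.hom := η.property
  have hβ : 𝒳.p.map β.hom = 𝟙 _ := η.obj.snd.map_aut
  let α : x.obj (Over.mk t) ≅ x.obj (Over.mk t) := i ≪≫ β ≪≫ i.symm
  have hα : 𝒳.p.map α.hom = 𝟙 _ := by
    simp only [α, Iso.trans_hom, Iso.symm_hom, Functor.map_comp, hβ, Category.id_comp]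
    rw [← Functor.map_comp, Iso.hom_inv_id, CategoryTheory.Functor.map_id]
  have hα' : 𝒳.p.map α.inv = 𝟙 _ := by
    rw [← cancel_epi (𝒳.p.map α.hom), ← Functor.map_comp, Iso.hom_inv_id, CategoryTheory.Functor.map_id, hα,
      Category.id_comp]
  let αO : Gerb.AutO (x.obj (Over.mk t)) :=
    { hom := fibHom _ _ α.hom (hα.trans (eqToHom_refl _ _).symm)
      inv := fibHom _ _ α.inv (hα'.trans (eqToHom_refl _ _).symm)
      hom_inv_id := Functor.Fiber.hom_ext α.hom_inv_id
      inv_hom_id := Functor.Fiber.hom_ext α.inv_hom_id }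
  obtain ⟨γ, hγ⟩ := (r.iso (Over.mk t)).surjective αO
  let γ' : (Over.iteratedSliceForward U).obj (Over.mk t) ⟶ G := γ
  let c : η.obj.fst.base ⟶ tot G := Over.homMk γ'.left (by
    show γ'.left ≫ G.hom ≫ U.hom = η.obj.fst.base.hom
    rw [← Category.assoc, Over.w γ']
    exact Over.w t)
  have hc : c ≫ proj G = t := Over.OverMorphism.ext (Over.w γ')
  let a : (ofSch (tot G)).obj := ⟨η.obj.fst.base, ⟨c⟩⟩
  have key : ∀ (T : Over U) (e : T = Over.mk t) (γ₁ : (Gerb.ptsGrp U G).obj (op T)),
      (γ₁ : (Over.iteratedSliceForward U).obj T ⟶ G).left = eqToHom (congrArg (fun T : Over U => T.left.left) e) ≫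
        γ'.left →
      (r.iso T γ₁).hom.1 ≫ (x.map (eqToHom e) ≫ i.hom) = (x.map (eqToHom e) ≫ i.hom) ≫ β.hom := by
    intro T e γ₁ hl
    subst e
    have : γ₁ = γ := Over.OverMorphism.ext (by simpa using hl)
    subst this
    rw [hγ]
    show α.hom ≫ _ = _
    simp [α]
  have eT : base G a = Over.mk t := congrArg Over.mk hc
  have e₀ : (base G a).left = (Over.mk t).left := rfl
  let j : x.obj (base G a) ≅ η.obj.snd.pt := x.toFunctor.mapIso (eqToIso eT) ≪≫ i
  have e' : Over.mk (a.sec.down ≫ proj G) = Over.mk t := eT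
  let q : ((ofSpMap ((yon S).map (proj G))).obj a : Stk.EltObj _) ≅ η.obj.fst :=
    Groth.Agent.AlgStLib.isoOfEq rfl
      ((FunctorToTypes.map_id_apply ((yon S).obj U).obj η.obj.fst.sec).trans (congrArg ULift.up hc.symm))
  refine ⟨a, ObjectProperty.isoMk _ (CategoricalPullback.mkIso q
    ({ hom := ⟨j.hom, key _ eT (elt G a) (by simp [elt, a, c])⟩
       inv := ⟨j.inv, by
        rw [← cancel_mono j.hom, Category.assoc, Category.assoc, Iso.inv_hom_id, Category.comp_id]
        rw [← cancel_epi j.hom, Iso.hom_inv_id_assoc]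
        exact (key _ eT (elt G a) (by simp [elt, a, c])).symm⟩
       hom_inv_id := FibCat.InertiaObj.hom_ext j.hom_inv_id
       inv_hom_id := FibCat.InertiaObj.hom_ext j.inv_hom_id }) ?_), rfl, ?_⟩
  · show x.map _ ≫ i.hom = 𝟙 _ ≫ j.hom
    rw [Category.id_comp]
    refine congrArg (· ≫ i.hom) (congrArg x.map (Over.OverMorphism.ext ?_))
    show q.hom.hom = (eqToHom eT : base G a ⟶ Over.mk t).left
    rw [Over.eqToHom_left]
    rfl
  · rfl

/-- properties of the diagonal descend to the group scheme of automorphisms -/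
theorem prop_proj {Q : MorphismProperty (Sp S)} [Q.RespectsIso] (h𝒳 : FibCat.IsFibGrpd 𝒳.p)
    (h : RepByAlgSpWith Q (FibCat.diag (FibCat.toSelf 𝒳))) (r : Gerb.AutRep x (Gerb.ptsGrp U G)) :
    Q ((yon S).map (proj G)) := by
  obtain ⟨_, _, hq⟩ := good_of_model (repWith_inertia_of_diag h) (isEquivOver_model r h𝒳)
  convert hq using 1
  exact ObjectProperty.hom_ext _ (prjMap_model r).symm

end Groth.Agent.AlgStLib.AutModel
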