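import Groth.Agent.AlgStLib.AutRepModel
import Groth.Agent.S3020

/-!
# Stabilizers of stacks with quasi-affine diagonal
-/

set_option autoImplicit false
set_option backward.isDefEq.respectTransparency false
set_option backward.isDefEq.respectTransparency.types false
set_option linter.style.haveILetI false
universe u

namespace Groth.Agent.AlgStLib.AutModel

open CategoryTheory CategoryTheory.Limits AlgebraicGeometry Groth.Agent.AlgSpLib
open _root_.AlgSp _root_.AlgSt

variable {S : Scheme.{u}} {𝒳 : AlgSt.Cat S} {U : Over S} {x : FibCat.overCat U ⥤ᵇ 𝒳}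
  {G : Over U.left} [GrpObj G]

theorem respectsIso_quasiAffineMor : (AlgSp.IsQuasiAffineMor (S := S)).RespectsIso :=
  MorphismProperty.RespectsIso.mk _
    (fun {X Y Z} e f hf Z₀ hZ g => by
      obtain ⟨W, i, fst, sq, hW⟩ := hf hZ g
      exact ⟨W, i, fst ≫ e.inv, sq.of_iso (Iso.refl _) e.symm (Iso.refl _) (Iso.refl _)
        (by simp) (by simp) (by simp) (by simp), hW⟩)
    (fun {X Y Z} e f hf Z₀ hZ g => by
      obtain ⟨W, i, fst, sq, hW⟩ := hf hZ (g ≫ e.inv)
      exact ⟨W, i, fst, sq.of_iso (Iso.refl _) (Iso.refl _) (Iso.refl _) e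
        (by simp) (by simp) (by simp) (by simp), hW⟩)

theorem lft_of_autRep (h𝒳 : IsAlgStack Scheme.fppfPrecoverage 𝒳) (r : Gerb.AutRep x (Gerb.ptsGrp U G)) :
    LocallyOfFiniteType G.hom := by
  haveI := respectsIso_onSp (cls_lft (S := S)).bc
  exact AlgSp.locP_yon_map
    (prop_proj h𝒳.isStack.1 (repWith_onSp_iff.2 (repWith_lft_diag_toSelf h𝒳)) r
      (IsAlgSpace.yon_obj _) (IsAlgSpace.yon_obj _))

theorem isQuasiAffine_of_autRep (h𝒳 : IsAlgStack Scheme.fppfPrecoverage 𝒳)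
    (hΔ : RepByAlgSpWith AlgSp.IsQuasiAffineMor (FibCat.diag (FibCat.toSelf 𝒳))) [IsAffine U.left]
    (r : Gerb.AutRep x (Gerb.ptsGrp U G)) : G.left.IsQuasiAffine := by
  haveI := respectsIso_quasiAffineMor (S := S)
  obtain ⟨W, i, fst, sq, hW⟩ :=
    prop_proj h𝒳.isStack.1 hΔ r (inferInstanceAs (IsAffine U.left)) ((yon S).map (𝟙 U))
  obtain ⟨f, rfl⟩ := exists_map_eq fst
  have sq' := isPullback_yon_iff.1 sq
  haveI : IsIso (𝟙 U : U ⟶ U).left := inferInstanceAs (IsIso (𝟙 U.left))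
  haveI : IsIso f.left := sq'.isIso_fst_of_isIso
  haveI := hW
  let j : G.left ⟶ W.left := inv f.left
  haveI : CompactSpace G.left := (asIso f.left).hom.homeomorph.compactSpace
  exact Scheme.IsQuasiAffine.of_isImmersion j

theorem isAffine_of_autRep {k : Type u} [Field k] {p : Spec (CommRingCat.of k) ⟶ S}
    {x : FibCat.overCat (Over.mk p) ⥤ᵇ 𝒳} {G : Over (Over.mk p).left} [GrpObj G]
    (h𝒳 : IsAlgStack Scheme.fppfPrecoverage 𝒳)
    (hΔ : RepByAlgSpWith AlgSp.IsQuasiAffineMor (FibCat.diag (FibCat.toSelf 𝒳)))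
    (r : Gerb.AutRep x (Gerb.ptsGrp (Over.mk p) G)) :
    IsAffine G.left ∧ LocallyOfFiniteType G.hom := by
  haveI : IsAffine (Over.mk p).left := inferInstanceAs (IsAffine (Spec (CommRingCat.of k)))
  have hl := lft_of_autRep h𝒳 r
  have hq := isQuasiAffine_of_autRep h𝒳 hΔ r
  haveI : G.left.IsQuasiAffine := hq
  haveI : CompactSpace G.left := inferInstance
  haveI : QuasiCompact G.hom := (quasiCompact_iff_compactSpace G.hom).2 inferInstance
  exact ⟨@Groth.Agent.S3020.result k _ G _ hl ‹_› hq, hl⟩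

end Groth.Agent.AlgStLib.AutModel
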