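import Groth.Agent.AlgStLib.Rep
import Groth.Agent.AlgSpLib.Criteria
import Groth.Agent.AlgSpLib.DiagProp
import Groth.Prelude.Def_AlgSpCov
import Groth.Prelude.Def_AlgSt3

/-!
# Functors representable by algebraic spaces: composition, base change, equivalences, monomorphisms
-/

set_option autoImplicit false
set_option backward.isDefEq.respectTransparency false
set_option backward.isDefEq.respectTransparency.types false
set_option linter.style.haveILetI false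
universe w v₇ u₇ v₆ u₆ v₅ u₅ v₄ u₄ v₃ u₃ v₂ u₂ u

noncomputable section

namespace Groth.Agent.AlgStLib

open CategoryTheory CategoryTheory.Limits AlgebraicGeometry Opposite Groth.Agent.FibCatRep
  Groth.Agent.FibCat2Misc Groth.Agent.AlgSpLib Groth.Agent.StkBasic
open _root_.AlgSp _root_.AlgSt

variable {S : Scheme.{u}}

lemma spMapOfOver_congr {F : Sp S} {U : Over S} {Φ Ψ : ofSp F ⥤ᵇ FibCat.overCat U} (i : Φ ≅ Ψ) :
    spMapOfOver Φ = spMapOfOver Ψ :=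
  ObjectProperty.hom_ext _ (by
    rw [spMapOfOver_hom, spMapOfOver_hom]
    exact mapOf_congr ((post _ (ofOverCat U)).mapIso i))

section transfer

variable {𝒳 : BasedCategory.{v₂, u₂} (Over S)} {𝒴 : BasedCategory.{v₃, u₃} (Over S)}
  {𝒵 : BasedCategory.{v₄, u₄} (Over S)}
  {𝒳' : BasedCategory.{v₅, u₅} (Over S)} {𝒴' : BasedCategory.{v₆, u₆} (Over S)}

/-- transfer along equivalences of fibre products compatible with the projections -/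
theorem repWith_transfer (P : MorphismProperty (Sp S)) {f : 𝒳 ⥤ᵇ 𝒴} {f' : 𝒳' ⥤ᵇ 𝒴'}
    (h : ∀ (U : Over S) (y : FibCat.overCat U ⥤ᵇ 𝒴), ∃ (y' : FibCat.overCat U ⥤ᵇ 𝒴')
      (Θ : FibCat.fp y' f' ⥤ᵇ FibCat.fp y f), FibCat.IsEquivOver Θ ∧
        Nonempty (BasedFunctor.comp Θ (FibCat.fpFst y f) ≅ FibCat.fpFst y' f'))
    (hf' : RepByAlgSpWith P f') : RepByAlgSpWith P f := by
  intro U y
  obtain ⟨y', Θ, hΘ, ⟨i⟩⟩ := h U y
  obtain ⟨F, e, he, hP⟩ := hf' U y'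
  refine ⟨F, BasedFunctor.comp e Θ, isEquivOver_comp he hΘ, ?_⟩
  rw [spMapOfOver_congr (show BasedFunctor.comp (BasedFunctor.comp e Θ) (FibCat.fpFst y f) ≅
    BasedFunctor.comp e (FibCat.fpFst y' f') from (Stk.restr e _).mapIso i)]
  exact hP

theorem repWith_fpFst (P : MorphismProperty (Sp S)) (f : 𝒳 ⥤ᵇ 𝒴) (g : 𝒵 ⥤ᵇ 𝒴)
    (hf : RepByAlgSpWith P f) : RepByAlgSpWith P (FibCat.fpFst g f) :=
  repWith_transfer P (fun U y => by
    obtain ⟨k, hk, -, ⟨j⟩⟩ := isEquivOver_symm (isEquivOver_pasteFun y g f)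
    exact ⟨BasedFunctor.comp y g, k, hk,
      ⟨(post _ (FibCat.fpFst (BasedFunctor.comp y g) f)).mapIso j⟩⟩) hf

theorem repByAlgSp1_fpFst (f : 𝒳 ⥤ᵇ 𝒴) (g : 𝒵 ⥤ᵇ 𝒴) (hf : RepByAlgSp1 f) :
    RepByAlgSp1 (FibCat.fpFst g f) :=
  repByAlgSp1_of_with (repWith_fpFst ⊤ f g (repByAlgSpWith_top_iff.2 hf))

theorem repWith_iff_of_equiv (P : MorphismProperty (Sp S)) (f : 𝒳 ⥤ᵇ 𝒴) (f' : 𝒳' ⥤ᵇ 𝒴')
    (a : 𝒳' ⥤ᵇ 𝒳) (b : 𝒴' ⥤ᵇ 𝒴) (ha : FibCat.IsEquivOver a) (hb : FibCat.IsEquivOver b)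
    (e : BasedFunctor.comp f' b ≅ BasedFunctor.comp a f) : RepByAlgSpWith P f ↔ RepByAlgSpWith P f' := by
  haveI := (isEquivOver_data hb).1
  have key : ∀ (U : Over S) (y : FibCat.overCat U ⥤ᵇ 𝒴'),
      FibCat.IsEquivOver (fpMap y f' (BasedFunctor.id _) a b (F := BasedFunctor.comp y b) (G := f) (Iso.refl _) e) :=
    fun U y => isEquivOver_fpMap _ _ _ _ _ _ _ isEquivOver_id ha
  constructor
  · refine repWith_transfer P fun U y => ?_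
    obtain ⟨k, hk, -, ⟨j⟩⟩ := isEquivOver_symm (key U y)
    exact ⟨BasedFunctor.comp y b, k, hk, ⟨(post _ (FibCat.fpFst (BasedFunctor.comp y b) f)).mapIso j⟩⟩
  · refine repWith_transfer P fun U y => ?_
    obtain ⟨b', -, -, ⟨i⟩⟩ := isEquivOver_symm hb
    let i' : BasedFunctor.comp (BasedFunctor.comp y b') b ≅ y :=
      (post (FibCat.overCat U) (BasedFunctor.id 𝒴)).mapIso ((Stk.restr y 𝒴).mapIso i)
    exact ⟨BasedFunctor.comp y b', _, isEquivOver_comp (key U _) (isEquivOver_fp_change f i'), ⟨Iso.refl _⟩⟩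

theorem repByAlgSp1_iff_of_equiv (f : 𝒳 ⥤ᵇ 𝒴) (f' : 𝒳' ⥤ᵇ 𝒴')
    (a : 𝒳' ⥤ᵇ 𝒳) (b : 𝒴' ⥤ᵇ 𝒴) (ha : FibCat.IsEquivOver a) (hb : FibCat.IsEquivOver b)
    (e : BasedFunctor.comp f' b ≅ BasedFunctor.comp a f) : RepByAlgSp1 f ↔ RepByAlgSp1 f' := by
  rw [← repByAlgSpWith_top_iff, ← repByAlgSpWith_top_iff]
  exact repWith_iff_of_equiv ⊤ f f' a b ha hb e

/-- invariance under isomorphism of functors -/
theorem repWith_congr (P : MorphismProperty (Sp S)) {f f' : 𝒳 ⥤ᵇ 𝒴} (i : f' ≅ f)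
    (h : RepByAlgSpWith P f) : RepByAlgSpWith P f' :=
  (repWith_iff_of_equiv P f f' (BasedFunctor.id _) (BasedFunctor.id _) isEquivOver_id isEquivOver_id i).1 h

theorem repWith_mono {P Q : MorphismProperty (Sp S)} {f : 𝒳 ⥤ᵇ 𝒴} (h : RepByAlgSpWith P f)
    (hPQ : ∀ ⦃F : Sp S⦄ ⦃U : Over S⦄ (a : F ⟶ (yon S).obj U), IsAlgSpace F → P a → Q a) :
    RepByAlgSpWith Q f :=
  fun U y => let ⟨F, e, he, hP⟩ := h U y; ⟨F, e, he, hPQ _ F.property hP⟩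

end transfer

/-- a property of morphisms of algebraic spaces only -/
def onSp (Q : MorphismProperty (Sp S)) : MorphismProperty (Sp S) :=
  fun F G f => IsAlgSpace F → IsAlgSpace G → Q f

/-- stability under base change between algebraic spaces -/
def BCStable (Q : MorphismProperty (Sp S)) : Prop :=
  ∀ ⦃X₁ Y₁ X₂ Y₂ : Sp S⦄, IsAlgSpace X₁ → IsAlgSpace Y₁ → IsAlgSpace X₂ → IsAlgSpace Y₂ →
    ∀ (a : X₁ ⟶ Y₁) (b : Y₂ ⟶ Y₁) (a' : X₂ ⟶ Y₂) (b' : X₂ ⟶ X₁), IsPullback b' a' a b → Q a → Q a'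

theorem respectsIso_onSp {Q : MorphismProperty (Sp S)} (hb : BCStable Q) : (onSp Q).RespectsIso := by
  refine MorphismProperty.RespectsIso.mk _ (fun {X Y Z} e f hf hX hZ => ?_) (fun {X Y Z} e f hf hX hZ => ?_)
  · have hY : IsAlgSpace Y := IsAlgSpace.of_iso hX e
    exact hb hY hZ hX hZ f (𝟙 _) (e.hom ≫ f) e.hom (IsPullback.of_horiz_isIso ⟨by simp⟩) (hf hY hZ)
  · have hY : IsAlgSpace Y := IsAlgSpace.of_iso hZ e.symm
    exact hb hX hY hX hZ f e.inv (f ≫ e.hom) (𝟙 _) (IsPullback.of_horiz_isIso ⟨by simp⟩) (hf hX hY)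

theorem repWith_onSp_iff {Q : MorphismProperty (Sp S)} {𝒳 : BasedCategory.{v₂, u₂} (Over S)}
    {𝒴 : BasedCategory.{v₃, u₃} (Over S)} {f : 𝒳 ⥤ᵇ 𝒴} :
    RepByAlgSpWith (onSp Q) f ↔ RepByAlgSpWith Q f :=
  ⟨fun h => repWith_mono h fun _ _ _ hF ha => ha hF (IsAlgSpace.yon_obj _),
    fun h => repWith_mono h fun _ _ _ _ ha _ _ => ha⟩

/-- a chart is an fppf covering -/
theorem isFppfCover_chart {Y : Sp S} (hY : IsAlgSpace Y) {V : Over S} {p : (yon S).obj V ⟶ Y}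
    (hp : RepWith @Etale p) (hps : RepWith @Surjective p) :
    IsFppfCover (fun _ : PUnit.{u + 1} => (yon S).obj V) (fun _ => p) :=
  ⟨fun _ => ⟨(locP_iff_repWith etST_flat hY hp.1).2 (AlgSpLib.repWith_mono (fun _ _ r hr => by
      have : Etale r := hr
      infer_instance) hp),
    (locP_iff_repWith etST_lfp hY hp.1).2 (AlgSpLib.repWith_mono (fun _ _ r hr => by
      have : Etale r := hr
      infer_instance) hp)⟩,
    fun x => ⟨PUnit.unit, isSurjectiveMor_of_repWith hps x⟩⟩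

/-- for base-local properties, relative representability with `Q` gives `Q` between algebraic spaces -/
theorem of_repBySpWith {Q : MorphismProperty (Sp S)} (hQ : IsLocalOnBase (IsFppfCover (S := S)) Q)
    {X Y : Sp S} (hX : IsAlgSpace X) (hY : IsAlgSpace Y) (f : X ⟶ Y) (h : RepBySpWith Q f.hom) : Q f := by
  obtain ⟨V, p, hp, hps⟩ := hY.2
  have sq := IsPullback.of_hasPullback f p
  refine (hQ _ _ hY (fun _ => IsAlgSpace.yon_obj _) (isFppfCover_chart hY hp hps) f hX _ _ _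
    (fun _ => isAlgSpace_of_isPullback_space hY hX (IsAlgSpace.yon_obj _) sq) (fun _ => sq)).2 fun _ => ?_
  obtain ⟨h', -, hq⟩ := h p.hom (pullback.fst f p).hom (pullback.snd f p).hom
    (sq.map (sheafToPresheaf (J S) (Type (u + 1))))
  exact hq

variable {𝒳 𝒴 𝒵 : AlgSt.Cat S}

theorem repWith_comp_aux (h𝒳 : FibCat.IsFibGrpd 𝒳.p) (h𝒴 : FibCat.IsFibGrpd 𝒴.p)
    {Q : MorphismProperty (Sp S)} [Q.RespectsIso] {f : 𝒳 ⥤ᵇ 𝒴} {g : 𝒴 ⥤ᵇ 𝒵}
    (hf : RepByAlgSpWith Q f) (hg : RepByAlgSpWith Q g) (R : MorphismProperty (Sp S)) [R.RespectsIso]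
    (hR : ∀ ⦃P G : Sp S⦄ ⦃U : Over S⦄ (a : P ⟶ G) (b : G ⟶ (yon S).obj U), IsAlgSpace P → IsAlgSpace G →
      RepBySpWith Q a.hom → Q b → R (a ≫ b)) :
    RepByAlgSpWith R (BasedFunctor.comp f g) := by
  rw [repWith_iff]
  intro U y
  obtain ⟨G, eG, heG, hG₁, hG₂, hQb⟩ := (repWith_iff Q g).1 hg U y
  let y₁ : Stk.ofPsh G ⥤ᵇ 𝒴 := BasedFunctor.comp eG (FibCat.fpSnd y g)
  obtain ⟨P, e, he⟩ := exists_model h𝒳 h𝒴 (repByAlgSp1_of_with hf) y₁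
  obtain ⟨hP₁, hP₂⟩ := isAlgSpaceP_model (repByAlgSp1_of_with hf) ⟨hG₁, hG₂⟩ he
  haveI : (BasedFunctor.id 𝒴).toFunctor.Full := inferInstanceAs (𝟭 𝒴.obj).Full
  haveI : (BasedFunctor.id 𝒴).toFunctor.Faithful := inferInstanceAs (𝟭 𝒴.obj).Faithful
  let m := fpMap (F := FibCat.fpSnd y g) (G := f) y₁ f eG (BasedFunctor.id 𝒳) (BasedFunctor.id 𝒴)
    (Iso.refl _) (Iso.refl _)
  refine ⟨P, BasedFunctor.comp (BasedFunctor.comp e m) (assocFun y g f),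
    isEquivOver_comp (isEquivOver_comp he (isEquivOver_fpMap _ _ _ _ _ _ _ heG isEquivOver_id))
      (isEquivOver_assocFun y g f), hP₁, hP₂, ?_⟩
  let a : (⟨P, hP₁⟩ : Sp S) ⟶ ⟨G, hG₁⟩ := ObjectProperty.homMk (prjMap e)
  let b : (⟨G, hG₁⟩ : Sp S) ⟶ (yon S).obj U := ObjectProperty.homMk (prjMap eG)
  convert hR a b hP₂ hG₂ (repBySpWith_prjMap hf he) hQb using 1
  exact ObjectProperty.hom_ext _
    (mapOf_comp (BasedFunctor.comp e (FibCat.fpFst y₁ f)) (BasedFunctor.comp eG (FibCat.fpFst y g)))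

theorem repWith_comp (h𝒳 : FibCat.IsFibGrpd 𝒳.p) (h𝒴 : FibCat.IsFibGrpd 𝒴.p)
    {Q : MorphismProperty (Sp S)} (hb : BCStable Q)
    (hc : ∀ ⦃X Y Z : Sp S⦄, IsAlgSpace X → IsAlgSpace Y → IsAlgSpace Z → ∀ (a : X ⟶ Y) (b : Y ⟶ Z),
      Q a → Q b → Q (a ≫ b))
    (hl : IsLocalOnBase (IsFppfCover (S := S)) Q) {f : 𝒳 ⥤ᵇ 𝒴} {g : 𝒴 ⥤ᵇ 𝒵}
    (hf : RepByAlgSpWith Q f) (hg : RepByAlgSpWith Q g) : RepByAlgSpWith Q (BasedFunctor.comp f g) := by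
  haveI := respectsIso_onSp hb
  refine repWith_onSp_iff.1 (repWith_comp_aux h𝒳 h𝒴 (repWith_onSp_iff.2 hf) (repWith_onSp_iff.2 hg) _
    fun P G U a b hP hG ha hb' hP' hU => hc hP hG hU a b ?_ (hb' hG hU))
  refine of_repBySpWith hl hP hG a fun V ξ P' fst snd sq => ?_
  obtain ⟨h₁, h₂, h₃⟩ := ha ξ fst snd sq
  exact ⟨h₁, h₂, h₃ h₂ (IsAlgSpace.yon_obj _)⟩

theorem repByAlgSp1_comp (h𝒳 : FibCat.IsFibGrpd 𝒳.p) (h𝒴 : FibCat.IsFibGrpd 𝒴.p) {f : 𝒳 ⥤ᵇ 𝒴}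
    {g : 𝒴 ⥤ᵇ 𝒵} (hf : RepByAlgSp1 f) (hg : RepByAlgSp1 g) : RepByAlgSp1 (BasedFunctor.comp f g) :=
  repByAlgSp1_of_with (repWith_comp_aux h𝒳 h𝒴 (repByAlgSpWith_top_iff.2 hf) (repByAlgSpWith_top_iff.2 hg) ⊤
    fun _ _ _ _ _ _ _ _ _ => trivial)

/-- fibre products over algebraic spaces of representable functors are algebraic spaces -/
theorem repByAlgSp_fp (h𝒳 : FibCat.IsFibGrpd 𝒳.p) (h𝒴 : FibCat.IsFibGrpd 𝒴.p) {f : 𝒳 ⥤ᵇ 𝒴}
    (hf : RepByAlgSp1 f) (g : 𝒵 ⥤ᵇ 𝒴) (hZ : RepByAlgSp 𝒵) : RepByAlgSp (FibCat.fp g f) := by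
  obtain ⟨A, k, hk⟩ := hZ
  obtain ⟨P, e, he⟩ := exists_model h𝒳 h𝒴 hf (BasedFunctor.comp k g)
  haveI : (BasedFunctor.id 𝒴).toFunctor.Full := inferInstanceAs (𝟭 𝒴.obj).Full
  haveI : (BasedFunctor.id 𝒴).toFunctor.Faithful := inferInstanceAs (𝟭 𝒴.obj).Faithful
  exact (repByAlgSp_iff_of_equiv (isEquivOver_fpMap (BasedFunctor.comp k g) f k (BasedFunctor.id 𝒳)
    (BasedFunctor.id 𝒴) (F := g) (G := f) (Iso.refl _) (Iso.refl _) hk isEquivOver_id)).1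
    (repByAlgSp_of_model he (isAlgSpaceP_model hf ((isAlgSpaceP_obj_iff _).2 A.property) he))

/-- monomorphisms: the projections of models are injective -/
theorem injective_prjMap {f : 𝒳 ⥤ᵇ 𝒴} (hf : IsMono f) {A P : PSp S} {y : Stk.ofPsh A ⥤ᵇ 𝒴}
    {e : Stk.ofPsh P ⥤ᵇ FibCat.fp y f} (he : FibCat.IsEquivOver e) (T : (Over S)ᵒᵖ) :
    Function.Injective ((prjMap e).app T) := by
  intro x₁ x₂ hx
  have sq := IsPullback.of_hasPullback (prjMap e) (sEq.symm ((prjMap e).app T x₁) : (pyon S).obj T.unop ⟶ A)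
  obtain ⟨h, -, hm⟩ := repBySpWith_prjMap hf he _ _ _ sq
  haveI : Mono (pullback.snd (prjMap e) (sEq.symm ((prjMap e).app T x₁) : (pyon S).obj T.unop ⟶ A)) := by
    haveI : Mono _ := hm
    exact inferInstanceAs (Mono ((sheafToPresheaf (J S) (Type (u + 1))).map (ObjectProperty.homMk
      (pullback.snd (prjMap e) (sEq.symm ((prjMap e).app T x₁) : (pyon S).obj T.unop ⟶ A)) :
        (⟨_, h⟩ : Sp S) ⟶ (yon S).obj T.unop)))
  have hz : ∀ x : P.obj T, (prjMap e).app T x = (prjMap e).app T x₁ →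
      sEq.symm x ≫ prjMap e = 𝟙 _ ≫ sEq.symm ((prjMap e).app T x₁) := fun x e' => by
    apply sEq.injective
    rw [sEq_comp, Category.id_comp, Equiv.apply_symm_apply, Equiv.apply_symm_apply]
    exact e'
  have := cancel_mono (pullback.snd (prjMap e) (sEq.symm ((prjMap e).app T x₁) : (pyon S).obj T.unop ⟶ A))
    |>.1 ((sq.lift_snd (sEq.symm x₁) (𝟙 _) (hz x₁ rfl)).trans (sq.lift_snd (sEq.symm x₂) (𝟙 _) (hz x₂ hx.symm)).symm)
  have := congrArg (· ≫ pullback.fst _ _) this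
  simp only [IsPullback.lift_fst] at this
  exact sEq.symm.injective this

/-- monomorphisms of categories fibred in groupoids are fully faithful -/
theorem fullyFaithful_of_isMono (h𝒳 : FibCat.IsFibGrpd 𝒳.p) (h𝒴 : FibCat.IsFibGrpd 𝒴.p) {f : 𝒳 ⥤ᵇ 𝒴}
    (hf : IsMono f) : f.toFunctor.Full ∧ f.toFunctor.Faithful := by
  refine ⟨⟨fun {x' x} ψ => ?_⟩, faithful_of_rep h𝒳 h𝒴 (repByAlgSp1_of_with hf)⟩
  obtain ⟨y, iy, hiy⟩ := exists_point h𝒴 (f.obj x)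
  obtain ⟨a, m, χ, hχ', hχ, hχc⟩ := exists_iso_pt h𝒴 iy ψ
  obtain ⟨P, e, he⟩ := exists_model h𝒳 h𝒴 (repByAlgSp1_of_with hf) y
  haveI hπ : (Stk.ofPshMap (prjMap e)).toFunctor.Full := ⟨fun {b c} n => by
    refine ⟨⟨n.hom, injective_prjMap hf he _ ?_⟩, Stk.EltObj.hom_ext rfl⟩
    rw [NatTrans.naturality_apply]
    exact n.map_sec⟩
  have hcomp : (BasedFunctor.comp e (FibCat.fpFst y f)).toFunctor.Full :=
    @Functor.Full.of_iso _ _ _ _ (Stk.ofPshMap (prjMap e)).toFunctor _ hπ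
      ((BasedNatTrans.forgetful _ _).mapIso (mapOfIso (BasedFunctor.comp e (FibCat.fpFst y f))))
  haveI := (isEquivOver_data he).1
  haveI : (e.toFunctor ⋙ (FibCat.fpFst y f).toFunctor).Full := hcomp
  let o : (FibCat.fp y f).obj := ⟨⟨pt _, x, iy⟩, fpProp_of_map y f _ (y.w_obj _) hiy⟩
  let o' : (FibCat.fp y f).obj := ⟨⟨a, x', χ⟩, fpProp_of_map y f _ hχ' hχ⟩
  obtain ⟨b, ⟨ib⟩⟩ : ∃ b, Nonempty (e.obj b ≅ o') := ⟨_, ⟨e.toFunctor.objObjPreimageIso o'⟩⟩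
  obtain ⟨c, ⟨ic⟩⟩ : ∃ c, Nonempty (e.obj c ≅ o) := ⟨_, ⟨e.toFunctor.objObjPreimageIso o⟩⟩
  obtain ⟨n, hn⟩ := (e.toFunctor ⋙ (FibCat.fpFst y f).toFunctor).map_surjective
    ((FibCat.fpFst y f).map ib.hom ≫ (show (FibCat.fpFst y f).obj o' ⟶ (FibCat.fpFst y f).obj o from m) ≫
      (FibCat.fpFst y f).map ic.inv)
  let M : o' ⟶ o := ib.inv ≫ e.map n ≫ ic.hom
  have hM : M.hom.fst = m := by
    show (FibCat.fpFst y f).map M = m
    simp only [M, Functor.map_comp]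
    rw [show (FibCat.fpFst y f).map (e.map n) = _ from hn]
    simp [← Functor.map_comp]
  refine ⟨M.hom.snd, ?_⟩
  have w : y.map M.hom.fst ≫ iy.hom = χ.hom ≫ f.map M.hom.snd := M.hom.w
  rw [hM, ← hχc] at w
  exact ((cancel_epi χ.hom).1 w).symm

theorem isMono_of_isImm {𝒳 : BasedCategory.{v₂, u₂} (Over S)} {𝒴 : BasedCategory.{v₃, u₃} (Over S)}
    {f : 𝒳 ⥤ᵇ 𝒴} (hf : IsImm f) : IsMono f :=
  repWith_mono hf fun _ _ _ _ ha => AlgSpLib.mono_of_repWith_immersion ha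

/-- maps between categories representable by algebraic spaces are representable -/
theorem repByAlgSp1_of_space {A B : PSp S} (hA : IsAlgSpaceP A)
    (hB : IsAlgSpaceP B) (a : A ⟶ B) : RepByAlgSp1 (Stk.ofPshMap a) := by
  rw [← repByAlgSpWith_top_iff, repWith_iff]
  intro U y
  have sq := IsPullback.of_hasPullback (mapOf y) a
  obtain ⟨e₂, he₂, -⟩ := exists_model_change (f := Stk.ofPshMap a) (mapOfIso y) (e := pbFun sq.toCommSq)
    (isEquivOver_pbFun sq)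
  exact ⟨_, e₂, he₂, (good_top_iff _).2 (isAlgSpaceP_of_isPullback hB (isAlgSpaceP_yon U) hA sq)⟩

/-- representable maps of presheaves -/
theorem repWith_ofPshMap_iff (Q : MorphismProperty (Sp S)) [Q.RespectsIso] {F G : PSp S} (a : F ⟶ G) :
    RepByAlgSpWith Q (Stk.ofPshMap a) ↔ RepBySpWith Q a := by
  rw [repWith_iff]
  constructor
  · intro h U ξ F' fst snd sq
    obtain ⟨P, e, he, hg⟩ := h U (Stk.ofPshMap ξ)
    obtain ⟨i, hi⟩ := exists_iso_of_models he (isEquivOver_pbFun sq.flip)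
    refine good_of_iso Q i ((hi (FibCat.fpFst (Stk.ofPshMap ξ) (Stk.ofPshMap a))).trans ?_) hg
    exact (mapOf_congr (Iso.refl _)).trans (mapOf_ofPshMap snd)
  · intro h U y
    have sq := IsPullback.of_hasPullback (mapOf y) a
    obtain ⟨e₂, he₂, heq⟩ := exists_model_change (f := Stk.ofPshMap a) (mapOfIso y) (e := pbFun sq.toCommSq)
      (isEquivOver_pbFun sq)
    refine ⟨_, e₂, he₂, ?_⟩
    rw [heq]
    convert h (mapOf y) _ _ sq.flip using 1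
    exact Iff.of_eq (congrArg (Good Q) (mapOf_ofPshMap (pullback.fst (mapOf y) a)))

theorem repByAlgSp1_ofPshMap_iff {F G : PSp S} (a : F ⟶ G) :
    RepByAlgSp1 (Stk.ofPshMap a) ↔ RepBySp a := by
  rw [← repByAlgSpWith_top_iff, repWith_ofPshMap_iff]
  exact ⟨fun h => h.repBySp, fun h U ξ F' fst snd sq =>
    ⟨(h ξ fst snd sq).1, (h ξ fst snd sq).2, trivial⟩⟩

end Groth.Agent.AlgStLib

end
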