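import Groth.Agent.AlgStLib.DiagFibres

/-!
# Cancellation, diagonals of morphisms of algebraic stacks, separation criteria
-/

set_option autoImplicit false
set_option backward.isDefEq.respectTransparency false
set_option backward.isDefEq.respectTransparency.types false
set_option linter.style.haveILetI false
universe u

noncomputable section

namespace Groth.Agent.AlgStLib

open CategoryTheory CategoryTheory.Limits AlgebraicGeometry Opposite Groth.Agent.FibCatRep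
  Groth.Agent.FibCat2Misc Groth.Agent.AlgSpLib Groth.Agent.StkBasic
open _root_.AlgSp _root_.AlgSt

variable {S : Scheme.{u}} {𝒳 𝒴 𝒵 : AlgSt.Cat S}

theorem cls_top : Cls (⊤ : MorphismProperty (Sp S)) :=
  ⟨fun _ _ _ _ _ _ _ _ _ _ _ _ _ _ => trivial, fun _ _ _ _ _ _ _ _ _ _ => trivial,
    fun _ _ _ _ _ _ _ _ _ _ _ _ _ _ _ => ⟨fun _ _ => trivial, fun _ => trivial⟩⟩

/-- cancellation -/
theorem repWith_cancel (h𝒳 : FibCat.IsFibGrpd 𝒳.p) (h𝒴 : FibCat.IsFibGrpd 𝒴.p)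
    (h𝒵 : FibCat.IsFibGrpd 𝒵.p) {Q : MorphismProperty (Sp S)} (hQ : Cls Q) (f : 𝒳 ⥤ᵇ 𝒴) (g : 𝒴 ⥤ᵇ 𝒵)
    (hfg : RepByAlgSpWith Q (BasedFunctor.comp f g)) (hg : RepByAlgSpWith Q (FibCat.diag g)) :
    RepByAlgSpWith Q f := by
  let e : BasedFunctor.comp (BasedFunctor.id 𝒳) (BasedFunctor.comp f g) ≅ BasedFunctor.comp f g := Iso.refl _
  exact repWith_congr Q (Iso.refl _) (repWith_comp h𝒳
    (isFibGrpd_fp h𝒳 h𝒴 h𝒵 (BasedFunctor.comp f g) g) hQ.bc hQ.comp hQ.loc (repWith_graph f e hg)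
    (repWith_fpSnd Q (BasedFunctor.comp f g) g hfg))

/-- cancellation for representable properties -/
theorem repWith_cancel_rep (h𝒳 : FibCat.IsFibGrpd 𝒳.p) (h𝒴 : FibCat.IsFibGrpd 𝒴.p)
    (h𝒵 : FibCat.IsFibGrpd 𝒵.p) {P : MorphismProperty Scheme.{u}} [P.IsStableUnderBaseChange]
    [P.IsStableUnderComposition] (f : 𝒳 ⥤ᵇ 𝒴) (g : 𝒴 ⥤ᵇ 𝒵)
    (hfg : RepByAlgSpWith (RepWith (S := S) P) (BasedFunctor.comp f g))
    (hg : RepByAlgSpWith (RepWith (S := S) P) (FibCat.diag g)) : RepByAlgSpWith (RepWith (S := S) P) f := by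
  let e : BasedFunctor.comp (BasedFunctor.id 𝒳) (BasedFunctor.comp f g) ≅ BasedFunctor.comp f g := Iso.refl _
  exact repWith_congr _ (Iso.refl _) (repWith_comp_rep h𝒳
    (isFibGrpd_fp h𝒳 h𝒴 h𝒵 (BasedFunctor.comp f g) g) (repWith_graph f e hg)
    (repWith_fpSnd _ (BasedFunctor.comp f g) g hfg))

theorem repByAlgSp1_cancel (h𝒳 : FibCat.IsFibGrpd 𝒳.p) (h𝒴 : FibCat.IsFibGrpd 𝒴.p)
    (h𝒵 : FibCat.IsFibGrpd 𝒵.p) (f : 𝒳 ⥤ᵇ 𝒴) (g : 𝒴 ⥤ᵇ 𝒵) (hfg : RepByAlgSp1 (BasedFunctor.comp f g))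
    (hg : RepByAlgSp1 (FibCat.diag g)) : RepByAlgSp1 f :=
  repByAlgSp1_of_with (repWith_cancel h𝒳 h𝒴 h𝒵 cls_top f g (repByAlgSpWith_top_iff.2 hfg)
    (repByAlgSpWith_top_iff.2 hg))

/-- the comparison of self fibre products along a composition -/
abbrev cmpSelf (f : 𝒳 ⥤ᵇ 𝒴) (g : 𝒴 ⥤ᵇ 𝒵) :
    FibCat.fp f f ⥤ᵇ FibCat.fp (BasedFunctor.comp f g) (BasedFunctor.comp f g) :=
  FibCat.fpLift (FibCat.fpFst f f) (FibCat.fpSnd f f)
    (show BasedFunctor.comp (FibCat.fpFst f f) (BasedFunctor.comp f g) ≅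
      BasedFunctor.comp (FibCat.fpSnd f f) (BasedFunctor.comp f g) from (post _ g).mapIso (FibCat.fpIso f f))

def diagCmpIso (f : 𝒳 ⥤ᵇ 𝒴) (g : 𝒴 ⥤ᵇ 𝒵) :
    FibCat.diag (BasedFunctor.comp f g) ≅ BasedFunctor.comp (FibCat.diag f) (cmpSelf f g) :=
  fpExt (Iso.refl _) (Iso.refl _) fun x => by
    show g.map (f.map (𝟙 x)) ≫ g.map (𝟙 (f.obj x)) = 𝟙 (g.obj (f.obj x)) ≫ g.map (f.map (𝟙 x))
    simp

theorem repWith_cmpSelf {Q : MorphismProperty (Sp S)} (f : 𝒳 ⥤ᵇ 𝒴) (g : 𝒴 ⥤ᵇ 𝒵)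
    (h : RepByAlgSpWith Q (FibCat.diag g)) : RepByAlgSpWith Q (cmpSelf f g) :=
  repWith_comparison f f g _ (fun _ => rfl) h

theorem repByAlgSp1_cmpSelf (f : 𝒳 ⥤ᵇ 𝒴) (g : 𝒴 ⥤ᵇ 𝒵) (h : RepByAlgSp1 (FibCat.diag g)) :
    RepByAlgSp1 (cmpSelf f g) :=
  repByAlgSp1_of_with (repWith_cmpSelf f g (repByAlgSpWith_top_iff.2 h))

/-- cancellation for diagonals -/
theorem repWith_diag_cancel (h𝒳 : FibCat.IsFibGrpd 𝒳.p) (h𝒴 : FibCat.IsFibGrpd 𝒴.p)
    (h𝒵 : FibCat.IsFibGrpd 𝒵.p) {Q : MorphismProperty (Sp S)} (hQ : Cls Q) (f : 𝒳 ⥤ᵇ 𝒴) (g : 𝒴 ⥤ᵇ 𝒵)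
    (hfg : RepByAlgSpWith Q (FibCat.diag (BasedFunctor.comp f g)))
    (hg : RepByAlgSpWith Q (FibCat.diag (cmpSelf f g))) : RepByAlgSpWith Q (FibCat.diag f) :=
  repWith_cancel h𝒳 (isFibGrpd_fp h𝒳 h𝒳 h𝒴 f f) (isFibGrpd_fp h𝒳 h𝒳 h𝒵 _ _) hQ _ (cmpSelf f g)
    (repWith_congr Q (diagCmpIso f g).symm hfg) hg

theorem comp_toSelf (g : 𝒴 ⥤ᵇ 𝒵) : BasedFunctor.comp g (FibCat.toSelf 𝒵) = FibCat.toSelf 𝒴 :=
  (fun F G (h : F.toFunctor = G.toFunctor) => by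
    obtain ⟨F, _⟩ := F
    obtain ⟨G, _⟩ := G
    cases h
    rfl : ∀ F G : 𝒴 ⥤ᵇ FibCat.selfOver (Over S), F.toFunctor = G.toFunctor → F = G) _ _ g.w

/-- diagonals of functors between categories with representable diagonal over the base -/
theorem repByAlgSp1_diag (h𝒴 : FibCat.IsFibGrpd 𝒴.p) (h𝒵 : FibCat.IsFibGrpd 𝒵.p)
    (d𝒴 : RepByAlgSp1 (FibCat.diag (FibCat.toSelf 𝒴))) (d𝒵 : RepByAlgSp1 (FibCat.diag (FibCat.toSelf 𝒵)))
    (g : 𝒴 ⥤ᵇ 𝒵) : RepByAlgSp1 (FibCat.diag g) := by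
  have h : RepByAlgSp1 (FibCat.diag (BasedFunctor.comp g (FibCat.toSelf 𝒵))) := by
    rw [comp_toSelf]; exact d𝒴
  exact repByAlgSp1_of_with (repWith_diag_cancel h𝒴 h𝒵 isFibGrpd_selfOver cls_top g (FibCat.toSelf 𝒵)
    (repByAlgSpWith_top_iff.2 h)
    (repByAlgSpWith_top_iff.2 (repByAlgSp1_diag_of_rep (repByAlgSp1_cmpSelf g (FibCat.toSelf 𝒵) d𝒵))))

variable {K : Precoverage Scheme.{u}}

theorem isFibGrpd_of_isAlgStack (h : IsAlgStack K 𝒳) : FibCat.IsFibGrpd 𝒳.p := h.isStack.1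

theorem repByAlgSp1_diag_stack (h𝒴 : IsAlgStack K 𝒴) (h𝒵 : IsAlgStack K 𝒵) (g : 𝒴 ⥤ᵇ 𝒵) :
    RepByAlgSp1 (FibCat.diag g) :=
  repByAlgSp1_diag (isFibGrpd_of_isAlgStack h𝒴) (isFibGrpd_of_isAlgStack h𝒵) h𝒴.diag h𝒵.diag g

/-- diagonal properties from scheme-representable ones -/
theorem repBySpWith_diagonal {P : MorphismProperty Scheme.{u}} {Q : MorphismProperty (Sp S)} [Q.RespectsIso]
    (hPQ : ∀ ⦃X Y : Sp S⦄ (f : X ⟶ Y), IsAlgSpace X → IsAlgSpace Y → RepWith P f → Q f)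
    {X Y : Sp S} (hX : IsAlgSpace X) (hY : IsAlgSpace Y) (π : X ⟶ Y) (h : RepWith P (pullback.diagonal π)) :
    RepBySpWith Q (pullback.diagonal π).hom :=
  repBySpWith_of_bc hX (isAlgSpace_of_isPullback_space hY hX hX (IsPullback.of_hasPullback π π)) _
    fun U _ _ _ snd hW sq => hPQ snd hW (IsAlgSpace.yon_obj U) (repWith_baseChange sq h)

theorem respectsIso_of_bc {Q : MorphismProperty (Sp S)}
    (h : ∀ ⦃A B C D : Sp S⦄ (a : A ⟶ C) (f : A ⟶ B) (g : C ⟶ D) (b : B ⟶ D),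
      IsPullback a f g b → Q g → Q f) : Q.RespectsIso := by
  apply MorphismProperty.RespectsIso.of_respects_arrow_iso
  intro p q e hp
  exact h (Arrow.leftFunc.map e.inv) q.hom p.hom (Arrow.rightFunc.map e.inv)
    (IsPullback.of_horiz_isIso ⟨e.inv.w⟩) hp

theorem respectsIso_separated : (AlgSp.IsSeparatedMor (S := S)).RespectsIso :=
  respectsIso_of_bc fun _ _ _ _ _ _ _ _ sq h => isSeparatedMor_baseChange sq h

theorem respectsIso_quasiSeparated : (AlgSp.IsQuasiSeparatedMor (S := S)).RespectsIso :=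
  respectsIso_of_bc fun _ _ _ _ _ _ _ _ sq h => isQuasiSeparatedMor_baseChange sq h

theorem respectsIso_quasiCompact : (AlgSp.IsQuasiCompactMor (S := S)).RespectsIso :=
  respectsIso_of_bc fun _ _ _ _ _ _ _ _ sq h _ _ hW hWq _ _ _ sq' => h hW hWq _ _ _ (sq'.paste_horiz sq)

theorem respectsIso_qcqs :
    (AlgSp.IsQuasiCompactMor ⊓ AlgSp.IsQuasiSeparatedMor : MorphismProperty (Sp S)).RespectsIso :=
  respectsIso_of_bc fun _ _ _ _ _ _ _ _ sq h =>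
    ⟨fun _ _ hW hWq _ _ _ sq' => h.1 hW hWq _ _ _ (sq'.paste_horiz sq), isQuasiSeparatedMor_baseChange sq h.2⟩

theorem respectsIso_univClosed : (AlgSp.IsUnivClosedMor (S := S)).RespectsIso :=
  respectsIso_of_bc fun _ _ _ _ _ _ _ _ sq h _ _ hW _ _ _ sq' => h hW _ _ _ (sq'.paste_horiz sq)

/-- separated functors have closed diagonals -/
theorem isClosedImm_diag_of_separated {f : 𝒳 ⥤ᵇ 𝒴} (h : RepByAlgSpWith AlgSp.IsSeparatedMor f) :
    IsClosedImm (FibCat.diag f) := by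
  haveI := respectsIso_separated (S := S)
  exact repWith_diag_of_repWith h fun _ U π hX hπ =>
    repBySpWith_diagonal (fun _ _ _ _ _ h => h) hX (IsAlgSpace.yon_obj U) π hπ

theorem isSeparatedMor_of_isClosedImm {f : 𝒳 ⥤ᵇ 𝒴} (h : IsClosedImm (FibCat.diag f)) :
    AlgSt.IsSeparatedMor f :=
  repWith_mono h fun _ U _ hX ha => isProperMor_of_closedImmersion hX (IsAlgSpace.yon_obj U) ha

theorem isSeparatedMor_of_separated {f : 𝒳 ⥤ᵇ 𝒴} (h : RepByAlgSpWith AlgSp.IsSeparatedMor f) :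
    AlgSt.IsSeparatedMor f :=
  isSeparatedMor_of_isClosedImm (isClosedImm_diag_of_separated h)

theorem qcqs_of_rep_mono {X Y : Sp S} (f : X ⟶ Y) (hX : IsAlgSpace X) (hY : IsAlgSpace Y)
    (h : RepWith (MorphismProperty.monomorphisms Scheme.{u} ⊓ @QuasiCompact) f) :
    (AlgSp.IsQuasiCompactMor ⊓ AlgSp.IsQuasiSeparatedMor : MorphismProperty (Sp S)) f :=
  ⟨(isQuasiCompactMor_iff_repWith hX hY h.1).2 (repWith_inf_iff.1 h).2,
    (isQuasiSeparatedMor_iff_repWith hX hY h.1).2 (AlgSpLib.repWith_mono (fun _ _ r hr => by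
      haveI : Mono r := hr
      infer_instance) (repWith_inf_iff.1 h).1)⟩

theorem isQuasiSeparatedMor_of_quasiSeparated {f : 𝒳 ⥤ᵇ 𝒴}
    (h : RepByAlgSpWith AlgSp.IsQuasiSeparatedMor f) : AlgSt.IsQuasiSeparatedMor f := by
  haveI := respectsIso_quasiSeparated (S := S)
  haveI := respectsIso_qcqs (S := S)
  exact repWith_diag_of_repWith h fun _ U π hX hπ =>
    repBySpWith_diagonal (fun _ _ a hA hB h => qcqs_of_rep_mono a hA hB h) hX (IsAlgSpace.yon_obj U) π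
      (repWith_inf_iff.2 ⟨(repWith_diagonal_props hX π).1, hπ⟩)

/-- properties of functors read from the diagonal -/
theorem repWith_of_diag {f : 𝒳 ⥤ᵇ 𝒴} (hf : RepByAlgSp1 f) {Q R : MorphismProperty (Sp S)} [Q.RespectsIso]
    [R.RespectsIso] (h : RepByAlgSpWith Q (FibCat.diag f))
    (hR : ∀ ⦃X : Sp S⦄ ⦃U : Over S⦄ (π : X ⟶ (yon S).obj U), IsAlgSpace X →
      RepBySpWith Q (pullback.diagonal π).hom → R π) : RepByAlgSpWith R f := by
  rw [repWith_iff]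
  intro U y
  obtain ⟨F, e, he⟩ := repByAlgSp_fp_yon hf U y
  exact ⟨F.obj.obj, e, he, F.obj.property, F.property,
    hR (X := F.obj) (ObjectProperty.homMk (prjMap e)) F.property
      ((repWith_diag_model_iff (F := F.obj) he).1 (repWith_diag_fpFst f y h))⟩

theorem quasiSeparated_of_qc_diag {f : 𝒳 ⥤ᵇ 𝒴} (hf : RepByAlgSp1 f)
    (h : RepByAlgSpWith AlgSp.IsQuasiCompactMor (FibCat.diag f)) :
    RepByAlgSpWith AlgSp.IsQuasiSeparatedMor f := by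
  haveI := respectsIso_quasiCompact (S := S)
  haveI := respectsIso_quasiSeparated (S := S)
  refine repWith_of_diag hf h fun X U π hX hq => ?_
  have hP := isAlgSpace_of_isPullback_space (IsAlgSpace.yon_obj U) hX hX (IsPullback.of_hasPullback π π)
  exact (isQuasiCompactMor_iff_repWith hX hP (repWith_diagonal_props hX π).1.1).1
    (of_repBySpWith (isLocalOnBase_fppf isLocalOnBase_isQuasiCompactMor) hX hP _ hq)

theorem separated_of_univClosed_diag {f : 𝒳 ⥤ᵇ 𝒴} (hf : RepByAlgSp1 f)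
    (h : RepByAlgSpWith AlgSp.IsUnivClosedMor (FibCat.diag f)) :
    RepByAlgSpWith AlgSp.IsSeparatedMor f := by
  haveI := respectsIso_univClosed (S := S)
  haveI := respectsIso_separated (S := S)
  refine repWith_of_diag hf h fun X U π hX hq => ?_
  refine repWith_of_exists fun V ξ => ?_
  have sq := IsPullback.of_hasPullback (pullback.diagonal π) ξ
  obtain ⟨h₁, h₂, hu⟩ := hq ξ.hom (pullback.fst _ ξ).hom (pullback.snd _ ξ).hom
    (sq.map (sheafToPresheaf (J S) (Type (u + 1))))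
  have hp := repWith_inf_iff.2 (repWith_diagonal_props hX π)
  have hs := repWith_baseChange sq hp
  obtain ⟨W, fst, snd, sqW, hW⟩ := exists_repWith hs (𝟙 ((yon S).obj V))
  obtain ⟨-, hu'⟩ := (isUnivClosedMor_iff_repWith hs.1).1 hu
  haveI : Mono snd.left := hW.1
  haveI : LocallyOfFiniteType snd.left := hW.2
  haveI : UniversallyClosed snd.left := hu' _ _ _ sqW
  haveI : IsProper snd.left := ⟨⟩
  refine ⟨W, fst ≫ pullback.fst _ ξ, snd, ?_, (IsClosedImmersion.iff_isProper_and_mono _).2 ⟨‹_›, ‹_›⟩⟩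
  simpa using sqW.paste_horiz sq

end Groth.Agent.AlgStLib

end
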