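import Groth.Agent.AlgStLib.DiagProps

/-!
# Compatible charts
-/

set_option autoImplicit false
set_option backward.isDefEq.respectTransparency false
set_option backward.isDefEq.respectTransparency.types false
set_option linter.style.haveILetI false
universe u

noncomputable section

namespace Groth.Agent.AlgStLib

open CategoryTheory CategoryTheory.Limits AlgebraicGeometry Opposite Groth.Agent.FibCatRep
  Groth.Agent.FibCat2Misc Groth.Agent.AlgSpLib Groth.Agent.StkBasic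
open _root_.AlgSp _root_.AlgSt

variable {S : Scheme.{u}} {𝒳 𝒴 : AlgSt.Cat S}

theorem exists_overMap_iso {U V : Over S} (Φ : FibCat.overCat U ⥤ᵇ FibCat.overCat V) :
    ∃ a : U ⟶ V, Nonempty (Φ ≅ AlgSt.overMap a) := by
  let T : Over U := Over.mk (𝟙 U)
  let h₀ : (Φ.obj T).left = U := Φ.w_obj T
  let a : U ⟶ V := eqToHom h₀.symm ≫ (Φ.obj T).hom
  have key : ∀ z : Over U, (Φ.obj z).hom = eqToHom (Φ.w_obj z) ≫ z.hom ≫ a := by
    intro z
    let m : z ⟶ T := Over.homMk z.hom (Category.comp_id _)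
    have h : (Φ.map m).left = eqToHom (Φ.w_obj z) ≫ z.hom ≫ eqToHom (Φ.w_obj T).symm := map_map Φ m
    rw [← Over.w (Φ.map m), h]
    simp [a]
  refine ⟨a, ⟨BasedNatIso.mkNatIso (NatIso.ofComponents
    (fun z => Over.isoMk (eqToIso (Φ.w_obj z)) (key z).symm)
    (fun {z z'} m => Over.OverMorphism.ext ?_)) (fun z => ?_)⟩⟩
  · show (Φ.map m).left ≫ eqToHom (Φ.w_obj z') = eqToHom (Φ.w_obj z) ≫ m.left
    rw [show (Φ.map m).left = _ from map_map Φ m]
    simp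
    rfl
  · exact IsHomLift.of_fac' _ _ _ (Φ.w_obj z) rfl (show eqToHom (Φ.w_obj z) = _ by simp)

/-- charts over a given chart of the target -/
theorem exists_chart_over (h𝒳 : IsAlgStack Scheme.fppfPrecoverage 𝒳)
    (h𝒴 : IsAlgStack Scheme.fppfPrecoverage 𝒴) (f : 𝒳 ⥤ᵇ 𝒴) (V : Over S) (y : FibCat.overCat V ⥤ᵇ 𝒴)
    (hy : RepByAlgSpWith (LocP @Smooth) y) (hy' : RepByAlgSpWith AlgSp.IsSurjectiveMor y) :
    ∃ (U : Over S) (a : U ⟶ V) (x : FibCat.overCat U ⥤ᵇ 𝒳),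
      RepByAlgSpWith (LocP @Smooth) x ∧ RepByAlgSpWith AlgSp.IsSurjectiveMor x ∧
        Nonempty (BasedFunctor.comp x f ≅ BasedFunctor.comp (AlgSt.overMap a) y) := by
  have hV : IsAlgStack Scheme.fppfPrecoverage (FibCat.overCat V) :=
    isAlgStack_of_equiv (isEquivOver_toOverCat V) (isDM_of_space (isAlgSpaceP_yon V)).1
  obtain ⟨U, x₀, h₁, h₂⟩ := (isAlgStack_fp h𝒴.isStack h𝒴.diag hV h𝒳 y f).atlas
  have g₁ := isFibGrpd_overCat (C := Over S) U
  have g₂ := isFibGrpd_fp (isFibGrpd_overCat (C := Over S) V) h𝒳.isStack.1 h𝒴.isStack.1 y f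
  obtain ⟨a, ⟨i⟩⟩ := exists_overMap_iso (BasedFunctor.comp x₀ (FibCat.fpFst y f))
  exact ⟨U, a, BasedFunctor.comp x₀ (FibCat.fpSnd y f),
    repWith_comp g₁ g₂ cls_smooth.bc cls_smooth.comp cls_smooth.loc h₁ (repWith_fpSnd _ y f hy),
    repWith_comp g₁ g₂ cls_surjective.bc cls_surjective.comp cls_surjective.loc h₂ (repWith_fpSnd _ y f hy'),
    ⟨((Stk.restr x₀ 𝒴).mapIso (FibCat.fpIso y f)).symm ≪≫ (post _ y).mapIso i⟩⟩

end Groth.Agent.AlgStLib

end
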