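import Groth.Agent.AlgStLib.QuotRep
import Groth.Agent.AlgSpLib.SheafLemmas
import Mathlib.AlgebraicGeometry.Morphisms.LocalFlatDescent

/-!
# Invariant maps descend to the quotient stack
-/

set_option autoImplicit false
set_option backward.isDefEq.respectTransparency false
set_option backward.isDefEq.respectTransparency.types false
universe u

noncomputable section

namespace Groth.Agent.AlgStLib.Quot

open CategoryTheory CategoryTheory.Limits MonoidalCategory CartesianMonoidalCategory MonObj GrpObj AlgebraicGeometry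
open _root_.AlgSp Opposite

variable {S : Scheme.{u}} {G X : Over S} [GrpObj G] {aX : AlgGrp.Action G X}
  [Flat G.hom] [LocallyOfFinitePresentation G.hom] {M : Sp S} (f : (yon S).obj X ⟶ M)
  (hf : (yon S).map aX.act ≫ f = (yon S).map (snd G X) ≫ f)

lemma fppf_π (A : AlgSt.QuotObj Scheme.fppfPrecoverage G aX) :
    Flat A.π.left ∧ Surjective A.π.left ∧ LocallyOfFinitePresentation A.π.left :=
  ⟨prop_π @Flat ‹Flat G.hom› A,
    prop_π @Surjective ⟨fun x => ⟨η[G].left x, by rw [← Scheme.Hom.comp_apply, Over.w η[G]]; rfl⟩⟩ A,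
    prop_π @LocallyOfFinitePresentation ‹LocallyOfFinitePresentation G.hom› A⟩

lemma epi_π (A : AlgSt.QuotObj Scheme.fppfPrecoverage G aX) : Epi ((yon S).map A.π) := by
  obtain ⟨h₁, h₂, h₃⟩ := fppf_π A
  exact Groth.Agent.AlgSpLib.epi_yon_map A.π

include hf in
omit [Flat G.hom] [LocallyOfFinitePresentation G.hom] in
lemma invariant {W : Over S} (r : W ⟶ G ⊗ X) :
    (yon S).map (r ≫ aX.act) ≫ f = (yon S).map (r ≫ snd G X) ≫ f := by
  rw [Functor.map_comp, Category.assoc, hf, ← Category.assoc, ← Functor.map_comp]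

include hf in
lemma exists_val (A : AlgSt.QuotObj Scheme.fppfPrecoverage G aX) :
    ∃ m : (yon S).obj A.base ⟶ M, (yon S).map A.π ≫ m = (yon S).map A.φ ≫ f := by
  obtain ⟨h₁, h₂, h₃⟩ := fppf_π A
  refine Groth.Agent.AlgSpLib.exists_desc A.π _ fun W p q hpq => ?_
  have e₁ : A.cart.lift p q hpq ≫ A.act.act = p := A.cart.lift_fst _ _ _
  have e₂ : A.cart.lift p q hpq ≫ snd G A.P = q := A.cart.lift_snd _ _ _
  rw [← Category.assoc, ← Functor.map_comp, ← Category.assoc, ← Functor.map_comp]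
  conv_lhs => rw [← e₁, Category.assoc, A.eqv, ← Category.assoc]
  conv_rhs => rw [← e₂, Category.assoc, ← whiskerLeft_snd G A.φ, ← Category.assoc]
  exact invariant f hf _

/-- the descended value at an object -/
def val (A : AlgSt.QuotObj Scheme.fppfPrecoverage G aX) : (yon S).obj A.base ⟶ M := (exists_val f hf A).choose

lemma π_val (A : AlgSt.QuotObj Scheme.fppfPrecoverage G aX) :
    (yon S).map A.π ≫ val f hf A = (yon S).map A.φ ≫ f := (exists_val f hf A).choose_spec

lemma val_map {A A' : AlgSt.QuotObj Scheme.fppfPrecoverage G aX} (h : A ⟶ A') :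
    (yon S).map h.base ≫ val f hf A' = val f hf A := by
  haveI := epi_π A
  rw [← cancel_epi ((yon S).map A.π), π_val, ← Category.assoc, ← Functor.map_comp, ← h.cart.w, Functor.map_comp,
    Category.assoc, π_val, ← Category.assoc, ← Functor.map_comp, h.wφ]

lemma val_qm {T : Over S} (x : T ⟶ X) :
    val f hf ((AlgSt.quotMap Scheme.fppfPrecoverage G aX).obj (qpt T x)) = (yon S).map x ≫ f := by
  let A := (AlgSt.quotMap Scheme.fppfPrecoverage G aX).obj (qpt T x)
  haveI := epi_π A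
  rw [← cancel_epi ((yon S).map A.π), π_val]
  show (yon S).map ((G ◁ x) ≫ aX.act) ≫ f = (yon S).map (snd G T) ≫ (yon S).map x ≫ f
  rw [invariant f hf, whiskerLeft_snd, Functor.map_comp, Category.assoc]

omit [Flat G.hom] [LocallyOfFinitePresentation G.hom] in
/-- the section attached to a map from a representable sheaf -/
abbrev toSec {T : Over S} (m : (yon S).obj T ⟶ M) : M.obj.obj (op T) := m.hom.app (op T) ⟨𝟙 T⟩

omit [Flat G.hom] [LocallyOfFinitePresentation G.hom] in
lemma toSec_res {T T' : Over S} (m : (yon S).obj T ⟶ M) (g : T' ⟶ T) :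
    M.obj.map g.op (toSec m) = toSec ((yon S).map g ≫ m) :=
  (J S).uliftYonedaEquiv_naturality m g

omit [Flat G.hom] [LocallyOfFinitePresentation G.hom] in
lemma toSec_comp {T : Over S} (x : T ⟶ X) :
    toSec ((yon S).map x ≫ f) = f.hom.app (op T) (⟨x⟩ : ULift.{u + 1} (T ⟶ X)) := by
  show f.hom.app (op T) (⟨𝟙 T ≫ x⟩ : ULift.{u + 1} (T ⟶ X)) = _
  rw [Category.id_comp]

omit [Flat G.hom] [LocallyOfFinitePresentation G.hom] in
lemma toSec_injective {T : Over S} {m m' : (yon S).obj T ⟶ M} (h : toSec m = toSec m') : m = m' :=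
  (J S).uliftYonedaEquiv.injective h

omit [Flat G.hom] [LocallyOfFinitePresentation G.hom] in
lemma exists_toSec {T : Over S} (s : M.obj.obj (op T)) : ∃ m : (yon S).obj T ⟶ M, toSec m = s :=
  (J S).uliftYonedaEquiv.surjective s

/-- the descended functor -/
def descFun : AlgSt.QuotSt Scheme.fppfPrecoverage G aX ⥤ᵇ AlgSt.ofSp M where
  toFunctor :=
    { obj := fun A => ⟨A.base, toSec (val f hf A)⟩
      map := fun {A A'} h => ⟨h.base, (toSec_res (val f hf A') h.base).trans
        (congrArg _ (val_map f hf h))⟩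
      map_id := fun _ => Stk.EltObj.hom_ext rfl
      map_comp := fun _ _ => Stk.EltObj.hom_ext rfl }
  w := rfl

omit [Flat G.hom] [LocallyOfFinitePresentation G.hom] in
lemma eq_of_sec {F : (Over S)ᵒᵖ ⥤ Type (u + 1)} {T T' : Over S} (e : T = T') (s : F.obj (op T))
    (s' : F.obj (op T')) (h : F.map (eqToHom e.symm).op s = s') :
    (⟨T, s⟩ : Stk.EltObj F) = ⟨T', s'⟩ := by
  subst e
  simp only [eqToHom_refl, op_id, CategoryTheory.Functor.map_id] at h
  rw [show s' = s from h.symm]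

omit [Flat G.hom] [LocallyOfFinitePresentation G.hom] in
lemma functor_ext {𝒵 : AlgSt.Cat S} {φ ψ : 𝒵 ⥤ᵇ AlgSt.ofSp M} (h : ∀ a, φ.obj a = ψ.obj a) : φ = ψ := by
  suffices e : φ.toFunctor = ψ.toFunctor by
    cases φ; cases ψ; congr
  refine CategoryTheory.Functor.ext h fun a b m => Stk.EltObj.hom_ext ?_
  have e : ∀ {c d : (AlgSt.ofSp M).obj} (he : c = d), (eqToHom he).hom = eqToHom (congrArg Stk.EltObj.base he) := by
    intro c d he; subst he; rfl
  rw [Stk.EltObj.comp_hom, Stk.EltObj.comp_hom, e, e]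
  have h₁ : (φ.map m).hom = _ := Groth.Agent.FibCatRep.map_map φ m
  have h₂ : (ψ.map m).hom = _ := Groth.Agent.FibCatRep.map_map ψ m
  rw [h₁, h₂]
  simp

lemma descFun_qm : BasedFunctor.comp (AlgSt.quotMap Scheme.fppfPrecoverage G aX) (descFun f hf) =
    AlgSt.ofSpMap f := by
  refine functor_ext fun a => ?_
  show (⟨a.base, toSec (val f hf ((AlgSt.quotMap Scheme.fppfPrecoverage G aX).obj a))⟩ :
    Stk.EltObj M.obj) = ⟨a.base, f.hom.app (op a.base) a.sec⟩
  congr 1
  exact (congrArg toSec (val_qm f hf a.sec.down)).trans (toSec_comp f a.sec.down)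

lemma eq_descFun (ψ : AlgSt.QuotSt Scheme.fppfPrecoverage G aX ⥤ᵇ AlgSt.ofSp M)
    (h : BasedFunctor.comp (AlgSt.quotMap Scheme.fppfPrecoverage G aX) ψ = AlgSt.ofSpMap f) :
    ψ = descFun f hf := by
  refine functor_ext fun A => ?_
  have hb : (ψ.obj A).base = A.base := ψ.w_obj A
  refine eq_of_sec hb (ψ.obj A).sec _ ?_
  obtain ⟨m', hm'⟩ := exists_toSec (M.obj.map (eqToHom hb.symm).op (ψ.obj A).sec)
  rw [← hm']
  refine congrArg toSec ?_
  haveI := epi_π A
  rw [← cancel_epi ((yon S).map A.π), π_val]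
  apply toSec_injective
  rw [← toSec_res, hm']
  refine Eq.trans ?_ (toSec_comp f A.φ).symm
  -- the trivialisation over the total space
  let t := trivHom A (𝟙 A.P)
  let q := (AlgSt.quotMap Scheme.fppfPrecoverage G aX).obj (qpt A.P (𝟙 A.P ≫ A.φ))
  have hq : ψ.obj q = (AlgSt.ofSpMap f).obj (qpt A.P (𝟙 A.P ≫ A.φ)) :=
    congrArg (fun φ : AlgSt.ofSch X ⥤ᵇ AlgSt.ofSp M => φ.obj (qpt A.P (𝟙 A.P ≫ A.φ))) h
  have hm := (ψ.map t).map_sec
  have hmap : (ψ.map t).hom = eqToHom (ψ.w_obj q) ≫ A.π ≫ eqToHom hb.symm :=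
    (Groth.Agent.FibCatRep.map_map ψ t).trans
      (congrArg (eqToHom (ψ.w_obj q) ≫ ·) (congrArg (· ≫ eqToHom hb.symm) (Category.id_comp A.π)))
  rw [hmap] at hm
  -- compare sections
  have key : ∀ (o : Stk.EltObj M.obj) (p : Stk.EltObj M.obj) (e : o = p) (T : Over S) (k : T ⟶ o.base)
      (k' : T ⟶ p.base), k ≫ eqToHom (congrArg Stk.EltObj.base e) = k' →
      M.obj.map k.op o.sec = M.obj.map k'.op p.sec := by
    intro o p e T k k' hk
    subst e
    simp at hk
    rw [hk]
  have hk := key _ _ hq A.P (eqToHom (ψ.w_obj q).symm) (𝟙 A.P) (eqToHom_trans _ _)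
  rw [← hm] at hk
  simp only [op_id, CategoryTheory.Functor.map_id] at hk
  refine Eq.trans ?_ (hk.trans ?_)
  · rw [← FunctorToTypes.map_comp_apply, ← FunctorToTypes.map_comp_apply, ← op_comp, ← op_comp]
    congr 3
    simp
  · refine (FunctorToTypes.map_id_apply M.obj _).trans ?_
    show f.hom.app (op A.P) (⟨𝟙 A.P ≫ A.φ⟩ : ULift.{u + 1} (A.P ⟶ X)) = _
    rw [Category.id_comp]

include hf in
theorem existsUnique_desc :
    ∃! φ : AlgSt.QuotSt Scheme.fppfPrecoverage G aX ⥤ᵇ AlgSt.ofSp M,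
      BasedFunctor.comp (AlgSt.quotMap Scheme.fppfPrecoverage G aX) φ = AlgSt.ofSpMap f :=
  ⟨descFun f hf, descFun_qm f hf, fun ψ h => eq_descFun f hf ψ h⟩

end Groth.Agent.AlgStLib.Quot

end
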