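import Groth.Agent.AlgStLib.OpenSub
import Groth.Agent.AlgStLib.Cancel
import Groth.Agent.AlgStLib.QuotDescend
import Groth.Agent.AlgSpLib.ProperCrit
import Groth.Agent.AlgSpLib.FpqcProps
import Groth.Prelude.Def_StCoarse
import Mathlib.FieldTheory.IsAlgClosed.AlgebraicClosure

/-!
# A map with a section which is bijective on geometric points of a reduced stack is a categorical moduli space
-/

set_option autoImplicit false
set_option backward.isDefEq.respectTransparency false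
set_option backward.isDefEq.respectTransparency.types false
set_option linter.style.haveILetI false
set_option maxHeartbeats 1000000
universe u

noncomputable section

namespace Groth.Agent.AlgStLib

open CategoryTheory CategoryTheory.Limits AlgebraicGeometry Opposite Groth.Agent.AlgSpLib Groth.Agent.FibCatRep
open _root_.AlgSp _root_.AlgSt

variable {S : Scheme.{u}} {𝒳 : AlgSt.Cat S}

lemma secOf_map_eq {N : PSp S} (Φ : 𝒳 ⥤ᵇ Stk.ofPsh N) {a b : 𝒳.obj} (m : a ⟶ b)
    (h : 𝒳.p.obj a = 𝒳.p.obj b) (e : 𝒳.p.map m = eqToHom h) :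
    N.map (eqToHom h).op (secOf Φ b) = secOf Φ a := by
  rw [← e]
  exact secOf_map Φ m

lemma map_two (F : (Over S)ᵒᵖ ⥤ Type (u + 1)) {A B C : Over S} (a : A ⟶ B) (b : B ⟶ C) (z : F.obj (op C)) :
    F.map a.op (F.map b.op z) = F.map (a ≫ b).op z := by
  rw [← Functor.map_comp_apply, ← op_comp]

lemma map_cast (F : (Over S)ᵒᵖ ⥤ Type (u + 1)) {A B C : Over S} (p : A = B) (q : B = C) (z : F.obj (op C)) :
    F.map (eqToHom p).op (F.map (eqToHom q).op z) = F.map (eqToHom (p.trans q)).op z := by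
  subst p q; simp

lemma app_eqToHom {C : Type*} [Category C] {𝒜 ℬ : BasedCategory C} {F G : 𝒜 ⥤ᵇ ℬ} (h : F = G) (o : 𝒜.obj) :
    (eqToHom h).toNatTrans.app o = eqToHom (congrArg (fun K : 𝒜 ⥤ᵇ ℬ => K.obj o) h) := by
  subst h; rfl

/-- two maps to an algebraic space agreeing on a finite surjective cover of a reduced scheme agree -/
theorem eq_of_finite_surjective {N : Sp S} (hN : IsAlgSpace N) {U V : Over S} [IsReduced U.left] (ι : V ⟶ U)
    [IsFinite ι.left] [Surjective ι.left] (a b : (yon S).obj U ⟶ N)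
    (h : (yon S).map ι ≫ a = (yon S).map ι ≫ b) : a = b := by
  let T : Over S := Over.mk (𝟙 S)
  let t : N ⟶ (yon S).obj T := ObjectProperty.homMk
    { app := fun W => ↾fun _ => ULift.up (Over.homMk W.unop.hom (Category.comp_id _))
      naturality := fun _ _ g => by
        ext x
        exact congrArg ULift.up (Over.OverMorphism.ext (Over.w g.unop).symm) }
  have hab : a ≫ t = b ≫ t := by
    ext W x
    exact congrArg ULift.up (Over.OverMorphism.ext rfl)
  have hd := repWith_inf_iff.2 (repWith_diagonal_props hN t)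
  obtain ⟨W, fst, snd, sq, hW⟩ := exists_repWith hd (pullback.lift a b hab)
  haveI : Mono snd.left := hW.1
  haveI : LocallyOfFiniteType snd.left := hW.2
  let k : (yon S).obj V ⟶ (yon S).obj W := sq.lift ((yon S).map ι ≫ a) ((yon S).map ι) (by
    apply pullback.hom_ext <;> simp [h])
  obtain ⟨k', hk'⟩ := exists_map_eq k
  have hk : k' ≫ snd = ι := (yon S).map_injective (by rw [Functor.map_comp, hk']; exact sq.lift_snd _ _ _)
  have hkl : k'.left ≫ snd.left = ι.left := by rw [← hk]; rfl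
  haveI : Surjective k'.left := ⟨fun w => by
    obtain ⟨v, hv⟩ := ι.left.surjective (snd.left w)
    exact ⟨v, snd.left.injective (by rw [← Scheme.Hom.comp_apply, hkl, hv])⟩⟩
  haveI : Surjective snd.left := ⟨fun x => by
    obtain ⟨v, hv⟩ := ι.left.surjective x
    exact ⟨k'.left v, by rw [← Scheme.Hom.comp_apply, hkl, hv]⟩⟩
  haveI : UniversallyClosed (k'.left ≫ snd.left) := by rw [hkl]; infer_instance
  haveI : UniversallyClosed snd.left := UniversallyClosed.of_comp_surjective k'.left snd.left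
  haveI : IsProper snd.left := ⟨⟩
  haveI : IsClosedImmersion snd.left := (IsClosedImmersion.iff_isProper_and_mono _).2 ⟨inferInstance, inferInstance⟩
  haveI : IsIso snd.left := isIso_of_isClosedImmersion_of_surjective snd.left
  haveI : IsIso ((Over.forget S).map snd) := ‹IsIso snd.left›
  haveI : IsIso snd := isIso_of_reflects_iso snd (Over.forget S)
  have h₁ := congrArg (· ≫ pullback.fst t t) sq.w
  have h₂ := congrArg (· ≫ pullback.snd t t) sq.w
  simp only [Category.assoc, pullback.diagonal_fst, pullback.diagonal_snd, pullback.lift_fst, pullback.lift_snd,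
    Category.comp_id] at h₁ h₂
  rw [← cancel_epi ((yon S).map snd), ← h₁, ← h₂]

variable {Z : Sp S}

/-- functors to algebraic spaces factor through a sectioned map which is bijective on geometric points -/
theorem secOf_eq_of_section (h𝒳 : IsAlgStack Scheme.fppfPrecoverage 𝒳)
    (hΔ : RepByAlgSpWith AlgSp.IsFiniteMor (FibCat.diag (FibCat.toSelf 𝒳)))
    (hred : AlgSt.SmoothLocally (fun T => IsReduced T) 𝒳)
    (f : 𝒳 ⥤ᵇ AlgSt.ofSp Z) (hf : AlgSt.GeomPtBij f) (s : AlgSt.ofSp Z ⥤ᵇ 𝒳)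
    (e : BasedFunctor.comp s f ≅ BasedFunctor.id (AlgSt.ofSp Z))
    {N : Sp S} (hN : IsAlgSpace N) (φ : 𝒳 ⥤ᵇ AlgSt.ofSp N) (a : 𝒳.obj) :
    secOf φ a = secOf (BasedFunctor.comp f (BasedFunctor.comp s φ)) a := by
  let ψ := BasedFunctor.comp f (BasedFunctor.comp s φ)
  have hgX := h𝒳.isStack.1
  have h0 := h𝒳.atlas
  obtain ⟨U, x₁, hx₁, hx₂⟩ := exists_atlas h0
  let x := BasedFunctor.comp (AlgSt.ofOverCat U) x₁
  haveI : IsReduced U.left := hred U x ((repWith_ofOverCat_iff _ _).2 hx₁)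
  let t := FibCat.toSelf 𝒳
  let r := BasedFunctor.comp f s
  let y' := BasedFunctor.comp x r
  let y : FibCat.overCat U ⥤ᵇ FibCat.fp t t :=
    FibCat.fpLift x y' (eqToIso ((comp_toSelf x).trans (comp_toSelf y').symm))
  have hfin : RepByAlgSpWith (RepWith @IsFinite) (FibCat.diag t) :=
    repWith_mono hΔ fun _ _ _ _ ha => (isFiniteMor_iff_repWith _).1 ha
  obtain ⟨V, ι, ee, hee, hι, ⟨i⟩⟩ := exists_scheme_model hfin U y
  haveI : IsFinite ι.left := hι
  -- agreement on the cover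
  have hcover : ∀ o : Over U, (∃ g, g ≫ ι = o.hom) → secOf φ (x.obj o) = secOf ψ (x.obj o) := by
    rintro o ⟨g, hg⟩
    let a : (AlgSt.overMap ι).obj (Over.mk g) ≅ o := Over.isoMk (Iso.refl _) (by
      show 𝟙 _ ≫ o.hom = g ≫ ι
      rw [Category.id_comp, hg])
    let η := ee.obj (Over.mk g)
    let j : (FibCat.fpFst y (FibCat.diag t)).obj η ≅ o :=
      ((BasedNatTrans.forgetful _ _).mapIso i).app (Over.mk g) ≪≫ a
    let q : y.obj o ≅ (FibCat.diag t).obj η.obj.snd := (y.toFunctor.mapIso j).symm ≪≫ η.obj.iso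
    let m : x.obj o ≅ η.obj.snd := (FibCat.fpFst t t).toFunctor.mapIso q
    let n : r.obj (x.obj o) ≅ η.obj.snd := (FibCat.fpSnd t t).toFunctor.mapIso q
    have e₁ : 𝒳.p.obj (x.obj o) = 𝒳.p.obj (r.obj (x.obj o)) := (r.w_obj _).symm
    have hmn : 𝒳.p.map n.hom = eqToHom e₁.symm ≫ 𝒳.p.map m.hom := by
      refine (FibCatRep.map_snd q.hom).trans ?_
      show eqToHom _ ≫ 𝒳.p.map m.hom ≫ eqToHom _ = _
      simp
    have hM : 𝒳.p.map (m.hom ≫ n.inv) = eqToHom e₁ := by
      have : 𝒳.p.map n.hom ≫ 𝒳.p.map n.inv = 𝟙 _ := by rw [← Functor.map_comp, n.hom_inv_id, 𝒳.p.map_id]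
      rw [hmn, Category.assoc] at this
      rw [Functor.map_comp]
      have h2 := congrArg (eqToHom e₁ ≫ ·) this
      simpa using h2
    refine (secOf_map_eq φ (m.hom ≫ n.inv) e₁ hM).symm.trans ?_
    show _ = secOf (BasedFunctor.comp f (BasedFunctor.comp s φ)) (x.obj o)
    rw [secOf_comp f, secOf_comp s, ← Functor.map_comp_apply, ← op_comp, eqToHom_trans]
    rfl
  -- surjectivity of the cover
  haveI : Surjective ι.left := ⟨fun u => by
    let Ω : Type u := AlgebraicClosure (U.left.residueField u)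
    let γ : Spec (CommRingCat.of Ω) ⟶ U.left :=
      Spec.map (CommRingCat.ofHom (algebraMap (U.left.residueField u) Ω)) ≫ U.left.fromSpecResidueField u
    let o : Over U := Over.mk (Over.homMk γ rfl : Over.mk (γ ≫ U.hom) ⟶ U)
    let P : 𝒳.p.Fiber o.left := ⟨x.obj o, x.w_obj o⟩
    let P' : 𝒳.p.Fiber o.left := ⟨r.obj (x.obj o), (r.w_obj _).trans (x.w_obj o)⟩
    have hsec : AlgSt.fibSec f P = AlgSt.fibSec f P' := by
      have h1 : secOf f (x.obj o) =
          Z.obj.map (eqToHom (r.w_obj (x.obj o)).symm).op (secOf f (r.obj (x.obj o))) := by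
        have h := secOf_congr e (f.obj (x.obj o))
        rw [secOf_comp s f, secOf_id] at h
        show Z.obj.map _ (f.obj (x.obj o)).sec = _
        rw [← h]
        exact map_cast _ _ _ _
      show Z.obj.map _ (f.obj (x.obj o)).sec = Z.obj.map _ (f.obj (r.obj (x.obj o))).sec
      have h2 := congrArg (Z.obj.map (eqToHom (x.w_obj o).symm).op) h1
      exact ((map_cast _ _ _ _).symm.trans h2).trans ((congrArg _ (map_cast _ _ _ _)).trans (map_cast _ _ _ _))
    obtain ⟨k⟩ := (hf Ω (γ ≫ U.hom)).2 P P' hsec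
    let k₀ : x.obj o ≅ r.obj (x.obj o) := Functor.Fiber.fiberInclusion.mapIso k
    have hk₀ : 𝒳.p.map k₀.hom = eqToHom ((r.w_obj (x.obj o)).symm) := (map_of_fiber k.hom).trans (by simp)
    let Q : y.obj o ≅ (FibCat.diag t).obj (x.obj o) :=
      ObjectProperty.isoMk _ (CategoricalPullback.mkIso (Iso.refl _) k₀.symm (by
        show 𝒳.p.map (𝟙 (x.obj o)) ≫ 𝟙 _ = _ ≫ 𝒳.p.map k₀.inv
        have hk' : 𝒳.p.map k₀.inv = eqToHom (r.w_obj (x.obj o)) := by
          rw [← IsIso.Iso.inv_hom k₀]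
          exact map_inv_of_eqToHom _ hk₀
        rw [hk', 𝒳.p.map_id]
        show _ = (eqToHom _ : BasedFunctor.comp x t ⟶ BasedFunctor.comp y' t).toNatTrans.app o ≫ _
        rw [app_eqToHom]
        simp; rfl))
    let η : (FibCat.fp y (FibCat.diag t)).obj := ⟨⟨o, x.obj o, Q⟩, fpProp_of_map y (FibCat.diag t) _ rfl (𝒳.p.map_id _)⟩
    obtain ⟨ξ, k₁, -, -⟩ := (isEquivOver_data hee).2 η
    let n : (AlgSt.overMap ι).obj ξ ⟶ o := i.inv.toNatTrans.app ξ ≫ k₁.hom.hom.fst
    haveI : IsIso n := by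
      haveI : IsIso k₁.hom.hom.fst := inferInstanceAs (IsIso ((FibCat.fpFst y (FibCat.diag t)).map k₁.hom))
      haveI : IsIso (i.inv.toNatTrans.app ξ) :=
        inferInstanceAs (IsIso (((BasedNatTrans.forgetful _ _).mapIso i).inv.app ξ))
      infer_instance
    obtain ⟨z⟩ : Nonempty ↥(Spec (CommRingCat.of Ω)) := inferInstanceAs (Nonempty (PrimeSpectrum Ω))
    refine ⟨((inv n).left ≫ ξ.hom).left z, ?_⟩
    have hg : ((inv n).left ≫ ξ.hom) ≫ ι = o.hom := by
      rw [Category.assoc]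
      exact Over.w (inv n)
    rw [← Scheme.Hom.comp_apply, ← Over.comp_left, hg]
    show γ z = u
    rw [Scheme.Hom.comp_apply]
    exact Scheme.fromSpecResidueField_apply _ _⟩
  -- agreement on the chart
  let top : Over U := Over.mk (𝟙 U)
  obtain ⟨ma, hma⟩ := Quot.exists_toSec (M := N) (T := U) (N.obj.map (eqToHom (x.w_obj top).symm).op (secOf φ (x.obj top)))
  obtain ⟨mb, hmb⟩ := Quot.exists_toSec (M := N) (T := U) (N.obj.map (eqToHom (x.w_obj top).symm).op (secOf ψ (x.obj top)))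
  have hres : ∀ (Φ : 𝒳 ⥤ᵇ AlgSt.ofSp N) (o : Over U),
      N.obj.map o.hom.op (N.obj.map (eqToHom (x.w_obj top).symm).op (secOf Φ (x.obj top))) =
        N.obj.map (eqToHom (x.w_obj o).symm).op (secOf Φ (x.obj o)) := fun Φ o => by
    let w : o ⟶ top := Over.homMk o.hom (Category.comp_id _)
    rw [← secOf_map Φ (x.map w), map_map x w]
    refine (map_two _ _ _ _).trans (Eq.trans ?_ (map_two _ _ _ _).symm)
    refine congrArg (fun k : o.left ⟶ 𝒳.p.obj (x.obj top) => N.obj.map k.op (secOf Φ (x.obj top))) ?_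
    show o.hom ≫ eqToHom _ = eqToHom _ ≫ eqToHom _ ≫ o.hom ≫ eqToHom _
    simp
  have hab : ma = mb := eq_of_finite_surjective hN ι ma mb (Quot.toSec_injective (by
    rw [← Quot.toSec_res, ← Quot.toSec_res, hma, hmb]
    exact (hres φ (Over.mk ι)).trans ((congrArg _ (hcover (Over.mk ι) ⟨𝟙 _, Category.id_comp _⟩)).trans
      (hres ψ (Over.mk ι)).symm)))
  have hchart : ∀ o : Over U, secOf φ (x.obj o) = secOf ψ (x.obj o) := fun o => by
    have h1 := hres φ o
    rw [← hma, hab, hmb, hres ψ o] at h1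
    have h2 := congrArg (N.obj.map (eqToHom (x.w_obj o)).op) h1
    simpa only [← Functor.map_comp_apply, ← op_comp, eqToHom_trans, eqToHom_refl, op_id,
      CategoryTheory.Functor.map_id, CategoryTheory.id_apply] using h2.symm
  -- descent
  have hflat := repWith_flat_of_smooth hx₁
  have hlfp := repWith_lfp_of_smooth hx₁
  obtain ⟨pt₀, i₀, hi₀⟩ := exists_point hgX a
  obtain ⟨V₁, d, hd₁, hd₂, hd₃, z, ⟨iz⟩⟩ := lifts_of_fppf hflat hlfp hx₂ _ pt₀
  haveI := hd₁
  haveI := hd₂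
  haveI := hd₃
  let ξ := (BasedFunctor.comp (Stk.ofPshMap ((pyon S).map d)) pt₀).obj (pt V₁)
  let k : (BasedFunctor.comp z x₁).obj (pt V₁) ≅ ξ := ((BasedNatTrans.forgetful _ _).mapIso iz).app _
  have h₁ : secOf φ ((BasedFunctor.comp z x₁).obj (pt V₁)) = secOf ψ ((BasedFunctor.comp z x₁).obj (pt V₁)) :=
    hchart (Over.mk (z.obj (pt V₁)).sec.down)
  have h₂ : secOf φ ξ = secOf ψ ξ := by rw [← secOf_map φ k.inv, ← secOf_map ψ k.inv, h₁]
  let d' : (Stk.ofPshMap ((pyon S).map d)).obj (pt V₁) ⟶ pt (𝒳.p.obj a) :=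
    ⟨d, congrArg ULift.up ((Category.comp_id d).trans (Category.id_comp d).symm)⟩
  let Φ : ξ ⟶ a := pt₀.map d' ≫ i₀.hom
  have hΦ : 𝒳.p.map Φ = eqToHom (pt₀.w_obj _) ≫ d := by
    rw [Functor.map_comp, map_map pt₀ d', hi₀]
    simp [d']
  have h₃ : N.obj.map d.op (secOf φ a) = N.obj.map d.op (secOf ψ a) := by
    have h := h₂
    rw [← secOf_map φ Φ, ← secOf_map ψ Φ, hΦ] at h
    have h' := congrArg (N.obj.map (eqToHom (pt₀.w_obj _).symm).op) h
    replace h' := ((map_two _ _ _ _).symm.trans h').trans (map_two _ _ _ _)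
    simp only [eqToHom_trans_assoc, eqToHom_refl, Category.id_comp] at h'; exact h'
  obtain ⟨na, hna⟩ := Quot.exists_toSec (M := N) (secOf φ a)
  obtain ⟨nb, hnb⟩ := Quot.exists_toSec (M := N) (secOf ψ a)
  haveI := AlgSpLib.epi_yon_map d
  rw [← hna, ← hnb, show na = nb from (cancel_epi ((yon S).map d)).1 (Quot.toSec_injective (by
    rw [← Quot.toSec_res, ← Quot.toSec_res, hna, hnb, h₃]))]

/-- a sectioned map bijective on geometric points is a coarse moduli space -/
theorem isCoarseModuli_of_section (h𝒳 : IsAlgStack Scheme.fppfPrecoverage 𝒳)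
    (hΔ : RepByAlgSpWith AlgSp.IsFiniteMor (FibCat.diag (FibCat.toSelf 𝒳)))
    (hred : AlgSt.SmoothLocally (fun T => IsReduced T) 𝒳) (hZ : IsAlgSpace Z)
    (f : 𝒳 ⥤ᵇ AlgSt.ofSp Z) (hf : AlgSt.GeomPtBij f) (s : AlgSt.ofSp Z ⥤ᵇ 𝒳)
    (e : BasedFunctor.comp s f ≅ BasedFunctor.id (AlgSt.ofSp Z)) : AlgSt.IsCoarseModuli f := by
  refine ⟨⟨hZ, fun N hN φ => ?_⟩, hf⟩
  refine ⟨ObjectProperty.homMk (mapOf (BasedFunctor.comp s φ)), ⟨isoOfSec _ _ fun a => ?_⟩, fun g hg => ?_⟩
  · refine Eq.trans ?_ (secOf_eq_of_section h𝒳 hΔ hred f hf s e hN φ a).symm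
    exact secOf_congr ((Stk.restr f _).mapIso (mapOfIso (BasedFunctor.comp s φ))) a
  · obtain ⟨i⟩ := hg
    refine ObjectProperty.hom_ext _ ?_
    show g.hom = mapOf (BasedFunctor.comp s φ)
    refine Eq.trans ?_ (mapOf_congr ((Stk.restr s _).mapIso i))
    show g.hom = mapOf (BasedFunctor.comp (BasedFunctor.comp s f) (AlgSt.ofSpMap g))
    rw [mapOf_comp, mapOf_congr e, mapOf_id, Category.id_comp]
    exact (mapOf_ofPshMap g.hom).symm

end Groth.Agent.AlgStLib

end
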