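import Groth.Agent.AlgStLib.Faithful

/-!
# Descent along fppf coverings of categories over the base
-/

set_option autoImplicit false
set_option backward.isDefEq.respectTransparency false
set_option backward.isDefEq.respectTransparency.types false
set_option linter.style.haveILetI false
universe u

noncomputable section

namespace Groth.Agent.AlgStLib

open CategoryTheory CategoryTheory.Limits AlgebraicGeometry Opposite Groth.Agent.FibCatRep
  Groth.Agent.FibCat2Misc Groth.Agent.AlgSpLib Groth.Agent.StkBasic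
open _root_.AlgSp _root_.AlgSt

variable {S : Scheme.{u}} {𝒳 𝒴 𝒵 : AlgSt.Cat S}

/-- points of the target lift fppf locally -/
def Lifts (w : 𝒵 ⥤ᵇ 𝒴) : Prop :=
  ∀ (U : Over S) (y : Stk.ofPsh ((pyon S).obj U) ⥤ᵇ 𝒴), ∃ (V : Over S) (h : V ⟶ U),
    Flat h.left ∧ Surjective h.left ∧ LocallyOfFinitePresentation h.left ∧
      ∃ z : Stk.ofPsh ((pyon S).obj V) ⥤ᵇ 𝒵,
        Nonempty (BasedFunctor.comp z w ≅ BasedFunctor.comp (Stk.ofPshMap ((pyon S).map h)) y)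

theorem bcStable_flat : BCStable (LocP (S := S) @Flat) :=
  fun _ _ _ _ hX₁ hY₁ hX₂ hY₂ _ _ _ _ sq h => locP_baseChange etST_flat hX₁ hY₁ hX₂ hY₂ sq h

theorem bcStable_lfp : BCStable (LocP (S := S) @LocallyOfFinitePresentation) :=
  fun _ _ _ _ hX₁ hY₁ hX₂ hY₂ _ _ _ _ sq h => locP_baseChange etST_lfp hX₁ hY₁ hX₂ hY₂ sq h

/-- flat surjective functors locally of finite presentation have local lifts -/
theorem lifts_of_fppf {w : 𝒵 ⥤ᵇ 𝒴} (h₁ : RepByAlgSpWith (LocP @Flat) w)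
    (h₂ : RepByAlgSpWith (LocP @LocallyOfFinitePresentation) w)
    (h₃ : RepByAlgSpWith AlgSp.IsSurjectiveMor w) : Lifts w := by
  intro U y
  haveI := respectsIso_onSp (bcStable_flat (S := S))
  haveI := respectsIso_onSp (bcStable_lfp (S := S))
  haveI := respectsIso_onSp (bcStable_surjective (S := S))
  obtain ⟨P, e, he, hs, hP, hfl⟩ := (repWith_iff _ w).1 (repWith_onSp_iff.2 h₁) U y
  obtain ⟨_, _, hfp⟩ := good_of_model (repWith_onSp_iff.2 h₂) he
  obtain ⟨_, _, hsu⟩ := good_of_model (repWith_onSp_iff.2 h₃) he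
  have hU := IsAlgSpace.yon_obj (S := S) U
  let π : (⟨P, hs⟩ : Sp S) ⟶ (yon S).obj U := ObjectProperty.homMk (prjMap e)
  obtain ⟨V, c, hce, hcs⟩ := hP.2
  obtain ⟨d, hd⟩ := exists_map_eq (c ≫ π)
  have hsurj : AlgSp.IsSurjectiveMor ((yon S).map d) := by
    rw [hd]
    exact cls_surjective.comp (IsAlgSpace.yon_obj V) hP hU c π (isSurjectiveMor_of_repWith hcs) (hsu hP hU)
  refine ⟨V, d, hfl hP hU c (𝟙 _) d hce repWith_id' (by rw [Category.comp_id, hd]),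
    (repWith_yon_iff _).1 (repWith_surjective_of_isSurjectiveMor (AlgSp.representable_yon_map _) hsurj),
    hfp hP hU c (𝟙 _) d hce repWith_id' (by rw [Category.comp_id, hd]),
    BasedFunctor.comp (BasedFunctor.comp (Stk.ofPshMap c.hom) e) (FibCat.fpSnd y w), ⟨?_⟩⟩
  let i₁ : BasedFunctor.comp (BasedFunctor.comp (Stk.ofPshMap c.hom) e) (FibCat.fpFst y w) ≅
      Stk.ofPshMap ((pyon S).map d) :=
    (Stk.restr (Stk.ofPshMap c.hom) _).mapIso (mapOfIso (BasedFunctor.comp e (FibCat.fpFst y w))).symm ≪≫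
      isoOfSec _ _ fun a => by
        show secOf (BasedFunctor.comp (Stk.ofPshMap c.hom) (Stk.ofPshMap (prjMap e))) a = _
        rw [secOf_comp_ofPshMap, secOf_ofPshMap]
        refine Eq.trans ?_ (secOf_ofPshMap ((pyon S).map d) a).symm
        exact (congrArg (fun k => k.hom.app (op a.base) a.sec) hd).symm
  exact (Stk.restr (BasedFunctor.comp (Stk.ofPshMap c.hom) e) _).mapIso (FibCat.fpIso y w).symm ≪≫
    (post _ y).mapIso i₁

theorem isFppfCover_singleton {U V : Over S} (h : V ⟶ U) (h₁ : Flat h.left) (h₂ : Surjective h.left)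
    (h₃ : LocallyOfFinitePresentation h.left) :
    IsFppfCover (fun _ : PUnit.{u + 1} => (yon S).obj V) (fun _ => (yon S).map h) :=
  ⟨fun _ => ⟨(locP_iff_repWith etST_flat (IsAlgSpace.yon_obj U) (AlgSp.representable_yon_map _)).2
      ((repWith_yon_iff _).2 h₁),
    (locP_iff_repWith etST_lfp (IsAlgSpace.yon_obj U) (AlgSp.representable_yon_map _)).2 ((repWith_yon_iff _).2 h₃)⟩,
    fun x => ⟨PUnit.unit, isSurjectiveMor_of_repWith ((repWith_yon_iff _).2 h₂) x⟩⟩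

/-- descent of properties local on the base -/
theorem repWith_of_lifts {Q : MorphismProperty (Sp S)} (hb : BCStable Q)
    (hl : IsLocalOnBase (IsFppfCover (S := S)) Q) {f : 𝒳 ⥤ᵇ 𝒴} (hf : RepByAlgSp1 f) {w : 𝒵 ⥤ᵇ 𝒴}
    (hw : Lifts w) (h : RepByAlgSpWith Q (FibCat.fpFst w f)) : RepByAlgSpWith Q f := by
  haveI := respectsIso_onSp hb
  refine repWith_onSp_iff.1 ((repWith_iff _ f).2 fun U y => ?_)
  obtain ⟨F, e, he⟩ := repByAlgSp_fp_yon hf U y
  refine ⟨_, e, he, F.obj.property, F.property, fun _ _ => ?_⟩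
  obtain ⟨V, g, g₁, g₂, g₃, z, ⟨i⟩⟩ := hw U y
  let π : F.obj ⟶ (yon S).obj U := ObjectProperty.homMk (prjMap e)
  let s : (yon S).obj V ⟶ (yon S).obj U := (yon S).map g
  have sqS := IsPullback.of_hasPullback π s
  have sq := sqS.map (sheafToPresheaf (J S) (Type (u + 1)))
  obtain ⟨e', he', hprj⟩ := exists_model_baseChange (f := f) ((pyon S).map g) he
    (P' := (pullback π s).obj) (fst := (pullback.fst π s).hom) (snd := (pullback.snd π s).hom) sq
  obtain ⟨e'', he'', hprj'⟩ := exists_model_change (f := f) i.symm he'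
  obtain ⟨k, hk, -, ⟨j⟩⟩ := isEquivOver_symm (isEquivOver_pasteFun z w f)
  have he₃ := isEquivOver_comp he'' hk
  obtain ⟨_, hW, hq⟩ := good_of_model (repWith_onSp_iff.2 h) (f := FibCat.fpFst w f) he₃
  have hsnd : prjMap (BasedFunctor.comp e'' k) = prjMap e'' :=
    mapOf_congr ((post _ (FibCat.fpFst (BasedFunctor.comp z w) f)).mapIso ((Stk.restr e'' _).mapIso j))
  refine (hl _ _ (IsAlgSpace.yon_obj U) (fun _ => IsAlgSpace.yon_obj V) (isFppfCover_singleton g g₁ g₂ g₃) π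
    F.property _ _ _ (fun _ => isAlgSpace_of_isPullback_space (IsAlgSpace.yon_obj U) F.property
      (IsAlgSpace.yon_obj V) sqS) (fun _ => sqS)).2 fun _ => ?_
  convert hq hW (IsAlgSpace.yon_obj V) using 1
  exact ObjectProperty.hom_ext _ (hprj.symm.trans (hprj'.symm.trans hsnd.symm))

theorem lifts_bcSelf (f : 𝒳 ⥤ᵇ 𝒴) {w : 𝒵 ⥤ᵇ 𝒴} (hw : Lifts w) : Lifts (bcSelf f w) := by
  intro U y
  obtain ⟨V, h, h₁, h₂, h₃, z, ⟨i⟩⟩ :=
    hw U (BasedFunctor.comp (BasedFunctor.comp y (FibCat.fpFst f f)) f)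
  let g := Stk.ofPshMap ((pyon S).map h)
  let j := (Stk.restr (BasedFunctor.comp g y) 𝒴).mapIso (FibCat.fpIso f f)
  let l₁ : Stk.ofPsh ((pyon S).obj V) ⥤ᵇ FibCat.fp w f :=
    FibCat.fpLift z (BasedFunctor.comp g (BasedFunctor.comp y (FibCat.fpFst f f))) i
  let l₂ : Stk.ofPsh ((pyon S).obj V) ⥤ᵇ FibCat.fp w f :=
    FibCat.fpLift z (BasedFunctor.comp g (BasedFunctor.comp y (FibCat.fpSnd f f))) (i ≪≫ j)
  let s : Stk.ofPsh ((pyon S).obj V) ⥤ᵇ FibCat.fp (FibCat.fpFst w f) (FibCat.fpFst w f) :=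
    FibCat.fpLift l₁ l₂ (Iso.refl _)
  refine ⟨V, h, h₁, h₂, h₃, s, ⟨fpExt (Iso.refl _) (Iso.refl _) fun a => ?_⟩⟩
  let p : w.obj (z.obj a) ≅ f.obj (y.obj (g.obj a)).obj.fst := ((BasedNatTrans.forgetful _ _).mapIso i).app a
  let q : f.obj (y.obj (g.obj a)).obj.fst ≅ f.obj (y.obj (g.obj a)).obj.snd := (y.obj (g.obj a)).obj.iso
  show f.map (𝟙 _) ≫ q.hom = (p.inv ≫ w.map (𝟙 _) ≫ p.hom ≫ q.hom) ≫ f.map (𝟙 _)
  simp

/-- descent for diagonals -/
theorem repWith_diag_of_lifts {Q : MorphismProperty (Sp S)} (hb : BCStable Q)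
    (hl : IsLocalOnBase (IsFppfCover (S := S)) Q) {f : 𝒳 ⥤ᵇ 𝒴} (hf : RepByAlgSp1 (FibCat.diag f))
    {w : 𝒵 ⥤ᵇ 𝒴} (hw : Lifts w) (h : RepByAlgSpWith Q (FibCat.diag (FibCat.fpFst w f))) :
    RepByAlgSpWith Q (FibCat.diag f) :=
  repWith_of_lifts hb hl hf (lifts_bcSelf f hw)
    ((repWith_iff_of_equiv Q (FibCat.fpFst (bcSelf f w) (FibCat.diag f)) (FibCat.diag (FibCat.fpFst w f))
      (bcDiag f w) (BasedFunctor.id _) (isEquivOver_bcDiag f w) isEquivOver_id (Iso.refl _)).2 h)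

theorem cls_mono : Cls (MorphismProperty.monomorphisms (Sp S)) :=
  ⟨fun _ _ _ _ _ _ _ _ a _ a' _ sq h => by
      haveI : Mono a := h
      exact MorphismProperty.of_isPullback (P := MorphismProperty.monomorphisms (Sp S)) sq (show Mono a from h),
    fun _ _ _ _ _ _ a b ha hb => by
      haveI : Mono a := ha
      haveI : Mono b := hb
      exact mono_comp a b,
    isLocalOnBase_fppf isLocalOnBase_monomorphisms⟩

/-- representability descends along fppf coverings of algebraic stacks -/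
theorem repByAlgSp1_of_lifts (h𝒳 : IsAlgStack Scheme.fppfPrecoverage 𝒳)
    (h𝒴 : IsAlgStack Scheme.fppfPrecoverage 𝒴) {f : 𝒳 ⥤ᵇ 𝒴} {w : 𝒵 ⥤ᵇ 𝒴} (hw : Lifts w)
    (h : RepByAlgSp1 (FibCat.fpFst w f)) : RepByAlgSp1 f := by
  haveI := (fullyFaithful_of_isMono h𝒳.isStack.1 (isFibGrpd_fp h𝒳.isStack.1 h𝒳.isStack.1 h𝒴.isStack.1 f f)
    (repWith_diag_of_lifts cls_mono.bc cls_mono.loc (repByAlgSp1_diag_stack h𝒳 h𝒴 f) hw
      (isMono_diag_of_rep h))).1
  haveI := faithful_of_full_diag (f := f)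
  exact repByAlgSp1_of_faithful h𝒳 h𝒴 f

/-- properties read on the base change to an algebraic space -/
theorem repWith_fpFst_of_model {Q : MorphismProperty (Sp S)} (hb : BCStable Q) {f : 𝒳 ⥤ᵇ 𝒴}
    {W V : AlgSp.Space S} {w : AlgSt.ofSp W.obj ⥤ᵇ 𝒴} {a : V ⟶ W} {e : AlgSt.ofSp V.obj ⥤ᵇ FibCat.fp w f}
    (he : FibCat.IsEquivOver e) (i : BasedFunctor.comp e (FibCat.fpFst w f) ≅ AlgSt.ofSpMap a.hom) (ha : Q a.hom) :
    RepByAlgSpWith Q (FibCat.fpFst w f) := by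
  haveI := respectsIso_onSp hb
  refine repWith_onSp_iff.1 ((repWith_iff_of_equiv _ (FibCat.fpFst w f) (AlgSt.ofSpMap a.hom) e
    (BasedFunctor.id _) he isEquivOver_id i.symm).2 ((repWith_ofPshMap_iff _ _).2
      (repBySpWith_of_bc V.property W.property a.hom fun U ξ T fst snd hT sq _ _ =>
        hb V.property W.property hT (IsAlgSpace.yon_obj U) a.hom ξ snd fst sq ha)))

/-- properties pass to base changes to algebraic spaces -/
theorem exists_model_of_repWith {Q : MorphismProperty (Sp S)} (hb : BCStable Q)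
    (hl : IsLocalOnBase (IsFppfCover (S := S)) Q) (h𝒳 : FibCat.IsFibGrpd 𝒳.p) (h𝒴 : FibCat.IsFibGrpd 𝒴.p)
    {f : 𝒳 ⥤ᵇ 𝒴} (h : RepByAlgSpWith Q f) (W : AlgSp.Space S) (w : AlgSt.ofSp W.obj ⥤ᵇ 𝒴) :
    ∃ (V : AlgSp.Space S) (a : V ⟶ W) (e : AlgSt.ofSp V.obj ⥤ᵇ FibCat.fp w f),
      FibCat.IsEquivOver e ∧
        Nonempty (BasedFunctor.comp e (FibCat.fpFst w f) ≅ AlgSt.ofSpMap a.hom) ∧ Q a.hom := by
  haveI := respectsIso_onSp hb
  obtain ⟨P, e, he⟩ := exists_model h𝒳 h𝒴 (repByAlgSp1_of_with h) w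
  obtain ⟨hP₁, hP₂⟩ := isAlgSpaceP_model (repByAlgSp1_of_with h) ((isAlgSpaceP_obj_iff _).2 W.property) he
  let a : (⟨P, hP₁⟩ : Sp S) ⟶ W.obj := ObjectProperty.homMk (prjMap e)
  refine ⟨⟨⟨P, hP₁⟩, hP₂⟩, ObjectProperty.homMk a, e, he, ⟨(mapOfIso _).symm⟩, ?_⟩
  refine of_repBySpWith hl hP₂ W.property a fun U ξ P' fst snd sq => ?_
  obtain ⟨b₁, b₂, b₃⟩ := repBySpWith_prjMap (repWith_onSp_iff.2 h) he ξ fst snd sq
  exact ⟨b₁, b₂, b₃ b₂ (IsAlgSpace.yon_obj U)⟩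

theorem repByAlgSp_ofSp (W : AlgSp.Space S) : RepByAlgSp (AlgSt.ofSp W.obj) :=
  ⟨W, BasedFunctor.id _, isEquivOver_id⟩

/-- a stack covered by a space has representable diagonal -/
theorem repByAlgSp1_diag_of_cover (h𝒳 : Stk.IsStack (Jf S) 𝒳) {𝒰 : AlgSt.Cat S} (hU : RepByAlgSp 𝒰)
    {u : 𝒰 ⥤ᵇ 𝒳} (h₁ : RepByAlgSpWith (LocP @Smooth) u) (h₂ : RepByAlgSpWith AlgSp.IsSurjectiveMor u) :
    RepByAlgSp1 (FibCat.diag (FibCat.toSelf 𝒳)) := by
  have h𝒰 : FibCat.IsFibGrpd 𝒰.p := (isStack_of_repByAlgSp hU).1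
  refine repByAlgSp1_diag_of_points h𝒳.1 fun T y => ?_
  rw [← repByAlgSpWith_top_iff, repWith_iff]
  intro U x
  have hux : RepByAlgSp (FibCat.fp x u) := repByAlgSp_fp_yon (repByAlgSp1_of_with h₁) U x
  have huy : RepByAlgSp (FibCat.fp u y) :=
    repByAlgSp_fp_swap h𝒳.1 h𝒰 (repByAlgSp1_of_with h₁) y (repByAlgSp_of_model isEquivOver_id (isAlgSpaceP_yon T))
  let p := FibCat.fpFst x u
  let q := FibCat.fpSnd x u
  have hsrc : RepByAlgSp (FibCat.fp (BasedFunctor.comp p x) y) :=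
    (repByAlgSp_iff_of_equiv (isEquivOver_comp (isEquivOver_pasteFun q u y)
      (isEquivOver_fp_change y (FibCat.fpIso x u).symm))).1
      (repByAlgSp_fp (isFibGrpd_fp h𝒰 (isFibGrpd_ofSpace _) h𝒳.1 u y) h𝒰
        (repByAlgSp1_of_repByAlgSp huy hU (FibCat.fpFst u y)) q hux)
  have hset : FibCat.IsFibSetoid (FibCat.fp x y).p :=
    Groth.Agent.FibCat2Misc.isFibSetoid_fp isFibSetoid_ofPsh isFibSetoid_ofPsh h𝒳.1 x y
  have tr : ∀ Q : MorphismProperty (Sp S), RepByAlgSpWith Q u →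
      RepByAlgSpWith Q (prodFst x y p) := fun Q hQ =>
    (repWith_iff_of_equiv Q (prodFst x y p) (FibCat.fpFst (FibCat.fpSnd y x) p)
      (BasedFunctor.comp (assocFun y x p) (swapFun y (BasedFunctor.comp p x))) (swapFun y x)
      (isEquivOver_comp (isEquivOver_assocFun _ x p) (isEquivOver_swapFun _ _)) (isEquivOver_swapFun _ _)
      (fpExt (FibCat.fpIso (FibCat.fpSnd y x) p) (Iso.refl _) fun w => by
        let i : y.obj w.obj.fst.obj.fst ≅ x.obj w.obj.fst.obj.snd := w.obj.fst.obj.iso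
        let k : w.obj.fst.obj.snd ≅ p.obj w.obj.snd := w.obj.iso
        show x.map k.hom ≫ (i ≪≫ x.toFunctor.mapIso k).inv = i.inv ≫ y.map (𝟙 _)
        simp only [CategoryTheory.Functor.map_id]
        simp only [Iso.trans_inv, Functor.mapIso_inv]
        rw [← Category.assoc, ← Functor.map_comp, Iso.hom_inv_id, CategoryTheory.Functor.map_id]
        exact (Category.id_comp _).trans (Category.comp_id _).symm)).2
      (repWith_fpFst Q p (FibCat.fpSnd y x) (repWith_fpFst Q u x hQ))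
  obtain ⟨F, e, he⟩ := repByAlgSp_of_setoid
    (isStack_fp (isStack_ofSheaf ((yon S).obj U).property) (isStack_ofSheaf ((yon S).obj T).property)
      (isPrestack_of_isStack h𝒳) x y) hset hsrc (tr _ h₁) (tr _ h₂)
  exact ⟨_, e, he, (good_top_iff _).2 ((isAlgSpaceP_obj_iff _).2 F.property)⟩

end Groth.Agent.AlgStLib

end
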