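import Groth.Agent.FibCat2Misc.Equiv
import Groth.Agent.FibCat2Misc.Rep

/-!
# Diagonals: cartesian squares over the base

The diagonal of a base change, comparison functors between fibre products and graphs are base changes of diagonals.
-/

set_option autoImplicit false
set_option backward.isDefEq.respectTransparency false
set_option backward.isDefEq.respectTransparency.types false
set_option linter.style.haveILetI false
universe v₇ u₇ v₅ u₅ v₄ u₄ v₃ u₃ v₂ u₂ v u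

noncomputable section

namespace Groth.Agent.AlgStLib

open CategoryTheory CategoryTheory.Limits FibCat Groth.Agent.FibCatRep Groth.Agent.FibCat2Misc
  Groth.Agent.StkBasic

variable {C : Type u} [Category.{v} C] {𝒳 : BasedCategory.{v₂, u₂} C} {𝒴 : BasedCategory.{v₃, u₃} C}
  {𝒵 : BasedCategory.{v₄, u₄} C} {𝒯 : BasedCategory.{v₅, u₅} C} {𝒲 : BasedCategory.{v₇, u₇} C}

/-- isomorphisms of functors into a fibre product -/
def fpExt {F : 𝒳 ⥤ᵇ 𝒵} {G : 𝒴 ⥤ᵇ 𝒵} {a b : 𝒲 ⥤ᵇ fp F G}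
    (i : BasedFunctor.comp a (fpFst F G) ≅ BasedFunctor.comp b (fpFst F G))
    (j : BasedFunctor.comp a (fpSnd F G) ≅ BasedFunctor.comp b (fpSnd F G))
    (h : ∀ w, F.map (i.hom.toNatTrans.app w) ≫ (b.obj w).obj.iso.hom =
      (a.obj w).obj.iso.hom ≫ G.map (j.hom.toNatTrans.app w)) : a ≅ b :=
  BasedNatIso.mkNatIso
    (NatIso.ofComponents
      (fun w => ObjectProperty.isoMk _ (CategoricalPullback.mkIso
        (((BasedNatTrans.forgetful _ _).mapIso i).app w) (((BasedNatTrans.forgetful _ _).mapIso j).app w) (h w)))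
      (fun {w w'} m => ObjectProperty.hom_ext _ (CategoricalPullback.hom_ext
        (i.hom.toNatTrans.naturality m) (j.hom.toNatTrans.naturality m))))
    (fun w => IsHomLift.of_fac' _ _ _ (a.w_obj w) (b.w_obj w) ((map_app i.hom w).trans (by simp)))

section baseChange

variable (f : 𝒳 ⥤ᵇ 𝒴) (g : 𝒵 ⥤ᵇ 𝒴)

/-- the map between the self fibre products of a base change and of a functor -/
def bcSelf : fp (fpFst g f) (fpFst g f) ⥤ᵇ fp f f :=
  fpMap (fpFst g f) (fpFst g f) (fpSnd g f) (fpSnd g f) g (fpIso g f) (fpIso g f)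

/-- the diagonal of a base change as a base change of the diagonal -/
def bcDiag : fp g f ⥤ᵇ fp (bcSelf f g) (diag f) :=
  fpLift (diag (fpFst g f)) (fpSnd g f) (fpExt (Iso.refl _) (Iso.refl _) fun w => by
    show f.map (𝟙 w.obj.snd) ≫ 𝟙 (f.obj w.obj.snd) =
      (w.obj.iso.inv ≫ g.map (𝟙 w.obj.fst) ≫ w.obj.iso.hom) ≫ f.map (𝟙 w.obj.snd)
    simp)

theorem isEquivOver_bcDiag : IsEquivOver (bcDiag f g) := by
  haveI : (bcDiag f g).toFunctor.Faithful := ⟨fun {o o'} m m' h => congrArg (fun t => t.hom.fst.hom.fst) h⟩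
  haveI : (bcDiag f g).toFunctor.Full := ⟨fun {o o'} M => by
    let m₁ : o ⟶ o' := M.hom.fst.hom.fst
    let m₂ : o ⟶ o' := M.hom.fst.hom.snd
    have e₀ : (fpFst g f).map m₁ ≫ 𝟙 ((fpFst g f).obj o') = 𝟙 ((fpFst g f).obj o) ≫ (fpFst g f).map m₂ :=
      M.hom.fst.hom.w
    have e₁ : m₁.hom.snd ≫ 𝟙 _ = 𝟙 _ ≫ M.hom.snd := congrArg (fun t => t.hom.fst) M.hom.w
    have e₂ : m₂.hom.snd ≫ 𝟙 _ = 𝟙 _ ≫ M.hom.snd := congrArg (fun t => t.hom.snd) M.hom.w
    have h : m₁ = m₂ := ObjectProperty.hom_ext _ (CategoricalPullback.hom_ext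
      (((Category.comp_id _).symm.trans e₀).trans (Category.id_comp _))
      ((((Category.comp_id _).symm.trans e₁).trans (Category.id_comp _)).trans
        (((Category.comp_id _).symm.trans e₂).trans (Category.id_comp _)).symm))
    exact ⟨m₁, ObjectProperty.hom_ext _ (CategoricalPullback.hom_ext
      (ObjectProperty.hom_ext _ (CategoricalPullback.hom_ext rfl h))
      (((Category.comp_id _).symm.trans e₁).trans (Category.id_comp _)))⟩⟩
  refine isEquivOver_of_fullyFaithful _ fun η => ?_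
  let w₁ := η.obj.fst.obj.fst
  let w₂ := η.obj.fst.obj.snd
  let i : w₁.obj.fst ≅ w₂.obj.fst := η.obj.fst.obj.iso
  let k₁ : w₁.obj.snd ≅ η.obj.snd := (fpFst f f).toFunctor.mapIso η.obj.iso
  let k₂ : w₂.obj.snd ≅ η.obj.snd := (fpSnd f f).toFunctor.mapIso η.obj.iso
  have hw : f.map k₁.hom ≫ 𝟙 (f.obj η.obj.snd) =
      (w₁.obj.iso.inv ≫ g.map i.hom ≫ w₂.obj.iso.hom) ≫ f.map k₂.hom := η.obj.iso.hom.hom.w
  let θ : w₁ ≅ w₂ := ObjectProperty.isoMk _ (CategoricalPullback.mkIso i (k₁ ≪≫ k₂.symm) (by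
    rw [Category.comp_id] at hw
    show g.map i.hom ≫ w₂.obj.iso.hom = w₁.obj.iso.hom ≫ f.map (k₁.hom ≫ k₂.inv)
    rw [Functor.map_comp, hw]
    simp [← Functor.map_comp]))
  refine ⟨w₁, ObjectProperty.isoMk _ (CategoricalPullback.mkIso
    (ObjectProperty.isoMk _ (CategoricalPullback.mkIso (Iso.refl w₁) θ ?_)) k₁ ?_), rfl, 𝒵.p.map_id _⟩
  · show (fpFst g f).map (𝟙 w₁) ≫ i.hom = 𝟙 w₁.obj.fst ≫ i.hom
    simp
  · refine ObjectProperty.hom_ext _ (CategoricalPullback.hom_ext ?_ ?_)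
    · show 𝟙 w₁.obj.snd ≫ k₁.hom = 𝟙 w₁.obj.snd ≫ k₁.hom
      rfl
    · show (k₁.hom ≫ k₂.inv) ≫ k₂.hom = 𝟙 w₁.obj.snd ≫ k₁.hom
      simp

end baseChange

section comparison

variable (f : 𝒳 ⥤ᵇ 𝒵) (g : 𝒴 ⥤ᵇ 𝒵) (t : 𝒵 ⥤ᵇ 𝒯)

/-- the map to the self fibre product over `𝒯` -/
def cmpMap : fp (BasedFunctor.comp f t) (BasedFunctor.comp g t) ⥤ᵇ fp t t :=
  fpMap (BasedFunctor.comp f t) (BasedFunctor.comp g t) f g (BasedFunctor.id 𝒯) (F := t) (G := t)
    (Iso.refl _) (Iso.refl _)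

variable {f g t} (e : BasedFunctor.comp (fpFst f g) (BasedFunctor.comp f t) ≅
  BasedFunctor.comp (fpSnd f g) (BasedFunctor.comp g t))
  (he : ∀ x, e.hom.toNatTrans.app x = t.map x.obj.iso.hom)

/-- the comparison of fibre products as a base change of the diagonal -/
def cmpDiag : fp f g ⥤ᵇ fp (cmpMap f g t) (diag t) :=
  fpLift (fpLift (fpFst f g) (fpSnd f g) e) (BasedFunctor.comp (fpFst f g) f)
    (fpExt (Iso.refl _) (fpIso f g).symm fun w => by
      show t.map (𝟙 (f.obj w.obj.fst)) ≫ 𝟙 (t.obj (f.obj w.obj.fst)) =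
        (𝟙 (t.obj (f.obj w.obj.fst)) ≫ e.hom.toNatTrans.app w ≫ 𝟙 (t.obj (g.obj w.obj.snd))) ≫ t.map w.obj.iso.inv
      rw [he]
      simp only [CategoryTheory.Functor.map_id]
      erw [Category.comp_id, Category.id_comp, Category.comp_id]
      exact (t.toFunctor.mapIso w.obj.iso).hom_inv_id.symm)

theorem isEquivOver_cmpDiag : IsEquivOver (cmpDiag e he) := by
  haveI : (cmpDiag e he).toFunctor.Faithful := ⟨fun {o o'} m m' h =>
    ObjectProperty.hom_ext _ (CategoricalPullback.hom_ext (congrArg (fun t => t.hom.fst.hom.fst) h)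
      (congrArg (fun t => t.hom.fst.hom.snd) h))⟩
  haveI : (cmpDiag e he).toFunctor.Full := ⟨fun {o o'} M => by
    let m : o.obj.fst ⟶ o'.obj.fst := M.hom.fst.hom.fst
    let n : o.obj.snd ⟶ o'.obj.snd := M.hom.fst.hom.snd
    have e₁ : f.map m ≫ 𝟙 _ = 𝟙 (f.obj o.obj.fst) ≫ M.hom.snd := congrArg (fun t => t.hom.fst) M.hom.w
    have e₂ : g.map n ≫ o'.obj.iso.inv = o.obj.iso.inv ≫ M.hom.snd := congrArg (fun t => t.hom.snd) M.hom.w
    rw [Category.comp_id, Category.id_comp] at e₁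
    refine ⟨ObjectProperty.homMk ⟨m, n, ?_⟩, ObjectProperty.hom_ext _ (CategoricalPullback.hom_ext
      (ObjectProperty.hom_ext _ (CategoricalPullback.hom_ext rfl rfl)) e₁)⟩
    rw [← cancel_mono o'.obj.iso.inv, Category.assoc, Category.assoc, e₂, Iso.hom_inv_id]
    simp [e₁]⟩
  refine isEquivOver_of_fullyFaithful _ fun η => ?_
  obtain ⟨q, hq⟩ := map_iso_hom η
  let x := η.obj.fst.obj.fst
  let y := η.obj.fst.obj.snd
  let j : t.obj (f.obj x) ≅ t.obj (g.obj y) := η.obj.fst.obj.iso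
  let k₁ : f.obj x ≅ η.obj.snd := (fpFst t t).toFunctor.mapIso η.obj.iso
  let k₂ : g.obj y ≅ η.obj.snd := (fpSnd t t).toFunctor.mapIso η.obj.iso
  have hw : t.map k₁.hom ≫ 𝟙 (t.obj η.obj.snd) = (𝟙 _ ≫ j.hom ≫ 𝟙 _) ≫ t.map k₂.hom := η.obj.iso.hom.hom.w
  simp only [Category.id_comp, Category.comp_id] at hw
  have hk₁ : 𝒵.p.map k₁.hom = eqToHom q := hq
  have hk₂ : 𝒵.p.map k₂.hom = eqToHom (((g.w_obj y).trans (fp_obj_eq η.obj.fst)).trans ((f.w_obj x).symm.trans q)) :=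
    (map_snd η.obj.iso.hom).trans (by
      show _ ≫ 𝒵.p.map k₁.hom ≫ _ = _
      rw [hk₁]; simp; exact Category.comp_id _)
  let o : (fp f g).obj := ⟨⟨x, y, k₁ ≪≫ k₂.symm⟩, fpProp_of_map f g _
    (q.trans (((g.w_obj y).trans (fp_obj_eq η.obj.fst)).trans ((f.w_obj x).symm.trans q)).symm) (by
      show 𝒵.p.map (k₁.hom ≫ k₂.inv) = _
      rw [Functor.map_comp, hk₁, ← IsIso.Iso.inv_hom k₂, map_inv_of_eqToHom _ hk₂, eqToHom_trans])⟩
  refine ⟨o, ObjectProperty.isoMk _ (CategoricalPullback.mkIso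
    (ObjectProperty.isoMk _ (CategoricalPullback.mkIso (Iso.refl x) (Iso.refl y) ?_)) k₁ ?_), rfl, 𝒳.p.map_id _⟩
  · show t.map (f.map (𝟙 x)) ≫ j.hom = e.hom.toNatTrans.app o ≫ t.map (g.map (𝟙 y))
    rw [he]
    show _ = t.map (k₁.hom ≫ k₂.inv) ≫ _
    rw [Functor.map_comp, hw]
    erw [g.toFunctor.map_id, f.toFunctor.map_id, t.toFunctor.map_id, t.toFunctor.map_id, Category.id_comp, Category.comp_id,
      Category.assoc]
    exact ((congrArg (fun k => j.hom ≫ k) (t.toFunctor.mapIso k₂).hom_inv_id).trans (Category.comp_id _)).symm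
  · refine ObjectProperty.hom_ext _ (CategoricalPullback.hom_ext ?_ ?_)
    · show f.map (𝟙 x) ≫ k₁.hom = 𝟙 (f.obj x) ≫ k₁.hom
      simp
    · show g.map (𝟙 y) ≫ k₂.hom = (k₂.hom ≫ k₁.inv) ≫ k₁.hom
      simp

end comparison

section graph

variable {p : 𝒳 ⥤ᵇ 𝒯} {q : 𝒴 ⥤ᵇ 𝒯} (g : 𝒳 ⥤ᵇ 𝒴)
  (e : BasedFunctor.comp (BasedFunctor.id 𝒳) p ≅ BasedFunctor.comp g q)

/-- the map to the self fibre product of the target -/
def graphMap : fp p q ⥤ᵇ fp q q :=
  fpMap p q g (BasedFunctor.id 𝒴) (BasedFunctor.id 𝒯) (F := q) (G := q) e (Iso.refl _)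

/-- the graph as a base change of the diagonal -/
def graphDiag : 𝒳 ⥤ᵇ fp (graphMap g e) (diag q) :=
  fpLift (fpLift (BasedFunctor.id 𝒳) g e) g (fpExt (Iso.refl _) (Iso.refl _) fun x => by
    show q.map (𝟙 (g.obj x)) ≫ 𝟙 (q.obj (g.obj x)) =
      (e.inv.toNatTrans.app x ≫ e.hom.toNatTrans.app x ≫ 𝟙 (q.obj (g.obj x))) ≫ q.map (𝟙 (g.obj x))
    have h : e.inv.toNatTrans.app x ≫ e.hom.toNatTrans.app x = 𝟙 _ :=
      (((BasedNatTrans.forgetful _ _).mapIso e).app x).inv_hom_id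
    simp only [CategoryTheory.Functor.map_id]
    erw [Category.comp_id, Category.comp_id, Category.comp_id]
    exact h.symm)

theorem isEquivOver_graphDiag : IsEquivOver (graphDiag g e) := by
  haveI : (graphDiag g e).toFunctor.Faithful := ⟨fun {o o'} m m' h => congrArg (fun t => t.hom.fst.hom.fst) h⟩
  haveI : (graphDiag g e).toFunctor.Full := ⟨fun {o o'} M => by
    let m : o ⟶ o' := M.hom.fst.hom.fst
    let n : g.obj o ⟶ g.obj o' := M.hom.fst.hom.snd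
    have e₁ : g.map m ≫ 𝟙 _ = 𝟙 _ ≫ M.hom.snd := congrArg (fun t => t.hom.fst) M.hom.w
    have e₂ : n ≫ 𝟙 _ = 𝟙 _ ≫ M.hom.snd := congrArg (fun t => t.hom.snd) M.hom.w
    rw [Category.comp_id, Category.id_comp] at e₁ e₂
    exact ⟨m, ObjectProperty.hom_ext _ (CategoricalPullback.hom_ext
      (ObjectProperty.hom_ext _ (CategoricalPullback.hom_ext rfl (e₁.trans e₂.symm))) e₁)⟩⟩
  refine isEquivOver_of_fullyFaithful _ fun η => ?_
  let x := η.obj.fst.obj.fst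
  let y := η.obj.fst.obj.snd
  let i : p.obj x ≅ q.obj y := η.obj.fst.obj.iso
  let k₁ : g.obj x ≅ η.obj.snd := (fpFst q q).toFunctor.mapIso η.obj.iso
  let k₂ : y ≅ η.obj.snd := (fpSnd q q).toFunctor.mapIso η.obj.iso
  have hw : q.map k₁.hom ≫ 𝟙 (q.obj η.obj.snd) =
      (e.inv.toNatTrans.app x ≫ i.hom ≫ 𝟙 (q.obj y)) ≫ q.map k₂.hom := η.obj.iso.hom.hom.w
  simp only [Category.comp_id, Category.assoc] at hw
  refine ⟨x, ObjectProperty.isoMk _ (CategoricalPullback.mkIso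
    (ObjectProperty.isoMk _ (CategoricalPullback.mkIso (Iso.refl x) (k₁ ≪≫ k₂.symm) ?_)) k₁ ?_), rfl, 𝒳.p.map_id _⟩
  · show p.map (𝟙 x) ≫ i.hom = e.hom.toNatTrans.app x ≫ q.map (k₁.hom ≫ k₂.inv)
    have h : e.hom.toNatTrans.app x ≫ e.inv.toNatTrans.app x = 𝟙 _ :=
      (((BasedNatTrans.forgetful _ _).mapIso e).app x).hom_inv_id
    rw [Functor.map_comp, hw]
    simp [reassoc_of% h, ← Functor.map_comp, BasedFunctor.comp, BasedFunctor.id]
  · refine ObjectProperty.hom_ext _ (CategoricalPullback.hom_ext ?_ ?_)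
    · show g.map (𝟙 x) ≫ k₁.hom = 𝟙 (g.obj x) ≫ k₁.hom
      simp
    · show (k₁.hom ≫ k₂.inv) ≫ k₂.hom = 𝟙 (g.obj x) ≫ k₁.hom
      simp

end graph

end Groth.Agent.AlgStLib

end
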