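import Groth.Agent.AlgStLib.Props
import Groth.Agent.AlgStLib.Squares
import Groth.Agent.AlgSpLib.DiagProp

/-!
# Diagonals of functors representable by algebraic spaces
-/

set_option autoImplicit false
set_option backward.isDefEq.respectTransparency false
set_option backward.isDefEq.respectTransparency.types false
set_option linter.style.haveILetI false
universe w v₄ u₄ v₃ u₃ v₂ u₂ u

noncomputable section

namespace Groth.Agent.AlgStLib

open CategoryTheory CategoryTheory.Limits AlgebraicGeometry Opposite Groth.Agent.FibCatRep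
  Groth.Agent.FibCat2Misc Groth.Agent.AlgSpLib Groth.Agent.StkBasic
open _root_.AlgSp _root_.AlgSt

variable {S : Scheme.{u}}

instance respectsIso_repWith (P : MorphismProperty Scheme.{u}) : (RepWith (S := S) P).RespectsIso :=
  MorphismProperty.IsStableUnderBaseChange.respectsIso

/-- properties stable under base change are relative -/
theorem repBySpWith_of_bc {Q : MorphismProperty (Sp S)} [Q.RespectsIso] {X Y : Sp S} (hX : IsAlgSpace X)
    (hY : IsAlgSpace Y) (f : X ⟶ Y)
    (h : ∀ ⦃U : Over S⦄ (ξ : (yon S).obj U ⟶ Y) ⦃W : Sp S⦄ (fst : W ⟶ X) (snd : W ⟶ (yon S).obj U),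
      IsAlgSpace W → IsPullback fst snd f ξ → Q snd) : RepBySpWith Q f.hom := by
  intro U ξ F' fst snd sq
  let ξ' : (yon S).obj U ⟶ Y := ObjectProperty.homMk ξ
  have sqS := IsPullback.of_hasPullback f ξ'
  have hW := isAlgSpace_of_isPullback_space hY hX (IsAlgSpace.yon_obj U) sqS
  have sq' : IsPullback (pullback.fst f ξ').hom (pullback.snd f ξ').hom f.hom ξ :=
    sqS.map (sheafToPresheaf (J S) (Type (u + 1)))
  refine good_of_iso Q (sq.isoIsPullback _ _ sq') (IsPullback.isoIsPullback_hom_snd _ _ _ _)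
    ⟨(pullback f ξ').property, hW, ?_⟩
  exact h ξ' _ (pullback.snd f ξ') hW sqS

theorem repBySpWith_repWith {P : MorphismProperty Scheme.{u}} {X Y : Sp S} (hX : IsAlgSpace X)
    (hY : IsAlgSpace Y) (f : X ⟶ Y) (h : RepWith P f) : RepBySpWith (RepWith (S := S) P) f.hom :=
  repBySpWith_of_bc hX hY f fun _ _ _ _ _ _ sq => repWith_baseChange sq h

variable {𝒳 𝒴 : AlgSt.Cat S}

/-- properties of diagonals of functors representable by algebraic spaces are tested on algebraic spaces -/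
theorem repWith_diag_of_rep {Q : MorphismProperty (Sp S)} [Q.RespectsIso]
    {f : 𝒳 ⥤ᵇ 𝒴} (hf : RepByAlgSp1 f)
    (hQ : ∀ ⦃X : Sp S⦄ ⦃U : Over S⦄ (π : X ⟶ (yon S).obj U), IsAlgSpace X →
      RepBySpWith Q (pullback.diagonal π).hom) : RepByAlgSpWith Q (FibCat.diag f) := by
  rw [repWith_iff]
  intro U y
  let y₁ : Stk.ofPsh ((pyon S).obj U) ⥤ᵇ 𝒴 :=
    BasedFunctor.comp (BasedFunctor.comp y (FibCat.fpFst f f)) f
  obtain ⟨F, e, he⟩ := repByAlgSp_fp_yon hf U y₁
  let π : F.obj ⟶ (yon S).obj U := ObjectProperty.homMk (prjMap e)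
  have sqS : IsPullback (pullback.fst π π).hom (pullback.snd π π).hom (prjMap e) (prjMap e) :=
    (IsPullback.of_hasPullback π π).map (sheafToPresheaf (J S) (Type (u + 1)))
  let f' := FibCat.fpFst y₁ f
  haveI : (BasedFunctor.id (Stk.ofPsh ((pyon S).obj U))).toFunctor.Full :=
    inferInstanceAs (𝟭 (Stk.EltObj ((pyon S).obj U))).Full
  haveI : (BasedFunctor.id (Stk.ofPsh ((pyon S).obj U))).toFunctor.Faithful :=
    inferInstanceAs (𝟭 (Stk.EltObj ((pyon S).obj U))).Faithful
  let mB := fpMap (F := f') (G := f') (Stk.ofPshMap (prjMap e)) (Stk.ofPshMap (prjMap e)) e e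
    (BasedFunctor.id (Stk.ofPsh ((pyon S).obj U)))
    (mapOfIso (BasedFunctor.comp e f')) (mapOfIso (BasedFunctor.comp e f'))
  let B := BasedFunctor.comp (pbFun sqS.toCommSq) mB
  have hB : FibCat.IsEquivOver B :=
    isEquivOver_comp (isEquivOver_pbFun sqS) (isEquivOver_fpMap _ _ _ _ _ _ _ he he)
  let jfst : BasedFunctor.comp (Stk.ofPshMap (pullback.diagonal π).hom) (Stk.ofPshMap (pullback.fst π π).hom) ≅
      BasedFunctor.id (Stk.ofPsh F.obj.obj) := isoOfSec _ _ fun a => by
    rw [secOf_comp_ofPshMap, secOf_ofPshMap, secOf_id]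
    exact congrArg (fun k => k.hom.app (op a.base) a.sec) (pullback.diagonal_fst π)
  let jsnd : BasedFunctor.comp (Stk.ofPshMap (pullback.diagonal π).hom) (Stk.ofPshMap (pullback.snd π π).hom) ≅
      BasedFunctor.id (Stk.ofPsh F.obj.obj) := isoOfSec _ _ fun a => by
    rw [secOf_comp_ofPshMap, secOf_ofPshMap, secOf_id]
    exact congrArg (fun k => k.hom.app (op a.base) a.sec) (pullback.diagonal_snd π)
  let i : BasedFunctor.comp (Stk.ofPshMap (pullback.diagonal π).hom) B ≅ BasedFunctor.comp e (FibCat.diag f') :=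
    fpExt ((post _ e).mapIso jfst) ((post _ e).mapIso jsnd) fun a => by
      haveI := faithful_forget (P := (pyon S).obj U)
      apply (Stk.EltObj.forget ((pyon S).obj U)).map_injective
      obtain ⟨q, hq⟩ := map_iso_hom ((BasedFunctor.comp (Stk.ofPshMap (pullback.diagonal π).hom) B).obj a)
      obtain ⟨q', hq'⟩ := map_iso_hom ((BasedFunctor.comp e (FibCat.diag f')).obj a)
      change (Stk.ofPsh ((pyon S).obj U)).p.map _ = _ at hq hq'
      show (Stk.ofPsh ((pyon S).obj U)).p.map _ = (Stk.ofPsh ((pyon S).obj U)).p.map _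
      rw [Functor.map_comp, Functor.map_comp, map_map f', map_map f', map_app, map_app, hq, hq']
      simp
      exact Category.comp_id _
  have hd : RepByAlgSpWith Q (FibCat.diag f') :=
    (repWith_iff_of_equiv Q (FibCat.diag f') (Stk.ofPshMap (pullback.diagonal π).hom) e B he hB i).2
      ((repWith_ofPshMap_iff Q _).2 (hQ π F.property))
  let l₁ : Stk.ofPsh ((pyon S).obj U) ⥤ᵇ FibCat.fp y₁ f :=
    FibCat.fpLift (BasedFunctor.id _) (BasedFunctor.comp y (FibCat.fpFst f f)) (Iso.refl _)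
  let l₂ : Stk.ofPsh ((pyon S).obj U) ⥤ᵇ FibCat.fp y₁ f :=
    FibCat.fpLift (BasedFunctor.id _) (BasedFunctor.comp y (FibCat.fpSnd f f))
      ((Stk.restr y 𝒴).mapIso (FibCat.fpIso f f))
  let s : Stk.ofPsh ((pyon S).obj U) ⥤ᵇ FibCat.fp f' f' := FibCat.fpLift l₁ l₂ (Iso.refl _)
  let κ : BasedFunctor.comp s (bcSelf f y₁) ≅ y := fpExt (Iso.refl _) (Iso.refl _) fun a => by
    show f.map (𝟙 (y.obj a).obj.fst) ≫ (y.obj a).obj.iso.hom =
      (𝟙 (y₁.obj a) ≫ y₁.map (𝟙 a) ≫ (y.obj a).obj.iso.hom) ≫ f.map (𝟙 (y.obj a).obj.snd)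
    simp only [CategoryTheory.Functor.map_id]
    exact (Category.id_comp _).trans ((Category.comp_id _).trans ((Category.id_comp _).trans (Category.id_comp _))).symm
  haveI : (BasedFunctor.id (FibCat.fp f' f')).toFunctor.Full :=
    inferInstanceAs (𝟭 (FibCat.fp f' f').obj).Full
  haveI : (BasedFunctor.id (FibCat.fp f' f')).toFunctor.Faithful :=
    inferInstanceAs (𝟭 (FibCat.fp f' f').obj).Faithful
  let m₁ := fpMap (F := s) (G := FibCat.fpFst (bcSelf f y₁) (FibCat.diag f)) s (FibCat.diag f')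
    (BasedFunctor.id (Stk.ofPsh ((pyon S).obj U))) (bcDiag f y₁) (BasedFunctor.id (FibCat.fp f' f'))
    (Iso.refl _) (Iso.refl _)
  obtain ⟨P, eP, heP, hg⟩ := (repWith_iff Q (FibCat.diag f')).1 hd U s
  exact ⟨P, BasedFunctor.comp (BasedFunctor.comp (BasedFunctor.comp eP m₁)
      (pasteFun s (bcSelf f y₁) (FibCat.diag f)))
      (fpMap (BasedFunctor.comp s (bcSelf f y₁)) (FibCat.diag f) (BasedFunctor.id _) (BasedFunctor.id 𝒳)
        (BasedFunctor.id (FibCat.fp f f)) (F := y) κ (Iso.refl _)),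
    isEquivOver_comp (isEquivOver_comp (isEquivOver_comp heP
      (isEquivOver_fpMap _ _ _ _ _ _ _ isEquivOver_id (isEquivOver_bcDiag f y₁))) (isEquivOver_pasteFun _ _ _))
      (isEquivOver_fp_change (FibCat.diag f) κ), hg⟩

/-- diagonals of functors representable by algebraic spaces are representable by algebraic spaces -/
theorem repByAlgSp1_diag_of_rep {f : 𝒳 ⥤ᵇ 𝒴} (hf : RepByAlgSp1 f) : RepByAlgSp1 (FibCat.diag f) := by
  refine repByAlgSp1_of_with (repWith_diag_of_rep (Q := ⊤) hf fun X U π hX => ?_)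
  exact repBySpWith_of_bc hX (isAlgSpace_of_isPullback_space (IsAlgSpace.yon_obj U) hX hX
    (IsPullback.of_hasPullback π π)) _ fun _ _ _ _ _ _ _ => trivial

theorem repWith_diag_rep (P : MorphismProperty Scheme.{u}) {f : 𝒳 ⥤ᵇ 𝒴} (hf : RepByAlgSp1 f)
    (hP : ∀ ⦃X : Sp S⦄ ⦃U : Over S⦄ (π : X ⟶ (yon S).obj U), IsAlgSpace X → RepWith P (pullback.diagonal π)) :
    RepByAlgSpWith (RepWith (S := S) P) (FibCat.diag f) :=
  repWith_diag_of_rep hf fun _ U π hX => repBySpWith_repWith hX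
    (isAlgSpace_of_isPullback_space (IsAlgSpace.yon_obj U) hX hX (IsPullback.of_hasPullback π π)) _ (hP π hX)

/-- diagonals of representable functors are monomorphisms -/
theorem isMono_diag_of_rep {f : 𝒳 ⥤ᵇ 𝒴} (hf : RepByAlgSp1 f) : IsMono (FibCat.diag f) :=
  repWith_mono (repWith_diag_rep _ hf fun _ _ π hX => (repWith_diagonal_props hX π).1)
    fun _ _ _ _ ha => AlgSpLib.mono_of_repWith ha

/-- functors representable by algebraic spaces with scheme fibres are representable -/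
theorem isRepresentable1_of_repWith (P : MorphismProperty Scheme.{u}) {f : 𝒳 ⥤ᵇ 𝒴}
    (hf : RepByAlgSpWith (RepWith (S := S) P) f) : FibCat.IsRepresentable1 f := by
  intro U y
  obtain ⟨F, e, he, hP⟩ := hf U y
  obtain ⟨V, fst, snd, sq, -⟩ := exists_repWith hP (𝟙 ((yon S).obj U))
  haveI : IsIso fst := sq.isIso_fst_of_isIso
  haveI : IsIso fst.hom := inferInstanceAs (IsIso ((sheafToPresheaf (J S) (Type (u + 1))).map fst))
  obtain ⟨k, hk, -, -⟩ := isEquivOver_symm he
  obtain ⟨i, hi, -, -⟩ := isEquivOver_symm (isEquivOver_toOverCat V)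
  obtain ⟨j, hj, -, -⟩ := isEquivOver_symm (isEquivOver_comp (isEquivOver_comp
    (isEquivOver_comp hi (isEquivOver_ofPshMap fst.hom)) he) isEquivOver_id)
  exact ⟨V, j, hj⟩

end Groth.Agent.AlgStLib

end
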