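import Groth.Agent.AlgStLib.MorphProps

/-!
# Diagonals tested on the fibres over schemes
-/

set_option autoImplicit false
set_option backward.isDefEq.respectTransparency false
set_option backward.isDefEq.respectTransparency.types false
set_option linter.style.haveILetI false
universe w v₄ u₄ v₃ u₃ v₂ u₂ v u₁ u

noncomputable section

namespace Groth.Agent.AlgStLib

open CategoryTheory CategoryTheory.Limits AlgebraicGeometry Opposite Groth.Agent.FibCatRep
  Groth.Agent.FibCat2Misc Groth.Agent.AlgSpLib Groth.Agent.StkBasic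
open _root_.AlgSp _root_.AlgSt

variable {S : Scheme.{u}} {𝒳 𝒴 : AlgSt.Cat S} {Q R : MorphismProperty (Sp S)}

/-- diagonals of equivalent functors -/
theorem repWith_diag_iff_of_equiv {𝒳' 𝒴' : AlgSt.Cat S} (f : 𝒳 ⥤ᵇ 𝒴) (f' : 𝒳' ⥤ᵇ 𝒴') (a : 𝒳' ⥤ᵇ 𝒳)
    (b : 𝒴' ⥤ᵇ 𝒴) (ha : FibCat.IsEquivOver a) (hb : FibCat.IsEquivOver b)
    (e : BasedFunctor.comp f' b ≅ BasedFunctor.comp a f) :
    RepByAlgSpWith Q (FibCat.diag f) ↔ RepByAlgSpWith Q (FibCat.diag f') := by
  haveI := (isEquivOver_data hb).1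
  let B := fpMap (F := f) (G := f) f' f' a a b e e
  let i : BasedFunctor.comp (FibCat.diag f') B ≅ BasedFunctor.comp a (FibCat.diag f) :=
    fpExt (Iso.refl _) (Iso.refl _) fun x => by
      show f.map (𝟙 (a.obj x)) ≫ 𝟙 (f.obj (a.obj x)) =
        (e.inv.toNatTrans.app x ≫ b.map (𝟙 (f'.obj x)) ≫ e.hom.toNatTrans.app x) ≫ f.map (𝟙 (a.obj x))
      have h : e.inv.toNatTrans.app x ≫ e.hom.toNatTrans.app x = 𝟙 _ :=
        (((BasedNatTrans.forgetful _ _).mapIso e).app x).inv_hom_id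
      simp only [CategoryTheory.Functor.map_id]
      erw [Category.comp_id, Category.comp_id, Category.id_comp]
      exact h.symm
  exact repWith_iff_of_equiv Q (FibCat.diag f) (FibCat.diag f') a B ha
    (isEquivOver_fpMap _ _ _ _ _ _ _ ha ha) i

/-- the diagonal is tested on base changes to schemes -/
theorem repWith_diag_of_fibres [Q.RespectsIso] {f : 𝒳 ⥤ᵇ 𝒴}
    (h : ∀ (U : Over S) (y : Stk.ofPsh ((pyon S).obj U) ⥤ᵇ 𝒴),
      RepByAlgSpWith Q (FibCat.diag (FibCat.fpFst y f))) : RepByAlgSpWith Q (FibCat.diag f) := by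
  rw [repWith_iff]
  intro U y
  let y₁ : Stk.ofPsh ((pyon S).obj U) ⥤ᵇ 𝒴 :=
    BasedFunctor.comp (BasedFunctor.comp y (FibCat.fpFst f f)) f
  let f' := FibCat.fpFst y₁ f
  let l₁ : Stk.ofPsh ((pyon S).obj U) ⥤ᵇ FibCat.fp y₁ f :=
    FibCat.fpLift (BasedFunctor.id _) (BasedFunctor.comp y (FibCat.fpFst f f)) (Iso.refl _)
  let l₂ : Stk.ofPsh ((pyon S).obj U) ⥤ᵇ FibCat.fp y₁ f :=
    FibCat.fpLift (BasedFunctor.id _) (BasedFunctor.comp y (FibCat.fpSnd f f))
      ((Stk.restr y 𝒴).mapIso (FibCat.fpIso f f))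
  let s : Stk.ofPsh ((pyon S).obj U) ⥤ᵇ FibCat.fp f' f' := FibCat.fpLift l₁ l₂ (Iso.refl _)
  let κ : BasedFunctor.comp s (bcSelf f y₁) ≅ y := fpExt (Iso.refl _) (Iso.refl _) fun a => by
    show f.map (𝟙 (y.obj a).obj.fst) ≫ (y.obj a).obj.iso.hom =
      (𝟙 (y₁.obj a) ≫ y₁.map (𝟙 a) ≫ (y.obj a).obj.iso.hom) ≫ f.map (𝟙 (y.obj a).obj.snd)
    simp only [CategoryTheory.Functor.map_id]
    exact (Category.id_comp _).trans ((Category.comp_id _).trans ((Category.id_comp _).trans (Category.id_comp _))).symm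
  haveI : (BasedFunctor.id (FibCat.fp f' f')).toFunctor.Full :=
    inferInstanceAs (𝟭 (FibCat.fp f' f').obj).Full
  haveI : (BasedFunctor.id (FibCat.fp f' f')).toFunctor.Faithful :=
    inferInstanceAs (𝟭 (FibCat.fp f' f').obj).Faithful
  let m₁ := fpMap (F := s) (G := FibCat.fpFst (bcSelf f y₁) (FibCat.diag f)) s (FibCat.diag f')
    (BasedFunctor.id (Stk.ofPsh ((pyon S).obj U))) (bcDiag f y₁) (BasedFunctor.id (FibCat.fp f' f'))
    (Iso.refl _) (Iso.refl _)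
  obtain ⟨P, eP, heP, hg⟩ := (repWith_iff Q (FibCat.diag f')).1 (h U y₁) U s
  exact ⟨P, BasedFunctor.comp (BasedFunctor.comp (BasedFunctor.comp eP m₁)
      (pasteFun s (bcSelf f y₁) (FibCat.diag f)))
      (fpMap (BasedFunctor.comp s (bcSelf f y₁)) (FibCat.diag f) (BasedFunctor.id _) (BasedFunctor.id 𝒳)
        (BasedFunctor.id (FibCat.fp f f)) (F := y) κ (Iso.refl _)),
    isEquivOver_comp (isEquivOver_comp (isEquivOver_comp heP
      (isEquivOver_fpMap _ _ _ _ _ _ _ isEquivOver_id (isEquivOver_bcDiag f y₁))) (isEquivOver_pasteFun _ _ _))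
      (isEquivOver_fp_change (FibCat.diag f) κ), hg⟩

/-- the diagonal of a functor of presheaves -/
theorem repWith_diag_ofPshMap_iff [Q.RespectsIso] {P A B : PSp S} {π : P ⟶ A} {p₁ p₂ : B ⟶ P}
    (sq : IsPullback p₁ p₂ π π) {Δ : P ⟶ B} (h₁ : Δ ≫ p₁ = 𝟙 P) (h₂ : Δ ≫ p₂ = 𝟙 P) :
    RepByAlgSpWith Q (FibCat.diag (Stk.ofPshMap π)) ↔ RepBySpWith Q Δ := by
  have j : ∀ (p : B ⟶ P), Δ ≫ p = 𝟙 P → ∀ a : Stk.EltObj P,
      secOf (BasedFunctor.comp (Stk.ofPshMap Δ) (Stk.ofPshMap p)) a = secOf (BasedFunctor.id (Stk.ofPsh P)) a :=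
    fun p hp a => by
      rw [secOf_comp_ofPshMap, secOf_ofPshMap, secOf_id]
      exact congrArg (fun k => k.app (op a.base) a.sec) hp
  let i : BasedFunctor.comp (Stk.ofPshMap Δ) (pbFun sq.toCommSq) ≅
      BasedFunctor.comp (BasedFunctor.id (Stk.ofPsh P)) (FibCat.diag (Stk.ofPshMap π)) :=
    fpExt (isoOfSec _ _ (j p₁ h₁)) (isoOfSec _ _ (j p₂ h₂)) fun a => by
      haveI := faithful_forget (P := A)
      apply (Stk.EltObj.forget A).map_injective
      obtain ⟨q, hq⟩ := map_iso_hom ((BasedFunctor.comp (Stk.ofPshMap Δ) (pbFun sq.toCommSq)).obj a)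
      obtain ⟨q', hq'⟩ := map_iso_hom
        ((BasedFunctor.comp (BasedFunctor.id (Stk.ofPsh P)) (FibCat.diag (Stk.ofPshMap π))).obj a)
      change (Stk.ofPsh A).p.map _ = _ at hq hq'
      show (Stk.ofPsh A).p.map _ = (Stk.ofPsh A).p.map _
      rw [Functor.map_comp, Functor.map_comp, map_map (Stk.ofPshMap π), map_map (Stk.ofPshMap π), map_app,
        map_app, hq, hq']
      simp
      exact (Category.comp_id _).symm
  exact (repWith_iff_of_equiv Q (FibCat.diag (Stk.ofPshMap π)) (Stk.ofPshMap Δ) (BasedFunctor.id _)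
    (pbFun sq.toCommSq) isEquivOver_id (isEquivOver_pbFun sq) i).trans (repWith_ofPshMap_iff Q Δ)

/-- the diagonal of a base change to a scheme in terms of a model -/
theorem repWith_diag_model_iff [Q.RespectsIso] {f : 𝒳 ⥤ᵇ 𝒴} {U : Over S}
    {y : Stk.ofPsh ((pyon S).obj U) ⥤ᵇ 𝒴} {F : Sp S} {e : ofSp F ⥤ᵇ FibCat.fp y f}
    (he : FibCat.IsEquivOver e) :
    RepByAlgSpWith Q (FibCat.diag (FibCat.fpFst y f)) ↔
      RepBySpWith Q (pullback.diagonal (ObjectProperty.homMk (prjMap e) : F ⟶ (yon S).obj U)).hom := by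
  let π : F ⟶ (yon S).obj U := ObjectProperty.homMk (prjMap e)
  refine (repWith_diag_iff_of_equiv (FibCat.fpFst y f) (Stk.ofPshMap (prjMap e)) e (BasedFunctor.id _) he
    isEquivOver_id (mapOfIso (BasedFunctor.comp e (FibCat.fpFst y f)))).trans ?_
  exact repWith_diag_ofPshMap_iff ((IsPullback.of_hasPullback π π).map (sheafToPresheaf (J S) (Type (u + 1))))
    (congrArg (fun k => k.hom) (pullback.diagonal_fst π)) (congrArg (fun k => k.hom) (pullback.diagonal_snd π))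

/-- properties of diagonals of functors with fibres of a given kind -/
theorem repWith_diag_of_repWith [Q.RespectsIso] [R.RespectsIso] {f : 𝒳 ⥤ᵇ 𝒴} (hf : RepByAlgSpWith R f)
    (hQ : ∀ ⦃X : Sp S⦄ ⦃U : Over S⦄ (π : X ⟶ (yon S).obj U), IsAlgSpace X → R π →
      RepBySpWith Q (pullback.diagonal π).hom) : RepByAlgSpWith Q (FibCat.diag f) := by
  refine repWith_diag_of_fibres fun U y => ?_
  obtain ⟨P, e, he, h₁, h₂, h₃⟩ := (repWith_iff R f).1 hf U y
  exact (repWith_diag_model_iff (F := ⟨P, h₁⟩) he).2 (hQ (X := ⟨P, h₁⟩) (ObjectProperty.homMk (prjMap e)) h₂ h₃)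

end Groth.Agent.AlgStLib

end
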