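import Groth.Agent.AlgStLib.Descent
import Groth.Agent.UnivInjMor.Unram
import Groth.Agent.SpQS.UnivClosedQC

/-!
# Properties of diagonals and of inertia of algebraic stacks
-/

set_option autoImplicit false
set_option backward.isDefEq.respectTransparency false
set_option backward.isDefEq.respectTransparency.types false
set_option linter.style.haveILetI false
universe u

noncomputable section

namespace Groth.Agent.AlgStLib

open CategoryTheory CategoryTheory.Limits AlgebraicGeometry Opposite Groth.Agent.FibCatRep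
  Groth.Agent.FibCat2Misc Groth.Agent.AlgSpLib Groth.Agent.StkBasic
open _root_.AlgSp _root_.AlgSt

variable {S : Scheme.{u}} {𝒳 𝒴 𝒵 : AlgSt.Cat S}

theorem cls_lft : Cls (LocP (S := S) @LocallyOfFiniteType) :=
  cls_locP etST_lft (isLocalOnBase_locP etST_lft)

/-- diagonals of representable functors are locally of finite type -/
theorem repWith_lft_diag_of_rep {f : 𝒳 ⥤ᵇ 𝒴} (hf : RepByAlgSp1 f) :
    RepByAlgSpWith (LocP @LocallyOfFiniteType) (FibCat.diag f) :=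
  repWith_mono (repWith_diag_rep _ hf fun _ _ π hX => (repWith_diagonal_props hX π).2)
    fun _ U _ _ ha => (locP_iff_repWith etST_lft (IsAlgSpace.yon_obj U) ha.1).2 ha

/-- pairs of points lift -/
theorem lifts_cmpMap {w : 𝒵 ⥤ᵇ 𝒳} (hw : Lifts w) : Lifts (cmpMap w w (FibCat.toSelf 𝒳)) := by
  intro U y
  let t := FibCat.toSelf 𝒳
  obtain ⟨V₁, h₁, a₁, b₁, c₁, z₁, ⟨i₁⟩⟩ := hw U (BasedFunctor.comp y (FibCat.fpFst t t))
  obtain ⟨V, h₂, a₂, b₂, c₂, z₂, ⟨i₂⟩⟩ :=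
    hw V₁ (BasedFunctor.comp (Stk.ofPshMap ((pyon S).map h₁)) (BasedFunctor.comp y (FibCat.fpSnd t t)))
  let g := Stk.ofPshMap ((pyon S).map (h₂ ≫ h₁))
  let g₁ := Stk.ofPshMap ((pyon S).map h₁)
  let g₂ := Stk.ofPshMap ((pyon S).map h₂)
  let c : BasedFunctor.comp g₂ g₁ ≅ g := isoOfSec _ _ fun a => by
    rw [secOf_comp_ofPshMap, secOf_ofPshMap, secOf_ofPshMap, Functor.map_comp]
    rfl
  let k₁ : BasedFunctor.comp (BasedFunctor.comp g₂ z₁) w ≅
      BasedFunctor.comp g (BasedFunctor.comp y (FibCat.fpFst t t)) :=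
    (Stk.restr g₂ 𝒳).mapIso i₁ ≪≫ (post _ (BasedFunctor.comp y (FibCat.fpFst t t))).mapIso c
  let k₂ : BasedFunctor.comp z₂ w ≅ BasedFunctor.comp g (BasedFunctor.comp y (FibCat.fpSnd t t)) :=
    i₂ ≪≫ (post _ (BasedFunctor.comp y (FibCat.fpSnd t t))).mapIso c
  let e : BasedFunctor.comp (BasedFunctor.comp g₂ z₁) (BasedFunctor.comp w t) ≅
      BasedFunctor.comp z₂ (BasedFunctor.comp w t) :=
    (post _ t).mapIso k₁ ≪≫ (Stk.restr (BasedFunctor.comp g y) _).mapIso (FibCat.fpIso t t) ≪≫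
      ((post _ t).mapIso k₂).symm
  have hfl : Flat (h₂ ≫ h₁).left := by rw [Over.comp_left]; infer_instance
  have hsu : Surjective (h₂ ≫ h₁).left := by rw [Over.comp_left]; infer_instance
  have hfp : LocallyOfFinitePresentation (h₂ ≫ h₁).left := by rw [Over.comp_left]; infer_instance
  refine ⟨V, h₂ ≫ h₁, hfl, hsu, hfp,
    FibCat.fpLift (BasedFunctor.comp g₂ z₁) z₂ e, ⟨fpExt k₁ k₂ fun a => ?_⟩⟩
  let p : 𝒳.p.obj (w.obj (z₁.obj (g₂.obj a))) ≅ 𝒳.p.obj (y.obj (g.obj a)).obj.fst :=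
    𝒳.p.mapIso (((BasedNatTrans.forgetful _ _).mapIso k₁).app a)
  let q : 𝒳.p.obj (y.obj (g.obj a)).obj.fst ≅ 𝒳.p.obj (y.obj (g.obj a)).obj.snd := (y.obj (g.obj a)).obj.iso
  let r : 𝒳.p.obj (w.obj (z₂.obj a)) ≅ 𝒳.p.obj (y.obj (g.obj a)).obj.snd :=
    𝒳.p.mapIso (((BasedNatTrans.forgetful _ _).mapIso k₂).app a)
  show p.hom ≫ q.hom = (𝟙 _ ≫ (p.hom ≫ q.hom ≫ r.inv) ≫ 𝟙 _) ≫ r.hom
  simp

/-- properties of the diagonal over the base read on a cover by an algebraic space -/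
theorem repWith_diag_of_cover {Q : MorphismProperty (Sp S)} (hQ : Cls Q)
    (hrep : ∀ {𝒜 ℬ : AlgSt.Cat S} (g : 𝒜 ⥤ᵇ ℬ), RepByAlgSp1 g → RepByAlgSpWith Q (FibCat.diag g))
    (h𝒳 : FibCat.IsFibGrpd 𝒳.p) (d : RepByAlgSp1 (FibCat.diag (FibCat.toSelf 𝒳))) {P : PSp S}
    (hP : IsAlgSpaceP P) {x : Stk.ofPsh P ⥤ᵇ 𝒳} (hw : Lifts x) (hx : RepByAlgSpWith Q x) :
    RepByAlgSpWith Q (FibCat.diag (FibCat.toSelf 𝒳)) := by
  let t := FibCat.toSelf 𝒳
  let ε : BasedFunctor.comp (FibCat.fpFst x x) (BasedFunctor.comp x t) ≅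
      BasedFunctor.comp (FibCat.fpSnd x x) (BasedFunctor.comp x t) := (post _ t).mapIso (FibCat.fpIso x x)
  let C := FibCat.fpLift (FibCat.fpFst x x) (FibCat.fpSnd x x) ε
  have hxt : RepByAlgSp1 (BasedFunctor.comp x t) := by rw [comp_toSelf]; exact repByAlgSp1_toSelf hP
  have hg := isFibGrpd_ofSpace P
  have hC : RepByAlgSpWith Q C :=
    repWith_cancel (isFibGrpd_fp hg hg h𝒳 x x) (isFibGrpd_fp hg hg isFibGrpd_selfOver _ _) hg hQ C
      (FibCat.fpFst (BasedFunctor.comp x t) (BasedFunctor.comp x t))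
      (repWith_congr Q (Iso.refl _) (repWith_fpFst Q x x hx))
      (hrep _ (repByAlgSp1_fpFst _ _ hxt))
  refine repWith_of_lifts hQ.bc hQ.loc d (lifts_cmpMap hw) ?_
  exact (repWith_iff_of_equiv Q (FibCat.fpFst (cmpMap x x t) (FibCat.diag t)) C
    (cmpDiag ε (fun _ => rfl)) (BasedFunctor.id _) (isEquivOver_cmpDiag ε (fun _ => rfl)) isEquivOver_id
    (Iso.refl _)).2 hC

theorem repWith_flat_of_smooth {f : 𝒳 ⥤ᵇ 𝒴} (h : RepByAlgSpWith (LocP @Smooth) f) :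
    RepByAlgSpWith (LocP @Flat) f :=
  repWith_mono h fun _ _ _ _ ha U V a b k h₁ h₂ c => by
    haveI : Smooth k.left := ha a b k h₁ h₂ c
    infer_instance

theorem repWith_lfp_of_smooth {f : 𝒳 ⥤ᵇ 𝒴} (h : RepByAlgSpWith (LocP @Smooth) f) :
    RepByAlgSpWith (LocP @LocallyOfFinitePresentation) f :=
  repWith_mono h fun _ _ _ _ ha U V a b k h₁ h₂ c => by
    haveI : Smooth k.left := ha a b k h₁ h₂ c
    infer_instance

theorem repWith_lft_of_smooth {f : 𝒳 ⥤ᵇ 𝒴} (h : RepByAlgSpWith (LocP @Smooth) f) :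
    RepByAlgSpWith (LocP @LocallyOfFiniteType) f :=
  repWith_mono h fun _ _ _ _ ha U V a b k h₁ h₂ c => by
    haveI : Smooth k.left := ha a b k h₁ h₂ c
    infer_instance

theorem repWith_lft_diag_toSelf (h𝒳 : IsAlgStack Scheme.fppfPrecoverage 𝒳) :
    RepByAlgSpWith (LocP @LocallyOfFiniteType) (FibCat.diag (FibCat.toSelf 𝒳)) := by
  obtain ⟨U, x, h₁, h₂⟩ := exists_atlas h𝒳.atlas
  exact repWith_diag_of_cover cls_lft (fun g hg => repWith_lft_diag_of_rep hg) h𝒳.isStack.1 h𝒳.diag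
    (isAlgSpaceP_yon U) (lifts_of_fppf (repWith_flat_of_smooth h₁) (repWith_lfp_of_smooth h₁) h₂)
    (repWith_lft_of_smooth h₁)

theorem repWith_lft_diag (h𝒳 : IsAlgStack Scheme.fppfPrecoverage 𝒳)
    (h𝒴 : IsAlgStack Scheme.fppfPrecoverage 𝒴) (f : 𝒳 ⥤ᵇ 𝒴) :
    RepByAlgSpWith (LocP @LocallyOfFiniteType) (FibCat.diag f) := by
  refine repWith_diag_cancel h𝒳.isStack.1 h𝒴.isStack.1 isFibGrpd_selfOver cls_lft f (FibCat.toSelf 𝒴) ?_
    (repWith_lft_diag_of_rep (repByAlgSp1_cmpSelf f _ h𝒴.diag))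
  rw [comp_toSelf]
  exact repWith_lft_diag_toSelf h𝒳

theorem respectsIso_and (A B : MorphismProperty (Sp S)) [A.RespectsIso] [B.RespectsIso] :
    (A ⊓ B).RespectsIso :=
  MorphismProperty.RespectsIso.mk _
    (fun e g hg => ⟨(A.cancel_left_of_respectsIso e.hom g).2 hg.1, (B.cancel_left_of_respectsIso e.hom g).2 hg.2⟩)
    (fun e g hg => ⟨(A.cancel_right_of_respectsIso g e.hom).2 hg.1, (B.cancel_right_of_respectsIso g e.hom).2 hg.2⟩)

/-- conjunctions -/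
theorem repWith_and {A B : MorphismProperty (Sp S)} [A.RespectsIso] [B.RespectsIso] {f : 𝒳 ⥤ᵇ 𝒴}
    (hA : RepByAlgSpWith A f) (hB : RepByAlgSpWith B f) : RepByAlgSpWith (A ⊓ B) f := by
  haveI := respectsIso_and A B
  refine (repWith_iff _ f).2 fun U y => ?_
  obtain ⟨P, e, he, h₁, h₂, h₃⟩ := (repWith_iff A f).1 hA U y
  obtain ⟨_, _, h₄⟩ := good_of_model hB he
  exact ⟨P, e, he, h₁, h₂, h₃, h₄⟩

theorem isQuasiSeparatedMor_iff {f : 𝒳 ⥤ᵇ 𝒴} (hd : RepByAlgSp1 (FibCat.diag f)) :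
    AlgSt.IsQuasiSeparatedMor f ↔ RepByAlgSpWith AlgSp.IsQuasiCompactMor (FibCat.diag f) ∧
      RepByAlgSpWith AlgSp.IsQuasiCompactMor (FibCat.diag (FibCat.diag f)) := by
  haveI := respectsIso_quasiCompact (S := S)
  haveI := respectsIso_quasiSeparated (S := S)
  refine ⟨fun h => ⟨repWith_mono h fun _ _ _ _ ha => ha.1,
    repWith_mono (isQuasiSeparatedMor_of_quasiSeparated (repWith_mono h fun _ _ _ _ ha => ha.2))
      fun _ _ _ _ ha => ha.1⟩, fun h => repWith_and h.1 (quasiSeparated_of_qc_diag hd h.2)⟩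

theorem isSeparatedMor_of_univClosed (h𝒳 : IsAlgStack Scheme.fppfPrecoverage 𝒳)
    (h𝒴 : IsAlgStack Scheme.fppfPrecoverage 𝒴) {f : 𝒳 ⥤ᵇ 𝒴}
    (h₁ : RepByAlgSpWith AlgSp.IsUnivClosedMor (FibCat.diag f))
    (h₂ : RepByAlgSpWith AlgSp.IsUnivClosedMor (FibCat.diag (FibCat.diag f))) : AlgSt.IsSeparatedMor f := by
  haveI := respectsIso_univClosed (S := S)
  haveI := respectsIso_separated (S := S)
  haveI := respectsIso_onSp (cls_lft (S := S)).bc
  have hs := separated_of_univClosed_diag (repByAlgSp1_of_with h₁) h₂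
  haveI := respectsIso_and (AlgSp.IsUnivClosedMor (S := S)) (onSp (LocP (S := S) @LocallyOfFiniteType))
  exact repWith_mono (repWith_and hs (repWith_and h₁ (repWith_onSp_iff.2 (repWith_lft_diag h𝒳 h𝒴 f))))
    fun _ U a hF ha => ⟨ha.1, ⟨ha.2.2 hF (IsAlgSpace.yon_obj U),
      SpQS.isQuasiCompactMor_of_univClosed hF (IsAlgSpace.yon_obj U) a ha.2.1⟩, ha.2.1⟩

/-! ### inertia -/

/-- inertia as a fibre product of diagonals -/
def inertiaFun (f : 𝒳 ⥤ᵇ 𝒴) : FibCat.inertia f ⥤ᵇ FibCat.fp (FibCat.diag f) (FibCat.diag f) :=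
  FibCat.fpLift (FibCat.inertiaToBase f) (FibCat.inertiaToBase f)
    (BasedNatIso.mkNatIso
      (NatIso.ofComponents (fun o => ObjectProperty.isoMk _ (CategoricalPullback.mkIso (Iso.refl o.pt) o.aut
          (show f.map (𝟙 o.pt) ≫ 𝟙 _ = 𝟙 _ ≫ f.map o.aut.hom by
            rw [o.map_aut, CategoryTheory.Functor.map_id, Category.comp_id])))
        (fun {o o'} m => ObjectProperty.hom_ext _ (CategoricalPullback.hom_ext
          (show m.hom ≫ 𝟙 _ = 𝟙 _ ≫ m.hom by rw [Category.comp_id, Category.id_comp])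
          (show m.hom ≫ o'.aut.hom = o.aut.hom ≫ m.hom from m.comm.symm))))
      (fun o => IsHomLift.of_fac' _ _ _ rfl rfl
        (show 𝒳.p.map (𝟙 o.pt) = _ by rw [CategoryTheory.Functor.map_id]; simp; rfl)))

theorem isEquivOver_inertiaFun (f : 𝒳 ⥤ᵇ 𝒴) : FibCat.IsEquivOver (inertiaFun f) := by
  haveI : (inertiaFun f).toFunctor.Faithful :=
    ⟨fun {o o'} m m' h => FibCat.InertiaObj.hom_ext (congrArg (fun t => t.hom.fst) h)⟩
  haveI : (inertiaFun f).toFunctor.Full := ⟨fun {o o'} M => by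
    let m : o.pt ⟶ o'.pt := M.hom.fst
    let n : o.pt ⟶ o'.pt := M.hom.snd
    have e₁ : m ≫ 𝟙 o'.pt = 𝟙 o.pt ≫ n := congrArg (fun t => t.hom.fst) M.hom.w
    have e₂ : m ≫ o'.aut.hom = o.aut.hom ≫ n := congrArg (fun t => t.hom.snd) M.hom.w
    rw [Category.comp_id, Category.id_comp] at e₁
    exact ⟨⟨m, by rw [e₂, ← e₁]⟩, ObjectProperty.hom_ext _ (CategoricalPullback.hom_ext rfl e₁)⟩⟩
  refine isEquivOver_of_fullyFaithful _ fun η => ?_
  let x := η.obj.fst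
  let x' := η.obj.snd
  let k₁ : x ≅ x' := (FibCat.fpFst f f).toFunctor.mapIso η.obj.iso
  let k₂ : x ≅ x' := (FibCat.fpSnd f f).toFunctor.mapIso η.obj.iso
  have w : f.map k₁.hom ≫ 𝟙 _ = 𝟙 _ ≫ f.map k₂.hom := η.obj.iso.hom.hom.w
  rw [Category.comp_id, Category.id_comp] at w
  refine ⟨⟨x, k₂ ≪≫ k₁.symm, ?_⟩, ObjectProperty.isoMk _ (CategoricalPullback.mkIso (Iso.refl x) k₁ ?_),
    rfl, ?_⟩
  · show f.map (k₂.hom ≫ k₁.inv) = 𝟙 (f.obj x)
    rw [Functor.map_comp, ← w, ← Functor.map_comp, Iso.hom_inv_id, CategoryTheory.Functor.map_id]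
  · refine ObjectProperty.hom_ext _ (CategoricalPullback.hom_ext ?_ ?_)
    · show 𝟙 x ≫ k₁.hom = 𝟙 x ≫ k₁.hom
      rfl
    · show 𝟙 x ≫ k₂.hom = (k₂.hom ≫ k₁.inv) ≫ k₁.hom
      simp
  · exact 𝒳.p.map_id x

theorem repWith_inertia_of_diag {Q : MorphismProperty (Sp S)} {f : 𝒳 ⥤ᵇ 𝒴}
    (h : RepByAlgSpWith Q (FibCat.diag f)) : RepByAlgSpWith Q (FibCat.inertiaToBase f) :=
  (repWith_iff_of_equiv Q (FibCat.fpFst (FibCat.diag f) (FibCat.diag f)) (FibCat.inertiaToBase f)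
    (inertiaFun f) (BasedFunctor.id _) (isEquivOver_inertiaFun f) isEquivOver_id (Iso.refl _)).1
    (repWith_fpFst Q (FibCat.diag f) (FibCat.diag f) h)

theorem repWith_neutral_iff {Q : MorphismProperty (Sp S)} {f : 𝒳 ⥤ᵇ 𝒴} :
    RepByAlgSpWith Q (FibCat.inertiaNeutral f) ↔ RepByAlgSpWith Q (FibCat.diag (FibCat.diag f)) :=
  (repWith_iff_of_equiv Q (FibCat.diag (FibCat.diag f)) (FibCat.inertiaNeutral f) (BasedFunctor.id _)
    (inertiaFun f) isEquivOver_id (isEquivOver_inertiaFun f)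
    (fpExt (Iso.refl _) (Iso.refl _) fun x => rfl)).symm

theorem repWith_neutral_of_diag {Q : MorphismProperty (Sp S)} {f : 𝒳 ⥤ᵇ 𝒴}
    (h : RepByAlgSpWith Q (FibCat.diag (FibCat.inertiaToBase f))) :
    RepByAlgSpWith Q (FibCat.inertiaNeutral f) :=
  repWith_section (FibCat.inertiaToBase f) (FibCat.inertiaNeutral f) (Iso.refl _) h

theorem isOpenImm_diag_of_unramified {f : 𝒳 ⥤ᵇ 𝒴}
    (h : RepByAlgSpWith (LocP (@LocallyOfFiniteType ⊓ @FormallyUnramified)) f) :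
    IsOpenImm (FibCat.diag f) := by
  haveI := respectsIso_onSp (cls_unramified (S := S)).bc
  exact repWith_diag_of_repWith (repWith_onSp_iff.2 h) fun _ U π hX hπ =>
    repBySpWith_diagonal (fun _ _ _ _ _ h => h) hX (IsAlgSpace.yon_obj U) π
      (UnivInjMor.repWith_diagonal_of_unramified hX (IsAlgSpace.yon_obj U) π (hπ hX (IsAlgSpace.yon_obj U)))

theorem unramified_of_isOpenImm_diag {f : 𝒳 ⥤ᵇ 𝒴} (hl : RepByAlgSpWith (LocP @LocallyOfFiniteType) f)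
    (h : IsOpenImm (FibCat.diag f)) :
    RepByAlgSpWith (LocP (@LocallyOfFiniteType ⊓ @FormallyUnramified)) f := by
  haveI := respectsIso_onSp (cls_lft (S := S)).bc
  haveI := respectsIso_onSp (cls_unramified (S := S)).bc
  refine repWith_onSp_iff.1 ((repWith_iff _ f).2 fun U y => ?_)
  obtain ⟨P, e, he, h₁, h₂, h₃⟩ := (repWith_iff _ f).1 (repWith_onSp_iff.2 hl) U y
  let π : (⟨P, h₁⟩ : Sp S) ⟶ (yon S).obj U := ObjectProperty.homMk (prjMap e)
  refine ⟨P, e, he, h₁, h₂, fun _ _ => UnivInjMor.unramified_of_diagonal (X := ⟨P, h₁⟩) h₂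
    (IsAlgSpace.yon_obj U) π (h₃ h₂ (IsAlgSpace.yon_obj U)) (repWith_of_repBySpWith _ ?_)⟩
  exact (repWith_diag_model_iff (F := ⟨P, h₁⟩) he).1 (repWith_diag_fpFst f y h)

end Groth.Agent.AlgStLib

end
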