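import Groth.Agent.AlgStLib.Points

/-!
# Surjectivity of diagonals and universal injectivity
-/

set_option autoImplicit false
set_option backward.isDefEq.respectTransparency false
set_option backward.isDefEq.respectTransparency.types false
set_option linter.style.haveILetI false
universe u

noncomputable section

namespace Groth.Agent.AlgStLib

open CategoryTheory CategoryTheory.Limits AlgebraicGeometry Opposite Groth.Agent.FibCatRep
  Groth.Agent.FibCat2Misc Groth.Agent.AlgSpLib Groth.Agent.StkBasic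
open _root_.AlgSp _root_.AlgSt

variable {S : Scheme.{u}} {𝒳 𝒴 𝒵 : AlgSt.Cat S}

/-- the 2-arrow at an object -/
abbrev appIso {T : Over S} {a b : FibCat.overCat T ⥤ᵇ 𝒳} (μ : a ≅ b) (o : (FibCat.overCat T).obj) :
    a.obj o ≅ b.obj o :=
  ((BasedNatTrans.forgetful _ _).mapIso μ).app o

/-- two lifts which agree in the target agree after an extension if the diagonal is surjective -/
theorem exists_iso_of_diag_surjective (h𝒳 : FibCat.IsFibGrpd 𝒳.p) (h𝒴 : FibCat.IsFibGrpd 𝒴.p) {f : 𝒳 ⥤ᵇ 𝒴}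
    (hf : AlgSt.IsSurjective (FibCat.diag f)) {T : Over S} (a b : FibCat.overCat T ⥤ᵇ 𝒳)
    (i : BasedFunctor.comp a f ≅ BasedFunctor.comp b f) (τ : ↥T.left) :
    ∃ (L : Over S) (γ : L ⟶ T) (l : ↥L.left) (μ : BasedFunctor.comp (AlgSt.overMap γ) a ≅
      BasedFunctor.comp (AlgSt.overMap γ) b), γ.left l = τ ∧
        ∀ o, f.map (appIso μ o).hom = (appIso i ((AlgSt.overMap γ).obj o)).hom := by
  obtain ⟨x, hx⟩ := hf (AlgSt.Points.ofChart (FibCat.fpLift a b i) τ)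
  obtain ⟨V, v, s, rfl⟩ := exists_ofChart h𝒳 x
  rw [map_ofChart] at hx
  obtain ⟨L, γ, δ, l, ⟨ρ⟩, hl, -⟩ := exists_common_point (isFibGrpd_fp h𝒳 h𝒳 h𝒴 f f) hx.symm
  let ρ₁ := (post _ (FibCat.fpFst f f)).mapIso ρ
  let ρ₂ := (post _ (FibCat.fpSnd f f)).mapIso ρ
  refine ⟨L, γ, l, ρ₁ ≪≫ ρ₂.symm, hl, fun o => ?_⟩
  let r := appIso ρ o
  let o' := (AlgSt.overMap γ).obj o
  have w : f.map r.hom.hom.fst ≫ 𝟙 _ = (appIso i o').hom ≫ f.map r.hom.hom.snd := r.hom.hom.w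
  rw [Category.comp_id] at w
  show f.map (r.hom.hom.fst ≫ r.inv.hom.snd) = (appIso i o').hom
  rw [Functor.map_comp, w, Category.assoc, ← Functor.map_comp]
  have e : r.hom.hom.snd ≫ r.inv.hom.snd = 𝟙 _ := congrArg (fun m => m.hom.snd) r.hom_inv_id
  exact (congrArg (fun m => (appIso i o').hom ≫ f.map m) e).trans
    ((congrArg ((appIso i o').hom ≫ ·) (f.toFunctor.map_id _)).trans (Category.comp_id _))

/-- lifts which agree after an extension give points in the image of the diagonal -/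
theorem mem_range_diag {f : 𝒳 ⥤ᵇ 𝒴} {T : Over S} {a b : FibCat.overCat T ⥤ᵇ 𝒳}
    {i : BasedFunctor.comp a f ≅ BasedFunctor.comp b f} {L : Over S} {γ : L ⟶ T} {l : ↥L.left}
    (μ : BasedFunctor.comp (AlgSt.overMap γ) a ≅ BasedFunctor.comp (AlgSt.overMap γ) b)
    (hμ : ∀ o, f.map (appIso μ o).hom = (appIso i ((AlgSt.overMap γ).obj o)).hom) :
    AlgSt.Points.ofChart (FibCat.fpLift a b i) (γ.left l) ∈ Set.range (AlgSt.Points.map (FibCat.diag f)) := by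
  refine ⟨AlgSt.Points.ofChart (BasedFunctor.comp (AlgSt.overMap γ) a) l, ?_⟩
  rw [map_ofChart, ← ofChart_overMap]
  refine ofChart_congr (fpExt (a := BasedFunctor.comp (BasedFunctor.comp (AlgSt.overMap γ) a) (FibCat.diag f))
    (b := BasedFunctor.comp (AlgSt.overMap γ) (FibCat.fpLift a b i)) (Iso.refl _) μ fun o => ?_) l
  show f.map (𝟙 _) ≫ (appIso i ((AlgSt.overMap γ).obj o)).hom = 𝟙 _ ≫ f.map (appIso μ o).hom
  rw [f.toFunctor.map_id, hμ]
  exact (Category.id_comp _).trans (Category.id_comp _).symm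

theorem isSurjective_diag_of_univInjective (h𝒳 : IsAlgStack Scheme.fppfPrecoverage 𝒳) {f : 𝒳 ⥤ᵇ 𝒴}
    (hf : AlgSt.IsUnivInjective Scheme.fppfPrecoverage f) : AlgSt.IsSurjective (FibCat.diag f) := fun p => by
  refine ⟨AlgSt.Points.map (FibCat.fpFst f f) p, hf 𝒳 h𝒳 f ?_⟩
  rw [← map_comp_points]
  exact map_id_points _

theorem isUnivInjective_of_diag_surjective (h𝒳 : FibCat.IsFibGrpd 𝒳.p) (h𝒴 : FibCat.IsFibGrpd 𝒴.p) {f : 𝒳 ⥤ᵇ 𝒴}
    (hf : AlgSt.IsSurjective (FibCat.diag f)) : AlgSt.IsUnivInjective Scheme.fppfPrecoverage f := by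
  intro 𝒵 h𝒵 g p q e
  have hfp := isFibGrpd_fp h𝒵.isStack.1 h𝒳 h𝒴 g f
  obtain ⟨U, x, t, rfl⟩ := exists_ofChart hfp p
  obtain ⟨V, y, s, rfl⟩ := exists_ofChart hfp q
  rw [map_ofChart, map_ofChart] at e
  obtain ⟨K, α, β, k, ⟨i⟩, rfl, rfl⟩ := exists_common_point h𝒵.isStack.1 e
  let A := BasedFunctor.comp (AlgSt.overMap α) x
  let B := BasedFunctor.comp (AlgSt.overMap β) y
  let iX : BasedFunctor.comp (BasedFunctor.comp A (FibCat.fpSnd g f)) f ≅
      BasedFunctor.comp (BasedFunctor.comp B (FibCat.fpSnd g f)) f :=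
    ((Stk.restr A _).mapIso (FibCat.fpIso g f)).symm ≪≫ (post _ g).mapIso i ≪≫
      (Stk.restr B _).mapIso (FibCat.fpIso g f)
  obtain ⟨L, γ, l, μ, hl, hμ⟩ := exists_iso_of_diag_surjective h𝒳 h𝒴 hf _ _ iX k
  rw [← ofChart_overMap, ← ofChart_overMap, ← hl, ← ofChart_overMap A, ← ofChart_overMap B]
  let j : BasedFunctor.comp (AlgSt.overMap γ) A ≅ BasedFunctor.comp (AlgSt.overMap γ) B :=
    fpExt ((Stk.restr (AlgSt.overMap γ) _).mapIso i) μ fun o => by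
      let z := (AlgSt.overMap γ).obj o
      have w : f.map (appIso μ o).hom = (A.obj z).obj.iso.inv ≫ g.map (appIso i z).hom ≫ (B.obj z).obj.iso.hom :=
        hμ o
      show g.map (appIso i z).hom ≫ (B.obj z).obj.iso.hom = (A.obj z).obj.iso.hom ≫ f.map (appIso μ o).hom
      rw [w]
      exact (Iso.hom_inv_id_assoc (A.obj z).obj.iso _).symm
  exact ofChart_congr j l

/-- descent of surjectivity of diagonals, pointwise -/
theorem mem_range_diag_of_lift (h𝒳 : FibCat.IsFibGrpd 𝒳.p) (h𝒴 : FibCat.IsFibGrpd 𝒴.p)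
    (h𝒵 : FibCat.IsFibGrpd 𝒵.p) {f : 𝒳 ⥤ᵇ 𝒴} {w : 𝒵 ⥤ᵇ 𝒴}
    (hw : AlgSt.IsSurjective (FibCat.diag (FibCat.fpFst w f))) {T : Over S} (a b : FibCat.overCat T ⥤ᵇ 𝒳)
    (i : BasedFunctor.comp a f ≅ BasedFunctor.comp b f) (v : FibCat.overCat T ⥤ᵇ 𝒵)
    (j : BasedFunctor.comp v w ≅ BasedFunctor.comp a f) (τ : ↥T.left) :
    AlgSt.Points.ofChart (FibCat.fpLift a b i) τ ∈ Set.range (AlgSt.Points.map (FibCat.diag f)) := by
  let A := FibCat.fpLift v a j
  let B := FibCat.fpLift v b (j ≪≫ i)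
  obtain ⟨L, γ, l, μ, hl, hμ⟩ :=
    exists_iso_of_diag_surjective (isFibGrpd_fp h𝒵 h𝒳 h𝒴 w f) h𝒵 hw A B (Iso.refl v) τ
  subst hl
  refine mem_range_diag (l := l) ((post _ (FibCat.fpSnd w f)).mapIso μ) fun o => ?_
  let r := appIso μ o
  let z := (AlgSt.overMap γ).obj o
  have w' : w.map r.hom.hom.fst ≫ ((appIso j z).hom ≫ (appIso i z).hom) =
      (appIso j z).hom ≫ f.map r.hom.hom.snd := r.hom.hom.w
  have e : r.hom.hom.fst = 𝟙 _ := hμ o
  rw [e, w.toFunctor.map_id] at w'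
  exact ((cancel_epi (appIso j z).hom).1 ((Category.id_comp _).symm.trans w')).symm

theorem isSurjective_diag_of_fpFst (h𝒳 : FibCat.IsFibGrpd 𝒳.p) (h𝒴 : FibCat.IsFibGrpd 𝒴.p)
    (h𝒵 : FibCat.IsFibGrpd 𝒵.p) {f : 𝒳 ⥤ᵇ 𝒴} {w : 𝒵 ⥤ᵇ 𝒴} (hws : AlgSt.IsSurjective w)
    (hw : AlgSt.IsSurjective (FibCat.diag (FibCat.fpFst w f))) : AlgSt.IsSurjective (FibCat.diag f) := fun p => by
  obtain ⟨T, P, τ, rfl⟩ := exists_ofChart (isFibGrpd_fp h𝒳 h𝒳 h𝒴 f f) p
  obtain ⟨z, hz⟩ := hws (AlgSt.Points.ofChart (BasedFunctor.comp P (BasedFunctor.comp (FibCat.fpFst f f) f)) τ)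
  obtain ⟨V, v, s, rfl⟩ := exists_ofChart h𝒵 z
  rw [map_ofChart] at hz
  obtain ⟨K, α, β, k, ⟨j⟩, -, hk⟩ := exists_common_point h𝒴 hz
  let P' := BasedFunctor.comp (AlgSt.overMap β) P
  have h := mem_range_diag_of_lift h𝒳 h𝒴 h𝒵 hw (BasedFunctor.comp P' (FibCat.fpFst f f))
    (BasedFunctor.comp P' (FibCat.fpSnd f f)) ((Stk.restr P' _).mapIso (FibCat.fpIso f f))
    (BasedFunctor.comp (AlgSt.overMap α) v) j k
  rw [← hk, ← ofChart_overMap]
  refine (ofChart_congr (fpExt (a := P') (b := FibCat.fpLift (BasedFunctor.comp P' (FibCat.fpFst f f)) (BasedFunctor.comp P' (FibCat.fpSnd f f))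
      ((Stk.restr P' _).mapIso (FibCat.fpIso f f)))
    (Iso.refl _) (Iso.refl _) fun o => ?_) k).symm ▸ h
  show f.map (𝟙 _) ≫ (P'.obj o).obj.iso.hom = (P'.obj o).obj.iso.hom ≫ f.map (𝟙 _)
  rw [f.toFunctor.map_id, f.toFunctor.map_id]
  exact (Category.id_comp _).trans (Category.comp_id _).symm

theorem isSurjective_diag_of_affine (h𝒳 : IsAlgStack Scheme.fppfPrecoverage 𝒳)
    (h𝒴 : IsAlgStack Scheme.fppfPrecoverage 𝒴) {f : 𝒳 ⥤ᵇ 𝒴}
    (h : ∀ (Z : Over S) [IsAffine Z.left] (z : FibCat.overCat Z ⥤ᵇ 𝒴),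
      AlgSt.IsUnivInjective Scheme.fppfPrecoverage (FibCat.fpFst z f)) :
    AlgSt.IsSurjective (FibCat.diag f) := fun p => by
  obtain ⟨T, P, τ, rfl⟩ := exists_ofChart (isFibGrpd_fp h𝒳.isStack.1 h𝒳.isStack.1 h𝒴.isStack.1 f f) p
  let K : Over S := Over.mk (T.left.fromSpecResidueField τ ≫ T.hom)
  let γ : K ⟶ T := Over.homMk (T.left.fromSpecResidueField τ) rfl
  let k : ↥K.left := IsLocalRing.closedPoint (T.left.residueField τ)
  haveI : IsAffine K.left := inferInstanceAs (IsAffine (Spec _))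
  have hk : γ.left k = τ := Scheme.fromSpecResidueField_apply τ _
  let P' := BasedFunctor.comp (AlgSt.overMap γ) P
  let y := BasedFunctor.comp P' (BasedFunctor.comp (FibCat.fpFst f f) f)
  have hK : IsAlgStack Scheme.fppfPrecoverage (FibCat.overCat K) :=
    isAlgStack_of_equiv (isEquivOver_toOverCat K) (isDM_of_space (isAlgSpaceP_yon K)).1
  have h' := mem_range_diag_of_lift h𝒳.isStack.1 h𝒴.isStack.1 hK.isStack.1
    (isSurjective_diag_of_univInjective (isAlgStack_fp h𝒴.isStack h𝒴.diag hK h𝒳 y f) (h K y))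
    (BasedFunctor.comp P' (FibCat.fpFst f f)) (BasedFunctor.comp P' (FibCat.fpSnd f f))
    ((Stk.restr P' _).mapIso (FibCat.fpIso f f)) (BasedFunctor.id _) (Iso.refl _) k
  rw [← hk, ← ofChart_overMap]
  refine (ofChart_congr (fpExt (a := P') (b := FibCat.fpLift (BasedFunctor.comp P' (FibCat.fpFst f f)) (BasedFunctor.comp P' (FibCat.fpSnd f f))
      ((Stk.restr P' _).mapIso (FibCat.fpIso f f)))
    (Iso.refl _) (Iso.refl _) fun o => ?_) k).symm ▸ h'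
  show f.map (𝟙 _) ≫ (P'.obj o).obj.iso.hom = (P'.obj o).obj.iso.hom ≫ f.map (𝟙 _)
  rw [f.toFunctor.map_id, f.toFunctor.map_id]
  exact (Category.id_comp _).trans (Category.comp_id _).symm

end Groth.Agent.AlgStLib

end
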