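import Groth.Agent.AlgStLib.Descent

/-!
# Etale stacks covered by algebraic spaces have representable diagonal
-/

set_option autoImplicit false
set_option backward.isDefEq.respectTransparency false
set_option backward.isDefEq.respectTransparency.types false
set_option linter.style.haveILetI false
universe u

noncomputable section

namespace Groth.Agent.AlgStLib

open CategoryTheory CategoryTheory.Limits AlgebraicGeometry Opposite Groth.Agent.FibCatRep
  Groth.Agent.FibCat2Misc Groth.Agent.AlgSpLib Groth.Agent.StkBasic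
open _root_.AlgSp _root_.AlgSt

variable {S : Scheme.{u}} {𝒳 𝒵 : AlgSt.Cat S}

theorem isStack_jet (F : Sp S) : Stk.IsStack (Bootstrap.Jet S) (Stk.ofPsh F.obj) :=
  (isStack_ofPsh_iff _).2 ((isSheaf_iff_isSheaf_of_type _ _).1 (Bootstrap.isSheaf_jet F))

theorem isSheafJet_of_model {P : PSp S} {e : Stk.ofPsh P ⥤ᵇ 𝒵} (he : FibCat.IsEquivOver e)
    (h : Stk.IsStack (Bootstrap.Jet S) 𝒵) : Presheaf.IsSheaf (Bootstrap.Jet S) P := by
  obtain ⟨k, hk, -, -⟩ := isEquivOver_symm he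
  exact (isSheaf_iff_isSheaf_of_type _ _).2 ((isStack_ofPsh_iff _).1 (isStack_of_equiv hk _ h))

/-- a stack in setoids with a smooth surjective atlas is an algebraic space -/
theorem repByAlgSp_of_setoid_etale (hs : Stk.IsStack (Bootstrap.Jet S) 𝒵) (hset : FibCat.IsFibSetoid 𝒵.p)
    {𝒰 : AlgSt.Cat S} (hU : RepByAlgSp 𝒰) {x : 𝒰 ⥤ᵇ 𝒵} (h₁ : RepByAlgSpWith (LocP @Smooth) x)
    (h₂ : RepByAlgSpWith AlgSp.IsSurjectiveMor x) : RepByAlgSp 𝒵 := by
  obtain ⟨P, e, he⟩ := exists_psh hset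
  obtain ⟨F, eF, heF⟩ := hU
  obtain ⟨k, hk, -, ⟨j⟩⟩ := isEquivOver_symm he
  let Φ := BasedFunctor.comp (BasedFunctor.comp eF x) k
  let i : BasedFunctor.comp (Stk.ofPshMap (mapOf Φ)) e ≅ BasedFunctor.comp eF x :=
    (post _ e).mapIso (mapOfIso Φ) ≪≫ (Stk.restr (BasedFunctor.comp eF x) _).mapIso j
  haveI := respectsIso_onSp (bcStable_smooth (S := S))
  haveI := respectsIso_onSp (bcStable_surjective (S := S))
  have tr : ∀ (Q : MorphismProperty (Sp S)) [Q.RespectsIso], RepByAlgSpWith Q x →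
      RepBySpWith Q (mapOf Φ) := fun Q _ h => (repWith_ofPshMap_iff Q _).1
    ((repWith_iff_of_equiv Q x (Stk.ofPshMap (mapOf Φ)) eF e heF he i).1 h)
  have t₁ := tr _ (repWith_onSp_iff.2 h₁)
  have t₂ := tr _ (repWith_onSp_iff.2 h₂)
  have hP : IsAlgSpaceP P := Bootstrap.isAlgSpaceP_of_smooth_cover
    (isSheafJet_of_model he hs) F.property (mapOf Φ) fun U ξ P' fst snd sq => by
      obtain ⟨a, b, c⟩ := t₁ ξ fst snd sq
      obtain ⟨a', b', c'⟩ := t₂ ξ fst snd sq
      exact ⟨a, b, c' b (IsAlgSpace.yon_obj _), c b (IsAlgSpace.yon_obj _)⟩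
  exact repByAlgSp_of_model he hP

/-- a stack covered by a space has representable diagonal -/
theorem repByAlgSp1_diag_of_cover_etale (h𝒳 : Stk.IsStack (Bootstrap.Jet S) 𝒳) {𝒰 : AlgSt.Cat S} (hU : RepByAlgSp 𝒰)
    {u : 𝒰 ⥤ᵇ 𝒳} (h₁ : RepByAlgSpWith (LocP @Smooth) u) (h₂ : RepByAlgSpWith AlgSp.IsSurjectiveMor u) :
    RepByAlgSp1 (FibCat.diag (FibCat.toSelf 𝒳)) := by
  have h𝒰 : FibCat.IsFibGrpd 𝒰.p := (isStack_of_repByAlgSp hU).1
  refine repByAlgSp1_diag_of_points h𝒳.1 fun T y => ?_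
  rw [← repByAlgSpWith_top_iff, repWith_iff]
  intro U x
  have hux : RepByAlgSp (FibCat.fp x u) := repByAlgSp_fp_yon (repByAlgSp1_of_with h₁) U x
  have huy : RepByAlgSp (FibCat.fp u y) :=
    repByAlgSp_fp_swap h𝒳.1 h𝒰 (repByAlgSp1_of_with h₁) y (repByAlgSp_of_model isEquivOver_id (isAlgSpaceP_yon T))
  let p := FibCat.fpFst x u
  let q := FibCat.fpSnd x u
  have hsrc : RepByAlgSp (FibCat.fp (BasedFunctor.comp p x) y) :=
    (repByAlgSp_iff_of_equiv (isEquivOver_comp (isEquivOver_pasteFun q u y)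
      (isEquivOver_fp_change y (FibCat.fpIso x u).symm))).1
      (repByAlgSp_fp (isFibGrpd_fp h𝒰 (isFibGrpd_ofSpace _) h𝒳.1 u y) h𝒰
        (repByAlgSp1_of_repByAlgSp huy hU (FibCat.fpFst u y)) q hux)
  have hset : FibCat.IsFibSetoid (FibCat.fp x y).p :=
    Groth.Agent.FibCat2Misc.isFibSetoid_fp isFibSetoid_ofPsh isFibSetoid_ofPsh h𝒳.1 x y
  have tr : ∀ Q : MorphismProperty (Sp S), RepByAlgSpWith Q u →
      RepByAlgSpWith Q (prodFst x y p) := fun Q hQ =>
    (repWith_iff_of_equiv Q (prodFst x y p) (FibCat.fpFst (FibCat.fpSnd y x) p)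
      (BasedFunctor.comp (assocFun y x p) (swapFun y (BasedFunctor.comp p x))) (swapFun y x)
      (isEquivOver_comp (isEquivOver_assocFun _ x p) (isEquivOver_swapFun _ _)) (isEquivOver_swapFun _ _)
      (fpExt (FibCat.fpIso (FibCat.fpSnd y x) p) (Iso.refl _) fun w => by
        let i : y.obj w.obj.fst.obj.fst ≅ x.obj w.obj.fst.obj.snd := w.obj.fst.obj.iso
        let k : w.obj.fst.obj.snd ≅ p.obj w.obj.snd := w.obj.iso
        show x.map k.hom ≫ (i ≪≫ x.toFunctor.mapIso k).inv = i.inv ≫ y.map (𝟙 _)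
        simp only [CategoryTheory.Functor.map_id]
        simp only [Iso.trans_inv, Functor.mapIso_inv]
        rw [← Category.assoc, ← Functor.map_comp, Iso.hom_inv_id, CategoryTheory.Functor.map_id]
        exact (Category.id_comp _).trans (Category.comp_id _).symm)).2
      (repWith_fpFst Q p (FibCat.fpSnd y x) (repWith_fpFst Q u x hQ))
  obtain ⟨F, e, he⟩ := repByAlgSp_of_setoid_etale
    (isStack_fp (isStack_jet ((yon S).obj U)) (isStack_jet ((yon S).obj T))
      (isPrestack_of_isStack h𝒳) x y) hset hsrc (tr _ h₁) (tr _ h₂)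
  exact ⟨_, e, he, (good_top_iff _).2 ((isAlgSpaceP_obj_iff _).2 F.property)⟩

end Groth.Agent.AlgStLib

end
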