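import Groth.Agent.AlgStLib.Stacks

/-!
# Representability through diagonals, inertia and automorphisms
-/

set_option autoImplicit false
set_option backward.isDefEq.respectTransparency false
set_option backward.isDefEq.respectTransparency.types false
set_option linter.style.haveILetI false
universe v₄ u₄ v₃ u₃ v₂ u₂ v u

noncomputable section

namespace Groth.Agent.AlgStLib

open CategoryTheory CategoryTheory.Limits FibCat Groth.Agent.FibCatRep Groth.Agent.FibCat2Misc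

variable {C : Type u} [Category.{v} C] {𝒳 : BasedCategory.{v₂, u₂} C} {𝒴 : BasedCategory.{v₃, u₃} C}
  {f : 𝒳 ⥤ᵇ 𝒴}

theorem trivial_of_faithful [f.toFunctor.Faithful] {a : 𝒳.obj} (φ : a ⟶ a) (h : f.map φ = 𝟙 (f.obj a)) :
    φ = 𝟙 a :=
  f.toFunctor.map_injective (h.trans (f.toFunctor.map_id a).symm)

theorem faithful_of_trivial (h𝒳 : IsFibGrpd 𝒳.p) (h𝒴 : IsFibGrpd 𝒴.p)
    (h : ∀ (a : 𝒳.obj) (φ : a ⟶ a), 𝒳.p.map φ = 𝟙 (𝒳.p.obj a) → f.map φ = 𝟙 (f.obj a) → φ = 𝟙 a) :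
    f.toFunctor.Faithful := by
  refine ⟨fun {x' x} φ φ' e => ?_⟩
  have hp : 𝒳.p.map φ = 𝒳.p.map φ' := by
    have := (map_map f φ).symm.trans ((congrArg 𝒴.p.map e).trans (map_map f φ'))
    rwa [cancel_epi, cancel_mono] at this
  obtain ⟨χ, ⟨hχ, hc⟩, -⟩ := existsUnique_cart h𝒳 φ φ' (𝟙 _) ((Category.id_comp _).trans hp)
  have hf : f.map χ = 𝟙 (f.obj x') := by
    refine cancel h𝒴 (f.map φ) ?_ ?_
    · rw [map_map, hχ, CategoryTheory.Functor.map_id]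
      simp
    · rw [← Functor.map_comp, hc, Category.id_comp]
      exact e.symm
  rw [← hc, h x' χ hχ hf, Category.id_comp]

theorem faithful_of_full_diag [(diag f).toFunctor.Full] : f.toFunctor.Faithful := by
  refine ⟨fun {x' x} φ φ' e => ?_⟩
  obtain ⟨ψ, hψ⟩ := (diag f).toFunctor.map_surjective (X := x') (Y := x)
    (ObjectProperty.homMk ⟨φ, φ', show f.map φ ≫ 𝟙 _ = 𝟙 _ ≫ f.map φ' by rw [Category.comp_id, Category.id_comp, e]⟩)
  exact (congrArg (fun t => t.hom.fst) hψ).symm.trans (congrArg (fun t => t.hom.snd) hψ)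

theorem isEquivOver_diag_diag [f.toFunctor.Faithful] : IsEquivOver (diag (diag f)) := by
  haveI : (diag (diag f)).toFunctor.Faithful := ⟨fun {a b} m m' h => congrArg (fun t => t.hom.fst) h⟩
  haveI : (diag (diag f)).toFunctor.Full := ⟨fun {a b} M => by
    let m₁ : a ⟶ b := M.hom.fst
    let m₂ : a ⟶ b := M.hom.snd
    have w : (diag f).map m₁ ≫ 𝟙 _ = 𝟙 _ ≫ (diag f).map m₂ := M.hom.w
    rw [Category.comp_id, Category.id_comp] at w
    have e : m₁ = m₂ := congrArg (fun t => t.hom.fst) w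
    exact ⟨m₁, ObjectProperty.hom_ext _ (CategoricalPullback.hom_ext rfl e)⟩⟩
  refine isEquivOver_of_fullyFaithful _ fun η => ?_
  obtain ⟨q, hq⟩ := map_iso_hom η
  let x := η.obj.fst
  let x' := η.obj.snd
  let k₁ : x ≅ x' := (fpFst f f).toFunctor.mapIso η.obj.iso
  let k₂ : x ≅ x' := (fpSnd f f).toFunctor.mapIso η.obj.iso
  have w : f.map k₁.hom ≫ 𝟙 _ = 𝟙 _ ≫ f.map k₂.hom := η.obj.iso.hom.hom.w
  rw [Category.comp_id, Category.id_comp] at w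
  have e : k₁.hom = k₂.hom := f.toFunctor.map_injective w
  refine ⟨x, ObjectProperty.isoMk _ (CategoricalPullback.mkIso (Iso.refl x) k₁ ?_), rfl, 𝒳.p.map_id _⟩
  refine ObjectProperty.hom_ext _ (CategoricalPullback.hom_ext ?_ ?_)
  · show 𝟙 x ≫ k₁.hom = 𝟙 x ≫ k₁.hom
    rfl
  · show 𝟙 x ≫ k₂.hom = 𝟙 x ≫ k₁.hom
    rw [e]

theorem trivial_of_isEquivOver_diag_diag (h𝒳 : IsFibGrpd 𝒳.p) (h : IsEquivOver (diag (diag f)))
    (a : 𝒳.obj) (φ : a ⟶ a) (hp : 𝒳.p.map φ = 𝟙 (𝒳.p.obj a)) (hf : f.map φ = 𝟙 (f.obj a)) : φ = 𝟙 a := by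
  haveI : IsIso (𝒳.p.map φ) := by rw [hp]; infer_instance
  haveI := isIso_of_map h𝒳 φ
  let j : (diag f).obj a ≅ (diag f).obj a := ObjectProperty.isoMk _ (CategoricalPullback.mkIso (Iso.refl a) (asIso φ)
    (show f.map (𝟙 a) ≫ 𝟙 _ = 𝟙 _ ≫ f.map φ by rw [Category.comp_id, Category.id_comp, hf, f.toFunctor.map_id]))
  let o : (fp (diag f) (diag f)).obj := ⟨⟨a, a, j⟩, fpProp_of_map (diag f) (diag f) _ rfl (𝒳.p.map_id _)⟩
  obtain ⟨z, i, -, -⟩ := (isEquivOver_data h).2 o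
  let k₁ : z ⟶ a := i.hom.hom.fst
  let k₂ : z ⟶ a := i.hom.hom.snd
  have e₁ : k₁ ≫ 𝟙 a = 𝟙 z ≫ k₂ := congrArg (fun t => t.hom.fst) i.hom.hom.w
  have e₂ : k₁ ≫ φ = 𝟙 z ≫ k₂ := congrArg (fun t => t.hom.snd) i.hom.hom.w
  haveI : IsIso k₁ := ⟨⟨i.inv.hom.fst, congrArg (fun t => t.hom.fst) i.hom_inv_id,
    congrArg (fun t => t.hom.fst) i.inv_hom_id⟩⟩
  exact (cancel_epi k₁).1 (e₂.trans e₁.symm)

theorem isEquivOver_inertiaToBase [f.toFunctor.Faithful] : IsEquivOver (inertiaToBase f) := by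
  have tr : ∀ o : InertiaObj f, o.aut.hom = 𝟙 o.pt := fun o => trivial_of_faithful o.aut.hom o.map_aut
  haveI : (inertiaToBase f).toFunctor.Faithful := ⟨fun {a b} m m' h => InertiaObj.hom_ext h⟩
  haveI : (inertiaToBase f).toFunctor.Full := ⟨fun {a b} (m : a.pt ⟶ b.pt) => ⟨⟨m, by rw [tr a, tr b]; simp⟩, rfl⟩⟩
  exact isEquivOver_of_fullyFaithful _ fun η =>
    ⟨⟨η, Iso.refl η, f.toFunctor.map_id η⟩, Iso.refl _, rfl, 𝒳.p.map_id η⟩

theorem trivial_of_isEquivOver_inertiaToBase (h𝒳 : IsFibGrpd 𝒳.p) (h : IsEquivOver (inertiaToBase f))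
    (a : 𝒳.obj) (φ : a ⟶ a) (hp : 𝒳.p.map φ = 𝟙 (𝒳.p.obj a)) (hf : f.map φ = 𝟙 (f.obj a)) : φ = 𝟙 a := by
  haveI : IsIso (𝒳.p.map φ) := by rw [hp]; infer_instance
  haveI := isIso_of_map h𝒳 φ
  haveI := (isEquivOver_data h).1
  obtain ⟨M, hM⟩ := (inertiaToBase f).toFunctor.map_surjective
    (X := (⟨a, asIso φ, hf⟩ : InertiaObj f)) (Y := ⟨a, Iso.refl a, f.toFunctor.map_id a⟩) (𝟙 a)
  have c : φ ≫ M.hom = M.hom ≫ 𝟙 a := M.comm
  rw [show M.hom = 𝟙 a from hM, Category.comp_id, Category.id_comp] at c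
  exact c

/-- diagonals along fully faithful functors -/
theorem isEquivOver_diag_of_fullyFaithful {𝒳' : BasedCategory.{v₄, u₄} C} (i : 𝒳 ⥤ᵇ 𝒳') (g : 𝒳' ⥤ᵇ 𝒴)
    [i.toFunctor.Full] [i.toFunctor.Faithful]
    (E : BasedFunctor.comp (diag (BasedFunctor.comp i g))
        (fpLift (BasedFunctor.comp (fpFst (BasedFunctor.comp i g) (BasedFunctor.comp i g)) i)
          (BasedFunctor.comp (fpSnd (BasedFunctor.comp i g) (BasedFunctor.comp i g)) i)
          (fpIso (BasedFunctor.comp i g) (BasedFunctor.comp i g))) ≅ BasedFunctor.comp i (diag g)) :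
    IsEquivOver (fpLift (diag (BasedFunctor.comp i g)) i E) := by
  let L := fpLift (diag (BasedFunctor.comp i g)) i E
  haveI : L.toFunctor.Faithful := ⟨fun {a b} m m' h => congrArg (fun t => t.hom.fst.hom.fst) h⟩
  haveI : L.toFunctor.Full := ⟨fun {a b} M => by
    let m₁ : a ⟶ b := M.hom.fst.hom.fst
    let m₂ : a ⟶ b := M.hom.fst.hom.snd
    let n : i.obj a ⟶ i.obj b := M.hom.snd
    let αa := (((BasedNatTrans.forgetful _ _).mapIso E).app a)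
    let αb := (((BasedNatTrans.forgetful _ _).mapIso E).app b)
    have e₁ : i.map m₁ ≫ αb.hom.hom.fst = αa.hom.hom.fst ≫ n := congrArg (fun t => t.hom.fst) M.hom.w
    have e₂ : i.map m₂ ≫ αb.hom.hom.snd = αa.hom.hom.snd ≫ n := congrArg (fun t => t.hom.snd) M.hom.w
    have n₁ : i.map m₁ ≫ αb.hom.hom.fst = αa.hom.hom.fst ≫ i.map m₁ :=
      congrArg (fun t => t.hom.fst) (E.hom.toNatTrans.naturality m₁)
    have n₂ : i.map m₁ ≫ αb.hom.hom.snd = αa.hom.hom.snd ≫ i.map m₁ :=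
      congrArg (fun t => t.hom.snd) (E.hom.toNatTrans.naturality m₁)
    haveI : IsIso αa.hom.hom.fst := ⟨⟨αa.inv.hom.fst, congrArg (fun t => t.hom.fst) αa.hom_inv_id,
      congrArg (fun t => t.hom.fst) αa.inv_hom_id⟩⟩
    haveI : IsIso αb.hom.hom.snd := ⟨⟨αb.inv.hom.snd, congrArg (fun t => t.hom.snd) αb.hom_inv_id,
      congrArg (fun t => t.hom.snd) αb.inv_hom_id⟩⟩
    have hn : n = i.map m₁ := (cancel_epi αa.hom.hom.fst).1 (e₁.symm.trans n₁)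
    have hm : m₁ = m₂ := i.toFunctor.map_injective
      ((cancel_mono αb.hom.hom.snd).1 (by rw [e₂, hn]; exact n₂))
    exact ⟨m₁, ObjectProperty.hom_ext _ (CategoricalPullback.hom_ext
      (ObjectProperty.hom_ext _ (CategoricalPullback.hom_ext rfl hm)) hn.symm)⟩⟩
  refine isEquivOver_of_fullyFaithful L fun η => ?_
  let x₁ := η.obj.fst.obj.fst
  let x₂ := η.obj.fst.obj.snd
  let j : g.obj (i.obj x₁) ≅ g.obj (i.obj x₂) := η.obj.fst.obj.iso
  let k₁ : i.obj x₁ ≅ η.obj.snd := (fpFst g g).toFunctor.mapIso η.obj.iso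
  let k₂ : i.obj x₂ ≅ η.obj.snd := (fpSnd g g).toFunctor.mapIso η.obj.iso
  have hw : g.map k₁.hom ≫ 𝟙 _ = j.hom ≫ g.map k₂.hom := η.obj.iso.hom.hom.w
  rw [Category.comp_id] at hw
  let β := ((BasedNatTrans.forgetful _ _).mapIso E).app x₁
  let β₁ : i.obj x₁ ≅ i.obj x₁ := (fpFst g g).toFunctor.mapIso β
  let β₂ : i.obj x₁ ≅ i.obj x₁ := (fpSnd g g).toFunctor.mapIso β
  have hβ : g.map β₁.hom ≫ 𝟙 _ = 𝟙 _ ≫ g.map β₂.hom := β.hom.hom.w
  rw [Category.comp_id, Category.id_comp] at hβ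
  let c : i.obj x₁ ≅ i.obj x₂ := β₂ ≪≫ β₁.symm ≪≫ k₁ ≪≫ k₂.symm
  let θ : x₁ ≅ x₂ := i.toFunctor.preimageIso c
  have hθ : i.map θ.hom = c.hom := i.toFunctor.map_preimage _
  have hc : g.map c.hom = j.hom := by
    simp only [c, Iso.trans_hom, Iso.symm_hom, Functor.map_comp, hw, ← hβ]
    rw [← g.toFunctor.map_comp_assoc, Iso.hom_inv_id, g.toFunctor.map_id, Category.id_comp,
      Category.assoc, ← Functor.map_comp, Iso.hom_inv_id, g.toFunctor.map_id, Category.comp_id]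
  refine ⟨x₁, ObjectProperty.isoMk _ (CategoricalPullback.mkIso
    (ObjectProperty.isoMk _ (CategoricalPullback.mkIso (Iso.refl x₁) θ ?_)) (β₁.symm ≪≫ k₁) ?_), rfl,
    𝒳.p.map_id _⟩
  · show g.map (i.map (𝟙 x₁)) ≫ j.hom = 𝟙 _ ≫ g.map (i.map θ.hom)
    rw [hθ, hc]
    simp
  · refine ObjectProperty.hom_ext _ (CategoricalPullback.hom_ext ?_ ?_)
    · show i.map (𝟙 x₁) ≫ k₁.hom = β₁.hom ≫ β₁.inv ≫ k₁.hom
      simp
    · show i.map θ.hom ≫ k₂.hom = β₂.hom ≫ β₁.inv ≫ k₁.hom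
      rw [hθ]
      simp [c]

end Groth.Agent.AlgStLib

end
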