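import Groth.Agent.AlgStLib.QC

/-!
# Quasi-compact functors of algebraic stacks: representable functors, products, descent
-/

set_option autoImplicit false
set_option backward.isDefEq.respectTransparency false
set_option backward.isDefEq.respectTransparency.types false
set_option linter.style.haveILetI false
universe u

noncomputable section

namespace Groth.Agent.AlgStLib

open CategoryTheory CategoryTheory.Limits AlgebraicGeometry Opposite Groth.Agent.FibCatRep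
  Groth.Agent.FibCat2Misc Groth.Agent.AlgSpLib Groth.Agent.StkBasic
open _root_.AlgSp _root_.AlgSt

variable {S : Scheme.{u}} {𝒳 𝒴 𝒵 : AlgSt.Cat S}

local notation "AS" => IsAlgStack Scheme.fppfPrecoverage
local notation "QC" => AlgSt.IsQuasiCompactMor Scheme.fppfPrecoverage

theorem cls_qc : Cls (AlgSp.IsQuasiCompactMor (S := S)) :=
  ⟨fun _ _ _ _ _ _ _ _ _ _ _ _ sq h => fun _ _ hW hWq _ _ _ sq' => h hW hWq _ _ _ (sq'.paste_horiz sq),
    fun _ _ _ _ hY hZ _ _ ha hb => isQuasiCompactMor_comp hY hZ ha hb,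
    isLocalOnBase_fppf isLocalOnBase_isQuasiCompactMor⟩

theorem isAlgStack_ofSp (F : AlgSp.Space S) : AS (AlgSt.ofSp F.obj) :=
  (isDM_of_space ((isAlgSpaceP_obj_iff _).2 F.property)).1

theorem isQuasiCompact_ofSp_iff (F : AlgSp.Space S) :
    AlgSt.IsQuasiCompact (AlgSt.ofSp F.obj) ↔ IsQuasiCompactSp F.obj := by
  rw [isQuasiCompact_iff_compactSpace (isAlgStack_ofSp F), isQuasiCompactSp_iff F.property]
  let E := (isHomeomorph_stPts F).homeomorph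
  exact ⟨fun _ => E.symm.compactSpace, fun _ => E.compactSpace⟩

theorem isQuasiCompactMor_of_repWith (h𝒳 : AS 𝒳) (h𝒴 : AS 𝒴) {f : 𝒳 ⥤ᵇ 𝒴}
    (hf : RepByAlgSpWith AlgSp.IsQuasiCompactMor f) : QC f :=
  isQuasiCompactMor_of_affine h𝒳 h𝒴 fun Z z hZ => by
    obtain ⟨F, e, he, hq⟩ := hf Z z
    have sq : IsPullback (𝟙 F.obj) (spMapOfOver (BasedFunctor.comp e (FibCat.fpFst z f)))
        (spMapOfOver (BasedFunctor.comp e (FibCat.fpFst z f))) (𝟙 ((yon S).obj Z)) :=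
      IsPullback.of_horiz_isIso ⟨by simp⟩
    exact (isQuasiCompact_iff_of_equiv he (isAlgStack_ofSp F)).1
      ((isQuasiCompact_ofSp_iff F).2 (hq (IsAlgSpace.yon_obj Z) (isQuasiCompactSp_yon Z) _ _ _ sq))

theorem repWith_qc_of_isQuasiCompactMor {f : 𝒳 ⥤ᵇ 𝒴} (hf : RepByAlgSp1 f) (h : QC f) :
    RepByAlgSpWith AlgSp.IsQuasiCompactMor f := by
  haveI := respectsIso_quasiCompact (S := S)
  refine (repWith_iff _ f).2 fun U y => ?_
  obtain ⟨F, e, he⟩ := repByAlgSp_fp_yon hf U y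
  refine ⟨F.obj.obj, e, he, F.obj.property, F.property, fun Z Z' hZ hZq g fst snd sq => ?_⟩
  have hZ' : IsAlgSpace Z' := isAlgSpace_of_isPullback_space (IsAlgSpace.yon_obj U) F.property hZ sq
  haveI := compactSpace_of_isQuasiCompactSp hZq
  obtain ⟨W, p, hW, -, hps⟩ := exists_affine_chart_of_compact hZ
  haveI := hW
  have sq₁ := IsPullback.of_hasPullback p snd
  let P : AlgSp.Space S := ⟨pullback p snd,
    isAlgSpace_of_isPullback_space hZ (IsAlgSpace.yon_obj W) hZ' sq₁⟩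
  obtain ⟨e', he', -⟩ := exists_model_baseChange (p ≫ g).hom he (P' := P.obj.obj)
    (fst := (pullback.snd p snd ≫ fst).hom) (snd := (pullback.fst p snd).hom)
    ((sq₁.flip.paste_horiz sq : IsPullback (pullback.snd p snd ≫ fst) (pullback.fst p snd) _ (p ≫ g)).map
      (sheafToPresheaf (J S) (Type (u + 1))))
  have hq := h _ (isAlgStack_spOf W)
    ((isQuasiCompact_ofSp_iff (spOf W)).2 (isQuasiCompactSp_yon W))
    (BasedFunctor.comp (Stk.ofPshMap (p ≫ g).hom) y)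
  exact isQuasiCompactSp_of_isSurjectiveMor hZ' (pullback.snd p snd) (isSurjectiveMor_baseChange sq₁ (isSurjectiveMor_of_repWith hps))
    ((isQuasiCompact_ofSp_iff P).1 ((isQuasiCompact_iff_of_equiv he' (isAlgStack_ofSp P)).2 hq))

theorem isQuasiCompactMor_of_isClosedImm (h𝒳 : AS 𝒳) (h𝒴 : AS 𝒴) {f : 𝒳 ⥤ᵇ 𝒴} (hf : AlgSt.IsClosedImm f) :
    QC f :=
  isQuasiCompactMor_of_repWith h𝒳 h𝒴 (repWith_mono hf fun _ U _ hX ha =>
    (isQuasiCompactMor_iff_repWith hX (IsAlgSpace.yon_obj U) ha.1).2 (AlgSpLib.repWith_mono (fun _ _ r hr => by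
      haveI : IsClosedImmersion r := hr
      infer_instance) ha))

/-- cancellation -/
theorem isQuasiCompactMor_of_comp (h𝒳 : AS 𝒳) (h𝒴 : AS 𝒴) (h𝒵 : AS 𝒵) {f : 𝒳 ⥤ᵇ 𝒴} {g : 𝒴 ⥤ᵇ 𝒵}
    (hfg : QC (BasedFunctor.comp f g)) (hg : RepByAlgSpWith AlgSp.IsQuasiCompactMor (FibCat.diag g)) : QC f :=
  fun 𝒲 h𝒲 q k => by
    let e : BasedFunctor.comp (FibCat.fpFst k f) (BasedFunctor.comp k g) ≅
        BasedFunctor.comp (FibCat.fpSnd k f) (BasedFunctor.comp f g) := (post _ g).mapIso (FibCat.fpIso k f)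
    have hM := isQuasiCompactMor_of_repWith (algFp h𝒴 h𝒲 h𝒳 k f) (algFp h𝒵 h𝒲 h𝒳 _ _)
      (repWith_comparison k f g e (fun _ => rfl) hg)
    exact isQuasiCompact_source (algFp h𝒴 h𝒲 h𝒳 k f) (algFp h𝒵 h𝒲 h𝒳 _ _) hM (hfg 𝒲 h𝒲 q _)

theorem isAlgStack_self : AS (FibCat.selfOver (Over S)) :=
  isAlgStack_of_equiv isEquivOver_toSelf_base (isDM_of_space (isAlgSpaceP_yon _)).1

/-- the structure functor of a quasi-compact scheme over a quasi-separated base -/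
theorem isQuasiCompactMor_toSelf_overCat [QuasiSeparatedSpace S] (U : Over S) [CompactSpace ↥U.left] :
    QC (FibCat.toSelf (FibCat.overCat U)) := by
  haveI := respectsIso_quasiCompact (S := S)
  let t : U ⟶ base S := Over.homMk U.hom (Category.comp_id _)
  haveI : CompactSpace ↥U.left := ‹_›
  have ht : QuasiCompact t.left := quasiCompact_of_compactSpace U.hom
  have h₁ : AlgSp.IsQuasiCompactMor ((yon S).map t) :=
    (isQuasiCompactMor_iff_repWith (IsAlgSpace.yon_obj U) (IsAlgSpace.yon_obj _) (representable_yon_map t)).2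
      ((repWith_yon_iff t).2 ht)
  have h₂ : RepByAlgSpWith AlgSp.IsQuasiCompactMor (Stk.ofPshMap ((yon S).map t).hom) :=
    repWith_ofSpMap cls_qc.bc (V := spOf U) (W := spOf (base S)) (ObjectProperty.homMk ((yon S).map t)) h₁
  have h₃ : RepByAlgSpWith AlgSp.IsQuasiCompactMor (FibCat.toSelf (Stk.ofPsh ((pyon S).obj U))) :=
    (repWith_iff_of_equiv _ (FibCat.toSelf (Stk.ofPsh ((pyon S).obj U))) (Stk.ofPshMap ((yon S).map t).hom)
      (BasedFunctor.id _) (FibCat.toSelf (Stk.ofPsh ((pyon S).obj (base S)))) isEquivOver_id isEquivOver_toSelf_base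
      (eqToIso (comp_toSelf _))).2 h₂
  refine isQuasiCompactMor_of_repWith (isAlgStack_overCat U) isAlgStack_self
    ((repWith_overCat_iff _ U _).2 ?_)
  rw [comp_toSelf]
  exact h₃

theorem isQuasiCompact_prod [QuasiSeparatedSpace S] (h𝒳 : AS 𝒳) (h𝒵 : AS 𝒵) (hx : AlgSt.IsQuasiCompact 𝒳)
    (hz : AlgSt.IsQuasiCompact 𝒵) : AlgSt.IsQuasiCompact (FibCat.fp (FibCat.toSelf 𝒳) (FibCat.toSelf 𝒵)) := by
  obtain ⟨U, x, hU, -, hxs⟩ := hx
  haveI := hU
  refine isQuasiCompact_fp_of_surjective isAlgStack_self (isAlgStack_overCat U) h𝒳 h𝒵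
    (isSurjective_of_repWith (isFibGrpd_overCat U) h𝒳.isStack.1 hxs) ?_
  rw [comp_toSelf]
  exact isQuasiCompact_swap isAlgStack_self h𝒵 (isAlgStack_overCat U)
    (isQuasiCompactMor_toSelf_overCat U 𝒵 h𝒵 hz (FibCat.toSelf 𝒵))

theorem isQuasiCompactMor_toSelf [QuasiSeparatedSpace S] (h𝒳 : AS 𝒳) (h : AlgSt.IsQuasiCompact 𝒳) :
    QC (FibCat.toSelf 𝒳) := fun 𝒵 h𝒵 hz g => by
  have e : g = FibCat.toSelf 𝒵 :=
    (show BasedFunctor.comp g (FibCat.toSelf (FibCat.selfOver (Over S))) = g from rfl).symm.trans (comp_toSelf g)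
  subst e
  exact isQuasiCompact_prod h𝒵 h𝒳 hz h

/-- finitely many affine opens of an open surjective chart -/
theorem exists_affine_refinement [CompactSpace (AlgSt.Points 𝒳)] {U : Over S} (x : FibCat.overCat U ⥤ᵇ 𝒳)
    (ho : IsOpenMap (AlgSt.Points.ofChart x)) (hs : Function.Surjective (AlgSt.Points.ofChart x)) :
    ∃ (U' : Over S) (d : U' ⟶ U), IsAffine U'.left ∧
      Function.Surjective (AlgSt.Points.ofChart (BasedFunctor.comp (AlgSt.overMap d) x)) := by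
  let ι := {Z : U.left.Opens // IsAffineOpen Z}
  obtain ⟨s, hs'⟩ := isCompact_univ.elim_finite_subcover
    (fun Z : ι => AlgSt.Points.ofChart x '' (Z.1 : Set U.left)) (fun Z => ho _ Z.1.isOpen) (fun p _ => by
      obtain ⟨t, rfl⟩ := hs p
      obtain ⟨Z, hZ, htZ, -⟩ := TopologicalSpace.Opens.isBasis_iff_nbhd.mp U.left.isBasis_affineOpens
        (TopologicalSpace.Opens.mem_top t)
      exact Set.mem_iUnion.mpr ⟨⟨Z, hZ⟩, t, htZ, rfl⟩)
  let q : (∐ fun Z : s => Z.1.1.toScheme) ⟶ U.left := Sigma.desc fun Z => Z.1.1.ι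
  haveI : ∀ Z : s, IsAffine Z.1.1.toScheme := fun Z => Z.1.2
  let U' : Over S := Over.mk (q ≫ U.hom)
  let d : U' ⟶ U := Over.homMk q rfl
  refine ⟨U', d, inferInstanceAs (IsAffine (∐ fun Z : s => Z.1.1.toScheme)), fun p => ?_⟩
  obtain ⟨Z, hZ⟩ := Set.mem_iUnion.mp (hs' (Set.mem_univ p))
  obtain ⟨hZs, t, ht, rfl⟩ := Set.mem_iUnion.mp hZ
  refine ⟨Sigma.ι (fun Z : s => Z.1.1.toScheme) ⟨Z, hZs⟩ ⟨t, ht⟩, ?_⟩
  rw [ofChart_overMap]
  congr 1
  show (Sigma.ι (fun Z : s => Z.1.1.toScheme) ⟨Z, hZs⟩ ≫ q) ⟨t, ht⟩ = t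
  rw [Sigma.ι_desc]
  rfl

/-- descent along open surjections -/
theorem isQuasiCompactMor_of_fpFst (h𝒳 : AS 𝒳) (h𝒴 : AS 𝒴) (h𝒵 : AS 𝒵) {f : 𝒳 ⥤ᵇ 𝒴} {z : 𝒵 ⥤ᵇ 𝒴}
    (hz₁ : LocQ (LocP @Flat) z) (hz₂ : LocQ (LocP @LocallyOfFinitePresentation) z) (hz₃ : AlgSt.IsSurjective z)
    (h : QC (FibCat.fpFst z f)) : QC f := fun 𝒲 h𝒲 hq g => by
  have hA := algFp h𝒴 h𝒲 h𝒵 g z
  haveI := (isQuasiCompact_iff_compactSpace h𝒲).1 hq
  obtain ⟨U, u, hu, hus⟩ := hA.atlas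
  let π := FibCat.fpFst g z
  have hπo : IsOpenMap (AlgSt.Points.map π) := isOpenMor_of_flat_lfp hA h𝒲
    (locQ_fpFst_of_bc st_flat cls_flat.bc h𝒵 h𝒴 h𝒲 hz₁) (locQ_fpFst_of_bc st_lfp cls_lfp.bc h𝒵 h𝒴 h𝒲 hz₂)
  have hπs := isSurjective_fpFst h𝒵.isStack.1 h𝒴.isStack.1 h𝒲.isStack.1 z g hz₃
  obtain ⟨U', d, hU', hd⟩ := exists_affine_refinement (BasedFunctor.comp u π)
    (hπo.comp (isOpenMap_ofChart hA.isStack.1 u (repWith_flat_of_smooth hu) (repWith_lfp_of_smooth hu)))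
    (fun p => by
      obtain ⟨q, rfl⟩ := hπs p
      obtain ⟨t, rfl⟩ := exists_point_of_surjective hA.isStack.1 u hus q
      exact ⟨t, rfl⟩)
  let c := BasedFunctor.comp (AlgSt.overMap d) u
  have hA' := isAlgStack_overCat U'
  haveI := hU'
  let b := BasedFunctor.comp c (FibCat.fpSnd g z)
  have h₁ : AlgSt.IsQuasiCompact (FibCat.fp (BasedFunctor.comp b z) f) :=
    (isQuasiCompact_iff_of_equiv (isEquivOver_pasteFun b z f) (algFp h𝒵 hA' (algFp h𝒴 h𝒵 h𝒳 z f) b _)).1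
      (isQuasiCompact_fp_overCat h U' b)
  have hσ : AlgSt.IsSurjective (BasedFunctor.comp c π) := fun p => by
    obtain ⟨t, rfl⟩ := hd p
    exact ⟨AlgSt.Points.ofChart (BasedFunctor.id _) t, rfl⟩
  exact isQuasiCompact_fp_of_surjective h𝒴 hA' h𝒲 h𝒳 hσ
    (isQuasiCompact_fp_congr h𝒴 hA' h𝒳 ((Stk.restr c _).mapIso (FibCat.fpIso g z)).symm h₁)

end Groth.Agent.AlgStLib

end
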