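import Groth.Agent.AlgStLib.SmLocally
import Groth.Agent.AlgStLib.QC2
import Groth.Agent.AlgSpLib.MulFlat
import Groth.Agent.AlgSpLib.Singleton
import Groth.Agent.AlgSpLib.Reduced
import Groth.Agent.SmLocalST.Regular
import Groth.Agent.SmLocalST.SmoothField
import Groth.Agent.FlatMor.ReducedDescent
import Groth.Agent.S0116
import Groth.Agent.S16804

/-!
# Algebraic stacks with a flat surjective point over a field
-/

set_option autoImplicit false
set_option backward.isDefEq.respectTransparency false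
set_option backward.isDefEq.respectTransparency.types false
set_option linter.style.haveILetI false
universe u

noncomputable section

namespace Groth.Agent.AlgStLib

open CategoryTheory CategoryTheory.Limits AlgebraicGeometry Opposite Groth.Agent.FibCatRep
  Groth.Agent.FibCat2Misc Groth.Agent.AlgSpLib Groth.Agent.StkBasic
open _root_.AlgSp _root_.AlgSt

variable {S : Scheme.{u}} {𝒵 : AlgSt.Cat S}

/-- a smooth chart and a point have a common scheme -/
theorem exists_chart_pair (h𝒵 : FibCat.IsFibGrpd 𝒵.p) {U Y : Over S}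
    {p : AlgSt.ofSp (spOf U).obj ⥤ᵇ 𝒵} (hp : RepByAlgSpWith (LocP @Smooth) p)
    {z : AlgSt.ofSp (spOf Y).obj ⥤ᵇ 𝒵} (hz : RepByAlgSpWith AlgSp.IsSurjectiveMor z) :
    ∃ (W : Over S) (a : W ⟶ U) (b : W ⟶ Y), Smooth b.left ∧ Surjective a.left ∧
      ∀ {R : MorphismProperty Scheme.{u}}, EtST R → Cls (LocP (S := S) R) → RepByAlgSpWith (LocP R) z → R a.left := by
  obtain ⟨T, pr, e, he, hpr, hps⟩ := exists_model_space cls_surjective.bc cls_surjective.loc (isFibGrpd_ofSpace _)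
    h𝒵 hz (spOf U) p
  let q : T ⟶ spOf Y := ObjectProperty.homMk (ObjectProperty.homMk (mapOf (BasedFunctor.comp e (FibCat.fpSnd p z))))
  have hq : LocP @Smooth q.hom := prop_prjMap cls_smooth.bc cls_smooth.loc hp
    (e := BasedFunctor.comp e (swapFun p z)) (isEquivOver_comp he (isEquivOver_swapFun p z)) q rfl
  obtain ⟨W, d, hde, hds⟩ := T.property.atlas
  have hd : LocP @Smooth d := EtSmLocalST.smooth_of_etale T.property (isEtaleMor_of_repWith' hde)
  obtain ⟨a, ha⟩ := exists_map_eq (d ≫ pr.hom)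
  obtain ⟨b, hb⟩ := exists_map_eq (d ≫ q.hom)
  have hW := IsAlgSpace.yon_obj (S := S) W
  refine ⟨W, a, b, (locP_yon_iff etST_smooth b).1 ?_,
    (repWith_yon_iff _).1 (repWith_surjective_of_isSurjectiveMor (AlgSp.representable_yon_map _) ?_),
    fun {R} hR hc hzR => (locP_yon_iff hR a).1 ?_⟩
  · rw [hb]
    exact cls_smooth.comp hW T.property (IsAlgSpace.yon_obj Y) d _ hd hq
  · rw [ha]
    exact cls_surjective.comp hW T.property (IsAlgSpace.yon_obj U) d _ (isSurjectiveMor_of_repWith hds)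
      (prop_prjMap cls_surjective.bc cls_surjective.loc hz he pr hpr)
  · rw [ha]
    exact hc.comp hW T.property (IsAlgSpace.yon_obj U) d _ (locP_of_etale hR T.property hde)
      (prop_prjMap hc.bc hc.loc hzR he pr hpr)

section field

variable {k : Type u} [Field k] {str : Spec (CommRingCat.of k) ⟶ S}
  {z : FibCat.overCat (Over.mk str) ⥤ᵇ 𝒵}

/-- the points of a stack with a surjective point over a field -/
theorem singleton_points (h𝒵 : FibCat.IsFibGrpd 𝒵.p) (hzs : RepByAlgSpWith AlgSp.IsSurjectiveMor z) :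
    Nonempty (AlgSt.Points 𝒵) ∧ Subsingleton (AlgSt.Points 𝒵) := by
  haveI : Subsingleton ↥(Over.mk str).left := inferInstanceAs (Subsingleton (PrimeSpectrum k))
  obtain ⟨t⟩ : Nonempty ↥(Over.mk str).left := inferInstanceAs (Nonempty (PrimeSpectrum k))
  refine ⟨⟨AlgSt.Points.ofChart z t⟩, ⟨fun a b => ?_⟩⟩
  obtain ⟨t₁, rfl⟩ := exists_point_of_surjective h𝒵 z hzs a
  obtain ⟨t₂, rfl⟩ := exists_point_of_surjective h𝒵 z hzs b
  rw [Subsingleton.elim t₁ t₂]

theorem smoothLocally_reduced_of_fieldPt (h𝒵 : IsAlgStack Scheme.fppfPrecoverage 𝒵)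
    (hzs : RepByAlgSpWith AlgSp.IsSurjectiveMor z) (hzf : RepByAlgSpWith (LocP @Flat) z) :
    AlgSt.SmoothLocally (fun T => IsReduced T) 𝒵 := fun U x hx => by
  obtain ⟨W, a, b, hb, ha, hQ⟩ := exists_chart_pair h𝒵.isStack.1 ((repWith_overCat_iff _ U x).1 hx)
    ((repWith_overCat_iff _ _ z).1 hzs)
  haveI := hb
  haveI := ha
  haveI := hQ etST_flat cls_flat ((repWith_overCat_iff _ _ z).1 hzf)
  haveI : IsReduced (Over.mk str).left := inferInstanceAs (IsReduced (Spec (CommRingCat.of k)))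
  haveI : IsReduced W.left := AlgSpLib.isReduced_of_smooth b.left
  exact FlatMor.isReduced_of_flat_surjective a.left

theorem smoothLocally_noetherian_of_fieldPt (h𝒵 : IsAlgStack Scheme.fppfPrecoverage 𝒵)
    (hzp : RepByAlgSpWith (LocP @LocallyOfFinitePresentation) z)
    (hzs : RepByAlgSpWith AlgSp.IsSurjectiveMor z) (hzf : RepByAlgSpWith (LocP @Flat) z) :
    AlgSt.SmoothLocally (fun T => IsLocallyNoetherian T) 𝒵 := fun U x hx => by
  obtain ⟨W, a, b, hb, ha, hQ⟩ := exists_chart_pair h𝒵.isStack.1 ((repWith_overCat_iff _ U x).1 hx)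
    ((repWith_overCat_iff _ _ z).1 hzs)
  haveI := hb
  haveI := ha
  haveI := hQ etST_flat cls_flat ((repWith_overCat_iff _ _ z).1 hzf)
  haveI := hQ etST_lfp cls_lfp ((repWith_overCat_iff _ _ z).1 hzp)
  haveI : IsLocallyNoetherian (Over.mk str).left :=
    inferInstanceAs (IsLocallyNoetherian (Spec (CommRingCat.of k)))
  haveI : IsLocallyNoetherian W.left := LocallyOfFiniteType.isLocallyNoetherian b.left
  exact Groth.Agent.S0116.result a.left

theorem smoothLocally_regular_of_fieldPt (h𝒵 : IsAlgStack Scheme.fppfPrecoverage 𝒵)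
    (hnoeth : AlgSt.SmoothLocally (fun T => IsLocallyNoetherian T) 𝒵)
    (hzs : RepByAlgSpWith AlgSp.IsSurjectiveMor z) (hzf : RepByAlgSpWith (LocP @Flat) z) :
    AlgSt.SmoothLocally (fun T => ∀ t : T, IsRegularLocalRing (T.presheaf.stalk t)) 𝒵 := fun U x hx => by
  obtain ⟨W, a, b, hb, ha, hQ⟩ := exists_chart_pair h𝒵.isStack.1 ((repWith_overCat_iff _ U x).1 hx)
    ((repWith_overCat_iff _ _ z).1 hzs)
  haveI := hb
  haveI := ha
  haveI := hQ etST_flat cls_flat ((repWith_overCat_iff _ _ z).1 hzf)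
  haveI : IsLocallyNoetherian U.left := hnoeth U x hx
  intro t
  obtain ⟨w, rfl⟩ := a.left.surjective t
  exact SmLocalST.isRegularLocalRing_stalk_of_flat _ w
    (SmLocalST.isRegularLocalRing_stalk_of_smooth_field (k := k) b.left w)

end field

/-- a reduced stack with one point has a flat surjective point over a field -/
theorem exists_flat_fieldPt (h𝒵 : IsAlgStack Scheme.fppfPrecoverage 𝒵)
    (hred : AlgSt.SmoothLocally (fun T => IsReduced T) 𝒵) (hne : Nonempty (AlgSt.Points 𝒵))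
    (hsub : Subsingleton (AlgSt.Points 𝒵)) :
    ∃ (k : Type u) (_ : Field k) (a : Spec (CommRingCat.of k) ⟶ S)
      (z : FibCat.overCat (Over.mk a) ⥤ᵇ 𝒵),
      RepByAlgSpWith AlgSp.IsSurjectiveMor z ∧ RepByAlgSpWith (LocP @Flat) z := by
  obtain ⟨U, p, hp, hps⟩ := exists_atlas_sp h𝒵
  haveI : IsReduced U.left := hred U (BasedFunctor.comp (AlgSt.ofOverCat U) p) ((repWith_ofOverCat_iff _ p).2 hp)
  obtain ⟨q⟩ := hne
  obtain ⟨u, -⟩ := exists_point_of_surjective h𝒵.isStack.1 (BasedFunctor.comp (AlgSt.ofOverCat U) p)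
    ((repWith_ofOverCat_iff _ p).2 hps) q
  obtain ⟨η, -, hη⟩ := UnibranchEtale.exists_maximal_specializes u
  obtain ⟨k, F, m, hm, -⟩ := exists_flat_fieldPt_of_reduced η (UnibranchEtale.maximal_of_mem_genericPoints hη)
  let Y : Over S := Over.mk (m ≫ U.hom)
  let m' : Y ⟶ U := Over.homMk m rfl
  let z₀ : AlgSt.ofSp (spOf Y).obj ⥤ᵇ 𝒵 := BasedFunctor.comp (AlgSt.ofSpMap (spMap m').hom) p
  have hF : RepByAlgSpWith (LocP @Flat) z₀ :=
    repWith_comp (isFibGrpd_ofSpace _) (isFibGrpd_ofSpace _) cls_flat.bc cls_flat.comp cls_flat.loc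
      (repWith_ofSpMap cls_flat.bc (spMap m') ((locP_yon_iff etST_flat m').2 hm)) (repWith_flat_of_smooth hp)
  have h₁ : RepByAlgSp1 z₀ := repByAlgSp1_of_with hF
  obtain ⟨t⟩ : Nonempty ↥Y.left := inferInstanceAs (Nonempty (PrimeSpectrum k))
  have hS : RepByAlgSpWith AlgSp.IsSurjectiveMor z₀ := repWith_surjective_of_isSurjective (isFibGrpd_ofSpace _)
    h𝒵.isStack.1 h₁ fun r => ⟨stPts _ (AlgSp.Points.ofScheme Y t), Subsingleton.elim _ _⟩
  exact ⟨k, F, m ≫ U.hom, BasedFunctor.comp (AlgSt.ofOverCat Y) z₀,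
    (repWith_ofOverCat_iff _ z₀).2 hS, (repWith_ofOverCat_iff _ z₀).2 hF⟩

/-- a stack with a flat surjective point over a field has one of finite type -/
theorem exists_lft_fieldPt (h𝒵 : IsAlgStack Scheme.fppfPrecoverage 𝒵) (k : Type u) [Field k]
    (a : Spec (CommRingCat.of k) ⟶ S) (z : FibCat.overCat (Over.mk a) ⥤ᵇ 𝒵)
    (hzs : RepByAlgSpWith AlgSp.IsSurjectiveMor z) (hzf : RepByAlgSpWith (LocP @Flat) z) :
    ∃ (U Y : Over S) (k' : Type u) (_ : Field k') (a' : Spec (CommRingCat.of k') ⟶ S) (_ : Y = Over.mk a')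
      (m : Y ⟶ U) (p : AlgSt.ofSp (spOf U).obj ⥤ᵇ 𝒵) (z' : AlgSt.ofSp (spOf Y).obj ⥤ᵇ 𝒵),
      z' = BasedFunctor.comp (AlgSt.ofSpMap (spMap m).hom) p ∧ RepByAlgSpWith (LocP @Smooth) p ∧
      LocallyOfFiniteType m.left ∧ RepByAlgSpWith (LocP @LocallyOfFiniteType) z' ∧
      RepByAlgSpWith AlgSp.IsSurjectiveMor z' ∧ RepByAlgSpWith (LocP @Flat) z' := by
  obtain ⟨U, p, hp, hps⟩ := exists_atlas_sp h𝒵
  obtain ⟨⟨q⟩, -⟩ := singleton_points h𝒵.isStack.1 hzs
  obtain ⟨u, -⟩ := exists_point_of_surjective h𝒵.isStack.1 (BasedFunctor.comp (AlgSt.ofOverCat U) p)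
    ((repWith_ofOverCat_iff _ p).2 hps) q
  obtain ⟨V, hV, huV, -⟩ := exists_isAffineOpen_mem_and_subset (x := u) (U := ⊤) trivial
  haveI : IsAffine (V : Scheme) := hV
  haveI : Nonempty ↥(V : Scheme) := ⟨⟨u, huV⟩⟩
  obtain ⟨v, -, hv⟩ := (isClosed_univ (X := ↥(V : Scheme))).exists_closed_singleton
    Set.univ_nonempty
  let m₀ := (V : Scheme).fromSpecResidueField v
  haveI : IsClosedImmersion m₀ := by
    refine IsClosedImmersion.of_isPreimmersion m₀ ?_
    rw [Scheme.range_fromSpecResidueField]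
    exact hv
  let str : Spec (CommRingCat.of ((V : Scheme).residueField v)) ⟶ S := (m₀ ≫ V.ι) ≫ U.hom
  let Y : Over S := Over.mk str
  let m : Y ⟶ U := Over.homMk (m₀ ≫ V.ι) rfl
  have hm : LocallyOfFiniteType m.left := inferInstanceAs (LocallyOfFiniteType (m₀ ≫ V.ι))
  let z' : AlgSt.ofSp (spOf Y).obj ⥤ᵇ 𝒵 := BasedFunctor.comp (AlgSt.ofSpMap (spMap m).hom) p
  have hT : RepByAlgSpWith (LocP @LocallyOfFiniteType) z' :=
    repWith_comp (isFibGrpd_ofSpace _) (isFibGrpd_ofSpace _) cls_lft.bc cls_lft.comp cls_lft.loc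
      (repWith_ofSpMap cls_lft.bc (spMap m) ((locP_yon_iff etST_lft m).2 hm)) (repWith_lft_of_smooth hp)
  obtain ⟨hS, hF⟩ := Groth.Agent.S16804.result S 𝒵 h𝒵 k a z hzs hzf _ str (BasedFunctor.comp (AlgSt.ofOverCat Y) z')
  exact ⟨U, Y, _, inferInstance, str, rfl, m, p, z', rfl, hp, hm, hT, (repWith_ofOverCat_iff _ z').1 hS,
    (repWith_ofOverCat_iff _ z').1 hF⟩

/-- the point of finite type over a field is of finite presentation over a locally noetherian stack -/
theorem exists_lfp_fieldPt (h𝒵 : IsAlgStack Scheme.fppfPrecoverage 𝒵)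
    (hred : AlgSt.SmoothLocally (fun T => IsReduced T) 𝒵)
    (hnoeth : AlgSt.SmoothLocally (fun T => IsLocallyNoetherian T) 𝒵)
    (hne : Nonempty (AlgSt.Points 𝒵)) (hsub : Subsingleton (AlgSt.Points 𝒵)) :
    ∃ (k : Type u) (_ : Field k) (a : Spec (CommRingCat.of k) ⟶ S)
      (z : FibCat.overCat (Over.mk a) ⥤ᵇ 𝒵), RepByAlgSpWith (LocP @LocallyOfFinitePresentation) z ∧
        RepByAlgSpWith AlgSp.IsSurjectiveMor z ∧ RepByAlgSpWith (LocP @Flat) z := by
  obtain ⟨k₀, F₀, a₀, z₀, hs₀, hf₀⟩ := exists_flat_fieldPt h𝒵 hred hne hsub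
  obtain ⟨U, Y, k, F, a, rfl, m, p, z, rfl, hp, hm, -, hS, hF⟩ := exists_lft_fieldPt h𝒵 k₀ a₀ z₀ hs₀ hf₀
  haveI := hm
  haveI : IsLocallyNoetherian U.left := hnoeth U (BasedFunctor.comp (AlgSt.ofOverCat U) p)
    ((repWith_ofOverCat_iff _ p).2 hp)
  have hL : RepByAlgSpWith (LocP @LocallyOfFinitePresentation) (BasedFunctor.comp (AlgSt.ofSpMap (spMap m).hom) p) :=
    repWith_comp (isFibGrpd_ofSpace _) (isFibGrpd_ofSpace _) cls_lfp.bc cls_lfp.comp cls_lfp.loc
      (repWith_ofSpMap cls_lfp.bc (spMap m) ((locP_yon_iff etST_lfp m).2 (ConsEngine.lfp_of_lft m.left)))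
      (repWith_lfp_of_smooth hp)
  exact ⟨k, F, a, BasedFunctor.comp (AlgSt.ofOverCat _) (BasedFunctor.comp (AlgSt.ofSpMap (spMap m).hom) p),
    (repWith_ofOverCat_iff _ _).2 hL, (repWith_ofOverCat_iff _ _).2 hS, (repWith_ofOverCat_iff _ _).2 hF⟩

end Groth.Agent.AlgStLib

end
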