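import Groth.Agent.AlgSpLib.Sigma
import Groth.Prelude.Def_AlgSt6

/-!
# Local sections over a single fppf morphism
-/

universe u

open CategoryTheory CategoryTheory.Limits AlgebraicGeometry Opposite

set_option backward.isDefEq.respectTransparency false

namespace Groth.Agent.AlgStLib.SpQuot

open _root_.AlgSp Groth.Agent.AlgSpLib

variable {S : Scheme.{u}}

/-- local sections combine to a section over a single fppf morphism -/
lemma exists_fppf_section {H : Sp S} {T : Over S} (b : H ⟶ (yon S).obj T)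
    (h : AlgSt.HasSecLoc Scheme.fppfPrecoverage b) : ∃ (T' : Over S) (g : T' ⟶ T) (l : (yon S).obj T' ⟶ H),
      Flat g.left ∧ Surjective g.left ∧ LocallyOfFinitePresentation g.left ∧
        l ≫ b = (yon S).map g ≫ 𝟙 _ := by
  obtain ⟨R, hR, hs⟩ := h
  have hl := fun {Z : Scheme.{u}} (g : Z ⟶ T.left) (hg : R g) => (hs g hg).imp
    fun l (hl : l ≫ b = _) => hl.trans (Category.comp_id _).symm
  obtain ⟨ι', X', f', rfl⟩ := R.exists_eq_ofArrows
  rw [Scheme.fppfPrecoverage, Scheme.ofArrows_mem_precoverage_iff] at hR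
  choose i hx using hR.1
  let Z : ↥T.left → Scheme.{u} := fun x => X' (i x)
  let f : ∀ x, Z x ⟶ T.left := fun x => f' (i x)
  choose l hl using fun x => hl (f x) (Presieve.ofArrows.mk (i x))
  obtain ⟨L, hL⟩ := exists_sigma_hom (fun x => f x ≫ T.hom) l
  let g : Over.mk (Sigma.desc fun x => f x ≫ T.hom) ⟶ T := Over.homMk (Sigma.desc f) (by
    refine Sigma.hom_ext _ _ fun x => ?_
    exact (Sigma.ι_desc_assoc _ _ _).trans (Sigma.ι_desc (fun x => f x ≫ T.hom) x).symm)
  have hp : ∀ x, Flat (f x) ∧ LocallyOfFinitePresentation (f x) := fun x => hR.2 (i x)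
  have hι : ∀ x, Sigma.ι Z x ≫ g.left = f x := fun x => Sigma.ι_desc _ _
  refine ⟨_, g, L, ?_, ⟨fun x => ?_⟩, ?_, ?_⟩
  · exact (IsZariskiLocalAtSource.iff_of_openCover (P := @Flat) (sigmaOpenCover Z)).2
      fun x => by rw [show (sigmaOpenCover Z).f x = Sigma.ι Z x from rfl, hι]; exact (hp x).1
  · obtain ⟨z, hz⟩ := hx x
    exact ⟨Sigma.ι Z x z, ((congr($(hι x) z))).trans hz⟩
  · exact (IsZariskiLocalAtSource.iff_of_openCover (P := @LocallyOfFinitePresentation) (sigmaOpenCover Z)).2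
      fun x => by rw [show (sigmaOpenCover Z).f x = Sigma.ι Z x from rfl, hι]; exact (hp x).2
  · have hfac : ∀ x, (Over.homMk (Sigma.ι Z x) (Sigma.ι_desc _ x) :
        Over.mk (f x ≫ T.hom) ⟶ Over.mk (Sigma.desc fun x => f x ≫ T.hom)) ≫ g = Over.homMk (f x) rfl :=
      fun x => Over.OverMorphism.ext (hι x)
    refine hom_ext_cover (R := Presieve.ofArrows Z (Sigma.ι Z))
      (Scheme.zariskiPrecoverage_le_fppfPrecoverage _ (sigmaOpenCover Z).mem₀) ?_
    rintro _ _ ⟨x⟩
    let e : Over.mk (Sigma.ι Z x ≫ Sigma.desc fun x => f x ≫ T.hom) ⟶ Over.mk (f x ≫ T.hom) :=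
      Over.homMk (𝟙 _) ((Category.id_comp _).trans (Sigma.ι_desc (fun x => f x ≫ T.hom) x).symm)
    have he : (Over.homMk (Sigma.ι Z x) rfl :
        Over.mk (Sigma.ι Z x ≫ Sigma.desc fun x => f x ≫ T.hom) ⟶ Over.mk (Sigma.desc fun x => f x ≫ T.hom)) =
          e ≫ (Over.homMk (Sigma.ι Z x) (Sigma.ι_desc (fun x => f x ≫ T.hom) x) :
            Over.mk (f x ≫ T.hom) ⟶ Over.mk (Sigma.desc fun x => f x ≫ T.hom)) :=
      Over.OverMorphism.ext (Category.id_comp _).symm
    erw [he]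
    rw [Functor.map_comp, Category.assoc, Category.assoc]
    congr 1
    refine (Category.assoc _ _ _).symm.trans ((congrArg (· ≫ b) (hL x)).trans ((hl x).trans ?_))
    refine Eq.trans ?_ (Category.assoc _ _ _)
    exact congrArg (· ≫ 𝟙 _) ((congrArg (yon S).map (hfac x).symm).trans ((yon S).map_comp _ _))

end Groth.Agent.AlgStLib.SpQuot
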