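import Groth.Agent.AlgStLib.Cancel

/-!
# Diagonals and properties that are stable under base change and local on etale charts
-/

set_option autoImplicit false
set_option backward.isDefEq.respectTransparency false
set_option backward.isDefEq.respectTransparency.types false
set_option linter.style.haveILetI false
universe u

noncomputable section

namespace Groth.Agent.AlgStLib

open CategoryTheory CategoryTheory.Limits AlgebraicGeometry Opposite Groth.Agent.FibCatRep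
  Groth.Agent.FibCat2Misc Groth.Agent.AlgSpLib Groth.Agent.StkBasic
open _root_.AlgSp _root_.AlgSt

variable {S : Scheme.{u}}

/-- relative representability with `Q` gives `Q` -/
def ChartLocal (Q : MorphismProperty (Sp S)) : Prop :=
  ∀ ⦃X Y : Sp S⦄, IsAlgSpace X → IsAlgSpace Y → ∀ (f : X ⟶ Y), RepBySpWith Q f.hom → Q f

theorem chartLocal_of_et {Q : MorphismProperty (Sp S)} (hQ : IsLocalOnBase (IsEtCover (S := S)) Q) :
    ChartLocal Q := by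
  intro X Y hX hY f h
  obtain ⟨V, p, hp, hps⟩ := hY.2
  have sq := IsPullback.of_hasPullback f p
  have hc : IsEtCover (S := S) (fun _ : PUnit.{u + 1} => (yon S).obj V) (fun _ => p) :=
    ⟨fun _ => isEtaleMor_of_repWith' hp, fun x => ⟨PUnit.unit, isSurjectiveMor_of_repWith hps x⟩⟩
  refine (hQ _ _ hY (fun _ => IsAlgSpace.yon_obj _) hc f hX _ _ _
    (fun _ => isAlgSpace_of_isPullback_space hY hX (IsAlgSpace.yon_obj _) sq) (fun _ => sq)).2 fun _ => ?_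
  obtain ⟨h', -, hq⟩ := h p.hom (pullback.fst f p).hom (pullback.snd f p).hom
    (sq.map (sheafToPresheaf (J S) (Type (u + 1))))
  exact hq

variable {𝒳 𝒳' 𝒴 𝒴' 𝒵 : AlgSt.Cat S} {Q : MorphismProperty (Sp S)}

theorem repWith_comp_of_chart (h𝒳 : FibCat.IsFibGrpd 𝒳.p) (h𝒴 : FibCat.IsFibGrpd 𝒴.p) (hb : BCStable Q)
    (hc : ∀ ⦃X Y Z : Sp S⦄, IsAlgSpace X → IsAlgSpace Y → IsAlgSpace Z → ∀ (a : X ⟶ Y) (b : Y ⟶ Z),
      Q a → Q b → Q (a ≫ b))
    (hl : ChartLocal Q) {f : 𝒳 ⥤ᵇ 𝒴} {g : 𝒴 ⥤ᵇ 𝒵}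
    (hf : RepByAlgSpWith Q f) (hg : RepByAlgSpWith Q g) : RepByAlgSpWith Q (BasedFunctor.comp f g) := by
  haveI := respectsIso_onSp hb
  refine repWith_onSp_iff.1 (repWith_comp_aux h𝒳 h𝒴 (repWith_onSp_iff.2 hf) (repWith_onSp_iff.2 hg) _
    fun P G U a b hP hG ha hb' hP' hU => hc hP hG hU a b ?_ (hb' hG hU))
  refine hl hP hG a fun V ξ P' fst snd sq => ?_
  obtain ⟨h₁, h₂, h₃⟩ := ha ξ fst snd sq
  exact ⟨h₁, h₂, h₃ h₂ (IsAlgSpace.yon_obj _)⟩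

theorem repWith_diag_comp_of_chart (h𝒳 : FibCat.IsFibGrpd 𝒳.p) (h𝒴 : FibCat.IsFibGrpd 𝒴.p) (hb : BCStable Q)
    (hc : ∀ ⦃X Y Z : Sp S⦄, IsAlgSpace X → IsAlgSpace Y → IsAlgSpace Z → ∀ (a : X ⟶ Y) (b : Y ⟶ Z),
      Q a → Q b → Q (a ≫ b))
    (hl : ChartLocal Q) (f : 𝒳 ⥤ᵇ 𝒴) (g : 𝒴 ⥤ᵇ 𝒵) (hf : RepByAlgSpWith Q (FibCat.diag f))
    (hg : RepByAlgSpWith Q (FibCat.diag g)) : RepByAlgSpWith Q (FibCat.diag (BasedFunctor.comp f g)) :=
  repWith_congr Q (diagCmpIso f g)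
    (repWith_comp_of_chart h𝒳 (isFibGrpd_fp h𝒳 h𝒳 h𝒴 f f) hb hc hl hf (repWith_cmpSelf f g hg))

/-- base change in the first factor -/
abbrev prodFst (p' : 𝒳' ⥤ᵇ 𝒵) (q : 𝒴 ⥤ᵇ 𝒵) (f : 𝒳 ⥤ᵇ 𝒳') :
    FibCat.fp (BasedFunctor.comp f p') q ⥤ᵇ FibCat.fp p' q :=
  FibCat.fpLift (BasedFunctor.comp (FibCat.fpFst (BasedFunctor.comp f p') q) f)
    (FibCat.fpSnd (BasedFunctor.comp f p') q)
    (show BasedFunctor.comp (BasedFunctor.comp (FibCat.fpFst (BasedFunctor.comp f p') q) f) p' ≅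
      BasedFunctor.comp (FibCat.fpSnd (BasedFunctor.comp f p') q) q from FibCat.fpIso (BasedFunctor.comp f p') q)

/-- base change in the second factor -/
abbrev prodSnd (p' : 𝒳' ⥤ᵇ 𝒵) (q' : 𝒴' ⥤ᵇ 𝒵) (g : 𝒴 ⥤ᵇ 𝒴') :
    FibCat.fp p' (BasedFunctor.comp g q') ⥤ᵇ FibCat.fp p' q' :=
  FibCat.fpLift (FibCat.fpFst p' (BasedFunctor.comp g q'))
    (BasedFunctor.comp (FibCat.fpSnd p' (BasedFunctor.comp g q')) g)
    (show BasedFunctor.comp (FibCat.fpFst p' (BasedFunctor.comp g q')) p' ≅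
      BasedFunctor.comp (BasedFunctor.comp (FibCat.fpSnd p' (BasedFunctor.comp g q')) g) q' from
        FibCat.fpIso p' (BasedFunctor.comp g q'))

theorem repWith_diag_prodSnd (p' : 𝒳' ⥤ᵇ 𝒵) (q' : 𝒴' ⥤ᵇ 𝒵) (g : 𝒴 ⥤ᵇ 𝒴')
    (hg : RepByAlgSpWith Q (FibCat.diag g)) : RepByAlgSpWith Q (FibCat.diag (prodSnd p' q' g)) :=
  (repWith_diag_iff_of_equiv (prodSnd p' q' g) (FibCat.fpFst (FibCat.fpSnd p' q') g) (assocFun p' q' g)
    (BasedFunctor.id _) (isEquivOver_assocFun p' q' g) isEquivOver_id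
    (fpExt (Iso.refl _) (FibCat.fpIso (FibCat.fpSnd p' q') g) fun w => by
      show p'.map (𝟙 _) ≫ ((w.obj.fst.obj.iso.hom) ≫ q'.map w.obj.iso.hom) =
        w.obj.fst.obj.iso.hom ≫ q'.map w.obj.iso.hom
      simp only [CategoryTheory.Functor.map_id]
      exact Category.id_comp _)).2 (repWith_diag_fpFst g (FibCat.fpSnd p' q') hg)

theorem repWith_diag_prodFst (p' : 𝒳' ⥤ᵇ 𝒵) (q : 𝒴 ⥤ᵇ 𝒵) (f : 𝒳 ⥤ᵇ 𝒳')
    (hf : RepByAlgSpWith Q (FibCat.diag f)) : RepByAlgSpWith Q (FibCat.diag (prodFst p' q f)) :=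
  (repWith_diag_iff_of_equiv (prodFst p' q f) (FibCat.fpFst (FibCat.fpSnd q p') f)
    (BasedFunctor.comp (assocFun q p' f) (swapFun q (BasedFunctor.comp f p'))) (swapFun q p')
    (isEquivOver_comp (isEquivOver_assocFun q p' f) (isEquivOver_swapFun q (BasedFunctor.comp f p')))
    (isEquivOver_swapFun q p')
    (fpExt (FibCat.fpIso (FibCat.fpSnd q p') f) (Iso.refl _) fun w => by
      let i : q.obj w.obj.fst.obj.fst ≅ p'.obj w.obj.fst.obj.snd := w.obj.fst.obj.iso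
      let k : w.obj.fst.obj.snd ≅ f.obj w.obj.snd := w.obj.iso
      show p'.map k.hom ≫ (i ≪≫ p'.toFunctor.mapIso k).inv = i.inv ≫ q.map (𝟙 _)
      simp only [CategoryTheory.Functor.map_id]
      simp only [Iso.trans_inv, Functor.mapIso_inv]
      rw [← Category.assoc, ← Functor.map_comp, Iso.hom_inv_id, CategoryTheory.Functor.map_id]
      exact (Category.id_comp _).trans (Category.comp_id _).symm)).2 (repWith_diag_fpFst f (FibCat.fpSnd q p') hf)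

/-- the diagonal of a base change to a scheme, with the scheme as a slice -/
theorem repWith_diag_iff_overCat (f : 𝒳 ⥤ᵇ 𝒴) (U : Over S) (y : Stk.ofPsh ((pyon S).obj U) ⥤ᵇ 𝒴) :
    RepByAlgSpWith Q (FibCat.diag (FibCat.fpFst (BasedFunctor.comp (ofOverCat U) y) f)) ↔
      RepByAlgSpWith Q (FibCat.diag (FibCat.fpFst y f)) := by
  let y₀ : FibCat.overCat U ⥤ᵇ 𝒴 := BasedFunctor.comp (ofOverCat U) y
  let i : BasedFunctor.comp (toOverCat U) y₀ ≅ y := (post _ y).mapIso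
    (isoOfSec (BasedFunctor.comp (toOverCat U) (ofOverCat U))
      (BasedFunctor.id (Stk.ofPsh ((pyon S).obj U))) (fun a => rfl))
  refine (repWith_diag_iff_of_equiv (FibCat.fpFst y₀ f)
    (FibCat.fpFst (BasedFunctor.comp (toOverCat U) y₀) f) (slFun U y₀ f) (toOverCat U)
    (isEquivOver_slFun U y₀ f) (isEquivOver_toOverCat U) (Iso.refl _)).trans ?_
  refine (repWith_diag_iff_of_equiv (FibCat.fpFst y f) (FibCat.fpFst (BasedFunctor.comp (toOverCat U) y₀) f)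
    (fpMap (F := y) (G := f) (BasedFunctor.comp (toOverCat U) y₀) f (BasedFunctor.id _) (BasedFunctor.id 𝒳)
      (BasedFunctor.id 𝒴) i (Iso.refl _))
    (BasedFunctor.id _) (isEquivOver_fp_change f i) isEquivOver_id (Iso.refl _)).symm

/-- cancellation for diagonals from cancellation for morphisms of algebraic spaces -/
theorem repWith_of_cancel (h𝒳 : FibCat.IsFibGrpd 𝒳.p) (h𝒴 : FibCat.IsFibGrpd 𝒴.p) (hb : BCStable Q)
    (hcancel : ∀ ⦃X Y Z : Sp S⦄, IsAlgSpace X → IsAlgSpace Y → IsAlgSpace Z →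
      ∀ (a : X ⟶ Y) (b : Y ⟶ Z), Q b → Q (a ≫ b) → Q a)
    {δ : 𝒳 ⥤ᵇ 𝒴} {C : 𝒴 ⥤ᵇ 𝒵} (hd : RepByAlgSp1 δ) (hC : RepByAlgSpWith Q C)
    (hdC : RepByAlgSpWith Q (BasedFunctor.comp δ C)) : RepByAlgSpWith Q δ := by
  haveI := respectsIso_onSp hb
  refine repWith_onSp_iff.1 ((repWith_iff _ δ).2 fun U z => ?_)
  let y := BasedFunctor.comp z C
  obtain ⟨G, eG, heG, hG₁, hG₂, hQb⟩ := (repWith_iff _ C).1 (repWith_onSp_iff.2 hC) U y
  let y₁ : Stk.ofPsh G ⥤ᵇ 𝒴 := BasedFunctor.comp eG (FibCat.fpSnd y C)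
  obtain ⟨P, e, he⟩ := exists_model h𝒳 h𝒴 hd y₁
  obtain ⟨hP₁, hP₂⟩ := isAlgSpaceP_model hd ⟨hG₁, hG₂⟩ he
  haveI : (BasedFunctor.id 𝒴).toFunctor.Full := inferInstanceAs (𝟭 𝒴.obj).Full
  haveI : (BasedFunctor.id 𝒴).toFunctor.Faithful := inferInstanceAs (𝟭 𝒴.obj).Faithful
  let m := fpMap (F := FibCat.fpSnd y C) (G := δ) y₁ δ eG (BasedFunctor.id 𝒳) (BasedFunctor.id 𝒴)
    (Iso.refl _) (Iso.refl _)
  let E := BasedFunctor.comp (BasedFunctor.comp e m) (assocFun y C δ)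
  have hE : FibCat.IsEquivOver E := isEquivOver_comp (isEquivOver_comp he
    (isEquivOver_fpMap _ _ _ _ _ _ _ heG isEquivOver_id)) (isEquivOver_assocFun y C δ)
  let a : (⟨P, hP₁⟩ : Sp S) ⟶ ⟨G, hG₁⟩ := ObjectProperty.homMk (prjMap e)
  let b : (⟨G, hG₁⟩ : Sp S) ⟶ (yon S).obj U := ObjectProperty.homMk (prjMap eG)
  have hab : Q (a ≫ b) := by
    obtain ⟨_, _, hq⟩ := good_of_model (repWith_onSp_iff.2 hdC) hE
    convert hq hP₂ (IsAlgSpace.yon_obj U) using 1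
    exact ObjectProperty.hom_ext _
      (mapOf_comp (BasedFunctor.comp e (FibCat.fpFst y₁ δ)) (BasedFunctor.comp eG (FibCat.fpFst y C))).symm
  have ha : Q a := hcancel hP₂ hG₂ (IsAlgSpace.yon_obj U) a b (hQb hG₂ (IsAlgSpace.yon_obj U)) hab
  obtain ⟨k, hk, -, ⟨j⟩⟩ := isEquivOver_symm heG
  let l : Stk.ofPsh ((pyon S).obj U) ⥤ᵇ FibCat.fp y C :=
    FibCat.fpLift (BasedFunctor.id _) z (Iso.refl _)
  let σ := BasedFunctor.comp l k
  let i₁ : BasedFunctor.comp σ y₁ ≅ z :=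
    (post _ (FibCat.fpSnd y C)).mapIso ((Stk.restr l _).mapIso j)
  let i : BasedFunctor.comp (Stk.ofPshMap (mapOf σ)) y₁ ≅ z := (post _ y₁).mapIso (mapOfIso σ) ≪≫ i₁
  let s : (yon S).obj U ⟶ (⟨G, hG₁⟩ : Sp S) := ObjectProperty.homMk (mapOf σ)
  have sqS := IsPullback.of_hasPullback a s
  have sq := sqS.map (sheafToPresheaf (J S) (Type (u + 1)))
  obtain ⟨e', he', hprj⟩ := exists_model_baseChange (f := δ) (mapOf σ) he
    (P' := (pullback a s).obj) (fst := (pullback.fst a s).hom) (snd := (pullback.snd a s).hom) sq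
  obtain ⟨e'', he'', hprj'⟩ := exists_model_change (f := δ) i he'
  refine ⟨(pullback a s).obj, e'', he'', ?_⟩
  have hW := isAlgSpace_of_isPullback_space hG₂ hP₂ (IsAlgSpace.yon_obj U) sqS
  rw [hprj', hprj]
  exact ⟨(pullback a s).property, hW, fun _ _ => hb hP₂ hG₂ hW (IsAlgSpace.yon_obj U) a s _ _ sqS ha⟩

end Groth.Agent.AlgStLib

end
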