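import Groth.Prelude.Def_AlgSt
import Groth.Agent.FibCat2Misc.Grpd
import Mathlib.CategoryTheory.Limits.Shapes.Pullback.IsPullback.Basic
import Mathlib.CategoryTheory.Limits.FunctorCategory.Basic
import Mathlib.CategoryTheory.Limits.Types.Pullbacks

/-!
# The category over `C` of a presheaf: maps over the base are maps of presheaves

`mapOf Φ` is the map of presheaves of a functor over the base between categories of presheaves; it only depends on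
`Φ` up to isomorphism over the base; fibre products of presheaves give fibre products of categories; a category fibred
in setoids is the category of a presheaf up to equivalence over the base.
-/

set_option autoImplicit false
set_option backward.isDefEq.respectTransparency false
set_option backward.isDefEq.respectTransparency.types false
set_option linter.style.haveILetI false
universe w v₄ u₄ v₃ u₃ v₂ u₂ v u

noncomputable section

namespace Groth.Agent.AlgStLib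

open CategoryTheory CategoryTheory.Limits Opposite Groth.Agent.FibCatRep Groth.Agent.FibCat2Misc

variable {C : Type u} [Category.{v} C] {P Q R : Cᵒᵖ ⥤ Type w}

/-- morphisms of a category of elements over an identity -/
def isoOfEq {a b : Stk.EltObj P} (h : a.base = b.base) (e : P.map (eqToHom h).op b.sec = a.sec) :
    a ≅ b where
  hom := ⟨eqToHom h, e⟩
  inv := ⟨eqToHom h.symm, by rw [← e, ← Functor.map_comp_apply, ← op_comp]; simp⟩
  hom_inv_id := Stk.EltObj.hom_ext (by simp)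
  inv_hom_id := Stk.EltObj.hom_ext (by simp)

@[simp] lemma isoOfEq_hom {a b : Stk.EltObj P} (h : a.base = b.base)
    (e : P.map (eqToHom h).op b.sec = a.sec) : (isoOfEq h e).hom.hom = eqToHom h := rfl

lemma faithful_forget : (Stk.EltObj.forget P).Faithful := ⟨fun h => Stk.EltObj.hom_ext h⟩

lemma isFibSetoid_ofPsh : FibCat.IsFibSetoid (Stk.ofPsh P).p :=
  isFibSetoid_iff.2 ⟨Stk.isFibGrpd_ofPsh P, faithful_forget⟩

variable {𝒳 : BasedCategory.{v₂, u₂} C} {𝒴 : BasedCategory.{v₃, u₃} C}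

lemma base_eq (Φ : 𝒳 ⥤ᵇ Stk.ofPsh Q) (a : 𝒳.obj) : (Φ.obj a).base = 𝒳.p.obj a := Φ.w_obj a

lemma hom_map (Φ : 𝒳 ⥤ᵇ Stk.ofPsh Q) {a b : 𝒳.obj} (m : a ⟶ b) :
    (Φ.map m).hom = eqToHom (base_eq Φ a) ≫ 𝒳.p.map m ≫ eqToHom (base_eq Φ b).symm := map_map Φ m

lemma hom_app {Φ Ψ : 𝒳 ⥤ᵇ Stk.ofPsh Q} (i : Φ ⟶ Ψ) (a : 𝒳.obj) :
    (i.toNatTrans.app a).hom = eqToHom ((base_eq Φ a).trans (base_eq Ψ a).symm) := map_app i a

/-- the section of `Q` over `𝒳.p.obj a` attached to an object `a` by a functor over the base -/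
def secOf (Φ : 𝒳 ⥤ᵇ Stk.ofPsh Q) (a : 𝒳.obj) : Q.obj (op (𝒳.p.obj a)) :=
  Q.map (eqToHom (base_eq Φ a).symm).op (Φ.obj a).sec

lemma sec_eq (Φ : 𝒳 ⥤ᵇ Stk.ofPsh Q) (a : 𝒳.obj) :
    (Φ.obj a).sec = Q.map (eqToHom (base_eq Φ a)).op (secOf Φ a) := by
  rw [secOf, ← Functor.map_comp_apply, ← op_comp, eqToHom_trans, eqToHom_refl]
  simp

lemma secOf_map (Φ : 𝒳 ⥤ᵇ Stk.ofPsh Q) {a b : 𝒳.obj} (m : a ⟶ b) :
    Q.map (𝒳.p.map m).op (secOf Φ b) = secOf Φ a := by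
  have h := hom_map Φ m
  have e := (Φ.map m).map_sec
  rw [h] at e
  show Q.map _ (Q.map _ _) = Q.map _ _
  rw [← Functor.map_comp_apply, ← op_comp]
  conv_rhs => rw [← e, ← Functor.map_comp_apply, ← op_comp]
  simp

lemma secOf_congr {Φ Ψ : 𝒳 ⥤ᵇ Stk.ofPsh Q} (i : Φ ≅ Ψ) (a : 𝒳.obj) : secOf Φ a = secOf Ψ a := by
  have h := hom_app i.hom a
  have e := (i.hom.toNatTrans.app a).map_sec
  rw [h] at e
  show Q.map _ _ = Q.map _ _
  rw [← e, ← Functor.map_comp_apply, ← op_comp]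
  simp

/-- two functors over the base into the category of a presheaf with the same sections are isomorphic -/
def isoOfSec (Φ Ψ : 𝒳 ⥤ᵇ Stk.ofPsh Q) (h : ∀ a, secOf Φ a = secOf Ψ a) : Φ ≅ Ψ :=
  BasedNatIso.mkNatIso
    (NatIso.ofComponents (fun a => isoOfEq ((base_eq Φ a).trans (base_eq Ψ a).symm) (by
      rw [sec_eq Φ a, sec_eq Ψ a, h a, ← Functor.map_comp_apply, ← op_comp, eqToHom_trans]))
      (fun {a b} m => Stk.EltObj.hom_ext (by
        rw [Stk.EltObj.comp_hom, Stk.EltObj.comp_hom, hom_map, hom_map, isoOfEq_hom, isoOfEq_hom]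
        simp)))
    (fun a => IsHomLift.of_fac' (Stk.ofPsh Q).p (𝟙 _) _ (Φ.w_obj a) (Ψ.w_obj a) (by
      simp only [NatIso.ofComponents_hom_app, isoOfEq_hom, Stk.EltObj.forget_map]
      simp))

/-- the map of presheaves of a functor over the base -/
def mapOf (Φ : Stk.ofPsh P ⥤ᵇ Stk.ofPsh Q) : P ⟶ Q where
  app T := ↾fun x => secOf Φ ⟨T.unop, x⟩
  naturality {T T'} g := by
    ext x
    exact (secOf_map Φ (⟨g.unop, rfl⟩ : (⟨T'.unop, P.map g x⟩ : Stk.EltObj P) ⟶ ⟨T.unop, x⟩)).symm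

lemma mapOf_app (Φ : Stk.ofPsh P ⥤ᵇ Stk.ofPsh Q) (a : Stk.EltObj P) :
    (mapOf Φ).app (op a.base) a.sec = secOf Φ a := rfl

lemma secOf_comp_ofPshMap (Φ : 𝒳 ⥤ᵇ Stk.ofPsh P) (φ : P ⟶ Q) (a : 𝒳.obj) :
    secOf (BasedFunctor.comp Φ (Stk.ofPshMap φ)) a = φ.app _ (secOf Φ a) :=
  (NatTrans.naturality_apply φ (eqToHom (base_eq Φ a).symm).op (Φ.obj a).sec).symm

lemma secOf_ofPshMap (φ : P ⟶ Q) (a : Stk.EltObj P) : secOf (Stk.ofPshMap φ) a = φ.app _ a.sec := by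
  simp [secOf, Stk.ofPshMap]

lemma secOf_id (a : Stk.EltObj P) : secOf (BasedFunctor.id (Stk.ofPsh P)) a = a.sec := by
  simp [secOf, BasedFunctor.id]

lemma secOf_comp (Ψ : 𝒳 ⥤ᵇ 𝒴) (Φ : 𝒴 ⥤ᵇ Stk.ofPsh Q) (a : 𝒳.obj) :
    secOf (BasedFunctor.comp Ψ Φ) a = Q.map (eqToHom (Ψ.w_obj a).symm).op (secOf Φ (Ψ.obj a)) := by
  show Q.map _ _ = Q.map _ (Q.map _ _)
  rw [← Functor.map_comp_apply, ← op_comp]
  simp [BasedFunctor.comp]

@[simp] lemma mapOf_ofPshMap (φ : P ⟶ Q) : mapOf (Stk.ofPshMap φ) = φ := by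
  ext T x
  exact secOf_ofPshMap φ ⟨T.unop, x⟩

@[simp] lemma mapOf_id : mapOf (BasedFunctor.id (Stk.ofPsh P)) = 𝟙 P := by
  ext T x
  exact secOf_id (⟨T.unop, x⟩ : Stk.EltObj P)

lemma mapOf_congr {Φ Ψ : Stk.ofPsh P ⥤ᵇ Stk.ofPsh Q} (i : Φ ≅ Ψ) : mapOf Φ = mapOf Ψ := by
  ext T x
  exact secOf_congr i ⟨T.unop, x⟩

/-- a functor over the base is the one of its map of presheaves -/
def mapOfIso (Φ : Stk.ofPsh P ⥤ᵇ Stk.ofPsh Q) : Stk.ofPshMap (mapOf Φ) ≅ Φ :=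
  isoOfSec _ _ fun a => (secOf_ofPshMap _ a).trans (mapOf_app Φ a)

lemma mapOf_comp (Φ : Stk.ofPsh P ⥤ᵇ Stk.ofPsh Q) (Ψ : Stk.ofPsh Q ⥤ᵇ Stk.ofPsh R) :
    mapOf (BasedFunctor.comp Φ Ψ) = mapOf Φ ≫ mapOf Ψ := by
  rw [mapOf_congr (show BasedFunctor.comp Φ Ψ ≅ BasedFunctor.comp Φ (Stk.ofPshMap (mapOf Ψ)) from
    (Stk.restr Φ (Stk.ofPsh R)).mapIso (mapOfIso Ψ).symm)]
  ext T x
  exact secOf_comp_ofPshMap Φ (mapOf Ψ) ⟨T.unop, x⟩

/-- equivalences over the base between categories of presheaves are isomorphisms of presheaves -/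
lemma isIso_mapOf {Φ : Stk.ofPsh P ⥤ᵇ Stk.ofPsh Q} (hΦ : FibCat.IsEquivOver Φ) : IsIso (mapOf Φ) := by
  obtain ⟨G, ⟨e₁⟩, ⟨e₂⟩⟩ := hΦ
  exact ⟨mapOf G, by rw [← mapOf_comp, mapOf_congr e₁, mapOf_id],
    by rw [← mapOf_comp, mapOf_congr e₂, mapOf_id]⟩

lemma mapOfComp_ofPshMap (φ : P ⟶ Q) (ψ : Q ⟶ R) :
    Nonempty (BasedFunctor.comp (Stk.ofPshMap φ) (Stk.ofPshMap ψ) ≅ Stk.ofPshMap (φ ≫ ψ)) :=
  ⟨isoOfSec _ _ fun a => by rw [secOf_comp_ofPshMap, secOf_ofPshMap, secOf_ofPshMap]; rfl⟩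

lemma isEquivOver_ofPshMap (φ : P ⟶ Q) [IsIso φ] : FibCat.IsEquivOver (Stk.ofPshMap φ) :=
  ⟨Stk.ofPshMap (inv φ),
    ⟨isoOfSec _ _ fun a => by
      rw [secOf_comp_ofPshMap, secOf_ofPshMap, secOf_id]
      exact congrArg (fun k => k.app (op a.base) a.sec) (IsIso.hom_inv_id φ)⟩,
    ⟨isoOfSec _ _ fun a => by
      rw [secOf_comp_ofPshMap, secOf_ofPshMap, secOf_id]
      exact congrArg (fun k => k.app (op a.base) a.sec) (IsIso.inv_hom_id φ)⟩⟩

section fibre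

variable {A B P' : Cᵒᵖ ⥤ Type w} {π : B ⟶ A} {a : P ⟶ A} {fst : P' ⟶ P} {snd : P' ⟶ B}

/-- the comparison functor of a square of presheaves -/
def pbFun (sq : CommSq fst snd a π) :
    Stk.ofPsh P' ⥤ᵇ FibCat.fp (Stk.ofPshMap a) (Stk.ofPshMap π) :=
  FibCat.fpLift (Stk.ofPshMap fst) (Stk.ofPshMap snd) (isoOfSec _ _ fun x => by
    rw [secOf_comp_ofPshMap, secOf_comp_ofPshMap, secOf_ofPshMap, secOf_ofPshMap]
    exact congrArg (fun k => k.app (op x.base) x.sec) sq.w)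

lemma isEquivOver_pbFun (sq : IsPullback fst snd a π) : FibCat.IsEquivOver (pbFun sq.toCommSq) := by
  have sqT : ∀ T : Cᵒᵖ, IsPullback (fst.app T) (snd.app T) (a.app T) (π.app T) := fun T =>
    sq.map ((evaluation _ _).obj T)
  haveI : (pbFun sq.toCommSq).toFunctor.Faithful :=
    ⟨fun {x y} m m' h => Stk.EltObj.hom_ext (congrArg (fun t => t.hom.fst.hom) h)⟩
  haveI : (pbFun sq.toCommSq).toFunctor.Full := ⟨fun {x y} m => by
    have h₂ : m.hom.snd.hom = m.hom.fst.hom := by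
      have := map_snd m
      simpa using this
    refine ⟨⟨m.hom.fst.hom, ?_⟩, ObjectProperty.hom_ext _ (CategoricalPullback.hom_ext
      (Stk.EltObj.hom_ext rfl) (Stk.EltObj.hom_ext h₂.symm))⟩
    refine Types.ext_of_isPullback (sqT (op x.base)) ?_ ?_
    · rw [NatTrans.naturality_apply]
      exact m.hom.fst.map_sec
    · rw [NatTrans.naturality_apply, ← show m.hom.snd.hom = m.hom.fst.hom from h₂]
      exact m.hom.snd.map_sec⟩
  refine isEquivOver_of_fullyFaithful _ fun η => ?_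
  obtain ⟨q, hq⟩ := map_iso_hom η
  change η.obj.iso.hom.hom = eqToHom q at hq
  let h : η.obj.fst.base = η.obj.snd.base := (fp_obj_eq η).symm
  have he : a.app _ η.obj.fst.sec = π.app _ (B.map (eqToHom h).op η.obj.snd.sec) := by
    rw [NatTrans.naturality_apply]
    have := η.obj.iso.hom.map_sec
    rw [hq] at this
    exact this.symm
  obtain ⟨x, hx₁, hx₂⟩ := Types.exists_of_isPullback (sqT (op η.obj.fst.base)) _ _ he
  refine ⟨⟨η.obj.fst.base, x⟩, ObjectProperty.isoMk _ (CategoricalPullback.mkIso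
      (isoOfEq rfl ?_) (isoOfEq h ?_) ?_), rfl, rfl⟩
  · show P.map (eqToHom rfl).op η.obj.fst.sec = fst.app _ x
    simpa using hx₁.symm
  · exact hx₂.symm
  · obtain ⟨q', hq'⟩ := map_iso_hom ((pbFun sq.toCommSq).obj ⟨η.obj.fst.base, x⟩)
    refine Stk.EltObj.hom_ext ?_
    rw [Stk.EltObj.comp_hom, Stk.EltObj.comp_hom]
    change eqToHom rfl ≫ η.obj.iso.hom.hom = ((pbFun sq.toCommSq).obj ⟨η.obj.fst.base, x⟩).obj.iso.hom.hom ≫ eqToHom h
    change ((pbFun sq.toCommSq).obj ⟨η.obj.fst.base, x⟩).obj.iso.hom.hom = eqToHom q' at hq'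
    rw [hq, hq']

end fibre

section setoid

variable {𝒵 : BasedCategory.{v₄, u₄} C}

/-- isomorphism over the base between objects over the same object -/
def fibRel (𝒵 : BasedCategory.{v₄, u₄} C) (T : C) (a b : {z : 𝒵.obj // 𝒵.p.obj z = T}) : Prop :=
  ∃ e : a.1 ≅ b.1, 𝒵.p.map e.hom = eqToHom (a.2.trans b.2.symm)

theorem exists_psh (h : FibCat.IsFibSetoid 𝒵.p) :
    ∃ (P : Cᵒᵖ ⥤ Type u₄) (e : Stk.ofPsh P ⥤ᵇ 𝒵), FibCat.IsEquivOver e := by
  classical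
  obtain ⟨hg, hf⟩ := isFibSetoid_iff.1 h
  haveI := hf
  have hsetoid : ∀ T : C, Equivalence (fibRel 𝒵 T) := fun T =>
    ⟨fun a => ⟨Iso.refl _, by simp⟩,
      fun {a b} ⟨e, he⟩ => ⟨e.symm, by
        rw [Iso.symm_hom, ← IsIso.Iso.inv_hom e]; exact map_inv_of_eqToHom _ he⟩,
      fun {a b c} ⟨e, he⟩ ⟨e', he'⟩ => ⟨e ≪≫ e', by simp [he, he']⟩⟩
  choose lft φ hlft using fun (x : 𝒵.obj) (V : C) (f : V ⟶ 𝒵.p.obj x) => exists_lift hg (x := x) f
  have hrel : ∀ {T : C} (a b : {z : 𝒵.obj // 𝒵.p.obj z = T}) (x : 𝒵.obj) (m : a.1 ⟶ x) (n : b.1 ⟶ x),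
      𝒵.p.map m = eqToHom (a.2.trans b.2.symm) ≫ 𝒵.p.map n → fibRel 𝒵 T a b := by
    intro T a b x m n e
    obtain ⟨χ, ⟨hχ, -⟩, -⟩ := existsUnique_cart hg n m (eqToHom (a.2.trans b.2.symm)) e.symm
    haveI : IsIso (𝒵.p.map χ) := by rw [hχ]; infer_instance
    haveI := isIso_of_map hg χ
    exact ⟨asIso χ, hχ⟩
  let pull : ∀ {T T' : C} (g : T' ⟶ T), {z : 𝒵.obj // 𝒵.p.obj z = T} → {z : 𝒵.obj // 𝒵.p.obj z = T'} :=
    fun g a => ⟨lft a.1 _ (g ≫ eqToHom a.2.symm), (hlft a.1 _ (g ≫ eqToHom a.2.symm)).1⟩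
  have hpull : ∀ {T T' : C} (g : T' ⟶ T) (a b : {z : 𝒵.obj // 𝒵.p.obj z = T}),
      fibRel 𝒵 T a b → fibRel 𝒵 T' (pull g a) (pull g b) := by
    intro T T' g a b ⟨e, he⟩
    refine hrel _ _ b.1 (φ a.1 _ _ ≫ e.hom) (φ b.1 _ _) ?_
    rw [Functor.map_comp, he, (hlft a.1 _ (g ≫ eqToHom a.2.symm)).2,
      (hlft b.1 _ (g ≫ eqToHom b.2.symm)).2]
    simp
  let P : Cᵒᵖ ⥤ Type u₄ :=
    { obj := fun T => Quot (fibRel 𝒵 T.unop)
      map := fun {T T'} g => ↾(Quot.map (pull g.unop) (hpull g.unop))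
      map_id := fun T => by
        ext q
        induction q using Quot.ind with
        | _ a =>
          refine Quot.sound (hrel _ _ a.1 (φ a.1 _ _) (𝟙 _) ?_)
          rw [(hlft a.1 _ _).2]
          simp
      map_comp := fun {T T' T''} g g' => by
        ext q
        induction q using Quot.ind with
        | _ a =>
          refine Quot.sound (hrel _ _ a.1 (φ a.1 _ _) (φ _ _ _ ≫ φ a.1 _ _) ?_)
          rw [Functor.map_comp, (hlft a.1 _ _).2, (hlft _ _ _).2, (hlft a.1 _ _).2]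
          simp [pull] }
  let ρ : 𝒵 ⥤ᵇ Stk.ofPsh P :=
    { toFunctor :=
        { obj := fun z => ⟨𝒵.p.obj z, Quot.mk _ ⟨z, rfl⟩⟩
          map := fun {z z'} m => ⟨𝒵.p.map m, Quot.sound (hrel _ _ z' (φ z' _ _) m (by
            rw [(hlft z' _ _).2]; simp))⟩
          map_id := fun z => Stk.EltObj.hom_ext (𝒵.p.map_id z)
          map_comp := fun m m' => Stk.EltObj.hom_ext (𝒵.p.map_comp m m') }
      w := rfl }
  haveI : ρ.toFunctor.Faithful := ⟨fun {z z'} m m' e => 𝒵.p.map_injective (congrArg (fun t => t.hom) e)⟩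
  haveI : ρ.toFunctor.Full := ⟨fun {z z'} m => by
    have hm : Quot.mk (fibRel 𝒵 (𝒵.p.obj z)) (pull m.hom ⟨z', rfl⟩) = Quot.mk _ ⟨z, rfl⟩ := m.map_sec
    obtain ⟨e, he⟩ := (hsetoid _).eqvGen_iff.1 (Quot.eqvGen_exact hm)
    refine ⟨e.inv ≫ φ z' _ _, Stk.EltObj.hom_ext ?_⟩
    show 𝒵.p.map (e.inv ≫ φ z' _ _) = m.hom
    rw [Functor.map_comp, (hlft z' _ _).2, ← IsIso.Iso.inv_hom e, map_inv_of_eqToHom _ he]
    simp [pull]⟩
  obtain ⟨e, he, -, -⟩ := isEquivOver_symm (isEquivOver_of_fullyFaithful ρ (fun η => by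
    obtain ⟨T, q⟩ := η
    induction q using Quot.ind with
    | _ a =>
      refine ⟨a.1, isoOfEq a.2 ?_, a.2, rfl⟩
      exact Quot.sound (hrel _ _ a.1 (φ a.1 _ _) (𝟙 _) (by rw [(hlft a.1 _ _).2]; simp))))
  exact ⟨P, e, he⟩

end setoid

end Groth.Agent.AlgStLib

end
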