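import Groth.Agent.GerbLib.Basic
import Groth.Agent.QDescent.Cat
import Groth.Agent.AlgStLib.OfPsh
import Groth.Prelude.Def_StCoarse
import Mathlib.AlgebraicGeometry.AlgClosed.Basic

/-!
# Gerbes and geometric points

fppf covering sieves of the spectrum of an algebraically closed field are trivial, so a gerbe `F : 𝒳 ⟶ 𝒴`
identifies isomorphism classes of objects over such points; bijectivity on geometric points passes along `F`.
-/

set_option autoImplicit false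
set_option backward.isDefEq.respectTransparency false
set_option backward.isDefEq.respectTransparency.types false
set_option linter.style.haveILetI false
universe u

namespace Groth.Agent.AlgStLib

open CategoryTheory CategoryTheory.Limits AlgebraicGeometry Opposite

variable {S : Scheme.{u}}

theorem sieve_algClosed {Ω : Type u} [Field Ω] [IsAlgClosed Ω] {t : Spec (CommRingCat.of Ω) ⟶ S}
    {R : Sieve (Over.mk t)} (hR : R ∈ QuotSh.J Scheme.fppfPrecoverage S (Over.mk t)) : R (𝟙 (Over.mk t)) := by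
  obtain ⟨V, f, hf, -, hfp, hrange⟩ := Groth.Agent.QDescent.exists_fppf_point hR
    (IsLocalRing.closedPoint Ω : (Spec (CommRingCat.of Ω) : Scheme.{u}))
  obtain ⟨v, -⟩ := hrange
  let g : V.left ⟶ Spec (CommRingCat.of Ω) := f.left
  haveI : LocallyOfFinitePresentation g := hfp
  haveI : LocallyOfFiniteType g := inferInstance
  haveI : JacobsonSpace ↥V.left := LocallyOfFiniteType.jacobsonSpace g
  obtain ⟨x, -, hx⟩ := nonempty_inter_closedPoints (X := ↥V.left) (Z := Set.univ) ⟨v, trivial⟩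
    isClosed_univ.isLocallyClosed
  let k : Over.mk t ⟶ V := Over.homMk (pointOfClosedPoint g x hx) (by
    show pointOfClosedPoint g x hx ≫ V.hom = t
    rw [← Over.w f]
    show pointOfClosedPoint g x hx ≫ g ≫ t = t
    rw [pointOfClosedPoint_comp_assoc])
  have hk : k ≫ f = 𝟙 _ := Over.OverMorphism.ext (pointOfClosedPoint_comp g x hx)
  rw [← hk]
  exact R.downward_closed hf k

variable {𝒳 𝒴 : AlgSt.Cat S} {M : AlgSp.Sp S}

theorem fibSec_congr_hom (π : 𝒳 ⥤ᵇ AlgSt.ofSp M) {T : Over S} {x y : 𝒳.p.Fiber T} (φ : x ⟶ y) :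
    AlgSt.fibSec π x = AlgSt.fibSec π y := by
  obtain ⟨a, ha⟩ := x
  obtain ⟨b, hb⟩ := y
  subst ha
  have h := secOf_map π φ.1
  have e : 𝒳.p.map φ.1 = eqToHom hb.symm := by
    haveI := φ.2
    rw [IsHomLift.fac' 𝒳.p (𝟙 (𝒳.p.obj a)) φ.1]
    simp
  rw [e] at h
  show M.obj.map _ (π.obj a).sec = M.obj.map _ (π.obj b).sec
  refine h.symm.trans ?_
  show M.obj.map _ (M.obj.map _ _) = _
  rw [← Functor.map_comp_apply, ← op_comp, eqToHom_trans]

/-- the image of an object of a fibre -/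
abbrev imFib (F : 𝒳 ⥤ᵇ 𝒴) {T : Over S} (x : 𝒳.p.Fiber T) : 𝒴.p.Fiber T := ⟨F.obj x.1, (F.w_obj x.1).trans x.2⟩

theorem fibSec_comp (F : 𝒳 ⥤ᵇ 𝒴) (π : 𝒴 ⥤ᵇ AlgSt.ofSp M) {T : Over S} (x : 𝒳.p.Fiber T) :
    AlgSt.fibSec (BasedFunctor.comp F π) x = AlgSt.fibSec π (imFib F x) := rfl

theorem fibSec_iso {π π' : 𝒳 ⥤ᵇ AlgSt.ofSp M} (i : π ≅ π') {T : Over S} (x : 𝒳.p.Fiber T) :
    AlgSt.fibSec π x = AlgSt.fibSec π' x := by
  obtain ⟨a, ha⟩ := x
  subst ha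
  exact secOf_congr i a

/-- morphisms of a fibre of a category fibred in groupoids are isomorphisms -/
noncomputable def fiberIso (h𝒳 : FibCat.IsFibGrpd 𝒳.p) {T : Over S} {x y : 𝒳.p.Fiber T} (g : x ⟶ y) : x ≅ y :=
  haveI : 𝒳.p.IsHomLift (𝟙 T) g.1 := g.2
  haveI : IsIso g.1 := GerbLib.isIso_over_id h𝒳 (V := T) g.1
  { hom := g
    inv := ⟨inv g.1, IsHomLift.lift_id_inv_isIso 𝒳.p T g.1⟩
    hom_inv_id := Functor.Fiber.hom_ext (IsIso.hom_inv_id _)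
    inv_hom_id := Functor.Fiber.hom_ext (IsIso.inv_hom_id _) }

section

variable (h𝒳 : FibCat.IsFibGrpd 𝒳.p) {F : 𝒳 ⥤ᵇ 𝒴}
  (hF : Gerb.IsGerbeOver (QuotSh.J Scheme.fppfPrecoverage S) F)
  {Ω : Type u} [Field Ω] [IsAlgClosed Ω] (t : Spec (CommRingCat.of Ω) ⟶ S)

include hF in
/-- objects over a geometric point lift along a gerbe -/
theorem exists_fibre_lift (y : 𝒴.p.Fiber (Over.mk t)) :
    ∃ x : 𝒳.p.Fiber (Over.mk t),
      Nonempty (imFib F x ⟶ y) := by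
  obtain ⟨R, hR, hlift⟩ := GerbLib.locObj_at hF.1 y.1 y.2
  obtain ⟨x, g, hg⟩ := hlift _ (sieve_algClosed hR)
  exact ⟨⟨x, GerbLib.obj_over F (IsHomLift.domain_eq 𝒴.p (𝟙 (Over.mk t)) g)⟩, ⟨⟨g, hg⟩⟩⟩

include h𝒳 hF in
/-- isomorphisms of images over a geometric point lift along a gerbe -/
theorem nonempty_iso_of_image (x x' : 𝒳.p.Fiber (Over.mk t))
    (b : imFib F x ⟶ imFib F x') : Nonempty (x ≅ x') := by
  obtain ⟨R, hR, hlift⟩ := GerbLib.locHom_at hF.2 x.1 x'.1 b.1 x.2 b.2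
  obtain ⟨x₀, φ, ψ, hφ, hψ, -⟩ := hlift _ (sieve_algClosed hR)
  haveI := hφ; haveI := hψ
  haveI := GerbLib.isIso_over_id h𝒳 (V := Over.mk t) φ
  have h : 𝒳.p.IsHomLift (𝟙 (Over.mk t)) (inv φ ≫ ψ) := by
    refine IsHomLift.of_fac' _ _ _ x.2 x'.2 ?_
    rw [Functor.map_comp, Functor.map_inv, IsIso.inv_comp_eq, IsHomLift.fac' 𝒳.p (𝟙 (Over.mk t)) φ,
      IsHomLift.fac' 𝒳.p (𝟙 (Over.mk t)) ψ]
    simp
  exact ⟨fiberIso h𝒳 ⟨inv φ ≫ ψ, h⟩⟩

end

theorem geomPtBij_comp_iff (h𝒳 : FibCat.IsFibGrpd 𝒳.p) (h𝒴 : FibCat.IsFibGrpd 𝒴.p) {F : 𝒳 ⥤ᵇ 𝒴}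
    (hF : Gerb.IsGerbeOver (QuotSh.J Scheme.fppfPrecoverage S) F) (π : 𝒴 ⥤ᵇ AlgSt.ofSp M) :
    AlgSt.GeomPtBij (BasedFunctor.comp F π) ↔ AlgSt.GeomPtBij π := by
  constructor
  · intro h Ω _ _ t
    refine ⟨fun m => ?_, fun y y' he => ?_⟩
    · obtain ⟨x, hx⟩ := (h Ω t).1 m
      exact ⟨imFib F x, (fibSec_comp F π x).symm.trans hx⟩
    · obtain ⟨x, ⟨g⟩⟩ := exists_fibre_lift hF t y
      obtain ⟨x', ⟨g'⟩⟩ := exists_fibre_lift hF t y'
      have e : AlgSt.fibSec (BasedFunctor.comp F π) x = AlgSt.fibSec (BasedFunctor.comp F π) x' := by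
        rw [fibSec_comp F π x, fibSec_comp F π x', fibSec_congr_hom π g, he, fibSec_congr_hom π g']
      obtain ⟨i⟩ := (h Ω t).2 x x' e
      let j : imFib F x ⟶ imFib F x' := ⟨F.map i.hom.1, GerbLib.map_lift F i.hom.2⟩
      exact ⟨(fiberIso h𝒴 g).symm ≪≫ fiberIso h𝒴 j ≪≫ fiberIso h𝒴 g'⟩
  · intro h Ω _ _ t
    refine ⟨fun m => ?_, fun x x' he => ?_⟩
    · obtain ⟨y, hy⟩ := (h Ω t).1 m
      obtain ⟨x, ⟨g⟩⟩ := exists_fibre_lift hF t y
      exact ⟨x, by rw [fibSec_comp F π x, fibSec_congr_hom π g, hy]⟩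
    · rw [fibSec_comp F π x, fibSec_comp F π x'] at he
      obtain ⟨b⟩ := (h Ω t).2 (imFib F x) (imFib F x') he
      exact nonempty_iso_of_image h𝒳 hF t x x' b.hom

end Groth.Agent.AlgStLib
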