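import Groth.Agent.AlgStLib.LocQRep
import Groth.Agent.FppfSource.Scheme

/-!
# The classes read on smooth charts
-/

set_option autoImplicit false
set_option backward.isDefEq.respectTransparency false
set_option backward.isDefEq.respectTransparency.types false
set_option linter.style.haveILetI false
universe u

noncomputable section

namespace Groth.Agent.AlgStLib

open CategoryTheory CategoryTheory.Limits AlgebraicGeometry Opposite Groth.Agent.AlgSpLib
open _root_.AlgSp _root_.AlgSt

variable {S : Scheme.{u}}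

theorem locP_yon_iff {P : MorphismProperty Scheme.{u}} (hP : EtST P) {U V : Over S} (h : U ⟶ V) :
    LocP P ((yon S).map h) ↔ P h.left := by
  haveI := hP.baseChange
  haveI : P.RespectsIso := MorphismProperty.IsStableUnderBaseChange.respectsIso
  exact (locP_iff_repWith hP (IsAlgSpace.yon_obj V) (AlgSp.representable_yon_map _)).trans (repWith_yon_iff _)

theorem locP_mono {P Q : MorphismProperty Scheme.{u}} (h : ∀ ⦃X Y : Scheme.{u}⦄ (f : X ⟶ Y), P f → Q f)
    {X Y : Sp S} (f : X ⟶ Y) (hf : LocP P f) : LocP Q f :=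
  fun _ _ a b k h₁ h₂ c => h _ (hf a b k h₁ h₂ c)

theorem isSmoothLocalST_locP {P : MorphismProperty Scheme.{u}} (hP : EtST P) [IsZariskiLocalAtTarget P]
    [IsZariskiLocalAtSource P] (hl : IsLocalOnBase (IsFppfCover (S := S)) (LocP (S := S) P))
    (hsm : ∀ ⦃X Y : Scheme.{u}⦄ (f : X ⟶ Y), Smooth f → P f)
    (hd : ∀ ⦃X Y Z : Scheme.{u}⦄ (f : X ⟶ Y) (g : Y ⟶ Z), Smooth f → Surjective f → P (f ≫ g) → P g) :
    AlgSp.IsSmoothLocalST (LocP (S := S) P) := by
  have := hP.comp
  haveI : MorphismProperty.IsLocalAtSource P (Scheme.precoverage @Smooth) :=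
    AlgSpLib.isLocalAtSource_precoverage (R := (@Smooth : MorphismProperty Scheme.{u}))
      (fun _ _ _ f g hf hg => P.comp_mem f g (hsm f hf) hg) (fun _ _ _ f g hf hs h => hd f g hf hs h) _ le_rfl
  refine SmLocalST.isSmoothLocalST (isLocalOnSource_smooth P) ?_ fun {X Y Z} f g hf hg =>
    locP_comp hP Y.property Z.property hf (locP_mono hsm _ hg)
  intro ι Y Yi g hY hYi hg X f hX Xi p q hXi sq
  exact hl Yi g hY hYi ⟨fun i => ⟨locP_mono (fun _ _ r hr => by haveI : Smooth r := hr; infer_instance) _ (hg.1 i),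
    locP_mono (fun _ _ r hr => by haveI : Smooth r := hr; infer_instance) _ (hg.1 i)⟩, hg.2⟩ f hX Xi p q hXi sq

theorem cls_flat : Cls (LocP (S := S) @Flat) := cls_locP etST_flat (isLocalOnBase_locP etST_flat)

theorem cls_lfp : Cls (LocP (S := S) @LocallyOfFinitePresentation) :=
  cls_locP etST_lfp (isLocalOnBase_locP etST_lfp)

theorem st_flat : AlgSp.IsSmoothLocalST (LocP (S := S) @Flat) :=
  isSmoothLocalST_locP etST_flat cls_flat.loc (fun _ _ _ h => by haveI := h; infer_instance)
    fun _ _ _ f g hf hs h => by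
      haveI := hf; haveI := hs; haveI := h
      exact GrpdLib.flat_of_flat_comp f g

theorem st_lft : AlgSp.IsSmoothLocalST (LocP (S := S) @LocallyOfFiniteType) :=
  isSmoothLocalST_locP etST_lft cls_lft.loc (fun _ _ _ h => by haveI := h; infer_instance)
    fun _ _ _ f g hf hs h => by
      haveI := hf; haveI := hs; haveI := h
      exact FppfSource.lft f g

theorem st_lfp : AlgSp.IsSmoothLocalST (LocP (S := S) @LocallyOfFinitePresentation) :=
  isSmoothLocalST_locP etST_lfp cls_lfp.loc (fun _ _ _ h => by haveI := h; infer_instance)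
    fun _ _ _ f g hf hs h => by
      haveI := hf; haveI := hs; haveI := h
      exact FppfSource.lfp f g

theorem st_smooth : AlgSp.IsSmoothLocalST (LocP (S := S) @Smooth) :=
  isSmoothLocalST_locP etST_smooth cls_smooth.loc (fun _ _ _ h => h)
    fun _ _ _ f g hf hs h => by
      haveI := hf; haveI := hs; haveI := h
      exact FppfSource.smooth f g

variable {𝒳 𝒴 : AlgSt.Cat S} {f : 𝒳 ⥤ᵇ 𝒴}

theorem locQ_lft_of_isImm (h𝒳 : IsAlgStack Scheme.fppfPrecoverage 𝒳)
    (h𝒴 : IsAlgStack Scheme.fppfPrecoverage 𝒴) (hf : AlgSt.IsImm f) :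
    LocQ (LocP @LocallyOfFiniteType) f :=
  locQ_of_repWith st_lft cls_lft.bc cls_lft.loc h𝒳 h𝒴 (repWith_mono hf fun _ U a _ ha =>
    (locP_iff_repWith etST_lft (IsAlgSpace.yon_obj U) ha.1).2
      (AlgSpLib.repWith_mono (fun _ _ r hr => by haveI : IsImmersion r := hr; infer_instance) ha))

theorem locQ_lfp_of_isOpenImm (h𝒳 : IsAlgStack Scheme.fppfPrecoverage 𝒳)
    (h𝒴 : IsAlgStack Scheme.fppfPrecoverage 𝒴) (hf : AlgSt.IsOpenImm f) :
    LocQ (LocP @LocallyOfFinitePresentation) f :=
  locQ_of_repWith st_lfp cls_lfp.bc cls_lfp.loc h𝒳 h𝒴 (repWith_mono hf fun _ U a _ ha =>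
    (locP_iff_repWith etST_lfp (IsAlgSpace.yon_obj U) ha.1).2
      (AlgSpLib.repWith_mono (fun _ _ r hr => by haveI : IsOpenImmersion r := hr; infer_instance) ha))

end Groth.Agent.AlgStLib

end
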