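import Groth.Agent.AlgStLib.QC2
import Groth.Agent.AlgSpLib.FpqcList

/-!
# Descent of properties of representable functors: models, local lifts, sources
-/

set_option autoImplicit false
set_option backward.isDefEq.respectTransparency false
set_option backward.isDefEq.respectTransparency.types false
set_option linter.style.haveILetI false
universe u

noncomputable section

namespace Groth.Agent.AlgStLib

open CategoryTheory CategoryTheory.Limits AlgebraicGeometry Opposite Groth.Agent.FibCatRep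
  Groth.Agent.FibCat2Misc Groth.Agent.AlgSpLib Groth.Agent.StkBasic
open _root_.AlgSp _root_.AlgSt

variable {S : Scheme.{u}} {𝒳 𝒴 𝒵 : AlgSt.Cat S} {Q : MorphismProperty (Sp S)}

local notation "AS" => IsAlgStack Scheme.fppfPrecoverage

theorem bcStable_repWith (R : MorphismProperty Scheme.{u}) [R.IsStableUnderBaseChange] :
    BCStable (RepWith (S := S) R) :=
  fun _ _ _ _ _ _ _ _ _ _ _ _ sq h => AlgSpLib.repWith_baseChange sq h

/-- models over all algebraic spaces -/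
theorem repWith_iff_forall_space (hb : BCStable Q) (hl : IsLocalOnBase (IsFppfCover (S := S)) Q)
    (h𝒳 : FibCat.IsFibGrpd 𝒳.p) (h𝒴 : FibCat.IsFibGrpd 𝒴.p) (f : 𝒳 ⥤ᵇ 𝒴) :
    RepByAlgSpWith Q f ↔ ∀ (Z : AlgSp.Space S) (z : AlgSt.ofSp Z.obj ⥤ᵇ 𝒴),
      ∃ (V : AlgSp.Space S) (a : V ⟶ Z) (e : AlgSt.ofSp V.obj ⥤ᵇ FibCat.fp z f),
        FibCat.IsEquivOver e ∧
          Nonempty (BasedFunctor.comp e (FibCat.fpFst z f) ≅ AlgSt.ofSpMap a.hom) ∧ Q a.hom := by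
  refine ⟨fun h Z z => exists_model_of_repWith hb hl h𝒳 h𝒴 h Z z, fun h => ?_⟩
  haveI := respectsIso_onSp hb
  refine repWith_onSp_iff.1 ((repWith_iff (onSp Q) f).2 fun U y => ?_)
  obtain ⟨V, a, e, he, ⟨i⟩, ha⟩ := h (spOf U) y
  refine ⟨V.obj.obj, e, he, V.obj.property, V.property, fun _ _ => ?_⟩
  convert ha using 1
  exact ObjectProperty.hom_ext _ ((mapOf_congr i).trans (mapOf_ofPshMap _))

/-- descent along an fppf cover by a space -/
theorem repWith_iff_exists_model (hb : BCStable Q) (hl : IsLocalOnBase (IsFppfCover (S := S)) Q)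
    (h𝒳 : AS 𝒳) (h𝒴 : AS 𝒴) (f : 𝒳 ⥤ᵇ 𝒴) (W : AlgSp.Space S) (w : AlgSt.ofSp W.obj ⥤ᵇ 𝒴)
    (hw₁ : RepByAlgSpWith (LocP @Flat) w) (hw₂ : RepByAlgSpWith (LocP @LocallyOfFinitePresentation) w)
    (hw₃ : RepByAlgSpWith AlgSp.IsSurjectiveMor w) :
    RepByAlgSpWith Q f ↔ ∃ (V : AlgSp.Space S) (a : V ⟶ W) (e : AlgSt.ofSp V.obj ⥤ᵇ FibCat.fp w f),
      FibCat.IsEquivOver e ∧
        Nonempty (BasedFunctor.comp e (FibCat.fpFst w f) ≅ AlgSt.ofSpMap a.hom) ∧ Q a.hom := by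
  refine ⟨fun h => exists_model_of_repWith hb hl h𝒳.isStack.1 h𝒴.isStack.1 h W w, ?_⟩
  rintro ⟨V, a, e, he, ⟨i⟩, ha⟩
  have hw := lifts_of_fppf hw₁ hw₂ hw₃
  have h := repWith_fpFst_of_model hb he i ha
  exact repWith_of_lifts hb hl (repByAlgSp1_of_lifts h𝒳 h𝒴 hw (repByAlgSp1_of_with h)) hw h

/-- descent along lifts existing on the members of coverings -/
theorem repWith_of_local_lifts (hb : BCStable Q) (hl : IsLocalOnBase (IsFppfCover (S := S)) Q)
    {f : 𝒳 ⥤ᵇ 𝒴} (hf : RepByAlgSp1 f) {w : 𝒵 ⥤ᵇ 𝒴}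
    (hw : ∀ (U : Over S) (y : Stk.ofPsh ((pyon S).obj U) ⥤ᵇ 𝒴), ∃ (ι : Type u) (V : ι → Over S)
      (h : ∀ i, V i ⟶ U), IsFppfCover (fun i => (yon S).obj (V i)) (fun i => (yon S).map (h i)) ∧
        ∀ i, ∃ z : Stk.ofPsh ((pyon S).obj (V i)) ⥤ᵇ 𝒵,
          Nonempty (BasedFunctor.comp z w ≅ BasedFunctor.comp (Stk.ofPshMap ((pyon S).map (h i))) y))
    (h : RepByAlgSpWith Q (FibCat.fpFst w f)) : RepByAlgSpWith Q f := by
  haveI := respectsIso_onSp hb
  refine repWith_onSp_iff.1 ((repWith_iff _ f).2 fun U y => ?_)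
  obtain ⟨F, e, he⟩ := repByAlgSp_fp_yon hf U y
  refine ⟨_, e, he, F.obj.property, F.property, fun _ _ => ?_⟩
  obtain ⟨ι, V, g, hcov, hz⟩ := hw U y
  let π : F.obj ⟶ (yon S).obj U := ObjectProperty.homMk (prjMap e)
  have sqS := fun i => IsPullback.of_hasPullback π ((yon S).map (g i))
  refine (hl _ _ (IsAlgSpace.yon_obj U) (fun _ => IsAlgSpace.yon_obj _) hcov π
    F.property _ _ _ (fun i => isAlgSpace_of_isPullback_space (IsAlgSpace.yon_obj U) F.property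
      (IsAlgSpace.yon_obj _) (sqS i)) sqS).2 fun j => ?_
  obtain ⟨z, ⟨i⟩⟩ := hz j
  obtain ⟨e', he', hprj⟩ := exists_model_baseChange (f := f) ((pyon S).map (g j)) he
    (P' := (pullback π ((yon S).map (g j))).obj) (fst := (pullback.fst π ((yon S).map (g j))).hom)
    (snd := (pullback.snd π ((yon S).map (g j))).hom) ((sqS j).map (sheafToPresheaf (J S) (Type (u + 1))))
  obtain ⟨e'', he'', hprj'⟩ := exists_model_change (f := f) i.symm he'
  obtain ⟨k, hk, -, ⟨φ⟩⟩ := isEquivOver_symm (isEquivOver_pasteFun z w f)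
  have he₃ := isEquivOver_comp he'' hk
  obtain ⟨_, hW, hq⟩ := good_of_model (repWith_onSp_iff.2 h) (f := FibCat.fpFst w f) he₃
  have hsnd : prjMap (BasedFunctor.comp e'' k) = prjMap e'' :=
    mapOf_congr ((post _ (FibCat.fpFst (BasedFunctor.comp z w) f)).mapIso ((Stk.restr e'' _).mapIso φ))
  convert hq hW (IsAlgSpace.yon_obj (V j)) using 1
  exact ObjectProperty.hom_ext _ (hprj.symm.trans (hprj'.symm.trans hsnd.symm))

/-- covering families inside covering sieves -/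
theorem exists_family_of_mem {U : Over S} {R : Sieve U} (hR : R ∈ (QuotSh.J Scheme.fppfPrecoverage S) U) :
    ∃ (V : ↥U.left → Over S) (h : ∀ x, V x ⟶ U), (∀ x, R.arrows (h x)) ∧
      IsFppfCover (fun x => (yon S).obj (V x)) (fun x => (yon S).map (h x)) := by
  obtain ⟨P, hP, hle⟩ :=
    Precoverage.mem_toGrothendieck_iff_of_isStableUnderComposition.1 ((GrothendieckTopology.mem_over_iff _ R).1 hR)
  obtain ⟨hP₁, hP₂⟩ := hP
  have key : ∀ x : ↥U.left, ∃ (W : Scheme.{u}) (g : W ⟶ U.left), P g ∧ x ∈ Set.range g := fun x => by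
    obtain ⟨W, g, hg, hx⟩ := (Presieve.mem_comap_jointlySurjectivePrecoverage_iff (F := Scheme.forget)).1 hP₁ x
    exact ⟨W, g, hg, hx⟩
  choose W g hg hx using key
  refine ⟨fun x => Over.mk (g x ≫ U.hom), fun x => Over.homMk (g x),
    fun x => (Sieve.overEquiv_iff R (g x)).1 (hle _ _ (hg x)), fun x => ?_, fun z => ?_⟩
  · obtain ⟨h₁, h₂⟩ := hP₂ (hg x)
    exact ⟨(locP_iff_repWith etST_flat (IsAlgSpace.yon_obj U) (AlgSp.representable_yon_map _)).2
      ((repWith_yon_iff _).2 h₁),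
      (locP_iff_repWith etST_lfp (IsAlgSpace.yon_obj U) (AlgSp.representable_yon_map _)).2 ((repWith_yon_iff _).2 h₂)⟩
  · obtain ⟨t, rfl⟩ : ∃ t, AlgSp.Points.ofScheme U t = z := ⟨_, AlgSp.Points.ofScheme_toScheme U z⟩
    obtain ⟨w, hw⟩ := hx t
    let φ : Over.mk (g t ≫ U.hom) ⟶ U := Over.homMk (g t)
    have e₁ := ofScheme_map φ w
    have e₂ : φ.left w = t := hw
    rw [e₂] at e₁
    exact ⟨t, AlgSp.Points.ofScheme (Over.mk (g t ≫ U.hom)) w, e₁⟩

set_option maxHeartbeats 1000000 in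
/-- local on the source: descent along a covering of the source -/
theorem repWith_of_comp (hb : BCStable Q) (h𝒳 : AS 𝒳) (h𝒴 : AS 𝒴) {x : 𝒳 ⥤ᵇ 𝒴} {y : 𝒴 ⥤ᵇ 𝒵}
    (hy : RepByAlgSp1 y) (hx : RepByAlgSp1 x) {τ : CovNotion S} (hs : IsLocalOnSource τ Q)
    (hτ : ∀ {A W : AlgSp.Space S} (w : AlgSt.ofSp W.obj ⥤ᵇ 𝒴) (e : AlgSt.ofSp A.obj ⥤ᵇ FibCat.fp w x)
      (a : A ⟶ W), FibCat.IsEquivOver e → a.hom.hom = prjMap e →
        τ (fun _ : PUnit.{u + 1} => A.obj) (fun _ => a.hom))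
    (h : RepByAlgSpWith Q (BasedFunctor.comp x y)) : RepByAlgSpWith Q y := by
  haveI := respectsIso_onSp hb
  refine repWith_onSp_iff.1 ((repWith_iff _ y).2 fun U p => ?_)
  obtain ⟨G, eG, heG⟩ := repByAlgSp_fp_yon hy U p
  refine ⟨_, eG, heG, G.obj.property, G.property, fun _ hU => ?_⟩
  let y₁ : Stk.ofPsh G.obj.obj ⥤ᵇ 𝒴 := BasedFunctor.comp eG (FibCat.fpSnd p y)
  obtain ⟨P, e, he⟩ := exists_model h𝒳.isStack.1 h𝒴.isStack.1 hx y₁
  obtain ⟨hP₁, hP₂⟩ := isAlgSpaceP_model hx ((isAlgSpaceP_obj_iff _).2 G.property) he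
  haveI : (BasedFunctor.id 𝒴).toFunctor.Full := inferInstanceAs (𝟭 𝒴.obj).Full
  haveI : (BasedFunctor.id 𝒴).toFunctor.Faithful := inferInstanceAs (𝟭 𝒴.obj).Faithful
  let m := fpMap (F := FibCat.fpSnd p y) (G := x) y₁ x eG (BasedFunctor.id 𝒳) (BasedFunctor.id 𝒴)
    (Iso.refl _) (Iso.refl _)
  have he₂ : FibCat.IsEquivOver (BasedFunctor.comp (BasedFunctor.comp e m) (assocFun p y x)) :=
    isEquivOver_comp (isEquivOver_comp he (isEquivOver_fpMap _ _ _ _ _ _ _ heG isEquivOver_id))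
      (isEquivOver_assocFun p y x)
  obtain ⟨_, hP', hq⟩ := good_of_model (repWith_onSp_iff.2 h) he₂
  let A : AlgSp.Space S := ⟨⟨P, hP₁⟩, hP₂⟩
  let a : A ⟶ G := ObjectProperty.homMk (ObjectProperty.homMk (prjMap e))
  have h9 : a.hom.hom = prjMap e := rfl
  have hc := hτ (A := A) (W := G) y₁ e a he h9
  refine (hs _ _ G.property (fun _ => hP₂) hc _ hU).2 fun _ => ?_
  convert hq hP' hU using 1
  exact ObjectProperty.hom_ext _
    (mapOf_comp (BasedFunctor.comp e (FibCat.fpFst y₁ x)) (BasedFunctor.comp eG (FibCat.fpFst p y))).symm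

end Groth.Agent.AlgStLib

end
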