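import Groth.Agent.AlgStLib.AutRepProps
import Groth.Agent.AlgStLib.Misc1
import Groth.Agent.AlgStLib.AlgClosedLift
import Groth.Agent.AlgStLib.LocQClasses
import Groth.Agent.FppfSource.Scheme
import Groth.Agent.Grpd.FlatComp
import Groth.Agent.LimDesc.FPCancel

/-!
# The automorphism group scheme of a section of a gerbe over a scheme is flat and locally of finite presentation
-/

set_option autoImplicit false
set_option backward.isDefEq.respectTransparency false
set_option backward.isDefEq.respectTransparency.types false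
set_option linter.style.haveILetI false
universe u

noncomputable section

namespace Groth.Agent.AlgStLib.AutModel

open CategoryTheory CategoryTheory.Limits AlgebraicGeometry Opposite Groth.Agent.AlgSpLib Groth.Agent.StkBasic
  Groth.Agent.FibCatRep Groth.Agent.FibCat2Misc Groth.Agent.AlgStLib
open scoped MonoidalCategory MonObj
open _root_.AlgSp _root_.AlgSt

variable {S : Scheme.{u}} {𝒳 : AlgSt.Cat S} {U : Over S} {x : FibCat.overCat U ⥤ᵇ 𝒳}
  {G : Over U.left} [GrpObj G] (r : Gerb.AutRep x (Gerb.ptsGrp U G))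

/-- a flat map composed with a retraction is flat -/
theorem flat_of_section {V T U₀ : Scheme.{u}} (h : V ⟶ U₀) (pr : T ⟶ V) (e : V ⟶ T) (he : e ≫ pr = 𝟙 V)
    [Flat (pr ≫ h)] : Flat h := by
  refine (Flat.iff_flat_stalkMap h).2 fun v => ?_
  have hw : pr (e v) = v := by
    rw [← Scheme.Hom.comp_apply, he]
    rfl
  suffices H : (h.stalkMap (pr (e v))).hom.Flat by rw [hw] at H; exact H
  have h₁ : ((pr ≫ h).stalkMap (e v)).hom.Flat :=
    (Flat.iff_flat_stalkMap (pr ≫ h)).1 inferInstance (e v)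
  rw [Scheme.Hom.stalkMap_comp] at h₁
  haveI : IsIso (pr.stalkMap (e v) ≫ e.stalkMap v) := by
    have key : ∀ (g : V ⟶ V), g = 𝟙 V → IsIso (g.stalkMap v) := by
      rintro _ rfl
      infer_instance
    exact Scheme.Hom.stalkMap_comp e pr v ▸ key _ he
  let θ := inv (pr.stalkMap (e v) ≫ e.stalkMap v)
  let φ := h.stalkMap (pr (e v))
  let p := pr.stalkMap (e v)
  let q := e.stalkMap v ≫ θ
  have hpq : p ≫ q = 𝟙 _ := by
    show _ ≫ _ ≫ θ = _
    rw [← Category.assoc]
    exact IsIso.hom_inv_id _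
  letI := φ.hom.toAlgebra
  letI := (φ ≫ p).hom.toAlgebra
  have hl : ∀ z, q.hom (p.hom z) = z := fun z => congr($(hpq) z)
  haveI : Module.Flat (U₀.presheaf.stalk (h (pr (e v)))) (T.presheaf.stalk (e v)) := h₁
  refine Module.Flat.of_retract
    { toFun := p.hom
      map_add' := p.hom.map_add
      map_smul' := fun a z => by
        show p.hom (φ.hom a * z) = p.hom (φ.hom a) * p.hom z
        exact p.hom.map_mul _ _ }
    { toFun := q.hom
      map_add' := q.hom.map_add
      map_smul' := fun a z => by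
        show q.hom (p.hom (φ.hom a) * z) = φ.hom a * q.hom z
        rw [map_mul, hl] } ?_
  ext z
  exact hl z

/-- maps out of a scheme as maps of presheaves are determined at the identity -/
lemma mapOf_eq_pt {V W : Over S} (Φ : ofSch V ⥤ᵇ ofSch W) :
    mapOf Φ = (pyon S).map (secOf Φ (pt V) : ULift.{u + 1} (V ⟶ W)).down := by
  ext T g
  exact (secOf_map Φ (⟨(g : ULift.{u + 1} (T.unop ⟶ V)).down, ULift.ext _ _
    (Category.comp_id (g : ULift.{u + 1} (T.unop ⟶ V)).down)⟩ :
    (⟨T.unop, g⟩ : Stk.EltObj ((pyon S).obj V)) ⟶ pt V)).symm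

section model2

/-- the comparison functor to the self fibre product of the point -/
def model2 : ofSch (tot G) ⥤ᵇ FibCat.fp (point x) (point x) :=
  FibCat.fpLift (ofSpMap ((yon S).map (proj G))) (ofSpMap ((yon S).map (proj G)))
    (BasedNatIso.mkNatIso (NatIso.ofComponents (fun a => autIso r a)
      (fun {a b} m => (autIso_natural r m).symm))
      (fun a => IsHomLift.of_fac' 𝒳.p (𝟙 _) _ (x.w_obj (base G a)) (x.w_obj (base G a))
        (show 𝒳.p.map (autIso r a).hom = _ by rw [p_autIso]; simp; rfl)))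

lemma prjMap_model2 : prjMap (model2 r) = (pyon S).map (proj G) :=
  mapOf_ofPshMap ((pyon S).map (proj G))

/-- points with isomorphic values over the base are equal -/
lemma eq_of_iso_values {π : 𝒳 ⥤ᵇ FibCat.overCat U} (e : BasedFunctor.comp x π ≅ BasedFunctor.id (FibCat.overCat U))
    {a b : Over U} (k : x.obj a ⟶ x.obj b) (q : a.left = b.left)
    (hk : 𝒳.p.map k = eqToHom ((x.w_obj a).trans (q.trans (x.w_obj b).symm))) :
    eqToHom q ≫ b.hom = a.hom := by
  let ea : (π.obj (x.obj a) : Over U) ⟶ a := e.hom.toNatTrans.app a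
  let eb : (π.obj (x.obj b) : Over U) ⟶ b := e.hom.toNatTrans.app b
  let kk : (π.obj (x.obj a) : Over U) ⟶ π.obj (x.obj b) := π.map k
  have ha : ea.left = eqToHom ((π.w_obj (x.obj a)).trans (x.w_obj a)) := map_app e.hom a
  have hb : eb.left = eqToHom ((π.w_obj (x.obj b)).trans (x.w_obj b)) := map_app e.hom b
  have hm : kk.left = eqToHom (π.w_obj _) ≫ 𝒳.p.map k ≫ eqToHom (π.w_obj _).symm := map_map π k
  have e₁ := Over.w (kk ≫ eb)
  have e₂ := Over.w ea
  rw [Over.comp_left, hm, hb, hk] at e₁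
  rw [ha] at e₂
  rw [← e₂] at e₁
  simp only [Category.assoc, eqToHom_trans_assoc] at e₁
  rw [← cancel_epi (eqToHom ((π.w_obj (x.obj a)).trans (x.w_obj a)))]
  simpa using e₁

theorem isEquivOver_model2 (h𝒳 : FibCat.IsFibGrpd 𝒳.p) (π : 𝒳 ⥤ᵇ FibCat.overCat U)
    (e : BasedFunctor.comp x π ≅ BasedFunctor.id (FibCat.overCat U)) :
    FibCat.IsEquivOver (model2 r) := by
  haveI : (model2 r).toFunctor.Faithful :=
    ⟨fun {a b} m m' h => Stk.EltObj.hom_ext (congrArg (fun t => t.hom.fst.hom) h)⟩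
  haveI : (model2 r).toFunctor.Full := ⟨fun {a b} M => by
    let m₀ : a.base ⟶ b.base := M.hom.fst.hom
    have hm₀ : m₀ ≫ b.sec.down ≫ proj G = a.sec.down ≫ proj G := congrArg ULift.down M.hom.fst.map_sec
    let h : base G a ⟶ base G b := Over.homMk m₀ hm₀
    have h₁ : M.hom.snd.hom = m₀ := by
      have := map_snd M
      simpa using this
    have hw : x.map h ≫ (autIso r b).hom = (autIso r a).hom ≫ x.map h := by
      refine Eq.trans M.hom.w (congrArg ((autIso r a).hom ≫ ·) (congrArg x.map ?_))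
      exact Over.OverMorphism.ext h₁
    have hn : (r.iso (base G a) ((Gerb.ptsGrp U G).map h.op (elt G b))).hom.1 ≫ x.map h =
        x.map h ≫ (autIso r b).hom := r.natural h (elt G b)
    have hmap : 𝒳.p.map (r.iso (base G a) ((Gerb.ptsGrp U G).map h.op (elt G b))).hom.1 =
        𝒳.p.map (autIso r a).hom :=
      ((map_of_fiber _).trans (eqToHom_refl _ _)).trans (p_autIso r a).symm
    have he : (Gerb.ptsGrp U G).map h.op (elt G b) = elt G a :=
      (r.iso (base G a)).injective (Aut.ext (Functor.Fiber.hom_ext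
        (cancel h𝒳 (x.map h) hmap (hn.trans hw))))
    have hsec : m₀ ≫ b.sec.down = a.sec.down :=
      Over.OverMorphism.ext (congrArg
        (fun k : (Over.iteratedSliceForward U).obj (base G a) ⟶ G => k.left) he)
    exact ⟨⟨m₀, congrArg ULift.up hsec⟩, ObjectProperty.hom_ext _ (CategoricalPullback.hom_ext
      (Stk.EltObj.hom_ext rfl) (Stk.EltObj.hom_ext h₁.symm))⟩⟩
  refine isEquivOver_of_fullyFaithful _ fun o => ?_
  let t : o.obj.fst.base ⟶ U := o.obj.fst.sec.down
  let t' : o.obj.snd.base ⟶ U := o.obj.snd.sec.down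
  let k : x.obj (Over.mk t) ≅ x.obj (Over.mk t') := o.obj.iso
  have q : o.obj.fst.base = o.obj.snd.base := (fp_obj_eq o).symm
  obtain ⟨q', hk⟩ := map_iso_hom o
  change 𝒳.p.map k.hom = eqToHom q' at hk
  have htt : eqToHom q ≫ t' = t := eq_of_iso_values e (a := Over.mk t) (b := Over.mk t') k.hom q (hk.trans rfl)
  let s : Over.mk t ≅ Over.mk t' := Over.isoMk (eqToIso q) htt
  let α : x.obj (Over.mk t) ≅ x.obj (Over.mk t) := k ≪≫ (x.toFunctor.mapIso s).symm
  have hs : 𝒳.p.map (x.map s.hom) = eqToHom ((x.w_obj (Over.mk t)).trans (q.trans (x.w_obj (Over.mk t')).symm)) := by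
    refine (map_map x s.hom).trans ?_
    show _ ≫ eqToHom q ≫ _ = _
    rw [eqToHom_trans, eqToHom_trans]
  have hα : 𝒳.p.map α.hom = 𝟙 _ := by
    haveI : IsIso (x.map s.hom) := (x.toFunctor.mapIso s).isIso_hom
    rw [← cancel_mono (𝒳.p.map (x.map s.hom))]
    simp only [α, Iso.trans_hom, Iso.symm_hom, ← Functor.map_comp, Category.assoc]
    rw [show (x.toFunctor.mapIso s).inv ≫ x.map s.hom = 𝟙 _ from (x.toFunctor.mapIso s).inv_hom_id,
      Category.comp_id, Category.id_comp, hk, hs]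
  have hα' : 𝒳.p.map α.inv = 𝟙 _ := by
    rw [← cancel_epi (𝒳.p.map α.hom), ← Functor.map_comp, Iso.hom_inv_id, CategoryTheory.Functor.map_id, hα,
      Category.id_comp]
  let αO : Gerb.AutO (x.obj (Over.mk t)) :=
    { hom := fibHom _ _ α.hom (hα.trans (eqToHom_refl _ _).symm)
      inv := fibHom _ _ α.inv (hα'.trans (eqToHom_refl _ _).symm)
      hom_inv_id := Functor.Fiber.hom_ext α.hom_inv_id
      inv_hom_id := Functor.Fiber.hom_ext α.inv_hom_id }
  obtain ⟨gg, hγ⟩ := (r.iso (Over.mk t)).surjective αO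
  let γ' : (Over.iteratedSliceForward U).obj (Over.mk t) ⟶ G := gg
  let c : o.obj.fst.base ⟶ tot G := Over.homMk γ'.left (by
    show γ'.left ≫ G.hom ≫ U.hom = o.obj.fst.base.hom
    rw [← Category.assoc, Over.w γ']
    exact Over.w t)
  have hc : c ≫ proj G = t := Over.OverMorphism.ext (Over.w γ')
  let a : (ofSch (tot G)).obj := ⟨o.obj.fst.base, ⟨c⟩⟩
  have key : ∀ (T : Over U) (e : T = Over.mk t) (γ₁ : (Gerb.ptsGrp U G).obj (op T)),
      (γ₁ : (Over.iteratedSliceForward U).obj T ⟶ G).left = eqToHom (congrArg (fun T : Over U => T.left.left) e) ≫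
        γ'.left →
      x.map (eqToHom e) ≫ k.hom = (r.iso T γ₁).hom.1 ≫ x.map (eqToHom e ≫ s.hom) := by
    intro T e γ₁ hl
    subst e
    have : γ₁ = gg := Over.OverMorphism.ext (by simpa using hl)
    subst this
    rw [hγ]
    show _ = α.hom ≫ _
    simp [α]
  have eT : base G a = Over.mk t := congrArg Over.mk hc
  let q₁ : ((ofSpMap ((yon S).map (proj G))).obj a : Stk.EltObj _) ≅ o.obj.fst :=
    Groth.Agent.AlgStLib.isoOfEq rfl
      ((FunctorToTypes.map_id_apply ((yon S).obj U).obj o.obj.fst.sec).trans (congrArg ULift.up hc.symm))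
  let q₂ : ((ofSpMap ((yon S).map (proj G))).obj a : Stk.EltObj _) ≅ o.obj.snd :=
    Groth.Agent.AlgStLib.isoOfEq q (congrArg ULift.up (htt.trans hc.symm))
  refine ⟨a, ObjectProperty.isoMk _ (CategoricalPullback.mkIso q₁ q₂ ?_), rfl, rfl⟩
  show x.map ((toOverCat U).map q₁.hom) ≫ k.hom = (autIso r a).hom ≫ x.map ((toOverCat U).map q₂.hom)
  have eq₁ : (toOverCat U).map q₁.hom = eqToHom eT := Over.OverMorphism.ext (by
    show q₁.hom.hom = (eqToHom eT : base G a ⟶ Over.mk t).left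
    rw [Over.eqToHom_left]
    rfl)
  have eq₂ : (toOverCat U).map q₂.hom = eqToHom eT ≫ s.hom := Over.OverMorphism.ext (by
    show q₂.hom.hom = (eqToHom eT : base G a ⟶ Over.mk t).left ≫ eqToHom q
    rw [Over.eqToHom_left, eqToHom_trans]
    rfl)
  rw [eq₁, eq₂]
  exact key _ eT (elt G a) (by simp [elt, a, c])

end model2

/-- the automorphism group scheme of a section of a gerbe is flat and locally of finite presentation -/
theorem flat_lfp_of_gerbe (h𝒳 : IsAlgStack Scheme.fppfPrecoverage 𝒳) (π : 𝒳 ⥤ᵇ FibCat.overCat U)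
    (hπ : Gerb.IsGerbeOver (QuotSh.J Scheme.fppfPrecoverage S) π)
    (e : BasedFunctor.comp x π ≅ BasedFunctor.id (FibCat.overCat U))
    (r : Gerb.AutRep x (Gerb.ptsGrp U G)) :
    Flat G.hom ∧ LocallyOfFinitePresentation G.hom := by
  have h𝒳g := h𝒳.isStack.1
  have clsF : Cls (LocP (S := S) @Flat) := cls_locP etST_flat (isLocalOnBase_locP etST_flat)
  have clsP : Cls (LocP (S := S) @LocallyOfFinitePresentation) := cls_locP etST_lfp (isLocalOnBase_locP etST_lfp)
  obtain ⟨V, p, hps, hpsurj⟩ := exists_atlas h𝒳.atlas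
  have hpF := repWith_flat_of_smooth hps
  have hpP := repWith_lfp_of_smooth hps
  let Φ : ofSch V ⥤ᵇ ofSch U := BasedFunctor.comp (BasedFunctor.comp p π) (ofOverCat U)
  let h₀ : V ⟶ U := (secOf Φ (pt V) : ULift.{u + 1} (V ⟶ U)).down
  -- the map to the base is surjective
  have hh₀ : ∀ u : U.left, ∃ v : V.left, h₀.left v = u := fun u => by
    obtain ⟨W, d, -, hds, -, z, ⟨i⟩⟩ := lifts_of_fppf hpF hpP hpsurj U (point x)
    obtain ⟨w, hw⟩ := hds.surj u
    obtain ⟨ζ, hζ⟩ : ∃ ζ : W ⟶ V, (pyon S).map ζ = mapOf z :=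
      ⟨_, (mapOf_eq_pt z).symm⟩
    have i₂ : BasedFunctor.comp z Φ ≅ Stk.ofPshMap ((pyon S).map d) :=
      (post _ (ofOverCat U)).mapIso ((post _ π).mapIso i ≪≫
        (Stk.restr (BasedFunctor.comp (Stk.ofPshMap ((pyon S).map d)) (toOverCat U)) _).mapIso e) ≪≫ Iso.refl _
    have hd : (pyon S).map (ζ ≫ h₀) = (pyon S).map d := by
      rw [Functor.map_comp, hζ, ← mapOf_eq_pt Φ, ← mapOf_comp, mapOf_congr i₂, mapOf_ofPshMap]
    have hd' : ζ ≫ h₀ = d := (yon S).map_injective (ObjectProperty.hom_ext _ hd)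
    exact ⟨ζ.left w, by rw [← Scheme.Hom.comp_apply, ← Over.comp_left, hd', hw]⟩
  -- locally the atlas factors through the section
  let b := p.obj (pt V)
  have hpb : 𝒳.p.obj b = V := p.w_obj (pt V)
  let c := x.obj (Over.mk h₀)
  let ec : (π.obj c : Over U) ≅ Over.mk h₀ := ((BasedNatTrans.forgetful _ _).mapIso e).app (Over.mk h₀)
  let πb : Over U := π.obj b
  have hb₀ : πb.left = V := (π.w_obj b).trans hpb
  have hh : h₀ = eqToHom hb₀.symm ≫ πb.hom := by
    show (secOf Φ (pt V) : ULift.{u + 1} (V ⟶ U)).down = _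
    rfl
  let b₀ : πb ⟶ Over.mk h₀ := Over.homMk (eqToHom hb₀) (by
    show eqToHom hb₀ ≫ h₀ = πb.hom
    rw [hh, eqToHom_trans_assoc, eqToHom_refl, Category.id_comp])
  let bb : π.obj b ⟶ π.obj c := b₀ ≫ ec.inv
  have hecl : ec.inv.left = eqToHom (((π.w_obj c).trans (x.w_obj (Over.mk h₀))).symm) :=
    map_app e.inv (Over.mk h₀)
  obtain ⟨R, hR, hlift⟩ := hπ.2 b c bb (IsHomLift.of_fac' (FibCat.overCat U).p _ _ (π.w_obj b)
    ((π.w_obj c).trans ((x.w_obj (Over.mk h₀)).trans hpb.symm))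
    (show b₀.left ≫ ec.inv.left = _ by
      rw [hecl, show b₀.left = eqToHom hb₀ from rfl, eqToHom_trans, Category.id_comp, eqToHom_trans]))
  obtain ⟨Vj, fj, hfj, hcov⟩ := exists_family_of_mem hR
  let fV : ∀ j, Vj j ⟶ V := fun j => fj j ≫ eqToHom hpb
  let hj : ∀ j, Vj j ⟶ U := fun j => fV j ≫ h₀
  have hfl : ∀ j, Flat (fV j).left ∧ LocallyOfFinitePresentation (fV j).left := fun j => by
    obtain ⟨a₁, a₂⟩ := hcov.1 j
    haveI := AlgSp.locP_yon_map a₁
    haveI := AlgSp.locP_yon_map a₂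
    exact ⟨inferInstanceAs (Flat ((fj j).left ≫ (eqToHom hpb).left)),
      inferInstanceAs (LocallyOfFinitePresentation ((fj j).left ≫ (eqToHom hpb).left))⟩
  -- the members
  let Gj : ∀ j, Scheme.{u} := fun j => pullback G.hom (hj j).left
  have key : ∀ j, Flat (pullback.fst G.hom (hj j).left ≫ G.hom) ∧
      LocallyOfFinitePresentation (pullback.fst G.hom (hj j).left ≫ G.hom) := fun j => by
    obtain ⟨x₀, φ, ψ, hφ, hψ, -⟩ := hlift (fj j) (hfj j)
    let pj : ofSch (Vj j) ⥤ᵇ 𝒳 := BasedFunctor.comp (ofSpMap ((yon S).map (fV j))) p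
    let cj : ofSch (Vj j) ⥤ᵇ 𝒳 := BasedFunctor.comp (ofSpMap ((yon S).map (hj j))) (point x)
    have hpj : ∀ {Q : MorphismProperty (Sp S)}, Cls Q → Q ((yon S).map (fV j)) → RepByAlgSpWith Q p →
        RepByAlgSpWith Q pj := fun hQ ha hp =>
      Groth.Agent.AlgStLib.repWith_comp (isFibGrpd_ofSpace _) (isFibGrpd_ofSpace _) hQ.bc hQ.comp hQ.loc
        (repWith_ofSpMap hQ.bc (V := spOf (Vj j)) (W := spOf V) (ObjectProperty.homMk ((yon S).map (fV j))) ha) hp
    have hpjF : RepByAlgSpWith (LocP @Flat) pj := hpj clsF ((locP_yon_iff etST_flat _).2 (hfl j).1) hpF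
    have hpjP : RepByAlgSpWith (LocP @LocallyOfFinitePresentation) pj :=
      hpj clsP ((locP_yon_iff etST_lfp _).2 (hfl j).2) hpP
    obtain ⟨iso⟩ : Nonempty (pj ≅ cj) := by
      haveI := hφ
      haveI := hψ
      have hφ' := IsHomLift.fac' 𝒳.p (fj j) φ
      have hψ' := IsHomLift.fac' 𝒳.p (fj j) ψ
      let zp : pj.obj (pt (Vj j)) ⟶ b := p.map (⟨fV j, ULift.ext _ _
        ((Category.comp_id (fV j)).trans (Category.id_comp (fV j)).symm)⟩ :
          (ofSpMap ((yon S).map (fV j))).obj (pt (Vj j)) ⟶ pt V)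
      let zc : cj.obj (pt (Vj j)) ⟶ c := x.map (Over.homMk (fV j)
        (show fV j ≫ h₀ = 𝟙 (Vj j) ≫ hj j by rw [Category.id_comp]) :
          (Over.mk (𝟙 (Vj j) ≫ hj j) : Over U) ⟶ Over.mk h₀)
      have hzp : 𝒳.p.map zp = eqToHom (p.w_obj _) ≫ fV j ≫ eqToHom (p.w_obj _).symm := map_map p _
      have hzc : 𝒳.p.map zc = eqToHom (x.w_obj _) ≫ fV j ≫ eqToHom (x.w_obj _).symm := map_map x _
      have hx₀ : 𝒳.p.obj x₀ = Vj j := IsHomLift.domain_eq 𝒳.p (fj j) φ
      obtain ⟨χ₁, ⟨hχ₁, -⟩, -⟩ := existsUnique_cart h𝒳g φ zp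
        (eqToHom ((pj.w_obj (pt (Vj j))).trans hx₀.symm)) (by
          rw [hzp, hφ']
          simp [fV])
      obtain ⟨χ₂, ⟨hχ₂, -⟩, -⟩ := existsUnique_cart h𝒳g zc ψ
        (eqToHom (hx₀.trans (cj.w_obj (pt (Vj j))).symm)) (by
          rw [hzc, hψ']
          simp [fV])
      obtain ⟨i, -⟩ := exists_iso_of_top h𝒳g (BasedFunctor.comp (ofOverCat (Vj j)) pj)
        (BasedFunctor.comp (ofOverCat (Vj j)) cj) (χ₁ ≫ χ₂) (by
          rw [Functor.map_comp, hχ₁, hχ₂, eqToHom_trans])
      exact ⟨(Stk.restr (toOverCat (Vj j)) _).mapIso i⟩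
    let R : Over S := Over.mk (pullback.fst G.hom (hj j).left ≫ (tot G).hom)
    let r₁ : R ⟶ tot G := Over.homMk (pullback.fst G.hom (hj j).left) rfl
    let r₂ : R ⟶ Vj j := Over.homMk (pullback.snd G.hom (hj j).left) (by
      show pullback.snd G.hom (hj j).left ≫ (Vj j).hom = pullback.fst G.hom (hj j).left ≫ G.hom ≫ U.hom
      rw [← Over.w (hj j), pullback.condition_assoc])
    have sq : IsPullback ((pyon S).map r₁) ((pyon S).map r₂) (prjMap (model2 r)) ((pyon S).map (hj j)) := by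
      rw [prjMap_model2]
      exact (isPullback_yon_iff.2 (IsPullback.of_hasPullback G.hom (hj j).left)).map
        (sheafToPresheaf (J S) (Type (u + 1)))
    obtain ⟨e', he', -, ⟨j'⟩⟩ :=
      exists_model_baseChange' ((pyon S).map (hj j)) (isEquivOver_model2 r h𝒳g π e) sq
    let ch := fpMap (F := pj) (G := point x) cj (point x) (BasedFunctor.id (ofSch (Vj j)))
      (BasedFunctor.id (ofSch U)) (BasedFunctor.id 𝒳) iso.symm (Iso.refl _)
    have hch : FibCat.IsEquivOver ch := isEquivOver_fp_change (point x) iso.symm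
    let E := BasedFunctor.comp (BasedFunctor.comp e' ch) (swapFun pj (point x))
    have hE : FibCat.IsEquivOver E := isEquivOver_comp (isEquivOver_comp he' hch) (isEquivOver_swapFun _ _)
    have hprj : prjMap E = (pyon S).map (r₁ ≫ proj G) := by
      refine (mapOf_congr j').trans ((mapOf_comp _ _).trans ?_)
      rw [mapOf_ofPshMap, Functor.map_comp]
      exact congrArg (_ ≫ ·) (mapOf_ofPshMap ((pyon S).map (proj G)))
    haveI := respectsIso_onSp clsF.bc
    haveI := respectsIso_onSp clsP.bc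
    obtain ⟨_, hA, hq⟩ := good_of_model (repWith_onSp_iff.2 hpjF) hE
    obtain ⟨_, hA', hq'⟩ := good_of_model (repWith_onSp_iff.2 hpjP) hE
    have hq₁ := hq hA (IsAlgSpace.yon_obj U)
    have hq₂ := hq' hA' (IsAlgSpace.yon_obj U)
    simp only [hprj] at hq₁ hq₂
    exact ⟨AlgSp.locP_yon_map (g := r₁ ≫ proj G) hq₁, AlgSp.locP_yon_map (g := r₁ ≫ proj G) hq₂⟩
  -- the retractions
  have hsec : ∀ j, Flat (hj j).left ∧ LocallyOfFinitePresentation (hj j).left := fun j => by
    obtain ⟨k₁, k₂⟩ := key j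
    rw [pullback.condition] at k₁ k₂
    haveI := k₁
    haveI := k₂
    let η₀ : U.left ⟶ G.left := (η[G] : 𝟙_ (Over U.left) ⟶ G).left
    have hη₀ : η₀ ≫ G.hom = 𝟙 U.left := Over.w (η[G] : 𝟙_ (Over U.left) ⟶ G)
    let s : (Vj j).left ⟶ pullback G.hom (hj j).left :=
      pullback.lift ((hj j).left ≫ η₀) (𝟙 _) (by rw [Category.assoc, hη₀, Category.comp_id, Category.id_comp])
    have hs : s ≫ pullback.snd G.hom (hj j).left = 𝟙 _ := pullback.lift_snd _ _ _
    haveI : LocallyOfFiniteType G.hom := lft_of_autRep h𝒳 r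
    haveI : LocallyOfFinitePresentation (s ≫ pullback.snd G.hom (hj j).left) := by rw [hs]; infer_instance
    haveI : LocallyOfFinitePresentation s :=
      Groth.Agent.LimDesc.lfp_of_comp s (pullback.snd G.hom (hj j).left)
    refine ⟨flat_of_section _ (pullback.snd G.hom (hj j).left) s hs, ?_⟩
    have : (hj j).left = s ≫ pullback.snd G.hom (hj j).left ≫ (hj j).left := by
      rw [← Category.assoc, hs, Category.id_comp]
    rw [this]
    infer_instance
  -- descend along the family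
  let σ : (∐ Gj) ⟶ G.left := Sigma.desc fun j => pullback.fst G.hom (hj j).left
  have hσ : ∀ j, Sigma.ι Gj j ≫ σ = pullback.fst G.hom (hj j).left := fun j => Sigma.ι_desc _ _
  have loc : ∀ {P : MorphismProperty Scheme.{u}} [IsZariskiLocalAtSource P] {Y : Scheme.{u}} (g : G.left ⟶ Y),
      (∀ j, P (pullback.fst G.hom (hj j).left ≫ g)) → P (σ ≫ g) := fun g hg =>
    (IsZariskiLocalAtSource.iff_of_openCover (sigmaOpenCover Gj)).2 fun j => by
      rw [show (sigmaOpenCover Gj).f j ≫ σ ≫ g = pullback.fst G.hom (hj j).left ≫ g by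
        rw [← Category.assoc]; exact congrArg (· ≫ g) (hσ j)]
      exact hg j
  haveI : Flat σ := by
    rw [← Category.comp_id σ]
    refine loc _ fun j => ?_
    rw [Category.comp_id]
    haveI := (hsec j).1
    infer_instance
  haveI : LocallyOfFinitePresentation σ := by
    rw [← Category.comp_id σ]
    refine loc _ fun j => ?_
    rw [Category.comp_id]
    haveI := (hsec j).2
    infer_instance
  haveI : Surjective σ := ⟨fun g => by
    obtain ⟨v, hv⟩ := hh₀ (G.hom g)
    obtain ⟨v', hv'⟩ : ∃ v' : (𝒳.p.obj b).left, (eqToHom hpb).left v' = v :=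
      ⟨(eqToHom hpb.symm).left v, by rw [← Scheme.Hom.comp_apply, ← Over.comp_left, eqToHom_trans]; simp⟩
    obtain ⟨j, z, hz⟩ := hcov.2 (AlgSp.Points.ofScheme _ v')
    obtain ⟨t, rfl⟩ : ∃ t, AlgSp.Points.ofScheme (Vj j) t = z := ⟨_, AlgSp.Points.ofScheme_toScheme _ z⟩
    have hz₂ := (ofScheme_map (fj j) t).symm.trans hz
    have hz' : (fj j).left t = v' := by
      simpa using congrArg (AlgSp.Points.toScheme _) hz₂
    have ht : G.hom g = (hj j).left t := by
      rw [← hv, ← hv', ← hz']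
      rfl
    obtain ⟨w, hw, -⟩ := Scheme.Pullback.exists_preimage_pullback (f := G.hom) (g := (hj j).left) g t ht
    exact ⟨Sigma.ι Gj j w, by rw [← Scheme.Hom.comp_apply, hσ, hw]⟩⟩
  haveI : Flat (σ ≫ G.hom) := loc _ fun j => (key j).1
  haveI : LocallyOfFinitePresentation (σ ≫ G.hom) := loc _ fun j => (key j).2
  exact ⟨Groth.Agent.GrpdLib.flat_of_flat_comp σ G.hom, Groth.Agent.FppfSource.lfp σ G.hom⟩

end Groth.Agent.AlgStLib.AutModel
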