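import Groth.Agent.AlgStLib.GerbeSection
import Groth.Agent.GerbLib.BaseChange

/-!
# Gerbes of algebraic stacks: the functor and its diagonal are flat, locally of finite presentation, surjective
-/

set_option autoImplicit false
set_option backward.isDefEq.respectTransparency false
set_option backward.isDefEq.respectTransparency.types false
set_option linter.style.haveILetI false
universe u

noncomputable section

namespace Groth.Agent.AlgStLib.GerbeMor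

open CategoryTheory CategoryTheory.Limits AlgebraicGeometry Opposite Groth.Agent.AlgSpLib Groth.Agent.StkBasic
  Groth.Agent.FibCatRep Groth.Agent.FibCat2Misc Groth.Agent.AlgStLib
open _root_.AlgSp _root_.AlgSt

variable {S : Scheme.{u}} {𝒳 𝒴 : AlgSt.Cat S}

/-- a property checked on models after factoring every point through some functor -/
theorem repWith_of_factor {Q : MorphismProperty (Sp S)} (hb : BCStable Q) {f : 𝒳 ⥤ᵇ 𝒴}
    (H : ∀ (U : Over S) (y : ofSch U ⥤ᵇ 𝒴), ∃ (𝒵 : AlgSt.Cat S) (w : 𝒵 ⥤ᵇ 𝒴) (z : ofSch U ⥤ᵇ 𝒵),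
      Nonempty (BasedFunctor.comp z w ≅ y) ∧ RepByAlgSpWith Q (FibCat.fpFst w f)) : RepByAlgSpWith Q f := by
  haveI := respectsIso_onSp hb
  refine repWith_onSp_iff.1 ((repWith_iff _ f).2 fun U y => ?_)
  obtain ⟨𝒵, w, z, ⟨i⟩, h⟩ := H U y
  obtain ⟨P, eP, heP, hg⟩ := (repWith_iff _ _).1 (repWith_onSp_iff.2 h) U z
  obtain ⟨e', he', hprj⟩ := exists_model_change (f := f) i (isEquivOver_comp heP (isEquivOver_pasteFun z w f))
  refine ⟨P, e', he', ?_⟩
  rw [hprj]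
  exact (show prjMap (BasedFunctor.comp eP (pasteFun z w f)) = prjMap eP from mapOf_congr (Iso.refl _)) ▸ hg

section sectionDiag

variable {U : Over S} (π : 𝒳 ⥤ᵇ ofSch U) (x : ofSch U ⥤ᵇ 𝒳)
  (e : BasedFunctor.comp x π ≅ BasedFunctor.id (ofSch U))

include e in
theorem repWith_diag_section {Q : MorphismProperty (Sp S)} (hb : BCStable Q)
    (hl : IsLocalOnBase (IsFppfCover (S := S)) Q) (h𝒳 : IsAlgStack Scheme.fppfPrecoverage 𝒳)
    (hπ : Gerb.LocSurjHom (QuotSh.J Scheme.fppfPrecoverage S) π) (hQ : RepByAlgSpWith Q x) :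
    RepByAlgSpWith Q (FibCat.diag π) := by
  have hU := isAlgStack_spOf U
  have hd : RepByAlgSp1 (FibCat.diag π) := repByAlgSp1_diag_stack h𝒳 hU π
  have hlifts := lifts_of_section π x e h𝒳 hπ
  let w := cmpMap x x π
  have hw : Lifts w := by
    intro V y
    let a : ofSch V ⥤ᵇ 𝒳 := BasedFunctor.comp y (FibCat.fpFst π π)
    let b : ofSch V ⥤ᵇ 𝒳 := BasedFunctor.comp y (FibCat.fpSnd π π)
    obtain ⟨V', g, g₁, g₂, g₃, z, ⟨i⟩⟩ := hlifts V a
    obtain ⟨V'', g', g'₁, g'₂, g'₃, z', ⟨i'⟩⟩ := hlifts V' (BasedFunctor.comp (ofSpMap ((yon S).map g)) b)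
    let G := ofSpMap ((yon S).map g)
    let G' := ofSpMap ((yon S).map g')
    let Z := BasedFunctor.comp G' z
    let ez : BasedFunctor.comp Z (BasedFunctor.comp x π) ≅ BasedFunctor.comp z' (BasedFunctor.comp x π) :=
      (Stk.restr G' _).mapIso ((post _ π).mapIso i ≪≫ (Stk.restr (BasedFunctor.comp G y) _).mapIso
        (FibCat.fpIso π π)) ≪≫ (post _ π).mapIso i'.symm
    let s : ofSch V'' ⥤ᵇ FibCat.fp (BasedFunctor.comp x π) (BasedFunctor.comp x π) := FibCat.fpLift Z z' ez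
    let c₀ : BasedFunctor.comp G' G ≅ ofSpMap ((yon S).map (g' ≫ g)) := isoOfSec _ _ fun o => by
      rw [secOf_comp_ofPshMap, secOf_ofPshMap, secOf_ofPshMap, Functor.map_comp]
      rfl
    let c₁ : BasedFunctor.comp s w ≅ BasedFunctor.comp (BasedFunctor.comp G' G) y :=
      fpExt ((Stk.restr G' _).mapIso i) i' fun o => by
        refine Stk.EltObj.hom_ext ?_
        show (ofSch U).p.map (_ ≫ _) = (ofSch U).p.map (_ ≫ _)
        obtain ⟨q₁, hq₁⟩ := map_iso_hom ((BasedFunctor.comp (BasedFunctor.comp G' G) y).obj o)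
        obtain ⟨q₂, hq₂⟩ := map_iso_hom ((BasedFunctor.comp s w).obj o)
        rw [Functor.map_comp, Functor.map_comp, map_map, map_map, map_app, map_app, hq₁, hq₂]
        simp
    refine ⟨V'', g' ≫ g, ?_, ?_, ?_, s, ⟨c₁ ≪≫ (post _ y).mapIso c₀⟩⟩
    all_goals
      rw [Over.comp_left]
      infer_instance
  refine repWith_of_lifts hb hl hd hw ?_
  let ε : BasedFunctor.comp (FibCat.fpFst x x) (BasedFunctor.comp x π) ≅
      BasedFunctor.comp (FibCat.fpSnd x x) (BasedFunctor.comp x π) := (post _ π).mapIso (FibCat.fpIso x x)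
  let C := FibCat.fpLift (FibCat.fpFst x x) (FibCat.fpSnd x x) ε
  have hC : RepByAlgSpWith Q C := by
    let ch := fpMap (F := BasedFunctor.id (ofSch U)) (G := BasedFunctor.comp x π) (BasedFunctor.comp x π)
      (BasedFunctor.comp x π) (BasedFunctor.id (ofSch U)) (BasedFunctor.id (ofSch U)) (BasedFunctor.id (ofSch U))
      e (Iso.refl _)
    have hch : FibCat.IsEquivOver ch := isEquivOver_fp_change (BasedFunctor.comp x π) e
    exact (repWith_iff_of_equiv Q (FibCat.fpSnd x x) C (BasedFunctor.id _)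
      (BasedFunctor.comp ch (FibCat.fpSnd (BasedFunctor.id (ofSch U)) (BasedFunctor.comp x π))) isEquivOver_id
      (isEquivOver_comp hch (isEquivOver_fpSnd_id _)) (Iso.refl _)).1 (repWith_fpSnd Q x x hQ)
  exact (repWith_iff_of_equiv Q (FibCat.fpFst w (FibCat.diag π)) C (cmpDiag ε (fun _ => rfl))
    (BasedFunctor.id _) (isEquivOver_cmpDiag ε (fun _ => rfl)) isEquivOver_id (Iso.refl _)).2 hC

end sectionDiag

variable (h𝒳 : IsAlgStack Scheme.fppfPrecoverage 𝒳) (h𝒴 : IsAlgStack Scheme.fppfPrecoverage 𝒴)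
  (f : 𝒳 ⥤ᵇ 𝒴) (hf : Gerb.IsGerbeOver (QuotSh.J Scheme.fppfPrecoverage S) f)

include h𝒳 h𝒴 hf

/-- the base change of a gerbe to a scheme -/
theorem isGerbeOver_bc {U : Over S} (g : ofSch U ⥤ᵇ 𝒴) :
    IsAlgStack Scheme.fppfPrecoverage (FibCat.fp g f) ∧
      Gerb.IsGerbeOver (QuotSh.J Scheme.fppfPrecoverage S) (FibCat.fpFst g f) :=
  ⟨isAlgStack_fp h𝒴.isStack h𝒴.diag (isAlgStack_spOf U) h𝒳 g f,
    GerbLib.isGerbeOver_fpFst h𝒴.isStack.1 (isFibGrpd_ofSpace _) hf⟩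

/-- the diagonal of a gerbe has every property of sections of gerbes -/
theorem repWith_diag_gerbe {Q : MorphismProperty (Sp S)} (hb : BCStable Q)
    (hl : IsLocalOnBase (IsFppfCover (S := S)) Q)
    (hQ : ∀ {𝒵 : AlgSt.Cat S} {U : Over S} (π : 𝒵 ⥤ᵇ ofSch U) (x : ofSch U ⥤ᵇ 𝒵)
      (_ : BasedFunctor.comp x π ≅ BasedFunctor.id (ofSch U)), IsAlgStack Scheme.fppfPrecoverage 𝒵 →
      Gerb.LocSurjHom (QuotSh.J Scheme.fppfPrecoverage S) π → RepByAlgSpWith Q x) :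
    RepByAlgSpWith Q (FibCat.diag f) := by
  refine repWith_of_factor hb fun U y => ?_
  let a : ofSch U ⥤ᵇ 𝒳 := BasedFunctor.comp y (FibCat.fpFst f f)
  let b : ofSch U ⥤ᵇ 𝒳 := BasedFunctor.comp y (FibCat.fpSnd f f)
  let g : ofSch U ⥤ᵇ 𝒴 := BasedFunctor.comp a f
  let j : g ≅ BasedFunctor.comp b f := (Stk.restr y _).mapIso (FibCat.fpIso f f)
  let a' : ofSch U ⥤ᵇ FibCat.fp g f := FibCat.fpLift (BasedFunctor.id _) a (Iso.refl _)
  let b' : ofSch U ⥤ᵇ FibCat.fp g f := FibCat.fpLift (BasedFunctor.id _) b j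
  let z : ofSch U ⥤ᵇ FibCat.fp (FibCat.fpFst g f) (FibCat.fpFst g f) := FibCat.fpLift a' b' (Iso.refl _)
  obtain ⟨hB, hG⟩ := isGerbeOver_bc h𝒳 h𝒴 f hf g
  refine ⟨_, bcSelf f g, z, ⟨fpExt (Iso.refl _) (Iso.refl _) fun o => ?_⟩, ?_⟩
  · let p : f.obj (y.obj o).obj.fst ≅ f.obj (y.obj o).obj.snd := (y.obj o).obj.iso
    show f.map (𝟙 _) ≫ p.hom = (𝟙 _ ≫ g.map (𝟙 _) ≫ p.hom) ≫ f.map (𝟙 _)
    simp
  · exact (repWith_iff_of_equiv Q (FibCat.fpFst (bcSelf f g) (FibCat.diag f)) (FibCat.diag (FibCat.fpFst g f))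
      (bcDiag f g) (BasedFunctor.id _) (isEquivOver_bcDiag f g) isEquivOver_id (Iso.refl _)).2
      (repWith_diag_section (FibCat.fpFst g f) a' (Iso.refl _) hb hl hB hG.2
        (hQ (FibCat.fpFst g f) a' (Iso.refl _) hB hG.2))

/-- the diagonal of a gerbe is flat, locally of finite presentation and surjective -/
theorem repWith_diag : RepByAlgSpWith (LocP @Flat) (FibCat.diag f) ∧
    RepByAlgSpWith (LocP @LocallyOfFinitePresentation) (FibCat.diag f) ∧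
      RepByAlgSpWith AlgSp.IsSurjectiveMor (FibCat.diag f) :=
  ⟨repWith_diag_gerbe h𝒳 h𝒴 f hf cls_flat.bc cls_flat.loc
      (fun π x e h₁ h₂ => (repWith_section π x e h₁ h₂).1),
    repWith_diag_gerbe h𝒳 h𝒴 f hf cls_lfp.bc cls_lfp.loc
      (fun π x e h₁ h₂ => (repWith_section π x e h₁ h₂).2.1),
    repWith_diag_gerbe h𝒳 h𝒴 f hf cls_surjective.bc cls_surjective.loc
      (fun π x e h₁ h₂ => (repWith_section π x e h₁ h₂).2.2)⟩

/-- local lifts of a chart -/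
theorem exists_family_lift {V : Over S} (y : ofSch V ⥤ᵇ 𝒴) :
    ∃ (W : ↥V.left → Over S) (k : ∀ v, W v ⟶ V),
      IsFppfCover (fun v => (yon S).obj (W v)) (fun v => (yon S).map (k v)) ∧
      (∀ v, ∃ (a : ofSch (W v) ⥤ᵇ 𝒳),
        Nonempty (BasedFunctor.comp a f ≅ BasedFunctor.comp (ofSpMap ((yon S).map (k v))) y)) := by
  have h𝒳g := h𝒳.isStack.1
  have h𝒴g := h𝒴.isStack.1
  let b := y.obj (pt V)
  have hb : 𝒴.p.obj b = V := y.w_obj (pt V)
  obtain ⟨R, hR, hlift⟩ := GerbLib.locObj_at hf.1 b hb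
  obtain ⟨W, k, hk, hcov⟩ := exists_family_of_mem hR
  refine ⟨W, k, hcov, fun v => ?_⟩
  obtain ⟨x₀, g, hg⟩ := hlift (k v) (hk v)
  haveI := hg
  have hx₀ : 𝒳.p.obj x₀ = W v := GerbLib.obj_over f (IsHomLift.domain_eq 𝒴.p (k v) g)
  obtain ⟨a₀, i₀, hi₀⟩ := exists_point h𝒳g x₀
  let Φ := ofSpMap ((yon S).map (eqToHom hx₀.symm))
  let a : ofSch (W v) ⥤ᵇ 𝒳 := BasedFunctor.comp Φ a₀
  let A : ofSch (W v) ⥤ᵇ 𝒴 := BasedFunctor.comp a f
  let B : ofSch (W v) ⥤ᵇ 𝒴 := BasedFunctor.comp (ofSpMap ((yon S).map (k v))) y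
  let zy : B.obj (pt (W v)) ⟶ b := y.map (⟨k v, ULift.ext _ _
    ((Category.comp_id (k v)).trans (Category.id_comp (k v)).symm)⟩ :
      (ofSpMap ((yon S).map (k v))).obj (pt (W v)) ⟶ pt V)
  let za : a.obj (pt (W v)) ⟶ x₀ := a₀.map (⟨eqToHom hx₀.symm, ULift.ext _ _
    (show eqToHom hx₀.symm ≫ 𝟙 (𝒳.p.obj x₀) = 𝟙 (W v) ≫ eqToHom hx₀.symm by simp)⟩ :
      Φ.obj (pt (W v)) ⟶ pt (𝒳.p.obj x₀)) ≫ i₀.hom
  have hzy : 𝒴.p.map zy = eqToHom (y.w_obj _) ≫ k v ≫ eqToHom (y.w_obj _).symm := map_map y _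
  have hza : 𝒳.p.map za = eqToHom (a.w_obj (pt (W v))) ≫ eqToHom hx₀.symm := by
    show 𝒳.p.map (a₀.map _ ≫ i₀.hom) = _
    rw [Functor.map_comp, map_map, hi₀]
    simp
  obtain ⟨χ, ⟨hχ, -⟩, -⟩ := existsUnique_cart h𝒴g zy (f.map za ≫ g)
    (eqToHom ((A.w_obj (pt (W v))).trans (B.w_obj (pt (W v))).symm)) (by
      rw [hzy, Functor.map_comp, map_map f za, hza, IsHomLift.fac' 𝒴.p (k v) g]
      simp)
  obtain ⟨i, -⟩ := exists_iso_of_top h𝒴g (BasedFunctor.comp (ofOverCat (W v)) A)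
    (BasedFunctor.comp (ofOverCat (W v)) B) χ hχ
  exact ⟨a, ⟨(Stk.restr (toOverCat (W v)) _).mapIso i⟩⟩

/-- the base change of a gerbe along a point with a lift -/
theorem locQ_bc {U : Over S} (g : ofSch U ⥤ᵇ 𝒴) (a : ofSch U ⥤ᵇ 𝒳) (i : BasedFunctor.comp a f ≅ g) :
    LocQ (LocP @Flat) (FibCat.fpFst g f) ∧ LocQ (LocP @LocallyOfFinitePresentation) (FibCat.fpFst g f) := by
  obtain ⟨hB, hG⟩ := isGerbeOver_bc h𝒳 h𝒴 f hf g
  have hU := isAlgStack_spOf U
  let a' : ofSch U ⥤ᵇ FibCat.fp g f := FibCat.fpLift (BasedFunctor.id _) a i.symm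
  obtain ⟨h₁, h₂, h₃⟩ := repWith_section (FibCat.fpFst g f) a' (Iso.refl _) hB hG.2
  have k₁ := locQ_of_repWith st_flat cls_flat.bc cls_flat.loc hU hB h₁
  have k₂ := locQ_of_repWith st_lfp cls_lfp.bc cls_lfp.loc hU hB h₂
  have k₃ := isSurjective_of_repWith hU.isStack.1 hB.isStack.1 h₃
  have key : ∀ {P : MorphismProperty Scheme.{u}}, EtST P → IsSmoothLocalST (LocP (S := S) P) → P (𝟙 U.left) →
      LocQ (LocP P) (BasedFunctor.comp a' (FibCat.fpFst g f)) := fun hP hs h => by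
    have j : BasedFunctor.comp a' (FibCat.fpFst g f) ≅ AlgSt.ofSpMap (spMap (𝟙 U)).hom :=
      isoOfSec (BasedFunctor.id (ofSch U)) _ fun o => by
        rw [secOf_id, secOf_ofPshMap]
        exact (FunctorToTypes.map_id_apply _ _).symm.trans (by simp [spMap])
    exact locQ_congr j ((locQ_ofSpMap_iff hs (spMap (𝟙 U))).2 ((locP_yon_iff hP _).2 h))
  exact ⟨locQ_flat_of_comp hU hB hU k₁ k₃ (key etST_flat st_flat inferInstance),
    locQ_lfp_of_comp_fppf hU hB hU k₁ k₂ k₃ (key etST_lfp st_lfp inferInstance)⟩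

/-- a gerbe is flat, locally of finite presentation and surjective -/
theorem locQ_gerbe : AlgSt.IsSurjective f ∧ LocQ (LocP @Flat) f ∧
    LocQ (LocP @LocallyOfFinitePresentation) f := by
  have h𝒳g := h𝒳.isStack.1
  have h𝒴g := h𝒴.isStack.1
  obtain ⟨V, y, hy, hy'⟩ := exists_atlas_sp h𝒴
  obtain ⟨W, k, hcov, hlift⟩ := exists_family_lift h𝒳 h𝒴 f hf y
  obtain ⟨U, h, ⟨c⟩⟩ := exists_good h𝒳 h𝒴 f y
  choose a ha using hlift
  refine ⟨fun q => ?_, ?_⟩
  · obtain ⟨q', rfl⟩ := isSurjective_of_repWith (isFibGrpd_ofSpace _) h𝒴g hy' q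
    obtain ⟨q'', rfl⟩ := (bijective_stPts _).2 q'
    obtain ⟨v, t, ht⟩ := hcov.2 q''
    obtain ⟨i⟩ := ha v
    refine ⟨AlgSt.Points.map (a v) (stPts _ t), ?_⟩
    rw [← map_comp_points, map_congr_points i, map_comp_points, map_stPts, ht]
  · have main : ∀ {P : MorphismProperty Scheme.{u}}, IsSmoothLocalST (LocP (S := S) P) →
        IsLocalOnBase (IsFppfCover (S := S)) (LocP P) →
        (∀ v, LocQ (LocP P) (FibCat.fpFst (BasedFunctor.comp (ofSpMap ((yon S).map (k v))) y) f)) →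
        LocQ (LocP P) f := fun {P} hP hl H => by
      refine (c.locQ_iff hP h𝒳g h𝒴g hy hy').2 ((hl _ _ (IsAlgSpace.yon_obj V)
        (fun v => IsAlgSpace.yon_obj (W v)) hcov ((yon S).map h) (IsAlgSpace.yon_obj U) _
        (fun v => (yon S).map (pullback.fst (k v) h)) (fun v => (yon S).map (pullback.snd (k v) h))
        (fun v => IsAlgSpace.yon_obj (pullback (k v) h))
        (fun v => ((IsPullback.of_hasPullback (k v) h).map (yon S)).flip)).2 fun v => ?_)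
      obtain ⟨ec⟩ := exists_pullback_chart (z := BasedFunctor.comp (ofSpMap ((yon S).map (k v))) y)
        h𝒳g h𝒴g (isFibGrpd_ofSpace _) c (BasedFunctor.id _) (k v) (Iso.refl _) _ _ _
        (IsPullback.of_hasPullback (k v) h)
      obtain ⟨e₁, e₂⟩ := repWith_smooth_of_equiv_space (W := spOf (W v))
        (isEquivOver_id (𝒳 := AlgSt.ofSp (spOf (W v)).obj))
      exact (ec.locQ_iff hP (isFibGrpd_fp (isFibGrpd_ofSpace _) h𝒳g h𝒴g _ f) (isFibGrpd_ofSpace _)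
        e₁ e₂).1 (H v)
    refine ⟨main st_flat cls_flat.loc fun v => ?_, main st_lfp cls_lfp.loc fun v => ?_⟩
    all_goals
      obtain ⟨i⟩ := ha v
      first
        | exact (locQ_bc h𝒳 h𝒴 f hf _ (a v) i).1
        | exact (locQ_bc h𝒳 h𝒴 f hf _ (a v) i).2

end Groth.Agent.AlgStLib.GerbeMor

end
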