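import Groth.Agent.AlgStLib.GerbeMain
import Groth.Agent.AlgStLib.DiagSurj
import Groth.Agent.AlgStLib.QC2
import Groth.Agent.QuotShLib.Fppf

/-!
# Consequences of flatness for gerbes: the criterion, universal homeomorphisms, quasi-compact diagonals
-/

set_option autoImplicit false
set_option backward.isDefEq.respectTransparency false
set_option backward.isDefEq.respectTransparency.types false
set_option linter.style.haveILetI false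
universe u

noncomputable section

namespace Groth.Agent.AlgStLib.GerbeMor

open CategoryTheory CategoryTheory.Limits AlgebraicGeometry Opposite Groth.Agent.AlgSpLib Groth.Agent.StkBasic
  Groth.Agent.FibCatRep Groth.Agent.FibCat2Misc Groth.Agent.AlgStLib
open _root_.AlgSp _root_.AlgSt

variable {S : Scheme.{u}} {𝒳 𝒴 : AlgSt.Cat S}

/-- objects are locally in the image of functors with lifts -/
theorem locSurjObj_of_lifts (h𝒴 : FibCat.IsFibGrpd 𝒴.p) {f : 𝒳 ⥤ᵇ 𝒴} (hf : Lifts f) :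
    Gerb.LocSurjObj (QuotSh.J Scheme.fppfPrecoverage S) f := by
  intro y
  obtain ⟨yf, i, hi⟩ := exists_point h𝒴 y
  obtain ⟨V, g, g₁, g₂, g₃, z, ⟨j⟩⟩ := hf _ yf
  refine ⟨_, QuotShLib.generate_singleton_mem_J (q := g) g.left.singleton_mem_fppfPrecoverage, ?_⟩
  rintro W f₀ ⟨_, k, _, ⟨⟩, rfl⟩
  let o : (ofSch V).obj := ⟨W, ⟨k⟩⟩
  let m : (ofSpMap ((yon S).map g)).obj o ⟶ pt (𝒴.p.obj y) :=
    ⟨k ≫ g, ULift.ext _ _ (Category.comp_id (k ≫ g))⟩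
  let ψ : f.obj (z.obj o) ⟶ y := j.hom.toNatTrans.app o ≫ yf.map m ≫ i.hom
  have hψ : 𝒴.p.map ψ = eqToHom ((f.w_obj _).trans (z.w_obj o)) ≫ k ≫ g := by
    show 𝒴.p.map (_ ≫ _ ≫ _) = _
    rw [Functor.map_comp, Functor.map_comp, map_map, map_app, hi]
    simp [m, BasedFunctor.comp]
  exact ⟨z.obj o, ψ, IsHomLift.of_fac' _ _ _ ((f.w_obj _).trans (z.w_obj o)) rfl (by rw [hψ]; simp)⟩

/-- morphisms between images lift locally when the diagonal has lifts -/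
theorem locSurjHom_of_lifts (h𝒳 : FibCat.IsFibGrpd 𝒳.p) (h𝒴 : FibCat.IsFibGrpd 𝒴.p) {f : 𝒳 ⥤ᵇ 𝒴}
    (hf : Lifts (FibCat.diag f)) : Gerb.LocSurjHom (QuotSh.J Scheme.fppfPrecoverage S) f := by
  intro x x' b hb
  haveI := hb
  haveI := GerbLib.isIso_over_id h𝒴 (V := 𝒳.p.obj x) b
  let o₀ : (FibCat.fp f f).obj := ⟨⟨x, x', asIso b⟩, hb⟩
  have hF := isFibGrpd_fp h𝒳 h𝒳 h𝒴 f f
  obtain ⟨yf, i, hi⟩ := exists_point hF o₀
  obtain ⟨V, g, g₁, g₂, g₃, z, ⟨j⟩⟩ := hf _ yf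
  refine ⟨_, QuotShLib.generate_singleton_mem_J (q := g) g.left.singleton_mem_fppfPrecoverage, ?_⟩
  rintro W f₀ ⟨_, k, _, ⟨⟩, rfl⟩
  let o : (ofSch V).obj := ⟨W, ⟨k⟩⟩
  let m : (ofSpMap ((yon S).map g)).obj o ⟶ pt ((FibCat.fp f f).p.obj o₀) :=
    ⟨k ≫ g, ULift.ext _ _ (Category.comp_id (k ≫ g))⟩
  let ψ : (FibCat.diag f).obj (z.obj o) ⟶ o₀ := j.hom.toNatTrans.app o ≫ yf.map m ≫ i.hom
  have hψ : (FibCat.fp f f).p.map ψ = eqToHom (z.w_obj o) ≫ k ≫ g := by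
    show (FibCat.fp f f).p.map (_ ≫ _ ≫ _) = _
    rw [Functor.map_comp, Functor.map_comp, map_map, map_app, hi]
    simp [m, BasedFunctor.comp]
  have hlift : (FibCat.fp f f).p.IsHomLift (k ≫ g) ψ :=
    IsHomLift.of_fac' _ _ _ (z.w_obj o) rfl (by rw [hψ]; simp)
  have h₁ : 𝒳.p.IsHomLift (k ≫ g) ψ.hom.fst := GerbLib.map_lift (FibCat.fpFst f f) (φ := ψ) hlift
  have h₂ : 𝒳.p.IsHomLift (k ≫ g) ψ.hom.snd := GerbLib.map_lift (FibCat.fpSnd f f) (φ := ψ) hlift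
  have hw : f.map ψ.hom.fst ≫ b = 𝟙 _ ≫ f.map ψ.hom.snd := ψ.hom.w
  exact ⟨z.obj o, ψ.hom.fst, ψ.hom.snd, h₁, h₂, hw.trans (Category.id_comp _)⟩

/-- isomorphisms of functors into a product over the base are determined by the factors -/
def fpExtSelf {𝒲 : AlgSt.Cat S} {F : 𝒳 ⥤ᵇ FibCat.selfOver (Over S)} {G : 𝒴 ⥤ᵇ FibCat.selfOver (Over S)}
    {a b : 𝒲 ⥤ᵇ FibCat.fp F G}
    (i : BasedFunctor.comp a (FibCat.fpFst F G) ≅ BasedFunctor.comp b (FibCat.fpFst F G))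
    (j : BasedFunctor.comp a (FibCat.fpSnd F G) ≅ BasedFunctor.comp b (FibCat.fpSnd F G)) : a ≅ b :=
  fpExt i j fun w => by
    obtain ⟨q₁, hq₁⟩ := map_iso_hom (b.obj w)
    obtain ⟨q₂, hq₂⟩ := map_iso_hom (a.obj w)
    show (FibCat.selfOver (Over S)).p.map (_ ≫ _) = (FibCat.selfOver (Over S)).p.map (_ ≫ _)
    rw [Functor.map_comp, Functor.map_comp, map_map, map_map, map_app, map_app, hq₁, hq₂]
    simp

variable (h𝒳 : IsAlgStack Scheme.fppfPrecoverage 𝒳) (h𝒴 : IsAlgStack Scheme.fppfPrecoverage 𝒴)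
  (f : 𝒳 ⥤ᵇ 𝒴)

include h𝒳 h𝒴

/-- the criterion for gerbes -/
theorem isGerbeOver_iff : Gerb.IsGerbeOver (QuotSh.J Scheme.fppfPrecoverage S) f ↔
    (AlgSt.IsSurjective f ∧ LocQ (LocP @Flat) f ∧ LocQ (LocP @LocallyOfFinitePresentation) f) ∧
      (AlgSt.IsSurjective (FibCat.diag f) ∧ LocQ (LocP @Flat) (FibCat.diag f) ∧
        LocQ (LocP @LocallyOfFinitePresentation) (FibCat.diag f)) := by
  have hff := isAlgStack_fp h𝒴.isStack h𝒴.diag h𝒳 h𝒳 f f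
  constructor
  · intro hf
    obtain ⟨d₁, d₂, d₃⟩ := repWith_diag h𝒳 h𝒴 f hf
    exact ⟨locQ_gerbe h𝒳 h𝒴 f hf, isSurjective_of_repWith h𝒳.isStack.1 hff.isStack.1 d₃,
      locQ_of_repWith st_flat cls_flat.bc cls_flat.loc h𝒳 hff d₁,
      locQ_of_repWith st_lfp cls_lfp.bc cls_lfp.loc h𝒳 hff d₂⟩
  · rintro ⟨⟨a₁, a₂, a₃⟩, b₁, b₂, b₃⟩
    exact ⟨locSurjObj_of_lifts h𝒴.isStack.1 (lifts_of_locQ h𝒴 h𝒳 a₂ a₃ a₁),
      locSurjHom_of_lifts h𝒳.isStack.1 h𝒴.isStack.1 (lifts_of_locQ hff h𝒳 b₂ b₃ b₁)⟩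

/-- gerbes are universal homeomorphisms -/
theorem isUnivHomeo (hf : Gerb.IsGerbeOver (QuotSh.J Scheme.fppfPrecoverage S) f) :
    AlgSt.IsUnivHomeo Scheme.fppfPrecoverage f := by
  intro 𝒵 h𝒵 g
  have hB := isAlgStack_fp h𝒴.isStack h𝒴.diag h𝒵 h𝒳 g f
  obtain ⟨h₁, h₂, h₃⟩ := locQ_gerbe hB h𝒵 (FibCat.fpFst g f)
    (GerbLib.isGerbeOver_fpFst h𝒴.isStack.1 h𝒵.isStack.1 hf)
  have hd := isSurjective_of_repWith h𝒳.isStack.1 (isFibGrpd_fp h𝒳.isStack.1 h𝒳.isStack.1 h𝒴.isStack.1 f f)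
    (repWith_diag h𝒳 h𝒴 f hf).2.2
  refine ⟨continuous_map h𝒵 _, isOpenMor_of_flat_lfp hB h𝒵 h₂ h₃,
    isUnivInjective_of_diag_surjective h𝒳.isStack.1 h𝒴.isStack.1 hd 𝒵 h𝒵 g, h₁⟩

/-- the base change of a gerbe along itself in both factors -/
theorem isQuasiCompactMor_diag (hf : Gerb.IsGerbeOver (QuotSh.J Scheme.fppfPrecoverage S) f)
    (hΔ : AlgSt.IsQuasiCompactMor Scheme.fppfPrecoverage (FibCat.diag (FibCat.toSelf 𝒳))) :
    AlgSt.IsQuasiCompactMor Scheme.fppfPrecoverage (FibCat.diag (FibCat.toSelf 𝒴)) := by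
  obtain ⟨f₁, f₂, f₃⟩ := locQ_gerbe h𝒳 h𝒴 f hf
  have hΔf := isSurjective_of_repWith h𝒳.isStack.1 (isFibGrpd_fp h𝒳.isStack.1 h𝒳.isStack.1 h𝒴.isStack.1 f f)
    (repWith_diag h𝒳 h𝒴 f hf).2.2
  let t := FibCat.toSelf 𝒴
  have hT : IsAlgStack Scheme.fppfPrecoverage (FibCat.selfOver (Over S)) := isAlgStack_self
  let s := BasedFunctor.comp f t
  have hYY := algFp hT h𝒴 h𝒴 t t
  have hXY := algFp hT h𝒳 h𝒴 s t
  have hXX := algFp hT h𝒳 h𝒳 s s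
  have hff := isAlgStack_fp h𝒴.isStack h𝒴.diag h𝒳 h𝒳 f f
  -- the two partial products
  let z₁ : FibCat.fp s t ⥤ᵇ FibCat.fp t t := prodFst t t f
  let z₂ : FibCat.fp s s ⥤ᵇ FibCat.fp s t := prodSnd s t f
  let E₁ := BasedFunctor.comp (swapFun (FibCat.fpFst t t) f) (pasteFun f t t)
  have hE₁ : FibCat.IsEquivOver E₁ := isEquivOver_comp (isEquivOver_swapFun _ _) (isEquivOver_pasteFun f t t)
  let i₁ : BasedFunctor.comp E₁ z₁ ≅ FibCat.fpFst (FibCat.fpFst t t) f :=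
    fpExtSelf (FibCat.fpIso (FibCat.fpFst t t) f).symm (Iso.refl _)
  let E₂ := assocFun s t f
  have hE₂ : FibCat.IsEquivOver E₂ := isEquivOver_assocFun s t f
  let i₂ : BasedFunctor.comp E₂ z₂ ≅ FibCat.fpFst (FibCat.fpSnd s t) f :=
    fpExtSelf (Iso.refl _) (FibCat.fpIso (FibCat.fpSnd s t) f).symm
  have hP₁ := algFp h𝒴 hYY h𝒳 (FibCat.fpFst t t) f
  have hP₂ := algFp h𝒴 hXY h𝒳 (FibCat.fpSnd s t) f
  have l₁ : ∀ {P : MorphismProperty Scheme.{u}}, IsSmoothLocalST (LocP (S := S) P) → Cls (LocP (S := S) P) →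
      LocQ (LocP P) f → LocQ (LocP P) z₁ ∧ LocQ (LocP P) z₂ := fun hs hc h =>
    ⟨locQ_of_equiv_source hE₁ (locQ_congr i₁ (locQ_fpFst_of_bc hs hc.bc h𝒳 h𝒴 hYY h)),
      locQ_of_equiv_source hE₂ (locQ_congr i₂ (locQ_fpFst_of_bc hs hc.bc h𝒳 h𝒴 hXY h))⟩
  obtain ⟨zF₁, zF₂⟩ := l₁ st_flat cls_flat f₂
  obtain ⟨zL₁, zL₂⟩ := l₁ st_lfp cls_lfp f₃
  have zS₁ : AlgSt.IsSurjective z₁ := fun q => by
    obtain ⟨w, rfl⟩ := isSurjective_fpFst h𝒳.isStack.1 h𝒴.isStack.1 hYY.isStack.1 f (FibCat.fpFst t t) f₁ q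
    exact ⟨AlgSt.Points.map E₁ w, by rw [← map_comp_points, map_congr_points i₁]⟩
  have zS₂ : AlgSt.IsSurjective z₂ := fun q => by
    obtain ⟨w, rfl⟩ := isSurjective_fpFst h𝒳.isStack.1 h𝒴.isStack.1 hXY.isStack.1 f (FibCat.fpSnd s t) f₁ q
    exact ⟨AlgSt.Points.map E₂ w, by rw [← map_comp_points, map_congr_points i₂]⟩
  let z := BasedFunctor.comp z₂ z₁
  have hz₁ : LocQ (LocP @Flat) z := locQ_comp st_flat cls_flat.comp hXX hXY hYY zF₂ zF₁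
  have hz₂ : LocQ (LocP @LocallyOfFinitePresentation) z :=
    locQ_comp st_lfp cls_lfp.comp hXX hXY hYY zL₂ zL₁
  have hz₃ : AlgSt.IsSurjective z := fun q => by
    obtain ⟨a, rfl⟩ := zS₁ q
    obtain ⟨b, rfl⟩ := zS₂ a
    exact ⟨b, map_comp_points z₂ z₁ b⟩
  refine isQuasiCompactMor_of_fpFst h𝒴 hYY hXX hz₁ hz₂ hz₃ ?_
  -- the pull-back of the diagonal of the target is the self product of the gerbe
  let ε : BasedFunctor.comp (FibCat.fpFst f f) s ≅ BasedFunctor.comp (FibCat.fpSnd f f) s :=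
    (post _ t).mapIso (FibCat.fpIso f f)
  let C := FibCat.fpLift (FibCat.fpFst f f) (FibCat.fpSnd f f) ε
  have hC : AlgSt.IsQuasiCompactMor Scheme.fppfPrecoverage C := by
    have hs : s = FibCat.toSelf 𝒳 := comp_toSelf f
    have hΔ' : AlgSt.IsQuasiCompactMor Scheme.fppfPrecoverage (FibCat.diag s) := by rw [hs]; exact hΔ
    exact qcMor_of_surjective h𝒳 hff hXX (f := FibCat.diag f) (p := FibCat.diag s) (q := C)
      (diagCmpIso f t).symm hΔf hΔ'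
  let D := cmpDiag ε (fun _ => rfl)
  have hD := isEquivOver_cmpDiag ε (fun _ => rfl)
  obtain ⟨D', hD', -, ⟨j⟩⟩ := isEquivOver_symm hD
  have hQ : AlgSt.IsQuasiCompactMor Scheme.fppfPrecoverage (FibCat.fpFst (cmpMap f f t) (FibCat.diag t)) := by
    have hA := algFp hYY hXX h𝒴 (cmpMap f f t) (FibCat.diag t)
    refine qcMor_of_surjective hff hA hXX (f := D) (p := C) (Iso.refl _) ?_ hC
    intro q
    exact ⟨AlgSt.Points.map D' q, by rw [← map_comp_points, map_congr_points j, map_id_points]⟩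
  let iz : cmpMap f f t ≅ z := fpExtSelf (Iso.refl _) (Iso.refl _)
  intro 𝒲 h𝒲 hq g
  refine (isQuasiCompact_iff_of_equiv (isEquivOver_pasteFun g z (FibCat.diag t))
    (algFp hXX h𝒲 (algFp hYY hXX h𝒴 z (FibCat.diag t)) g _)).2 ?_
  exact isQuasiCompact_fp_congr hYY h𝒲 h𝒴 ((Stk.restr g _).mapIso iz)
    ((isQuasiCompact_iff_of_equiv (isEquivOver_pasteFun g (cmpMap f f t) (FibCat.diag t))
      (algFp hXX h𝒲 (algFp hYY hXX h𝒴 _ (FibCat.diag t)) g _)).1 (hQ 𝒲 h𝒲 hq g))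

end Groth.Agent.AlgStLib.GerbeMor

end
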