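import Groth.Agent.AlgStLib.LocQCalc
import Groth.Agent.LimDesc.FPCancel

/-!
# Descent, cancellation and openness for properties read on charts
-/

set_option autoImplicit false
set_option backward.isDefEq.respectTransparency false
set_option backward.isDefEq.respectTransparency.types false
set_option linter.style.haveILetI false
universe u

noncomputable section

namespace Groth.Agent.AlgStLib

open CategoryTheory CategoryTheory.Limits AlgebraicGeometry Opposite Groth.Agent.FibCatRep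
  Groth.Agent.FibCat2Misc Groth.Agent.AlgSpLib Groth.Agent.StkBasic
open _root_.AlgSp _root_.AlgSt

variable {S : Scheme.{u}} {𝒳 𝒴 𝒵 : AlgSt.Cat S}

/-- compatible charts of a functor, a second functor and the base change -/
theorem exists_descent (h𝒳 : IsAlgStack Scheme.fppfPrecoverage 𝒳) (h𝒴 : IsAlgStack Scheme.fppfPrecoverage 𝒴)
    (h𝒵 : IsAlgStack Scheme.fppfPrecoverage 𝒵) (f : 𝒳 ⥤ᵇ 𝒴) (z : 𝒵 ⥤ᵇ 𝒴) :
    ∃ (U V W T : Over S) (h : U ⟶ V) (k : W ⟶ V) (p : T ⟶ W) (q : T ⟶ U), IsPullback p q k h ∧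
      (∀ {P : MorphismProperty (Sp S)}, IsSmoothLocalST P →
        (LocQ P f ↔ P ((yon S).map h)) ∧ (LocQ P z ↔ P ((yon S).map k)) ∧
        (LocQ P (FibCat.fpFst z f) ↔ P ((yon S).map p))) ∧
      (AlgSt.IsSurjective z → Surjective k.left) := by
  obtain ⟨V, y, hy, hy'⟩ := exists_atlas_sp h𝒴
  obtain ⟨U, h, ⟨c⟩⟩ := exists_good h𝒳 h𝒴 f y
  obtain ⟨W, k, ⟨d⟩⟩ := exists_good h𝒵 h𝒴 z y
  let w := BasedFunctor.comp d.L (FibCat.fpFst z y)
  have sq : IsPullback (pullback.fst k h) (pullback.snd k h) k h := IsPullback.of_hasPullback k h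
  obtain ⟨e⟩ := exists_pullback_chart h𝒳.isStack.1 h𝒴.isStack.1 h𝒵.isStack.1 c w k
    ((Stk.restr d.L _).mapIso (FibCat.fpIso z y) ≪≫ (post _ y).mapIso d.iso) _ _ _ sq
  refine ⟨U, V, W, _, h, k, _, _, sq, fun {P} hP => ⟨c.locQ_iff hP h𝒳.isStack.1 h𝒴.isStack.1 hy hy',
    d.locQ_iff hP h𝒵.isStack.1 h𝒴.isStack.1 hy hy',
    e.locQ_iff hP (isFibGrpd_fp h𝒵.isStack.1 h𝒳.isStack.1 h𝒴.isStack.1 z f) h𝒵.isStack.1
      (d.repWith_x cls_smooth h𝒵.isStack.1 h𝒴.isStack.1 d.smooth hy)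
      (d.repWith_x cls_surjective h𝒵.isStack.1 h𝒴.isStack.1 d.surj hy')⟩,
    fun hs => d.surjective h𝒵.isStack.1 h𝒴.isStack.1 hs⟩

variable {P : MorphismProperty (Sp S)} {f : 𝒳 ⥤ᵇ 𝒴} {z : 𝒵 ⥤ᵇ 𝒴}

/-- descent along fppf coverings -/
theorem locQ_of_fpFst (hP : IsSmoothLocalST P) (hl : IsLocalOnBase (IsFppfCover (S := S)) P)
    (h𝒳 : IsAlgStack Scheme.fppfPrecoverage 𝒳) (h𝒴 : IsAlgStack Scheme.fppfPrecoverage 𝒴)
    (h𝒵 : IsAlgStack Scheme.fppfPrecoverage 𝒵) (hz₁ : LocQ (LocP @Flat) z)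
    (hz₂ : LocQ (LocP @LocallyOfFinitePresentation) z) (hz₃ : AlgSt.IsSurjective z)
    (h : LocQ P (FibCat.fpFst z f)) : LocQ P f := by
  obtain ⟨U, V, W, T, a, k, p, q, sq, key, hs⟩ := exists_descent h𝒳 h𝒴 h𝒵 f z
  refine (key hP).1.2 ((hl _ _ (IsAlgSpace.yon_obj V) (fun _ => IsAlgSpace.yon_obj W)
    (isFppfCover_singleton k ((locP_yon_iff etST_flat k).1 ((key st_flat).2.1.1 hz₁)) (hs hz₃)
      ((locP_yon_iff etST_lfp k).1 ((key st_lfp).2.1.1 hz₂)))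
    ((yon S).map a) (IsAlgSpace.yon_obj U) _ (fun _ => (yon S).map p) (fun _ => (yon S).map q)
    (fun _ => IsAlgSpace.yon_obj T) (fun _ => (sq.map (yon S)).flip)).2 fun _ => (key hP).2.2.1 h)

theorem locQ_fpFst_of_bc (hP : IsSmoothLocalST P) (hb : BCStable P)
    (h𝒳 : IsAlgStack Scheme.fppfPrecoverage 𝒳) (h𝒴 : IsAlgStack Scheme.fppfPrecoverage 𝒴)
    (h𝒵 : IsAlgStack Scheme.fppfPrecoverage 𝒵) (h : LocQ P f) : LocQ P (FibCat.fpFst z f) := by
  obtain ⟨U, V, W, T, a, k, p, q, sq, key, -⟩ := exists_descent h𝒳 h𝒴 h𝒵 f z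
  exact (key hP).2.2.2 (hb (IsAlgSpace.yon_obj U) (IsAlgSpace.yon_obj V) (IsAlgSpace.yon_obj T)
    (IsAlgSpace.yon_obj W) _ _ _ _ (sq.map (yon S)).flip ((key hP).1.1 h))

theorem locQ_comp {g : 𝒴 ⥤ᵇ 𝒵} (hP : IsSmoothLocalST P)
    (hc : ∀ ⦃X Y Z : Sp S⦄, IsAlgSpace X → IsAlgSpace Y → IsAlgSpace Z → ∀ (a : X ⟶ Y) (b : Y ⟶ Z),
      P a → P b → P (a ≫ b))
    (h𝒳 : IsAlgStack Scheme.fppfPrecoverage 𝒳) (h𝒴 : IsAlgStack Scheme.fppfPrecoverage 𝒴)
    (h𝒵 : IsAlgStack Scheme.fppfPrecoverage 𝒵) (hf : LocQ P f) (hg : LocQ P g) :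
    LocQ P (BasedFunctor.comp f g) := by
  obtain ⟨U, V, W, k, l, key, -⟩ := exists_chain h𝒳 h𝒴 h𝒵 f g
  rw [(key hP).2.2, Functor.map_comp]
  exact hc (IsAlgSpace.yon_obj U) (IsAlgSpace.yon_obj V) (IsAlgSpace.yon_obj W) _ _ ((key hP).1.1 hf)
    ((key hP).2.1.1 hg)

theorem locQ_of_equiv_source {e : 𝒵 ⥤ᵇ 𝒳} (he : FibCat.IsEquivOver e)
    (h : LocQ P (BasedFunctor.comp e f)) : LocQ P f := by
  obtain ⟨U, V, x, y, a, α, h₁, h₂, h₃, h₄⟩ := h
  exact ⟨U, V, BasedFunctor.comp x e, y, a, α, repWith_comp_equiv_right h₁ he, repWith_comp_equiv_right h₂ he, h₃, h₄⟩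

variable {g : 𝒴 ⥤ᵇ 𝒵}

theorem locQ_lft_of_comp (h𝒳 : IsAlgStack Scheme.fppfPrecoverage 𝒳) (h𝒴 : IsAlgStack Scheme.fppfPrecoverage 𝒴)
    (h𝒵 : IsAlgStack Scheme.fppfPrecoverage 𝒵) (h : LocQ (LocP @LocallyOfFiniteType) (BasedFunctor.comp f g)) :
    LocQ (LocP @LocallyOfFiniteType) f := by
  obtain ⟨U, V, W, k, l, key, -⟩ := exists_chain h𝒳 h𝒴 h𝒵 f g
  have := (locP_yon_iff etST_lft _).1 ((key st_lft).2.2.1 h)
  rw [Over.comp_left] at this
  exact (key st_lft).1.2 ((locP_yon_iff etST_lft k).2 (locallyOfFiniteType_of_comp k.left l.left))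

theorem locQ_lfp_of_comp (h𝒳 : IsAlgStack Scheme.fppfPrecoverage 𝒳) (h𝒴 : IsAlgStack Scheme.fppfPrecoverage 𝒴)
    (h𝒵 : IsAlgStack Scheme.fppfPrecoverage 𝒵)
    (h : LocQ (LocP @LocallyOfFinitePresentation) (BasedFunctor.comp f g))
    (hg : LocQ (LocP @LocallyOfFiniteType) g) : LocQ (LocP @LocallyOfFinitePresentation) f := by
  obtain ⟨U, V, W, k, l, key, -⟩ := exists_chain h𝒳 h𝒴 h𝒵 f g
  have := (locP_yon_iff etST_lfp _).1 ((key st_lfp).2.2.1 h)
  rw [Over.comp_left] at this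
  haveI := (locP_yon_iff etST_lft l).1 ((key st_lft).2.1.1 hg)
  exact (key st_lfp).1.2 ((locP_yon_iff etST_lfp k).2 (LimDesc.lfp_of_comp k.left l.left))

theorem locQ_flat_of_comp (h𝒳 : IsAlgStack Scheme.fppfPrecoverage 𝒳) (h𝒴 : IsAlgStack Scheme.fppfPrecoverage 𝒴)
    (h𝒵 : IsAlgStack Scheme.fppfPrecoverage 𝒵) (hf₁ : LocQ (LocP @Flat) f) (hf₂ : AlgSt.IsSurjective f)
    (h : LocQ (LocP @Flat) (BasedFunctor.comp f g)) : LocQ (LocP @Flat) g := by
  obtain ⟨U, V, W, k, l, key, hs, -⟩ := exists_chain h𝒳 h𝒴 h𝒵 f g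
  have := (locP_yon_iff etST_flat _).1 ((key st_flat).2.2.1 h)
  rw [Over.comp_left] at this
  haveI := (locP_yon_iff etST_flat k).1 ((key st_flat).1.1 hf₁)
  haveI := hs hf₂
  exact (key st_flat).2.1.2 ((locP_yon_iff etST_flat l).2 (GrpdLib.flat_of_flat_comp k.left l.left))

theorem locQ_lfp_of_comp_fppf (h𝒳 : IsAlgStack Scheme.fppfPrecoverage 𝒳)
    (h𝒴 : IsAlgStack Scheme.fppfPrecoverage 𝒴) (h𝒵 : IsAlgStack Scheme.fppfPrecoverage 𝒵)
    (hf₁ : LocQ (LocP @Flat) f) (hf₂ : LocQ (LocP @LocallyOfFinitePresentation) f) (hf₃ : AlgSt.IsSurjective f)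
    (h : LocQ (LocP @LocallyOfFinitePresentation) (BasedFunctor.comp f g)) :
    LocQ (LocP @LocallyOfFinitePresentation) g := by
  obtain ⟨U, V, W, k, l, key, hs, -⟩ := exists_chain h𝒳 h𝒴 h𝒵 f g
  have := (locP_yon_iff etST_lfp _).1 ((key st_lfp).2.2.1 h)
  rw [Over.comp_left] at this
  haveI := (locP_yon_iff etST_flat k).1 ((key st_flat).1.1 hf₁)
  haveI := (locP_yon_iff etST_lfp k).1 ((key st_lfp).1.1 hf₂)
  haveI := hs hf₃
  exact (key st_lfp).2.1.2 ((locP_yon_iff etST_lfp l).2 (FppfSource.lfp k.left l.left))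

theorem locQ_lft_of_precomp_fppf (h𝒳 : IsAlgStack Scheme.fppfPrecoverage 𝒳)
    (h𝒴 : IsAlgStack Scheme.fppfPrecoverage 𝒴) (h𝒵 : IsAlgStack Scheme.fppfPrecoverage 𝒵)
    (hf₁ : RepByAlgSpWith (LocP @Flat) f) (hf₂ : RepByAlgSpWith (LocP @LocallyOfFinitePresentation) f)
    (hf₃ : RepByAlgSpWith AlgSp.IsSurjectiveMor f)
    (h : LocQ (LocP @LocallyOfFiniteType) (BasedFunctor.comp f g)) : LocQ (LocP @LocallyOfFiniteType) g := by
  obtain ⟨U, V, W, k, l, key, hs, hk⟩ := exists_chain h𝒳 h𝒴 h𝒵 f g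
  have := (locP_yon_iff etST_lft _).1 ((key st_lft).2.2.1 h)
  rw [Over.comp_left] at this
  haveI := hk etST_flat cls_flat (fun _ _ r hr => by haveI := hr; infer_instance) hf₁
  haveI := hk etST_lfp cls_lfp (fun _ _ r hr => by haveI := hr; infer_instance) hf₂
  haveI := hs (isSurjective_of_repWith h𝒳.isStack.1 h𝒴.isStack.1 hf₃)
  exact (key st_lft).2.1.2 ((locP_yon_iff etST_lft l).2 (FppfSource.lft k.left l.left))

theorem locQ_flat_of_fpFst (h𝒳 : IsAlgStack Scheme.fppfPrecoverage 𝒳)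
    (h𝒴 : IsAlgStack Scheme.fppfPrecoverage 𝒴) (h𝒵 : IsAlgStack Scheme.fppfPrecoverage 𝒵)
    (hz₁ : LocQ (LocP @Flat) z) (hz₂ : AlgSt.IsSurjective z)
    (h : LocQ (LocP @Flat) (FibCat.fpFst z f)) : LocQ (LocP @Flat) f := by
  obtain ⟨U, V, W, T, a, k, p, q, sq, key, hs⟩ := exists_descent h𝒳 h𝒴 h𝒵 f z
  have sqs : IsPullback p.left q.left k.left a.left := sq.map (Over.forget S)
  haveI := (locP_yon_iff etST_flat k).1 ((key st_flat).2.1.1 hz₁)
  haveI := hs hz₂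
  haveI := (locP_yon_iff etST_flat p).1 ((key st_flat).2.2.1 h)
  haveI : Flat q.left := MorphismProperty.of_isPullback (P := @Flat) sqs inferInstance
  haveI : Surjective q.left := MorphismProperty.of_isPullback (P := @Surjective) sqs inferInstance
  haveI : Flat (q.left ≫ a.left) := by rw [← sqs.w]; infer_instance
  exact (key st_flat).1.2 ((locP_yon_iff etST_flat a).2 (GrpdLib.flat_of_flat_comp q.left a.left))

/-- lifts along stacks flat, surjective and locally of finite presentation -/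
theorem lifts_of_locQ (h𝒴 : IsAlgStack Scheme.fppfPrecoverage 𝒴) (h𝒵 : IsAlgStack Scheme.fppfPrecoverage 𝒵)
    (hz₁ : LocQ (LocP @Flat) z) (hz₂ : LocQ (LocP @LocallyOfFinitePresentation) z) (hz₃ : AlgSt.IsSurjective z) :
    Lifts z := by
  obtain ⟨V, y, hy, hy'⟩ := exists_atlas_sp h𝒴
  obtain ⟨W, k, ⟨d⟩⟩ := exists_good h𝒵 h𝒴 z y
  let w := BasedFunctor.comp d.L (FibCat.fpFst z y)
  let i : BasedFunctor.comp w z ≅ BasedFunctor.comp (AlgSt.ofSpMap (spMap k).hom) y :=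
    (Stk.restr d.L _).mapIso (FibCat.fpIso z y) ≪≫ (post _ y).mapIso d.iso
  haveI := (locP_yon_iff etST_flat k).1 ((d.locQ_iff st_flat h𝒵.isStack.1 h𝒴.isStack.1 hy hy').1 hz₁)
  haveI := (locP_yon_iff etST_lfp k).1 ((d.locQ_iff st_lfp h𝒵.isStack.1 h𝒴.isStack.1 hy hy').1 hz₂)
  haveI := d.surjective h𝒵.isStack.1 h𝒴.isStack.1 hz₃
  intro U' y'
  obtain ⟨V', a, a₁, a₂, a₃, v, ⟨j⟩⟩ :=
    lifts_of_fppf (repWith_flat_of_smooth hy) (repWith_lfp_of_smooth hy) hy' U' y'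
  obtain ⟨m, hm⟩ := exists_map_eq (ObjectProperty.homMk (mapOf v) : (yon S).obj V' ⟶ (yon S).obj V)
  have sq : IsPullback (pullback.fst m k) (pullback.snd m k) m k := IsPullback.of_hasPullback m k
  have sqs : IsPullback (pullback.fst m k).left (pullback.snd m k).left m.left k.left := sq.map (Over.forget S)
  haveI : Flat (pullback.fst m k).left := MorphismProperty.of_isPullback (P := @Flat) sqs.flip inferInstance
  haveI : Surjective (pullback.fst m k).left :=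
    MorphismProperty.of_isPullback (P := @Surjective) sqs.flip inferInstance
  haveI : LocallyOfFinitePresentation (pullback.fst m k).left :=
    MorphismProperty.of_isPullback (P := @LocallyOfFinitePresentation) sqs.flip inferInstance
  haveI := a₁
  haveI := a₂
  haveI := a₃
  let P := Stk.ofPshMap ((pyon S).map (pullback.fst m k))
  let Q := Stk.ofPshMap ((pyon S).map (pullback.snd m k))
  have hsq : (pyon S).map (pullback.snd m k) ≫ (pyon S).map k = (pyon S).map (pullback.fst m k) ≫ (pyon S).map m := by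
    rw [← Functor.map_comp, ← Functor.map_comp, sq.w]
  have c₁ : BasedFunctor.comp Q (Stk.ofPshMap ((pyon S).map k)) ≅ BasedFunctor.comp P v := by
    have e₁ : BasedFunctor.comp Q (Stk.ofPshMap ((pyon S).map k)) ≅
        BasedFunctor.comp P (Stk.ofPshMap ((pyon S).map m)) := isoOfSec _ _ fun b => by
      rw [secOf_comp_ofPshMap, secOf_comp_ofPshMap, secOf_ofPshMap, secOf_ofPshMap]
      exact congrArg (fun r => r.app _ b.sec) hsq
    have e₂ : Stk.ofPshMap ((pyon S).map m) ≅ v :=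
      eqToIso (congrArg (fun r : (yon S).obj V' ⟶ (yon S).obj V => Stk.ofPshMap r.hom) hm) ≪≫ mapOfIso v
    exact e₁ ≪≫ (Stk.restr P _).mapIso e₂
  have c₂ : BasedFunctor.comp P (Stk.ofPshMap ((pyon S).map a)) ≅
      Stk.ofPshMap ((pyon S).map (pullback.fst m k ≫ a)) := isoOfSec _ _ fun b => by
    rw [secOf_comp_ofPshMap, secOf_ofPshMap, secOf_ofPshMap, Functor.map_comp]
    rfl
  exact ⟨pullback m k, pullback.fst m k ≫ a, by rw [Over.comp_left]; infer_instance,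
    by rw [Over.comp_left]; infer_instance, by rw [Over.comp_left]; infer_instance, BasedFunctor.comp Q w,
    ⟨(Stk.restr Q _).mapIso i ≪≫ (post _ y).mapIso c₁ ≪≫ (Stk.restr P _).mapIso j ≪≫ (post _ y').mapIso c₂⟩⟩

/-- the diagonal of a morphism locally of finite type is locally of finite presentation -/
theorem locQ_lfp_diag (h𝒳 : IsAlgStack Scheme.fppfPrecoverage 𝒳) (h𝒴 : IsAlgStack Scheme.fppfPrecoverage 𝒴)
    (hf : LocQ (LocP @LocallyOfFiniteType) f) : LocQ (LocP @LocallyOfFinitePresentation) (FibCat.diag f) := by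
  obtain ⟨U, x, hx, hx'⟩ := exists_atlas_sp h𝒳
  have hU := isAlgStack_spOf (S := S) U
  have hXX := isAlgStack_fp h𝒴.isStack h𝒴.diag h𝒳 h𝒳 f f
  have hxf : LocQ (LocP @LocallyOfFiniteType) (BasedFunctor.comp x f) :=
    locQ_comp st_lft cls_lft.comp hU h𝒳 h𝒴
      (locQ_of_repWith st_lft cls_lft.bc cls_lft.loc hU h𝒳 (repWith_lft_of_smooth hx)) hf
  let ε : BasedFunctor.comp (FibCat.fpFst x x) (BasedFunctor.comp x f) ≅
      BasedFunctor.comp (FibCat.fpSnd x x) (BasedFunctor.comp x f) := (post _ f).mapIso (FibCat.fpIso x x)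
  let C := FibCat.fpLift (FibCat.fpFst x x) (FibCat.fpSnd x x) ε
  have hA := isAlgStack_fp h𝒳.isStack h𝒳.diag hU hU x x
  have hB := isAlgStack_fp h𝒴.isStack h𝒴.diag hU hU (BasedFunctor.comp x f) (BasedFunctor.comp x f)
  have hC : LocQ (LocP @LocallyOfFinitePresentation) C :=
    locQ_lfp_of_comp (g := FibCat.fpFst (BasedFunctor.comp x f) (BasedFunctor.comp x f)) hA hB hU
      (locQ_of_repWith st_lfp cls_lfp.bc cls_lfp.loc hA hU (repWith_fpFst _ x x (repWith_lfp_of_smooth hx)))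
      (locQ_fpFst_of_bc st_lft cls_lft.bc hU h𝒴 hU hxf)
  have key : ∀ {Q : MorphismProperty (Sp S)}, Cls Q → RepByAlgSpWith Q x → RepByAlgSpWith Q (cmpMap x x f) :=
    fun hQ h => repWith_congr _ (fpExt (b := BasedFunctor.comp (prodFst f (BasedFunctor.comp x f) x) (prodSnd f f x))
        (Iso.refl _) (Iso.refl _) fun w => by
        show f.map (𝟙 _) ≫ w.obj.iso.hom = (𝟙 _ ≫ w.obj.iso.hom ≫ 𝟙 _) ≫ f.map (𝟙 _)
        simp
        exact (Category.comp_id _).symm)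
      (repWith_comp (isFibGrpd_fp hU.isStack.1 hU.isStack.1 h𝒴.isStack.1 _ _)
        (isFibGrpd_fp h𝒳.isStack.1 hU.isStack.1 h𝒴.isStack.1 _ _) hQ.bc hQ.comp hQ.loc
        (repWith_prodFst f (BasedFunctor.comp x f) x h) (repWith_prodSnd f f x h))
  refine locQ_of_fpFst st_lfp cls_lfp.loc h𝒳 hXX hB (z := cmpMap x x f)
    (locQ_of_repWith st_flat cls_flat.bc cls_flat.loc hB hXX (key cls_flat (repWith_flat_of_smooth hx)))
    (locQ_of_repWith st_lfp cls_lfp.bc cls_lfp.loc hB hXX (key cls_lfp (repWith_lfp_of_smooth hx)))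
    (isSurjective_of_repWith hB.isStack.1 hXX.isStack.1 (key cls_surjective hx')) ?_
  exact locQ_of_equiv_source (isEquivOver_cmpDiag ε (fun _ => rfl)) (locQ_congr (Iso.refl _) hC)

/-- openness -/
theorem isOpenMor_of_flat_lfp (h𝒳 : IsAlgStack Scheme.fppfPrecoverage 𝒳)
    (h𝒴 : IsAlgStack Scheme.fppfPrecoverage 𝒴) (hf₁ : LocQ (LocP @Flat) f)
    (hf₂ : LocQ (LocP @LocallyOfFinitePresentation) f) : AlgSt.IsOpenMor f := by
  obtain ⟨V, y, hy, hy'⟩ := exists_atlas_sp h𝒴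
  obtain ⟨U, h, ⟨c⟩⟩ := exists_good h𝒳 h𝒴 f y
  haveI := (locP_yon_iff etST_flat h).1 ((c.locQ_iff st_flat h𝒳.isStack.1 h𝒴.isStack.1 hy hy').1 hf₁)
  haveI := (locP_yon_iff etST_lfp h).1 ((c.locQ_iff st_lfp h𝒳.isStack.1 h𝒴.isStack.1 hy hy').1 hf₂)
  let x := BasedFunctor.comp c.L (FibCat.fpFst f y)
  let x' := BasedFunctor.comp (ofOverCat U) x
  let y' := BasedFunctor.comp (ofOverCat V) y
  have hx' : RepByAlgSpWith AlgSp.IsSurjectiveMor x' := (repWith_ofOverCat_iff _ x).2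
    (c.repWith_x cls_surjective h𝒳.isStack.1 h𝒴.isStack.1 c.surj hy')
  let i₀ : BasedFunctor.comp x f ≅ BasedFunctor.comp (AlgSt.ofSpMap (spMap h).hom) y :=
    (Stk.restr c.L _).mapIso (FibCat.fpIso f y) ≪≫ (post _ y).mapIso c.iso
  let i : BasedFunctor.comp x' f ≅ BasedFunctor.comp (AlgSt.overMap h) y' :=
    (Stk.restr (ofOverCat U) _).mapIso i₀ ≪≫ (post _ y).mapIso
      (isoOfSec (BasedFunctor.comp (ofOverCat U) (AlgSt.ofSpMap (spMap h).hom))
        (BasedFunctor.comp (AlgSt.overMap h) (ofOverCat V)) fun b => by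
          rw [secOf_comp_ofPshMap]
          rfl)
  intro O hO
  have e : AlgSt.Points.map f '' O = AlgSt.Points.ofChart y' '' (h.left '' (AlgSt.Points.ofChart x' ⁻¹' O)) := by
    ext p
    constructor
    · rintro ⟨q, hq, rfl⟩
      obtain ⟨t, rfl⟩ := exists_point_of_surjective h𝒳.isStack.1 x' hx' q
      exact ⟨_, ⟨t, hq, rfl⟩, by rw [← ofChart_overMap y' h t, map_ofChart]; exact (ofChart_congr i t).symm⟩
    · rintro ⟨_, ⟨t, ht, rfl⟩, rfl⟩
      exact ⟨_, ht, by rw [← ofChart_overMap y' h t, map_ofChart]; exact ofChart_congr i t⟩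
  rw [e]
  exact isOpenMap_ofChart h𝒴.isStack.1 y' ((repWith_ofOverCat_iff _ y).2 (repWith_flat_of_smooth hy))
    ((repWith_ofOverCat_iff _ y).2 (repWith_lfp_of_smooth hy)) _
    (h.left.isOpenMap _ ((continuous_ofChart h𝒳 x').isOpen_preimage O hO))

end Groth.Agent.AlgStLib

end
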