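import Groth.Agent.AlgStLib.GerbeAut
import Groth.Agent.AlgStLib.FppfSection
import Groth.Agent.AlgStLib.QC2
import Groth.Agent.AlgStLib.LocQResults

/-!
# Sections of gerbes over schemes are flat, locally of finite presentation and surjective
-/

set_option autoImplicit false
set_option backward.isDefEq.respectTransparency false
set_option backward.isDefEq.respectTransparency.types false
set_option linter.style.haveILetI false
universe u

noncomputable section

namespace Groth.Agent.AlgStLib.GerbeMor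

open CategoryTheory CategoryTheory.Limits AlgebraicGeometry Opposite Groth.Agent.AlgSpLib Groth.Agent.StkBasic
  Groth.Agent.FibCatRep Groth.Agent.FibCat2Misc Groth.Agent.AlgStLib
open _root_.AlgSp _root_.AlgSt

variable {S : Scheme.{u}}

/-- a map factoring a flat map locally of finite presentation through a retraction is of the same kind -/
theorem flat_lfp_of_retraction {W V : Over S} {A : Sp S} (hA : IsAlgSpace A) (h : W ⟶ V)
    (pr : A ⟶ (yon S).obj W) (s : (yon S).obj W ⟶ A) (hs : s ≫ pr = 𝟙 _)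
    (h₁ : LocP @Flat (pr ≫ (yon S).map h)) (h₂ : LocP @LocallyOfFinitePresentation (pr ≫ (yon S).map h)) :
    Flat h.left ∧ LocallyOfFinitePresentation h.left := by
  obtain ⟨A', c, hc, hcs⟩ := hA.atlas
  obtain ⟨W', a, e', sq⟩ := exists_pullback hA.diag s c
  haveI : Etale a.left := hc.2 s _ a sq.flip
  haveI : Surjective a.left := hcs.2 s _ a sq.flip
  obtain ⟨pr', hpr⟩ := AlgSpLib.exists_map_eq (c ≫ pr)
  have hpe : e' ≫ pr' = a := (yon S).map_injective (by
    rw [Functor.map_comp, hpr, ← sq.w_assoc, hs, Category.comp_id])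
  have comm : c ≫ pr ≫ (yon S).map h = (yon S).map (pr' ≫ h) ≫ 𝟙 _ := by
    rw [Category.comp_id, Functor.map_comp, hpr, Category.assoc]
  haveI : Flat (pr'.left ≫ h.left) := h₁ c (𝟙 _) (pr' ≫ h) hc (AlgSp.repWith_id _ V) comm
  haveI : LocallyOfFinitePresentation (pr'.left ≫ h.left) :=
    h₂ c (𝟙 _) (pr' ≫ h) hc (AlgSp.repWith_id _ V) comm
  let fst := pullback.fst pr'.left a.left
  let snd := pullback.snd pr'.left a.left
  have hw : snd ≫ a.left ≫ h.left = fst ≫ pr'.left ≫ h.left :=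
    (pullback.condition_assoc h.left).symm
  let σ : W'.left ⟶ pullback pr'.left a.left :=
    pullback.lift e'.left (𝟙 _) (by rw [Category.id_comp, ← Over.comp_left, hpe])
  have hσ : σ ≫ snd = 𝟙 _ := pullback.lift_snd _ _ _
  haveI : Flat (snd ≫ a.left ≫ h.left) := by rw [hw]; infer_instance
  haveI : LocallyOfFinitePresentation (snd ≫ a.left ≫ h.left) := by rw [hw]; infer_instance
  haveI : Flat (a.left ≫ h.left) := AutModel.flat_of_section _ snd σ hσ
  haveI : LocallyOfFiniteType snd := locallyOfFiniteType_of_comp snd (a.left ≫ h.left)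
  haveI : LocallyOfFinitePresentation (σ ≫ snd) := by rw [hσ]; infer_instance
  haveI : LocallyOfFinitePresentation σ := LimDesc.lfp_of_comp σ snd
  haveI : LocallyOfFinitePresentation (a.left ≫ h.left) := by
    have : a.left ≫ h.left = σ ≫ snd ≫ a.left ≫ h.left := by
      rw [← Category.assoc σ, hσ, Category.id_comp]
    rw [this]
    infer_instance
  exact ⟨GrpdLib.flat_of_flat_comp a.left h.left, FppfSource.lfp a.left h.left⟩

variable {𝒳 : AlgSt.Cat S} {U : Over S} (π : 𝒳 ⥤ᵇ ofSch U) (x : ofSch U ⥤ᵇ 𝒳)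
  (e : BasedFunctor.comp x π ≅ BasedFunctor.id (ofSch U))

include e in
/-- every object is fppf locally isomorphic to a pull-back of the section -/
theorem lifts_of_section (h𝒳 : IsAlgStack Scheme.fppfPrecoverage 𝒳)
    (hπ : Gerb.LocSurjHom (QuotSh.J Scheme.fppfPrecoverage S) π) : Lifts x := by
  have h𝒳g := h𝒳.isStack.1
  intro W y
  have hx1 : RepByAlgSp1 x := repByAlgSp1_point h𝒳g h𝒳.diag (isAlgSpaceP_yon U) x
  obtain ⟨P, eP, heP⟩ := repByAlgSp_fp_yon hx1 W y
  obtain ⟨k, hk, ⟨jl⟩, ⟨jr⟩⟩ := isEquivOver_symm heP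
  let prP : P.obj ⟶ (yon S).obj W := ObjectProperty.homMk (prjMap eP)
  let b := y.obj (pt W)
  have hb : 𝒳.p.obj b = W := y.w_obj (pt W)
  let uo : (ofSch U).obj := π.obj b
  have huo : uo.base = W := (π.w_obj b).trans hb
  let c := x.obj uo
  let ec : π.obj c ≅ uo := ((BasedNatTrans.forgetful _ _).mapIso e).app uo
  have hec : (ofSch U).p.map ec.inv = eqToHom ((π.w_obj c).trans (x.w_obj uo)).symm :=
    map_app e.inv uo
  obtain ⟨R, hR, hlift⟩ := hπ b c ec.inv (IsHomLift.of_fac' (ofSch U).p _ _ (π.w_obj b)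
    ((π.w_obj c).trans ((x.w_obj uo).trans (π.w_obj b))) (by rw [hec]; simp))
  obtain ⟨Vj, fj, hfj, hcov⟩ := exists_family_of_mem hR
  let f : ∀ j, Vj j ⟶ W := fun j => fj j ≫ eqToHom hb
  let h₀ : W ⟶ U := eqToHom huo.symm ≫ uo.sec.down
  have hsec : AlgSt.HasSecLoc Scheme.fppfPrecoverage prP := by
    refine ⟨Presieve.ofArrows (fun j => (Vj j).left) (fun j => (f j).left), ?_, ?_⟩
    · rw [Scheme.fppfPrecoverage, Scheme.ofArrows_mem_precoverage_iff]
      refine ⟨fun t => ?_, fun j => ?_⟩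
      · obtain ⟨j, z, hz⟩ := hcov.2 (AlgSp.Points.ofScheme _ ((eqToHom hb.symm).left t))
        obtain ⟨s, rfl⟩ : ∃ s, AlgSp.Points.ofScheme (Vj j) s = z := ⟨_, AlgSp.Points.ofScheme_toScheme _ z⟩
        have hz' : (fj j).left s = (eqToHom hb.symm).left t := by
          simpa using congrArg (AlgSp.Points.toScheme _) ((ofScheme_map (fj j) s).symm.trans hz)
        refine ⟨j, s, ?_⟩
        show (eqToHom hb).left ((fj j).left s) = t
        rw [hz', ← Scheme.Hom.comp_apply, ← Over.comp_left, eqToHom_trans]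
        simp
      · obtain ⟨a₁, a₂⟩ := hcov.1 j
        haveI := AlgSp.locP_yon_map a₁
        haveI := AlgSp.locP_yon_map a₂
        exact ⟨inferInstanceAs (Flat ((fj j).left ≫ (eqToHom hb).left)),
          inferInstanceAs (LocallyOfFinitePresentation ((fj j).left ≫ (eqToHom hb).left))⟩
    · intro T' g hg
      obtain ⟨j⟩ := hg
      obtain ⟨x₀, φ, ψ, hφ, hψ, -⟩ := hlift (fj j) (hfj j)
      haveI := hφ
      haveI := hψ
      have hφ' := IsHomLift.fac' 𝒳.p (fj j) φ
      have hψ' := IsHomLift.fac' 𝒳.p (fj j) ψ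
      let T : Over S := Over.mk ((f j).left ≫ W.hom)
      let g : T ⟶ W := Over.homMk (f j).left rfl
      let i₀ : T ⟶ Vj j := Over.homMk (𝟙 _) (by simp [T])
      have hg : g = i₀ ≫ f j := Over.OverMorphism.ext (Category.id_comp _).symm
      let yj : ofSch (Vj j) ⥤ᵇ 𝒳 := BasedFunctor.comp (ofSpMap ((yon S).map (f j))) y
      let cj : ofSch (Vj j) ⥤ᵇ 𝒳 := BasedFunctor.comp (ofSpMap ((yon S).map (f j ≫ h₀))) x
      obtain ⟨iso⟩ : Nonempty (yj ≅ cj) := by
        let zp : yj.obj (pt (Vj j)) ⟶ b := y.map (⟨f j, ULift.ext _ _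
          ((Category.comp_id (f j)).trans (Category.id_comp (f j)).symm)⟩ :
            (ofSpMap ((yon S).map (f j))).obj (pt (Vj j)) ⟶ pt W)
        let zc : cj.obj (pt (Vj j)) ⟶ c := x.map (⟨f j ≫ eqToHom huo.symm, ULift.ext _ _ (by
          show (f j ≫ eqToHom huo.symm) ≫ uo.sec.down = 𝟙 (Vj j) ≫ f j ≫ h₀
          simp [h₀])⟩ : (ofSpMap ((yon S).map (f j ≫ h₀))).obj (pt (Vj j)) ⟶ uo)
        have hzp : 𝒳.p.map zp = eqToHom (y.w_obj _) ≫ f j ≫ eqToHom (y.w_obj _).symm := map_map y _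
        have hzc : 𝒳.p.map zc =
            eqToHom (x.w_obj _) ≫ (f j ≫ eqToHom huo.symm) ≫ eqToHom (x.w_obj _).symm := map_map x _
        have hx₀ : 𝒳.p.obj x₀ = Vj j := IsHomLift.domain_eq 𝒳.p (fj j) φ
        obtain ⟨χ₁, ⟨hχ₁, -⟩, -⟩ := existsUnique_cart h𝒳g φ zp
          (eqToHom ((yj.w_obj (pt (Vj j))).trans hx₀.symm)) (by
            rw [hzp, hφ']
            simp [f])
        obtain ⟨χ₂, ⟨hχ₂, -⟩, -⟩ := existsUnique_cart h𝒳g zc ψ
          (eqToHom (hx₀.trans (cj.w_obj (pt (Vj j))).symm)) (by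
            rw [hzc, hψ']
            simp [f])
        obtain ⟨i, -⟩ := exists_iso_of_top h𝒳g (BasedFunctor.comp (ofOverCat (Vj j)) yj)
          (BasedFunctor.comp (ofOverCat (Vj j)) cj) (χ₁ ≫ χ₂) (by
            rw [Functor.map_comp, hχ₁, hχ₂, eqToHom_trans])
        exact ⟨(Stk.restr (toOverCat (Vj j)) _).mapIso i⟩
      let z : ofSch (Vj j) ⥤ᵇ FibCat.fp y x := FibCat.fpLift (ofSpMap ((yon S).map (f j)))
        (ofSpMap ((yon S).map (f j ≫ h₀))) iso
      let z' := BasedFunctor.comp (ofSpMap ((yon S).map i₀)) (BasedFunctor.comp z k)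
      let l : (yon S).obj T ⟶ P.obj := ObjectProperty.homMk (mapOf z')
      refine ⟨l, ObjectProperty.hom_ext _ ?_⟩
      show mapOf z' ≫ prjMap eP = (pyon S).map g
      rw [← mapOf_comp, hg, Functor.map_comp, ← mapOf_ofPshMap ((pyon S).map (f j))]
      refine (mapOf_congr (show BasedFunctor.comp z' (BasedFunctor.comp eP (FibCat.fpFst y x)) ≅
          BasedFunctor.comp (ofSpMap ((yon S).map i₀)) (ofSpMap ((yon S).map (f j))) from
        (Stk.restr (BasedFunctor.comp (ofSpMap ((yon S).map i₀)) z) _).mapIso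
          ((Stk.restr (BasedFunctor.comp k eP) _).mapIso (Iso.refl (FibCat.fpFst y x)) ≪≫
            (post _ (FibCat.fpFst y x)).mapIso jr))).trans ((mapOf_comp _ _).trans ?_)
      exact congrArg (· ≫ _) (mapOf_ofPshMap ((pyon S).map i₀))
  obtain ⟨W', g, l, g₁, g₂, g₃, hl⟩ := SpQuot.exists_fppf_section prP hsec
  rw [Category.comp_id] at hl
  have hlg : l.hom ≫ prjMap eP = (pyon S).map g := congrArg (fun t => t.hom) hl
  let z : ofSch W' ⥤ᵇ FibCat.fp y x := BasedFunctor.comp (Stk.ofPshMap l.hom) eP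
  let j₁ : BasedFunctor.comp z (FibCat.fpFst y x) ≅ Stk.ofPshMap ((pyon S).map g) :=
    (mapOfIso _).symm ≪≫ eqToIso (congrArg Stk.ofPshMap (by
      show mapOf (BasedFunctor.comp (Stk.ofPshMap l.hom) (BasedFunctor.comp eP (FibCat.fpFst y x))) = _
      rw [mapOf_comp, mapOf_ofPshMap]
      exact hlg))
  exact ⟨W', g, g₁, g₂, g₃, BasedFunctor.comp z (FibCat.fpSnd y x),
    ⟨((Stk.restr z _).mapIso (FibCat.fpIso y x)).symm ≪≫ (post _ y).mapIso j₁⟩⟩

include e in
/-- the target of a section is hit everywhere -/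
theorem surjective_points_of_section : Function.Surjective (AlgSt.Points.map π) := fun u =>
  ⟨AlgSt.Points.map x u, by rw [← map_comp_points, map_congr_points e, map_id_points]⟩

include e in
/-- sections of gerbes over schemes -/
theorem repWith_section (h𝒳 : IsAlgStack Scheme.fppfPrecoverage 𝒳)
    (hπ : Gerb.LocSurjHom (QuotSh.J Scheme.fppfPrecoverage S) π) :
    RepByAlgSpWith (LocP @Flat) x ∧ RepByAlgSpWith (LocP @LocallyOfFinitePresentation) x ∧
      RepByAlgSpWith AlgSp.IsSurjectiveMor x := by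
  have h𝒳g := h𝒳.isStack.1
  have hU := isAlgStack_spOf U
  have hx1 : RepByAlgSp1 x := repByAlgSp1_point h𝒳g h𝒳.diag (isAlgSpaceP_yon U) x
  have hlifts := lifts_of_section π x e h𝒳 hπ
  -- an atlas factoring through the section
  obtain ⟨W, p, hp, hps⟩ := exists_atlas_sp h𝒳
  obtain ⟨W', d, d₁, d₂, d₃, z, ⟨i⟩⟩ := hlifts W p
  obtain ⟨h, hh⟩ := AlgSpLib.exists_map_eq (ObjectProperty.homMk (mapOf z) : (yon S).obj W' ⟶ (yon S).obj U)
  let dd := ofSpMap ((yon S).map d)
  let y' : ofSch W' ⥤ᵇ 𝒳 := BasedFunctor.comp dd p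
  have hy' : ∀ {P : MorphismProperty Scheme.{u}} (hP : EtST P) (hc : Cls (LocP (S := S) P)), P d.left →
      RepByAlgSpWith (LocP P) p → RepByAlgSpWith (LocP P) (BasedFunctor.comp z x) := fun hP hc h₁ h₂ =>
    repWith_congr _ i (Groth.Agent.AlgStLib.repWith_comp (isFibGrpd_ofSpace _) (isFibGrpd_ofSpace _) hc.bc
      hc.comp hc.loc (repWith_ofSpMap hc.bc (V := spOf W') (W := spOf W) (ObjectProperty.homMk ((yon S).map d))
        ((locP_yon_iff hP d).2 h₁)) h₂)
  have hF := hy' etST_flat cls_flat d₁ (repWith_flat_of_smooth hp)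
  have hL := hy' etST_lfp cls_lfp d₃ (repWith_lfp_of_smooth hp)
  -- the space of isomorphisms
  let w : ofSch W' ⥤ᵇ 𝒳 := BasedFunctor.comp z x
  obtain ⟨A, eA, heA⟩ := repByAlgSp_fp_yon hx1 W' w
  let iz : BasedFunctor.comp z (BasedFunctor.comp x π) ≅ z := (Stk.restr z _).mapIso e
  let pr : A.obj ⟶ (yon S).obj W' := ObjectProperty.homMk (prjMap eA)
  obtain ⟨kA, hkA, ⟨jl⟩, ⟨jr⟩⟩ := isEquivOver_symm heA
  let sc : ofSch W' ⥤ᵇ FibCat.fp w x := FibCat.fpLift (BasedFunctor.id _) z (Iso.refl _)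
  let s : (yon S).obj W' ⟶ A.obj := ObjectProperty.homMk (mapOf (BasedFunctor.comp sc kA))
  have hs : s ≫ pr = 𝟙 _ := ObjectProperty.hom_ext _ (by
    show mapOf (BasedFunctor.comp sc kA) ≫ prjMap eA = 𝟙 _
    rw [← mapOf_comp, mapOf_congr (show BasedFunctor.comp (BasedFunctor.comp sc kA)
        (BasedFunctor.comp eA (FibCat.fpFst w x)) ≅ BasedFunctor.comp sc (FibCat.fpFst w x) from
      (Stk.restr sc _).mapIso ((post _ (FibCat.fpFst w x)).mapIso jr))]
    exact (mapOf_congr (Iso.refl _)).trans mapOf_id)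
  have hq : prjMap eA ≫ (pyon S).map h = prjMap (BasedFunctor.comp eA (swapFun w x)) := by
    have hz : mapOf z = (pyon S).map h := congrArg (fun t => t.hom) hh.symm
    rw [← hz]
    refine (mapOf_comp _ _).symm.trans (mapOf_congr ?_)
    exact (Stk.restr eA _).mapIso ((Stk.restr (FibCat.fpFst w x) _).mapIso iz.symm ≪≫
      (post _ π).mapIso (FibCat.fpIso w x) ≪≫ (Stk.restr (FibCat.fpSnd w x) _).mapIso e)
  have key : ∀ {P : MorphismProperty Scheme.{u}} (hc : Cls (LocP (S := S) P)),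
      RepByAlgSpWith (LocP P) w → LocP P (pr ≫ (yon S).map h) := fun {P} hc hw => by
    haveI := respectsIso_onSp hc.bc
    obtain ⟨_, hA, hQ⟩ := good_of_model (repWith_onSp_iff.2 hw) (f := w) (isEquivOver_comp heA (isEquivOver_swapFun w x))
    convert hQ hA (IsAlgSpace.yon_obj U) using 1
    exact ObjectProperty.hom_ext _ hq
  obtain ⟨k₁, k₂⟩ := flat_lfp_of_retraction A.property h pr s hs (key cls_flat hF) (key cls_lfp hL)
  let H : spOf W' ⟶ spOf U := spMap h
  have jH : AlgSt.ofSpMap H.hom ≅ z :=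
    eqToIso (congrArg (fun r : (yon S).obj W' ⟶ (yon S).obj U => Stk.ofPshMap r.hom) hh) ≪≫ mapOfIso z
  have hW' := isAlgStack_spOf W'
  have zF : LocQ (LocP @Flat) z := locQ_congr jH.symm ((locQ_ofSpMap_iff st_flat H).2
    ((locP_yon_iff etST_flat h).2 k₁))
  have zL : LocQ (LocP @LocallyOfFinitePresentation) z := locQ_congr jH.symm ((locQ_ofSpMap_iff st_lfp H).2
    ((locP_yon_iff etST_lfp h).2 k₂))
  -- surjectivity
  have hx₃ : AlgSt.IsSurjective x := by
    intro q
    obtain ⟨q', rfl⟩ := isSurjective_of_repWith (isFibGrpd_ofSpace _) h𝒳g hps q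
    haveI := d₂
    obtain ⟨q'', rfl⟩ : ∃ q'', AlgSt.Points.map dd q'' = q' :=
      isSurjective_of_repWith (isFibGrpd_ofSpace _) (isFibGrpd_ofSpace _) (repWith_ofSpMap cls_surjective.bc
        (V := spOf W') (W := spOf W) (ObjectProperty.homMk ((yon S).map d)) (AlgSpLib.isSurjectiveMor_of_repWith ((AlgSp.repWith_yon_map_iff @Surjective d).2 d₂))) q'
    exact ⟨AlgSt.Points.map z q'', by rw [← map_comp_points, map_congr_points i, map_comp_points]; rfl⟩
  have hw₃ : AlgSt.IsSurjective w := by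
    intro q
    obtain ⟨q', rfl⟩ := isSurjective_of_repWith (isFibGrpd_ofSpace _) h𝒳g hps q
    haveI := d₂
    obtain ⟨q'', rfl⟩ : ∃ q'', AlgSt.Points.map dd q'' = q' :=
      isSurjective_of_repWith (isFibGrpd_ofSpace _) (isFibGrpd_ofSpace _) (repWith_ofSpMap cls_surjective.bc
        (V := spOf W') (W := spOf W) (ObjectProperty.homMk ((yon S).map d)) (AlgSpLib.isSurjectiveMor_of_repWith ((AlgSp.repWith_yon_map_iff @Surjective d).2 d₂))) q'
    exact ⟨q'', by rw [map_congr_points i, map_comp_points]; rfl⟩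
  have hz₃ : AlgSt.IsSurjective z := fun u => by
    obtain ⟨q, hq'⟩ := surjective_points_of_section π x e u
    obtain ⟨q', rfl⟩ := hw₃ q
    exact ⟨q', by rw [← hq', ← map_comp_points]; exact (map_congr_points iz q').symm⟩
  refine ⟨repWith_of_locQ st_flat cls_flat.bc cls_flat.loc hU h𝒳 hx1 (locQ_flat_of_comp hW' hU h𝒳 zF hz₃
      (locQ_of_repWith st_flat cls_flat.bc cls_flat.loc hW' h𝒳 hF)),
    repWith_of_locQ st_lfp cls_lfp.bc cls_lfp.loc hU h𝒳 hx1 (locQ_lfp_of_comp_fppf hW' hU h𝒳 zF zL hz₃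
      (locQ_of_repWith st_lfp cls_lfp.bc cls_lfp.loc hW' h𝒳 hL)),
    repWith_surjective_of_isSurjective (isFibGrpd_ofSpace _) h𝒳g hx1 hx₃⟩

end Groth.Agent.AlgStLib.GerbeMor

end
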