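import Groth.Agent.AlgStLib.GerbeMain

/-!
# Gerbes of algebraic stacks are smooth
-/

set_option autoImplicit false
set_option backward.isDefEq.respectTransparency false
set_option backward.isDefEq.respectTransparency.types false
set_option linter.style.haveILetI false
universe u

noncomputable section

namespace Groth.Agent.AlgStLib.GerbeMor

open CategoryTheory CategoryTheory.Limits AlgebraicGeometry Opposite Groth.Agent.AlgSpLib Groth.Agent.StkBasic
  Groth.Agent.FibCatRep Groth.Agent.FibCat2Misc Groth.Agent.AlgStLib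
open _root_.AlgSp _root_.AlgSt

variable {S : Scheme.{u}} {𝒳 𝒴 : AlgSt.Cat S}

/-- a gerbe with a section over a scheme is smooth over it -/
theorem locQ_smooth_section (h𝒳 : IsAlgStack Scheme.fppfPrecoverage 𝒳) {U : Over S} (π : 𝒳 ⥤ᵇ ofSch U)
    (x : ofSch U ⥤ᵇ 𝒳) (e : BasedFunctor.comp x π ≅ BasedFunctor.id (ofSch U))
    (hπ : Gerb.LocSurjHom (QuotSh.J Scheme.fppfPrecoverage S) π) : LocQ (LocP @Smooth) π := by
  have h𝒳g := h𝒳.isStack.1
  obtain ⟨hxF, hxL, hxS⟩ := repWith_section π x e h𝒳 hπ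
  have hx1 : RepByAlgSp1 x := repByAlgSp1_point h𝒳g h𝒳.diag (isAlgSpaceP_yon U) x
  obtain ⟨W, p, hp, hps⟩ := exists_atlas_sp h𝒳
  let Φ : ofSch W ⥤ᵇ ofSch U := BasedFunctor.comp p π
  obtain ⟨h, hh⟩ := AlgSpLib.exists_map_eq (ObjectProperty.homMk (mapOf Φ) : (yon S).obj W ⟶ (yon S).obj U)
  obtain ⟨T, eT, heT⟩ := repByAlgSp_fp_yon hx1 W p
  let pr : T.obj ⟶ (yon S).obj W := ObjectProperty.homMk (prjMap eT)
  have hprop : ∀ {Q : MorphismProperty (Sp S)}, Cls Q → RepByAlgSpWith Q x → Q pr := fun {Q} hQ hx => by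
    haveI := respectsIso_onSp hQ.bc
    obtain ⟨_, hA, hq⟩ := good_of_model (repWith_onSp_iff.2 hx) (f := x) heT
    exact hq hA (IsAlgSpace.yon_obj W)
  have hq : LocP @Smooth (pr ≫ (yon S).map h) := by
    haveI := respectsIso_onSp (cls_smooth (S := S)).bc
    obtain ⟨_, hA, hQ⟩ := good_of_model (repWith_onSp_iff.2 hp) (f := p)
      (isEquivOver_comp heT (isEquivOver_swapFun p x))
    convert hQ hA (IsAlgSpace.yon_obj U) using 1
    refine ObjectProperty.hom_ext _ ?_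
    show prjMap eT ≫ ((yon S).map h).hom = prjMap (BasedFunctor.comp eT (swapFun p x))
    rw [show ((yon S).map h).hom = mapOf Φ from congrArg (fun t => t.hom) hh]
    refine (mapOf_comp _ _).symm.trans (mapOf_congr ?_)
    exact (Stk.restr eT _).mapIso ((post _ π).mapIso (FibCat.fpIso p x) ≪≫
      (Stk.restr (FibCat.fpSnd p x) _).mapIso e)
  have hF := hprop cls_flat hxF
  have hL := hprop cls_lfp hxL
  have hS := hprop cls_surjective hxS
  obtain ⟨T', c, hc, hcs⟩ := T.property.atlas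
  obtain ⟨pr', hpr⟩ := AlgSpLib.exists_map_eq (c ≫ pr)
  have comm₀ : c ≫ pr = (yon S).map pr' ≫ 𝟙 _ := by rw [Category.comp_id, hpr]
  have comm : c ≫ pr ≫ (yon S).map h = (yon S).map (pr' ≫ h) ≫ 𝟙 _ := by
    rw [Category.comp_id, Functor.map_comp, hpr, Category.assoc]
  haveI : Flat pr'.left := hF c (𝟙 _) pr' hc (AlgSp.repWith_id _ W) comm₀
  haveI : LocallyOfFinitePresentation pr'.left := hL c (𝟙 _) pr' hc (AlgSp.repWith_id _ W) comm₀
  haveI : Surjective pr'.left := ⟨fun w => by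
    obtain ⟨t, ht⟩ := hS (AlgSp.Points.ofScheme W w)
    obtain ⟨t', rfl⟩ := (AlgSpLib.isSurjectiveMor_of_repWith hcs) t
    obtain ⟨v, rfl⟩ : ∃ v, AlgSp.Points.ofScheme T' v = t' := ⟨_, AlgSp.Points.ofScheme_toScheme _ t'⟩
    refine ⟨v, ?_⟩
    rw [← AlgSp.Points.map_comp, ← hpr] at ht
    simpa using congrArg (AlgSp.Points.toScheme W) ((ofScheme_map pr' v).symm.trans ht)⟩
  haveI : Smooth (pr'.left ≫ h.left) := hq c (𝟙 _) (pr' ≫ h) hc (AlgSp.repWith_id _ U) comm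
  have hs : Smooth h.left := FppfSource.smooth pr'.left h.left
  let H : spOf W ⟶ spOf U := spMap h
  obtain ⟨e₁, e₂⟩ := repWith_smooth_of_equiv_space (W := spOf U) (isEquivOver_id (𝒳 := AlgSt.ofSp (spOf U).obj))
  have jH : BasedFunctor.comp p π ≅ BasedFunctor.comp (AlgSt.ofSpMap H.hom) (BasedFunctor.id (ofSch U)) :=
    (mapOfIso Φ).symm ≪≫
      eqToIso (congrArg (fun r : (yon S).obj W ⟶ (yon S).obj U => Stk.ofPshMap r.hom) hh.symm)
  exact locQ_of_spSq st_smooth h𝒳g (isFibGrpd_ofSpace _) ⟨spOf W, spOf U, p, BasedFunctor.id _, H, jH, hp, hps,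
    e₁, (locP_yon_iff etST_smooth h).2 hs⟩

/-- gerbes are smooth -/
theorem locQ_smooth_gerbe (h𝒳 : IsAlgStack Scheme.fppfPrecoverage 𝒳) (h𝒴 : IsAlgStack Scheme.fppfPrecoverage 𝒴)
    (f : 𝒳 ⥤ᵇ 𝒴) (hf : Gerb.IsGerbeOver (QuotSh.J Scheme.fppfPrecoverage S) f) :
    LocQ (LocP @Smooth) f := by
  have h𝒳g := h𝒳.isStack.1
  have h𝒴g := h𝒴.isStack.1
  obtain ⟨V, y, hy, hy'⟩ := exists_atlas_sp h𝒴
  obtain ⟨W, k, hcov, hlift⟩ := exists_family_lift h𝒳 h𝒴 f hf y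
  obtain ⟨U, h, ⟨c⟩⟩ := exists_good h𝒳 h𝒴 f y
  refine (c.locQ_iff st_smooth h𝒳g h𝒴g hy hy').2 ((cls_smooth.loc _ _ (IsAlgSpace.yon_obj V)
    (fun v => IsAlgSpace.yon_obj (W v)) hcov ((yon S).map h) (IsAlgSpace.yon_obj U) _
    (fun v => (yon S).map (pullback.fst (k v) h)) (fun v => (yon S).map (pullback.snd (k v) h))
    (fun v => IsAlgSpace.yon_obj (pullback (k v) h))
    (fun v => ((IsPullback.of_hasPullback (k v) h).map (yon S)).flip)).2 fun v => ?_)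
  obtain ⟨a, ⟨i⟩⟩ := hlift v
  obtain ⟨hB, hG⟩ := isGerbeOver_bc h𝒳 h𝒴 f hf (BasedFunctor.comp (ofSpMap ((yon S).map (k v))) y)
  have hQ := locQ_smooth_section hB (FibCat.fpFst (BasedFunctor.comp (ofSpMap ((yon S).map (k v))) y) f)
    (FibCat.fpLift (BasedFunctor.id _) a i.symm) (Iso.refl _) hG.2
  obtain ⟨ec⟩ := exists_pullback_chart (z := BasedFunctor.comp (ofSpMap ((yon S).map (k v))) y)
    h𝒳g h𝒴g (isFibGrpd_ofSpace _) c (BasedFunctor.id _) (k v) (Iso.refl _) _ _ _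
    (IsPullback.of_hasPullback (k v) h)
  obtain ⟨e₁, e₂⟩ := repWith_smooth_of_equiv_space (W := spOf (W v))
    (isEquivOver_id (𝒳 := AlgSt.ofSp (spOf (W v)).obj))
  exact (ec.locQ_iff st_smooth (isFibGrpd_fp (isFibGrpd_ofSpace _) h𝒳g h𝒴g _ f) (isFibGrpd_ofSpace _)
    e₁ e₂).1 hQ

end Groth.Agent.AlgStLib.GerbeMor

end
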