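import Groth.Agent.AlgStLib.DiagProps
import Groth.Agent.AlgSpLib.EtST

/-!
# Locally quasi-finite inertia and quasi-DM morphisms
-/

set_option autoImplicit false
set_option backward.isDefEq.respectTransparency false
set_option backward.isDefEq.respectTransparency.types false
set_option linter.style.haveILetI false
universe u

namespace Groth.Agent.AlgStLib

open CategoryTheory CategoryTheory.Limits AlgebraicGeometry Groth.Agent.AlgSpLib Groth.Agent.StkBasic
  Groth.Agent.FibCat2Misc
open _root_.AlgSp _root_.AlgSt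

/-- A morphism locally of finite type whose base change along itself is locally quasi-finite is locally
quasi-finite. -/
theorem locallyQuasiFinite_of_pullback_self {W U : Scheme.{u}} (h : W ⟶ U) [LocallyOfFiniteType h]
    (hh : LocallyQuasiFinite (pullback.snd h h)) : LocallyQuasiFinite h := by
  have key : ∀ x : W, ∃ V : W.Opens, x ∈ V ∧ LocallyQuasiFinite (V.ι ≫ h) := fun x => by
    obtain ⟨U', hU', hxU, -⟩ :=
      exists_isAffineOpen_mem_and_subset (X := U) (x := h x) (U := ⊤) trivial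
    obtain ⟨V, hV, hxV, e⟩ :=
      exists_isAffineOpen_mem_and_subset (X := W) (x := x) (U := h ⁻¹ᵁ U') hxU
    refine ⟨V, hxV, ?_⟩
    let g : (V : Scheme.{u}) ⟶ U' := h.resLE U' V e
    have hg : g ≫ U'.ι = V.ι ≫ h := Scheme.Hom.resLE_comp_ι h e
    haveI : IsAffine (V : Scheme.{u}) := hV
    haveI : IsAffine (U' : Scheme.{u}) := hU'
    haveI : LocallyOfFiniteType g :=
      haveI : LocallyOfFiniteType (g ≫ U'.ι) := by rw [hg]; infer_instance
      locallyOfFiniteType_of_comp g U'.ι
    let m : pullback g g ⟶ pullback h h :=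
      pullback.map g g h h V.ι V.ι U'.ι hg hg
    haveI := hh
    haveI : LocallyQuasiFinite (pullback.snd g g) := by
      haveI : LocallyQuasiFinite (pullback.snd g g ≫ V.ι) := by
        rw [← (show m ≫ pullback.snd h h = pullback.snd g g ≫ V.ι from pullback.lift_snd _ _ _)]
        infer_instance
      exact .of_comp _ V.ι
    haveI : LocallyQuasiFinite g := .of_finite_preimage_singleton g fun z => by
      rcases (g ⁻¹' {z}).eq_empty_or_nonempty with h0 | ⟨x₀, hx₀⟩
      · rw [h0]
        exact Set.finite_empty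
      · refine (((pullback.snd g g).finite_preimage_singleton x₀).image (pullback.fst g g)).subset
          fun x' hx' => ?_
        obtain ⟨w, h₁, h₂⟩ :=
          Scheme.Pullback.exists_preimage_pullback (f := g) (g := g) x' x₀
            ((show g x' = z from hx').trans (show g x₀ = z from hx₀).symm)
        exact ⟨w, h₂, h₁⟩
    rw [← hg]
    infer_instance
  choose V hxV hV using key
  have hW : ⨆ x, V x = ⊤ := eq_top_iff.2 fun x _ => TopologicalSpace.Opens.mem_iSup.2 ⟨x, hxV x⟩
  exact (IsZariskiLocalAtSource.iff_of_iSup_eq_top (P := @LocallyQuasiFinite) V hW).2 hV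

variable {S : Scheme.{u}} {𝒳 𝒴 : AlgSt.Cat S}

/-- locally quasi-finite inertia forces a locally quasi-finite diagonal -/
theorem isQuasiDMMor_of_inertia (h𝒳 : IsAlgStack Scheme.fppfPrecoverage 𝒳)
    (h𝒴 : IsAlgStack Scheme.fppfPrecoverage 𝒴) (f : 𝒳 ⥤ᵇ 𝒴)
    (h : RepByAlgSpWith (LocP (@LocallyQuasiFinite ⊓ @LocallyOfFiniteType)) (FibCat.inertiaToBase f)) :
    IsQuasiDMMor f := by
  let δ := FibCat.diag f
  have hI : RepByAlgSpWith (LocP (@LocallyQuasiFinite ⊓ @LocallyOfFiniteType)) (FibCat.fpFst δ δ) :=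
    (repWith_iff_of_equiv _ (FibCat.fpFst δ δ) (FibCat.inertiaToBase f) (inertiaFun f)
      (BasedFunctor.id _) (isEquivOver_inertiaFun f) isEquivOver_id (Iso.refl _)).2 h
  haveI := respectsIso_onSp (cls_locP (S := S) etST_lqf (isLocalOnBase_locP etST_lqf)).bc
  haveI := respectsIso_onSp (cls_lft (S := S)).bc
  refine repWith_onSp_iff.1 ((repWith_iff _ δ).2 fun U y => ?_)
  obtain ⟨P, e, he, hs, hP, hlft⟩ :=
    (repWith_iff _ δ).1 (repWith_onSp_iff.2 (repWith_lft_diag h𝒳 h𝒴 f)) U y
  refine ⟨P, e, he, hs, hP, fun _ hU => ?_⟩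
  let F : Sp S := ⟨P, hs⟩
  let π : F ⟶ (yon S).obj U := ObjectProperty.homMk (prjMap e)
  obtain ⟨V, c, hce, hcs⟩ := hP.2
  obtain ⟨d, hd⟩ := exists_map_eq (c ≫ π)
  have hdl : LocallyOfFiniteType d.left :=
    hlft hP hU c (𝟙 _) d hce repWith_id' (by rw [Category.comp_id, hd])
  -- the point of the chart
  let a : Stk.ofPsh ((pyon S).obj V) ⥤ᵇ 𝒳 :=
    BasedFunctor.comp (BasedFunctor.comp (Stk.ofPshMap c.hom) e) (FibCat.fpSnd y δ)
  let i₁ : BasedFunctor.comp (BasedFunctor.comp (Stk.ofPshMap c.hom) e) (FibCat.fpFst y δ) ≅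
      Stk.ofPshMap ((pyon S).map d) :=
    (Stk.restr (Stk.ofPshMap c.hom) _).mapIso (mapOfIso (BasedFunctor.comp e (FibCat.fpFst y δ))).symm ≪≫
      isoOfSec _ _ fun b => by
        show secOf (BasedFunctor.comp (Stk.ofPshMap c.hom) (Stk.ofPshMap (prjMap e))) b = _
        rw [secOf_comp_ofPshMap, secOf_ofPshMap]
        refine Eq.trans ?_ (secOf_ofPshMap ((pyon S).map d) b).symm
        exact (congrArg (fun k => k.hom.app (Opposite.op b.base) b.sec) hd).symm
  let i : BasedFunctor.comp a δ ≅ BasedFunctor.comp (Stk.ofPshMap ((pyon S).map d)) y :=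
    (Stk.restr (BasedFunctor.comp (Stk.ofPshMap c.hom) e) _).mapIso (FibCat.fpIso y δ).symm ≪≫
      (post _ y).mapIso i₁
  -- the base change to the chart is a base change of the inertia
  let s : (yon S).obj V ⟶ (yon S).obj U := (yon S).map d
  have sqS := IsPullback.of_hasPullback π s
  obtain ⟨e', he', hprj⟩ := exists_model_baseChange (f := δ) ((pyon S).map d) he
    (P' := (pullback π s).obj) (fst := (pullback.fst π s).hom) (snd := (pullback.snd π s).hom)
    (sqS.map (sheafToPresheaf (J S) (Type (u + 1))))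
  obtain ⟨e'', he'', hprj'⟩ := exists_model_change (f := δ) i.symm he'
  obtain ⟨k, hk, -, ⟨j⟩⟩ := isEquivOver_symm (isEquivOver_pasteFun a δ δ)
  obtain ⟨_, hW, hq⟩ :=
    good_of_model (repWith_onSp_iff.2 hI) (f := FibCat.fpFst δ δ) (isEquivOver_comp he'' hk)
  have hsnd : prjMap (BasedFunctor.comp e'' k) = prjMap e'' :=
    mapOf_congr ((post _ (FibCat.fpFst (BasedFunctor.comp a δ) δ)).mapIso ((Stk.restr e'' _).mapIso j))
  have hloc : LocP (@LocallyQuasiFinite ⊓ @LocallyOfFiniteType) (pullback.snd π s) := by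
    convert hq hW (IsAlgSpace.yon_obj V) using 1
    exact ObjectProperty.hom_ext _ (hprj.symm.trans (hprj'.symm.trans hsnd.symm))
  -- the chart of the base change
  let R : Over S := Over.mk (pullback.fst d.left d.left ≫ V.hom)
  let r₁ : R ⟶ V := Over.homMk (pullback.fst d.left d.left) rfl
  let r₂ : R ⟶ V := Over.homMk (pullback.snd d.left d.left) (by
    show pullback.snd d.left d.left ≫ V.hom = pullback.fst d.left d.left ≫ V.hom
    rw [← Over.w d, pullback.condition_assoc])
  have sqR : IsPullback ((yon S).map r₂) ((yon S).map r₁) ((yon S).map d) ((yon S).map d) :=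
    isPullback_yon_iff.2 (IsPullback.of_hasPullback d.left d.left).flip
  let r : (yon S).obj R ⟶ pullback π s :=
    pullback.lift ((yon S).map r₁ ≫ c) ((yon S).map r₂) (by rw [Category.assoc, ← hd]; exact sqR.w.symm)
  have sqC : IsPullback r ((yon S).map r₁) (pullback.fst π s) c := by
    refine IsPullback.of_right ?_ (pullback.lift_fst _ _ _) sqS.flip
    rw [show r ≫ pullback.snd π s = (yon S).map r₂ from pullback.lift_snd _ _ _, ← hd]
    exact sqR
  have hr : RepWith @Etale r := AlgSpLib.repWith_baseChange sqC.flip hce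
  have h₂ : LocallyQuasiFinite (pullback.snd d.left d.left) :=
    (hloc r (𝟙 _) r₂ hr repWith_id' (by rw [Category.comp_id]; exact pullback.lift_snd _ _ _)).1
  exact locP_of_chart etST_lqf hP hU hce hcs repWith_id' (by rw [Category.comp_id, hd])
    ⟨locallyQuasiFinite_of_pullback_self d.left h₂, hdl⟩

theorem repWith_lqf_inertia_iff (h𝒳 : IsAlgStack Scheme.fppfPrecoverage 𝒳)
    (h𝒴 : IsAlgStack Scheme.fppfPrecoverage 𝒴) (f : 𝒳 ⥤ᵇ 𝒴) :
    RepByAlgSpWith (LocP (@LocallyQuasiFinite ⊓ @LocallyOfFiniteType)) (FibCat.inertiaToBase f) ↔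
      IsQuasiDMMor f :=
  ⟨isQuasiDMMor_of_inertia h𝒳 h𝒴 f, fun h => repWith_inertia_of_diag h⟩

end Groth.Agent.AlgStLib
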