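import Groth.Agent.AlgStLib.GerbeProps
import Groth.Agent.AlgStLib.DiagProps
import Groth.Agent.AlgStLib.FieldPt
import Groth.Agent.AlgSpLib.Singleton
import Groth.Agent.Bootstrap.Cover
import Groth.Agent.AlgSpLib.MulFlat
import Groth.Agent.FppfSource.Smooth
import Groth.Prelude.Def_StGerb2

/-!
# Stacks with flat inertia are gerbes over their spaces of isomorphism classes

`isoSh` is the fppf sheafification of the presheaf of isomorphism classes of objects; a stack with inertia flat and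
locally of finite presentation is a gerbe over it, and it is an algebraic space.
-/

set_option autoImplicit false
set_option backward.isDefEq.respectTransparency false
set_option backward.isDefEq.respectTransparency.types false
set_option linter.style.haveILetI false
universe u

noncomputable section

namespace Groth.Agent.AlgStLib.IsoSh

open CategoryTheory CategoryTheory.Limits AlgebraicGeometry Opposite Groth.Agent.AlgSpLib Groth.Agent.StkBasic
  Groth.Agent.FibCatRep Groth.Agent.FibCat2Misc Groth.Agent.AlgStLib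
open _root_.AlgSp _root_.AlgSt

variable {S : Scheme.{u}} {𝒳 𝒴 𝒵 : AlgSt.Cat S}

/-! ### functors to presheaves -/

section discrete

variable {G : PSp S} (q : 𝒳 ⥤ᵇ Stk.ofPsh G)

/-- the inertia maps to the inertia over a presheaf -/
def inertiaSelf : FibCat.inertia (FibCat.toSelf 𝒳) ⥤ᵇ FibCat.inertia q where
  toFunctor :=
    { obj := fun o => ⟨o.pt, o.aut, Stk.EltObj.hom_ext (by
        rw [hom_map, show 𝒳.p.map o.aut.hom = 𝟙 _ from o.map_aut]
        simp)⟩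
      map := fun m => ⟨m.hom, m.comm⟩ }
  w := rfl

theorem isEquivOver_inertiaSelf : FibCat.IsEquivOver (inertiaSelf q) := by
  haveI : (inertiaSelf q).toFunctor.Faithful :=
    ⟨fun {a b} m m' h => FibCat.InertiaObj.hom_ext (congrArg (fun t => t.hom) h)⟩
  haveI : (inertiaSelf q).toFunctor.Full := ⟨fun {a b} M => ⟨⟨M.hom, M.comm⟩, rfl⟩⟩
  refine isEquivOver_of_fullyFaithful _ fun o => ?_
  refine ⟨⟨o.pt, o.aut, ?_⟩, Iso.refl o, rfl, ((FibCat.inertia q).p.map_id o).trans (eqToHom_refl _ rfl).symm⟩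
  have h : (q.map o.aut.hom).hom = 𝟙 _ := congrArg (fun t => t.hom) o.map_aut
  rw [hom_map] at h
  show 𝒳.p.map o.aut.hom = 𝟙 (𝒳.p.obj o.pt)
  have h' := congrArg (fun t => eqToHom (base_eq q o.pt).symm ≫ t ≫ eqToHom (base_eq q o.pt)) h
  simpa using h'

theorem repWith_inertia_iff {Q : MorphismProperty (Sp S)} :
    RepByAlgSpWith Q (FibCat.inertiaToBase q) ↔ RepByAlgSpWith Q (FibCat.inertiaToBase (FibCat.toSelf 𝒳)) :=
  repWith_iff_of_equiv Q (FibCat.inertiaToBase q) (FibCat.inertiaToBase (FibCat.toSelf 𝒳)) (inertiaSelf q)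
    (BasedFunctor.id _) (isEquivOver_inertiaSelf q) isEquivOver_id (Iso.refl _)

theorem full_cmpSelf : (cmpSelf q (FibCat.toSelf (Stk.ofPsh G))).toFunctor.Full := ⟨fun {o o'} M => by
  let m : o.obj.fst ⟶ o'.obj.fst := M.hom.fst
  let n : o.obj.snd ⟶ o'.obj.snd := M.hom.snd
  refine ⟨ObjectProperty.homMk ⟨m, n, Stk.EltObj.hom_ext ?_⟩,
    ObjectProperty.hom_ext _ (CategoricalPullback.hom_ext rfl rfl)⟩
  have w := M.hom.w
  exact w⟩

theorem faithful_cmpSelf : (cmpSelf q (FibCat.toSelf (Stk.ofPsh G))).toFunctor.Faithful :=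
  ⟨fun {_ _} m m' h => ObjectProperty.hom_ext _ (CategoricalPullback.hom_ext
    (congrArg (fun t => t.hom.fst) h) (congrArg (fun t => t.hom.snd) h))⟩

/-- diagonals over presheaves are base changes of the diagonal over the base -/
theorem repWith_diag_toPsh {Q : MorphismProperty (Sp S)}
    (h : RepByAlgSpWith Q (FibCat.diag (FibCat.toSelf 𝒳))) : RepByAlgSpWith Q (FibCat.diag q) := by
  let t := FibCat.toSelf (Stk.ofPsh G)
  let b := cmpSelf q t
  haveI := full_cmpSelf q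
  haveI := faithful_cmpSelf q
  let δ := FibCat.diag q
  let δ' := FibCat.diag (BasedFunctor.comp q t)
  have h' : RepByAlgSpWith Q δ' := by
    show RepByAlgSpWith Q (FibCat.diag (BasedFunctor.comp q t))
    rw [comp_toSelf]; exact h
  let α : BasedFunctor.comp (BasedFunctor.id (FibCat.fp q q)) b ≅
      BasedFunctor.comp (BasedFunctor.id (FibCat.fp q q)) b := Iso.refl _
  let β : BasedFunctor.comp δ b ≅ BasedFunctor.comp (BasedFunctor.id 𝒳) δ' := (diagCmpIso q t).symm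
  let Φ := fpMap (F := b) (G := δ') (BasedFunctor.id (FibCat.fp q q)) δ (BasedFunctor.id _)
    (BasedFunctor.id 𝒳) b α β
  have hΦ : FibCat.IsEquivOver Φ :=
    isEquivOver_fpMap (F := b) (G := δ') _ δ (BasedFunctor.id _) (BasedFunctor.id 𝒳) b α β
      isEquivOver_id isEquivOver_id
  have h₁ : RepByAlgSpWith Q (FibCat.fpFst (BasedFunctor.id (FibCat.fp q q)) δ) :=
    (repWith_iff_of_equiv Q (FibCat.fpFst b δ') (FibCat.fpFst (BasedFunctor.id _) δ) Φ (BasedFunctor.id _) hΦ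
      isEquivOver_id (Iso.refl _)).1 (repWith_fpFst Q δ' b h')
  exact (repWith_iff_of_equiv Q δ (FibCat.fpFst (BasedFunctor.id _) δ) (FibCat.fpSnd (BasedFunctor.id _) δ)
    (BasedFunctor.id _) (isEquivOver_fpSnd_id δ) isEquivOver_id (FibCat.fpIso (BasedFunctor.id _) δ)).2 h₁

end discrete

/-! ### local lifts -/

/-- a point lifting locally -/
theorem exists_lift_chart (h𝒳 : FibCat.IsFibGrpd 𝒳.p) (h𝒴 : FibCat.IsFibGrpd 𝒴.p) (f : 𝒳 ⥤ᵇ 𝒴)
    {V W : Over S} (y : ofSch V ⥤ᵇ 𝒴) (k : W ⟶ V) {x₀ : 𝒳.obj} (g : f.obj x₀ ⟶ y.obj (pt V))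
    (hx₀ : 𝒳.p.obj x₀ = W) (hg : 𝒴.p.map g =
      eqToHom ((f.w_obj x₀).trans hx₀) ≫ k ≫ eqToHom (y.w_obj (pt V)).symm) :
    ∃ a : ofSch W ⥤ᵇ 𝒳, Nonempty (BasedFunctor.comp a f ≅ BasedFunctor.comp (ofSpMap ((yon S).map k)) y) := by
  obtain ⟨a₀, i₀, hi₀⟩ := exists_point h𝒳 x₀
  let Φ := ofSpMap ((yon S).map (eqToHom hx₀.symm))
  let a : ofSch W ⥤ᵇ 𝒳 := BasedFunctor.comp Φ a₀
  let A : ofSch W ⥤ᵇ 𝒴 := BasedFunctor.comp a f
  let B : ofSch W ⥤ᵇ 𝒴 := BasedFunctor.comp (ofSpMap ((yon S).map k)) y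
  let zy : B.obj (pt W) ⟶ y.obj (pt V) := y.map (⟨k, ULift.ext _ _
    ((Category.comp_id k).trans (Category.id_comp k).symm)⟩ :
      (ofSpMap ((yon S).map k)).obj (pt W) ⟶ pt V)
  let za : a.obj (pt W) ⟶ x₀ := a₀.map (⟨eqToHom hx₀.symm, ULift.ext _ _
    (show eqToHom hx₀.symm ≫ 𝟙 (𝒳.p.obj x₀) = 𝟙 W ≫ eqToHom hx₀.symm by simp)⟩ :
      Φ.obj (pt W) ⟶ pt (𝒳.p.obj x₀)) ≫ i₀.hom
  have hzy : 𝒴.p.map zy = eqToHom (y.w_obj _) ≫ k ≫ eqToHom (y.w_obj _).symm := map_map y _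
  have hza : 𝒳.p.map za = eqToHom (a.w_obj (pt W)) ≫ eqToHom hx₀.symm := by
    show 𝒳.p.map (a₀.map _ ≫ i₀.hom) = _
    rw [Functor.map_comp, map_map, hi₀]
    simp
  obtain ⟨χ, ⟨hχ, -⟩, -⟩ := existsUnique_cart h𝒴 zy (f.map za ≫ g)
    (eqToHom ((A.w_obj (pt W)).trans (B.w_obj (pt W)).symm)) (by
      rw [hzy, Functor.map_comp, map_map f za, hza, hg]
      simp)
  obtain ⟨i, -⟩ := exists_iso_of_top h𝒴 (BasedFunctor.comp (ofOverCat W) A)
    (BasedFunctor.comp (ofOverCat W) B) χ hχ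
  exact ⟨a, ⟨(Stk.restr (toOverCat W) _).mapIso i⟩⟩

/-- representable functors with local preimages of objects have lifts -/
theorem lifts_of_locSurjObj (h𝒳 : FibCat.IsFibGrpd 𝒳.p) (h𝒴 : FibCat.IsFibGrpd 𝒴.p) {f : 𝒳 ⥤ᵇ 𝒴}
    (hf : RepByAlgSp1 f) (h : Gerb.LocSurjObj (QuotSh.J Scheme.fppfPrecoverage S) f) : Lifts f := by
  intro U y
  obtain ⟨P, eP, heP⟩ := repByAlgSp_fp_yon hf U y
  obtain ⟨k, hk, ⟨jl⟩, ⟨jr⟩⟩ := isEquivOver_symm heP
  let prP : P.obj ⟶ (yon S).obj U := ObjectProperty.homMk (prjMap eP)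
  obtain ⟨R, hR, hlift⟩ := GerbLib.locObj_at h (y.obj (pt U)) (y.w_obj (pt U))
  obtain ⟨Vj, fj, hfj, hcov⟩ := exists_family_of_mem hR
  have hsec : AlgSt.HasSecLoc Scheme.fppfPrecoverage prP := by
    refine ⟨Presieve.ofArrows (fun j => (Vj j).left) (fun j => (fj j).left), ?_, ?_⟩
    · rw [Scheme.fppfPrecoverage, Scheme.ofArrows_mem_precoverage_iff]
      refine ⟨fun t => ?_, fun j => ?_⟩
      · obtain ⟨j, z, hz⟩ := hcov.2 (AlgSp.Points.ofScheme _ t)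
        obtain ⟨s, rfl⟩ : ∃ s, AlgSp.Points.ofScheme (Vj j) s = z := ⟨_, AlgSp.Points.ofScheme_toScheme _ z⟩
        refine ⟨j, s, ?_⟩
        simpa using congrArg (AlgSp.Points.toScheme _) ((ofScheme_map (fj j) s).symm.trans hz)
      · obtain ⟨a₁, a₂⟩ := hcov.1 j
        exact ⟨AlgSp.locP_yon_map a₁, AlgSp.locP_yon_map a₂⟩
    · intro T' g hg
      obtain ⟨j⟩ := hg
      obtain ⟨x₀, m, hm⟩ := hlift (fj j) (hfj j)
      haveI := hm
      have hx₀ : 𝒳.p.obj x₀ = Vj j := GerbLib.obj_over f (IsHomLift.domain_eq 𝒴.p (fj j) m)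
      obtain ⟨a, ⟨ia⟩⟩ := exists_lift_chart h𝒳 h𝒴 f y (fj j) m hx₀ (IsHomLift.fac' 𝒴.p (fj j) m)
      let T : Over S := Over.mk ((fj j).left ≫ U.hom)
      let g : T ⟶ U := Over.homMk (fj j).left rfl
      let i₀ : T ⟶ Vj j := Over.homMk (𝟙 _) (by simp [T])
      have hg : g = i₀ ≫ fj j := Over.OverMorphism.ext (Category.id_comp _).symm
      let z : ofSch (Vj j) ⥤ᵇ FibCat.fp y f := FibCat.fpLift (ofSpMap ((yon S).map (fj j))) a ia.symm
      let z' := BasedFunctor.comp (ofSpMap ((yon S).map i₀)) (BasedFunctor.comp z k)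
      let l : (yon S).obj T ⟶ P.obj := ObjectProperty.homMk (mapOf z')
      refine ⟨l, ObjectProperty.hom_ext _ ?_⟩
      show mapOf z' ≫ prjMap eP = (pyon S).map g
      rw [← mapOf_comp, hg, Functor.map_comp, ← mapOf_ofPshMap ((pyon S).map (fj j))]
      refine (mapOf_congr (show BasedFunctor.comp z' (BasedFunctor.comp eP (FibCat.fpFst y f)) ≅
          BasedFunctor.comp (ofSpMap ((yon S).map i₀)) (ofSpMap ((yon S).map (fj j))) from
        (Stk.restr (BasedFunctor.comp (ofSpMap ((yon S).map i₀)) z) _).mapIso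
          ((Stk.restr (BasedFunctor.comp k eP) _).mapIso (Iso.refl (FibCat.fpFst y f)) ≪≫
            (post _ (FibCat.fpFst y f)).mapIso jr))).trans ((mapOf_comp _ _).trans ?_)
      exact congrArg (· ≫ _) (mapOf_ofPshMap ((pyon S).map i₀))
  obtain ⟨W', g, l, g₁, g₂, g₃, hl⟩ := SpQuot.exists_fppf_section prP hsec
  rw [Category.comp_id] at hl
  have hlg : l.hom ≫ prjMap eP = (pyon S).map g := congrArg (fun t => t.hom) hl
  let z : ofSch W' ⥤ᵇ FibCat.fp y f := BasedFunctor.comp (Stk.ofPshMap l.hom) eP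
  let j₁ : BasedFunctor.comp z (FibCat.fpFst y f) ≅ Stk.ofPshMap ((pyon S).map g) :=
    (mapOfIso _).symm ≪≫ eqToIso (congrArg Stk.ofPshMap (by
      show mapOf (BasedFunctor.comp (Stk.ofPshMap l.hom) (BasedFunctor.comp eP (FibCat.fpFst y f))) = _
      rw [mapOf_comp, mapOf_ofPshMap]
      exact hlg))
  exact ⟨W', g, g₁, g₂, g₃, BasedFunctor.comp z (FibCat.fpSnd y f),
    ⟨((Stk.restr z _).mapIso (FibCat.fpIso y f)).symm ≪≫ (post _ y).mapIso j₁⟩⟩

/-- morphisms lifting locally make the diagonal locally surjective on objects -/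
theorem locSurjObj_diag {f : 𝒳 ⥤ᵇ 𝒴} (hf : Gerb.LocSurjHom (QuotSh.J Scheme.fppfPrecoverage S) f) :
    Gerb.LocSurjObj (QuotSh.J Scheme.fppfPrecoverage S) (FibCat.diag f) := by
  intro o
  obtain ⟨q, hq⟩ := map_iso_hom o
  have hU : 𝒳.p.obj o.obj.fst = (FibCat.fp f f).p.obj o := rfl
  obtain ⟨R, hR, hlift⟩ := GerbLib.locHom_at hf o.obj.fst o.obj.snd o.obj.iso.hom hU
    (IsHomLift.of_fac' 𝒴.p _ _ (f.w_obj _) ((f.w_obj _).trans (fp_obj_eq o)) (by rw [hq]; simp))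
  refine ⟨R, hR, fun V k hk => ?_⟩
  obtain ⟨x₀, φ, ψ, hφ, hψ, e⟩ := hlift k hk
  haveI := hφ
  refine ⟨x₀, ObjectProperty.homMk ⟨φ, ψ,
    show f.map φ ≫ o.obj.iso.hom = 𝟙 _ ≫ f.map ψ by rw [Category.id_comp]; exact e⟩, ?_⟩
  exact IsHomLift.of_fac' _ _ _ (IsHomLift.domain_eq 𝒳.p k φ) rfl (IsHomLift.fac' 𝒳.p k φ)

/-- flat locally finitely presented inertia gives such a diagonal over a presheaf with lifting morphisms -/
theorem repWith_diag_of_inertia (h𝒳 : IsAlgStack Scheme.fppfPrecoverage 𝒳) {F : Sp S} (q : 𝒳 ⥤ᵇ AlgSt.ofSp F)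
    (hq : Gerb.LocSurjHom (QuotSh.J Scheme.fppfPrecoverage S) q) {Q : MorphismProperty (Sp S)} (hQ : Cls Q)
    (h : RepByAlgSpWith Q (FibCat.inertiaToBase (FibCat.toSelf 𝒳))) : RepByAlgSpWith Q (FibCat.diag q) := by
  have hd : RepByAlgSp1 (FibCat.diag q) :=
    repByAlgSp1_of_with (repWith_diag_toPsh q (repByAlgSpWith_top_iff.2 h𝒳.diag))
  have hFg : FibCat.IsFibGrpd (Stk.ofPsh F.obj).p := Stk.isFibGrpd_ofPsh F.obj
  have hff := isFibGrpd_fp h𝒳.isStack.1 h𝒳.isStack.1 hFg q q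
  refine repWith_of_lifts hQ.bc hQ.loc hd (lifts_of_locSurjObj h𝒳.isStack.1 hff hd (locSurjObj_diag hq)) ?_
  exact (repWith_iff_of_equiv Q (FibCat.fpFst (FibCat.diag q) (FibCat.diag q)) (FibCat.inertiaToBase q)
    (inertiaFun q) (BasedFunctor.id _) (isEquivOver_inertiaFun q) isEquivOver_id (Iso.refl _)).2
    ((repWith_inertia_iff q).2 h)

/-- the inertia surjects -/
theorem repWith_surjective_inertia (h𝒳 : IsAlgStack Scheme.fppfPrecoverage 𝒳) :
    RepByAlgSpWith AlgSp.IsSurjectiveMor (FibCat.inertiaToBase (FibCat.toSelf 𝒳)) := by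
  let t := FibCat.toSelf 𝒳
  obtain ⟨k, hk, -, -⟩ := isEquivOver_symm (isEquivOver_inertiaFun t)
  have ht := isFibGrpd_fp h𝒳.isStack.1 h𝒳.isStack.1 isFibGrpd_selfOver t t
  have hI : FibCat.IsFibGrpd (FibCat.inertia t).p :=
    (isAlgStack_of_equiv hk (isAlgStack_fp (isAlgStack_fp isAlgStack_self.isStack isAlgStack_self.diag h𝒳 h𝒳 t t).isStack
      (isAlgStack_fp isAlgStack_self.isStack isAlgStack_self.diag h𝒳 h𝒳 t t).diag h𝒳 h𝒳 (FibCat.diag t)
      (FibCat.diag t))).isStack.1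
  refine repWith_surjective_of_isSurjective hI h𝒳.isStack.1
    (repByAlgSp1_of_with (repWith_inertia_of_diag (repByAlgSpWith_top_iff.2 h𝒳.diag))) fun x => ?_
  refine ⟨AlgSt.Points.map (FibCat.inertiaNeutral t) x, ?_⟩
  rw [← map_comp_points]
  exact (map_congr_points (Iso.refl _ : BasedFunctor.comp (FibCat.inertiaNeutral t) (FibCat.inertiaToBase t) ≅
    BasedFunctor.id 𝒳) x).trans (map_id_points x)

/-! ### the space of isomorphism classes -/

section space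

variable (𝒳) [FibCat.IsFibGrpd 𝒳.p]

/-- the sheaf of isomorphism classes -/
def isoSh : Sp S := (presheafToSheaf (AlgSp.J S) (Type (u + 1))).obj (Gerb.isoClPsh 𝒳)

/-- the class of an object -/
def cls (T : Over S) (a : 𝒳.p.Fiber T) : (isoSh 𝒳).obj.obj (op T) :=
  (toSheafify (AlgSp.J S) (Gerb.isoClPsh 𝒳)).app (op T) (Quot.mk _ a)

theorem map_cls {T V : Over S} (k : V ⟶ T) (a : 𝒳.p.Fiber T) :
    (isoSh 𝒳).obj.map k.op (cls 𝒳 T a) = cls 𝒳 V (Gerb.pullFib 𝒳 k a) :=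
  (NatTrans.naturality_apply (toSheafify (AlgSp.J S) (Gerb.isoClPsh 𝒳)) k.op (Quot.mk _ a)).symm

theorem map_cls_of_hom {x' x : 𝒳.obj} (φ : x' ⟶ x) :
    (isoSh 𝒳).obj.map (𝒳.p.map φ).op (cls 𝒳 _ (Gerb.fib x)) = cls 𝒳 _ (Gerb.fib x') := by
  rw [map_cls]
  refine congrArg ((toSheafify (AlgSp.J S) (Gerb.isoClPsh 𝒳)).app _) (Quot.sound ?_).symm
  obtain ⟨χ, hχ, -⟩ := Gerb.exists_hom_pull 𝒳 x (𝒳.p.map φ ≫ eqToHom rfl) φ (by
    rw [eqToHom_refl, Category.comp_id]; exact IsHomLift.map 𝒳.p φ)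
  exact ⟨⟨χ, hχ⟩⟩

/-- the functor to isomorphism classes -/
def toIso : 𝒳 ⥤ᵇ AlgSt.ofSp (isoSh 𝒳) where
  toFunctor :=
    { obj := fun x => ⟨𝒳.p.obj x, cls 𝒳 _ (Gerb.fib x)⟩
      map := fun φ => ⟨𝒳.p.map φ, map_cls_of_hom 𝒳 φ⟩
      map_id := fun x => Stk.EltObj.hom_ext (𝒳.p.map_id x)
      map_comp := fun f g => Stk.EltObj.hom_ext (𝒳.p.map_comp f g) }
  w := rfl

theorem nonempty_hom_of_eqvGen {U : Over S} {a b : 𝒳.p.Fiber U}
    (h : Relation.EqvGen (Gerb.IsoRel 𝒳 U) a b) : Nonempty (a ⟶ b) := by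
  induction h with
  | rel a b h => exact h
  | refl a => exact ⟨𝟙 a⟩
  | symm a b _ h =>
    obtain ⟨φ⟩ := h
    haveI := φ.2
    haveI : IsIso φ.1 := GerbLib.isIso_over_id ‹FibCat.IsFibGrpd 𝒳.p› (V := U) φ.1
    haveI : 𝒳.p.IsHomLift (𝟙 U) (asIso φ.1).hom := φ.2
    exact ⟨⟨inv φ.1, IsHomLift.lift_id_inv 𝒳.p U (asIso φ.1)⟩⟩
  | trans a b c _ _ h h' => exact ⟨h.some ≫ h'.some⟩

theorem isGerbeOver_toIso : Gerb.IsGerbeOver (QuotSh.J Scheme.fppfPrecoverage S) (toIso 𝒳) := by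
  refine ⟨fun y => ?_, fun x x' b hb => ?_⟩
  · refine ⟨_, Presheaf.imageSieve_mem (AlgSp.J S) (toSheafify (AlgSp.J S) (Gerb.isoClPsh 𝒳)) y.sec,
      fun V f hf => ?_⟩
    obtain ⟨a, ha⟩ := hf
    obtain ⟨⟨x, hx⟩, rfl⟩ := Quot.exists_rep a
    change 𝒳.p.obj x = V at hx
    subst hx
    let g : (toIso 𝒳).obj x ⟶ y := ⟨f, ha.symm⟩
    exact ⟨x, g, IsHomLift.map (AlgSt.ofSp (isoSh 𝒳)).p g⟩
  · have hx' : 𝒳.p.obj x' = 𝒳.p.obj x := IsHomLift.codomain_eq (AlgSt.ofSp (isoSh 𝒳)).p (𝟙 (𝒳.p.obj x)) b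
    let a' : 𝒳.p.Fiber (𝒳.p.obj x) := ⟨x', hx'⟩
    have hbm : b.hom = eqToHom hx'.symm := by
      simpa using IsHomLift.fac' (AlgSt.ofSp (isoSh 𝒳)).p (𝟙 (𝒳.p.obj x)) b
    have e : cls 𝒳 _ (Gerb.fib x) = cls 𝒳 _ a' := by
      refine b.map_sec.symm.trans ?_
      show (isoSh 𝒳).obj.map b.hom.op (cls 𝒳 _ (Gerb.fib x')) = _
      rw [hbm]
      have key : ∀ {T T' : Over S} (h : T' = T) (z : 𝒳.p.Fiber T'),
          (isoSh 𝒳).obj.map (eqToHom h.symm).op (cls 𝒳 T' z) = cls 𝒳 T ⟨z.1, z.2.trans h⟩ := by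
        intro T T' h z
        subst h
        simp
      exact key hx' (Gerb.fib x')
    refine ⟨_, Presheaf.equalizerSieve_mem (AlgSp.J S) (toSheafify (AlgSp.J S) (Gerb.isoClPsh 𝒳)) _ _ e,
      fun V f hf => ?_⟩
    obtain ⟨χ⟩ := nonempty_hom_of_eqvGen 𝒳 (Quot.eq.1 hf)
    let c₁ := Gerb.pullFib 𝒳 f (Gerb.fib x)
    let c₂ := Gerb.pullFib 𝒳 f a'
    let φ : c₁.1 ⟶ x := Gerb.pullHom 𝒳 x (f ≫ eqToHom rfl)
    let ψ₂ : c₂.1 ⟶ x' := Gerb.pullHom 𝒳 x' (f ≫ eqToHom hx'.symm)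
    haveI := χ.2
    have hχ : 𝒳.p.map χ.1 = eqToHom (c₁.2.trans c₂.2.symm) := by
      simpa using IsHomLift.fac' 𝒳.p (𝟙 V) χ.1
    refine ⟨c₁.1, φ, χ.1 ≫ ψ₂, IsHomLift.of_fac' 𝒳.p _ _ c₁.2 rfl ?_,
      IsHomLift.of_fac' 𝒳.p _ _ c₁.2 hx' ?_, Stk.EltObj.hom_ext ?_⟩
    · simp [φ, Gerb.pullHom_map]
    · simp [ψ₂, Functor.map_comp, Gerb.pullHom_map, hχ, c₂]
    · show 𝒳.p.map φ ≫ b.hom = 𝒳.p.map (χ.1 ≫ ψ₂)
      simp [φ, ψ₂, Functor.map_comp, Gerb.pullHom_map, hχ, hbm, c₂]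

end space

theorem descend_flat_lfp {M K : Sp S} {U : Over S} (m : M ⟶ K) (hm : Bootstrap.IsFppfRep m)
    (hK : IsAlgSpace K) (π : K ⟶ (yon S).obj U) (h₁ : LocP @Flat (m ≫ π))
    (h₂ : LocP @LocallyOfFinitePresentation (m ≫ π)) {W : Over S} (a : (yon S).obj W ⟶ K) (h : W ⟶ U)
    (ha : RepWith @Etale a) (e : a ≫ π = (yon S).map h) : Flat h.left ∧ LocallyOfFinitePresentation h.left := by
  have sq := IsPullback.of_hasPullback m a
  obtain ⟨hQ, hQs, hloc⟩ := hm a _ _ sq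
  obtain ⟨W', w, hwe, hws⟩ := hQ.atlas
  obtain ⟨g, hg⟩ := exists_map_eq (w ≫ pullback.snd m a)
  obtain ⟨g₁, g₂⟩ := hloc w g hwe hg.symm
  haveI := g₁
  haveI := g₂
  haveI : Surjective g.left := ⟨fun v => by
    obtain ⟨z, hz⟩ := hQs (Points.ofScheme W v)
    obtain ⟨t, rfl⟩ := ofPt_surjective hws z
    refine ⟨t, (Points.schemeEquiv W).injective ?_⟩
    change Points.ofScheme W (g.left t) = Points.ofScheme W v
    rw [← ofScheme_map, hg, ← Points.map_ofPt, hz]⟩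
  have hb : RepWith @Etale (w ≫ pullback.fst m a) := AlgSpLib.repWith_comp hwe (repWith_baseChange sq.flip ha)
  have comm : (w ≫ pullback.fst m a) ≫ m ≫ π = (yon S).map (g ≫ h) ≫ 𝟙 _ := by
    rw [Category.assoc, pullback.condition_assoc, e, Category.comp_id, Functor.map_comp, hg, Category.assoc]
  haveI : Flat (g.left ≫ h.left) := h₁ (w ≫ pullback.fst m a) (𝟙 _) (g ≫ h) hb (AlgSp.repWith_id _ U) comm
  haveI : LocallyOfFinitePresentation (g.left ≫ h.left) :=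
    h₂ (w ≫ pullback.fst m a) (𝟙 _) (g ≫ h) hb (AlgSp.repWith_id _ U) comm
  exact ⟨GrpdLib.flat_of_flat_comp g.left h.left, FppfSource.lfp g.left h.left⟩

theorem app_map_yon {T V : Over S} {G : PSp S} (φ : (pyon S).obj T ⟶ G) (h : V ⟶ T) :
    φ.app (op V) (((pyon S).map h).app (op V) (pt V).sec) = G.map h.op (φ.app (op T) (pt T).sec) := by
  rw [← NatTrans.naturality_apply φ h.op]
  exact congrArg _ (ULift.ext _ _ ((Category.id_comp h).trans (Category.comp_id h).symm))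

/-- an atlas composed with a locally surjective functor to a sheaf is locally surjective -/
theorem isLocallySurjective_mapOf (h𝒳 : IsAlgStack Scheme.fppfPrecoverage 𝒳) {F : Sp S} (q : 𝒳 ⥤ᵇ AlgSt.ofSp F)
    (hq : Gerb.LocSurjObj (QuotSh.J Scheme.fppfPrecoverage S) q) {U : Over S} (x : ofSch U ⥤ᵇ 𝒳) (hx : Lifts x) :
    Sheaf.IsLocallySurjective (ObjectProperty.homMk (mapOf (BasedFunctor.comp x q)) : (yon S).obj U ⟶ F) := by
  let xq := BasedFunctor.comp x q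
  constructor
  intro T σ
  let o : (AlgSt.ofSp F).obj := ⟨T, σ⟩
  obtain ⟨R, hR, hlift⟩ := hq o
  refine (AlgSp.J S).transitive hR _ fun V f hf => ?_
  obtain ⟨b, g, hg⟩ := hlift f hf
  haveI := hg
  obtain ⟨yb, ib, hib⟩ := exists_point h𝒳.isStack.1 b
  obtain ⟨V', h, h₁', h₂', h₃', z, ⟨i⟩⟩ :=
    hx (𝒳.p.obj b) yb
  have hV : 𝒳.p.obj b = V :=
    (q.w_obj b).symm.trans (IsHomLift.domain_eq (AlgSt.ofSp F).p f g)
  subst hV
  have hgf : g.hom = eqToHom (base_eq q b) ≫ f := by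
    simpa using IsHomLift.fac' (AlgSt.ofSp F).p f g
  have hbσ : secOf q b = F.obj.map f.op σ := by
    have := g.map_sec
    rw [hgf] at this
    show F.obj.map _ (q.obj b).sec = _
    rw [← this, ← Functor.map_comp_apply, ← op_comp]
    simp
    rfl
  refine GrothendieckTopology.superset_covering _ ?_
    (QuotShLib.generate_singleton_mem_J (K := Scheme.fppfPrecoverage) (q := h) h.left.singleton_mem_fppfPrecoverage)
  rintro Z _ ⟨W, j, _, ⟨⟩, rfl⟩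
  refine ⟨((yon S).obj U).obj.map j.op ((mapOf z).app (op V') (pt V').sec), ?_⟩
  show (mapOf xq).app (op Z) _ = F.obj.map ((j ≫ h) ≫ f).op σ
  rw [NatTrans.naturality_apply]
  have hpt : (mapOf xq).app (op V') ((mapOf z).app (op V') (pt V').sec) = F.obj.map h.op (secOf q b) := by
    show (mapOf z ≫ mapOf xq).app (op V') (pt V').sec = _
    have hi : mapOf (BasedFunctor.comp z xq) =
        mapOf (BasedFunctor.comp (Stk.ofPshMap ((pyon S).map h)) (BasedFunctor.comp yb q)) :=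
      mapOf_congr ((post _ q).mapIso i)
    rw [← mapOf_comp, hi, mapOf_comp, mapOf_ofPshMap]
    refine (app_map_yon (mapOf (BasedFunctor.comp yb q)) h).trans ?_
    congr 1
    show secOf (BasedFunctor.comp yb q) (pt _) = _
    rw [secOf_comp, ← secOf_map q ib.hom, hib]
    exact (Functor.map_comp_apply F.obj _ _ _).symm.trans (by simp)
  rw [hpt, hbσ]
  simp only [op_comp, Functor.map_comp_apply]

/-- a presheaf with the fibres of a stack with flat lfp inertia is an algebraic space -/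
theorem isAlgSpace_target (h𝒳 : IsAlgStack Scheme.fppfPrecoverage 𝒳) {F : Sp S} (q : 𝒳 ⥤ᵇ AlgSt.ofSp F)
    (hq : Gerb.IsGerbeOver (QuotSh.J Scheme.fppfPrecoverage S) q)
    (h₁ : RepByAlgSpWith (LocP @Flat) (FibCat.inertiaToBase (FibCat.toSelf 𝒳)))
    (h₂ : RepByAlgSpWith (LocP @LocallyOfFinitePresentation) (FibCat.inertiaToBase (FibCat.toSelf 𝒳))) :
    IsAlgSpace F := by
  have d₁ := repWith_diag_of_inertia h𝒳 q hq.2 cls_flat h₁
  have d₂ := repWith_diag_of_inertia h𝒳 q hq.2 cls_lfp h₂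
  have d₃ := repWith_diag_of_inertia h𝒳 q hq.2 cls_surjective (repWith_surjective_inertia h𝒳)
  obtain ⟨U, x', hs, hsurj⟩ := h𝒳.atlas
  let x : ofSch U ⥤ᵇ 𝒳 := BasedFunctor.comp (toOverCat U) x'
  have hxs := (repWith_overCat_iff _ U x').1 hs
  have hxS := (repWith_overCat_iff _ U x').1 hsurj
  have hx1 : RepByAlgSp1 x := repByAlgSp1_of_with hxs
  let xq : ofSch U ⥤ᵇ AlgSt.ofSp F := BasedFunctor.comp x q
  let p : (yon S).obj U ⟶ F := ObjectProperty.homMk (mapOf xq)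
  -- the two models
  obtain ⟨M, eM, heM⟩ := repByAlgSp_fp_yon hx1 U x
  let K := pullback p p
  have sqK := IsPullback.of_hasPullback p p
  let E₁ := pbFun (sqK.map (sheafToPresheaf (AlgSp.J S) (Type (u + 1)))).toCommSq
  have hE₁ : FibCat.IsEquivOver E₁ := isEquivOver_pbFun (sqK.map (sheafToPresheaf (AlgSp.J S) (Type (u + 1))))
  haveI : (BasedFunctor.id (AlgSt.ofSp F)).toFunctor.Full := inferInstanceAs (𝟭 (AlgSt.ofSp F).obj).Full
  haveI : (BasedFunctor.id (AlgSt.ofSp F)).toFunctor.Faithful := inferInstanceAs (𝟭 (AlgSt.ofSp F).obj).Faithful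
  let α : BasedFunctor.comp (Stk.ofPshMap p.hom) (BasedFunctor.id (AlgSt.ofSp F)) ≅
      BasedFunctor.comp (BasedFunctor.id (ofSch U)) xq := mapOfIso xq
  let E₂ : FibCat.fp (Stk.ofPshMap p.hom) (Stk.ofPshMap p.hom) ⥤ᵇ FibCat.fp xq xq :=
    fpMap (F := xq) (G := xq) (Stk.ofPshMap p.hom) (Stk.ofPshMap p.hom) (BasedFunctor.id _)
      (BasedFunctor.id _) (BasedFunctor.id _) α α
  have hE₂ : FibCat.IsEquivOver E₂ :=
    isEquivOver_fpMap (F := xq) (G := xq) _ _ _ _ (BasedFunctor.id _) α α isEquivOver_id isEquivOver_id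
  let E := BasedFunctor.comp E₁ E₂
  have hE : FibCat.IsEquivOver E := isEquivOver_comp hE₁ hE₂
  obtain ⟨k, hk, -, ⟨jr⟩⟩ := isEquivOver_symm hE
  let ε : BasedFunctor.comp (FibCat.fpFst x x) xq ≅ BasedFunctor.comp (FibCat.fpSnd x x) xq :=
    (post _ q).mapIso (FibCat.fpIso x x)
  let C : FibCat.fp x x ⥤ᵇ FibCat.fp xq xq := FibCat.fpLift (FibCat.fpFst x x) (FibCat.fpSnd x x) ε
  let Φ := BasedFunctor.comp (BasedFunctor.comp eM C) k
  have hC : ∀ {Q : MorphismProperty (Sp S)}, RepByAlgSpWith Q (FibCat.diag q) →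
      RepByAlgSpWith Q Φ := fun {Q} hd => by
    have h₀ : RepByAlgSpWith Q C :=
      (repWith_iff_of_equiv Q (FibCat.fpFst (cmpMap x x q) (FibCat.diag q)) C (cmpDiag ε (fun _ => rfl))
        (BasedFunctor.id _) (isEquivOver_cmpDiag ε (fun _ => rfl)) isEquivOver_id (Iso.refl _)).1
        (repWith_fpFst Q (FibCat.diag q) (cmpMap x x q) hd)
    exact (repWith_iff_of_equiv Q C Φ eM E heM hE ((Stk.restr (BasedFunctor.comp eM C) _).mapIso jr)).1 h₀
  let m : M.obj ⟶ K := ObjectProperty.homMk (mapOf Φ)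
  have hrep : ∀ {Q : MorphismProperty (Sp S)}, BCStable Q → RepByAlgSpWith Q (FibCat.diag q) →
      ∀ ⦃T : Over S⦄ (ξ : (yon S).obj T ⟶ K) ⦃P : Sp S⦄ (fst : P ⟶ M.obj) (snd : P ⟶ (yon S).obj T),
        IsPullback fst snd m ξ → IsAlgSpace P ∧ Q snd := fun {Q} hb hd T ξ P fst snd sq => by
    haveI := respectsIso_onSp hb
    obtain ⟨hP, hs, h⟩ := (repWith_ofPshMap_iff (onSp Q) (mapOf Φ)).1
      (repWith_congr _ (mapOfIso Φ) (repWith_onSp_iff.2 (hC hd))) ξ.hom fst.hom snd.hom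
      (sq.map (sheafToPresheaf (AlgSp.J S) (Type (u + 1))))
    exact ⟨hs, h hs (IsAlgSpace.yon_obj T)⟩
  have hm : Bootstrap.IsFppfRep m := fun T ξ P fst snd sq => by
    obtain ⟨hP, hf⟩ := hrep cls_flat.bc d₁ ξ fst snd sq
    obtain ⟨-, hfp⟩ := hrep cls_lfp.bc d₂ ξ fst snd sq
    obtain ⟨-, hsur⟩ := hrep cls_surjective.bc d₃ ξ fst snd sq
    exact ⟨hP, hsur, fun W a h ha e => ⟨hf a (𝟙 _) h ha (AlgSp.repWith_id _ T) (by rw [e, Category.comp_id]),
      hfp a (𝟙 _) h ha (AlgSp.repWith_id _ T) (by rw [e, Category.comp_id])⟩⟩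
  have hK : IsAlgSpace K := hm.isAlgSpace M.property
  -- the projection
  have hm₁ : m ≫ pullback.fst p p = ObjectProperty.homMk (prjMap eM) := by
    refine ObjectProperty.hom_ext _ ?_
    show mapOf Φ ≫ (pullback.fst p p).hom = prjMap eM
    rw [← mapOf_ofPshMap (pullback.fst p p).hom, ← mapOf_comp]
    exact mapOf_congr ((Stk.restr Φ _).mapIso (Iso.refl (BasedFunctor.comp E (FibCat.fpFst xq xq))) ≪≫
      (post _ (FibCat.fpFst xq xq)).mapIso ((Stk.restr (BasedFunctor.comp eM C) _).mapIso jr))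
  have hproj : ∀ {Q : MorphismProperty (Sp S)}, BCStable Q → RepByAlgSpWith Q x →
      Q (m ≫ pullback.fst p p) := fun {Q} hb hx => by
    haveI := respectsIso_onSp hb
    obtain ⟨hP, hs, h⟩ := good_of_model (repWith_onSp_iff.2 hx) (f := x) heM
    rw [hm₁]
    exact h hs (IsAlgSpace.yon_obj U)
  have hfl := hproj cls_flat.bc (repWith_flat_of_smooth hxs)
  have hfp := hproj cls_lfp.bc (repWith_lfp_of_smooth hxs)
  haveI : Sheaf.IsLocallySurjective p := isLocallySurjective_mapOf h𝒳 q hq.1 x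
    (lifts_of_fppf (repWith_flat_of_smooth hxs) (repWith_lfp_of_smooth hxs) hxS)
  refine Bootstrap.isAlgSpace_of_kernelPair p sqK hK (fun W a h ha e => ?_)
    (fun W a h ha e => descend_flat_lfp m hm hK _ hfl hfp a h ha e)
  let σ : K ⟶ K := pullback.lift (pullback.snd p p) (pullback.fst p p) pullback.condition.symm
  haveI : IsIso σ := ⟨σ, pullback.hom_ext (by simp [σ]) (by simp [σ]), pullback.hom_ext (by simp [σ]) (by simp [σ])⟩
  exact descend_flat_lfp m hm hK _ hfl hfp (a ≫ σ) h (AlgSpLib.repWith_comp ha (repWith_of_isIso σ))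
    (by rw [Category.assoc, show σ ≫ pullback.fst p p = pullback.snd p p from pullback.lift_fst _ _ _, e])

/-- an algebraic stack with flat, locally finitely presented inertia is a gerbe -/
theorem exists_gerbe (h𝒳 : IsAlgStack Scheme.fppfPrecoverage 𝒳)
    (h₁ : RepByAlgSpWith (LocP @Flat) (FibCat.inertiaToBase (FibCat.toSelf 𝒳)))
    (h₂ : RepByAlgSpWith (LocP @LocallyOfFinitePresentation) (FibCat.inertiaToBase (FibCat.toSelf 𝒳))) :
    ∃ (X : AlgSp.Space S) (π : 𝒳 ⥤ᵇ AlgSt.ofSp X.obj),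
      Gerb.IsGerbeOver (QuotSh.J Scheme.fppfPrecoverage S) π :=
  haveI := h𝒳.isStack.1
  ⟨⟨isoSh 𝒳, isAlgSpace_target h𝒳 (toIso 𝒳) (isGerbeOver_toIso 𝒳) h₁ h₂⟩, toIso 𝒳, isGerbeOver_toIso 𝒳⟩

theorem isAlgStack_inertia (h𝒳 : IsAlgStack Scheme.fppfPrecoverage 𝒳) :
    IsAlgStack Scheme.fppfPrecoverage (FibCat.inertia (FibCat.toSelf 𝒳)) := by
  let t := FibCat.toSelf 𝒳
  have hff := isAlgStack_fp isAlgStack_self.isStack isAlgStack_self.diag h𝒳 h𝒳 t t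
  obtain ⟨k, hk, -, -⟩ := isEquivOver_symm (isEquivOver_inertiaFun t)
  exact isAlgStack_of_equiv hk (isAlgStack_fp hff.isStack hff.diag h𝒳 h𝒳 (FibCat.diag t) (FibCat.diag t))

/-- gerbes over algebraic spaces have flat lfp inertia -/
theorem repWith_inertia_of_gerbe (h𝒳 : IsAlgStack Scheme.fppfPrecoverage 𝒳) {X : AlgSp.Space S}
    (π : 𝒳 ⥤ᵇ AlgSt.ofSp X.obj) (hπ : Gerb.IsGerbeOver (QuotSh.J Scheme.fppfPrecoverage S) π) :
    RepByAlgSpWith (LocP @Flat) (FibCat.inertiaToBase (FibCat.toSelf 𝒳)) ∧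
      RepByAlgSpWith (LocP @LocallyOfFinitePresentation) (FibCat.inertiaToBase (FibCat.toSelf 𝒳)) := by
  obtain ⟨d₁, d₂, -⟩ := GerbeMor.repWith_diag h𝒳 (isAlgStack_ofSp X) π hπ
  exact ⟨(repWith_inertia_iff π).1 (repWith_inertia_of_diag d₁), (repWith_inertia_iff π).1 (repWith_inertia_of_diag d₂)⟩

theorem isAlgGerbe_iff (h𝒳 : IsAlgStack Scheme.fppfPrecoverage 𝒳) :
    Gerb.IsAlgGerbe Scheme.fppfPrecoverage 𝒳 ↔
      LocQ (LocP @Flat) (FibCat.inertiaToBase (FibCat.toSelf 𝒳)) ∧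
        LocQ (LocP @LocallyOfFinitePresentation) (FibCat.inertiaToBase (FibCat.toSelf 𝒳)) := by
  have hI := isAlgStack_inertia h𝒳
  have hd := repByAlgSp1_of_with (repWith_inertia_of_diag (repByAlgSpWith_top_iff.2 h𝒳.diag))
  refine ⟨fun ⟨X, π, hπ⟩ => ?_, fun ⟨a₁, a₂⟩ => ?_⟩
  · obtain ⟨b₁, b₂⟩ := repWith_inertia_of_gerbe h𝒳 π hπ
    exact ⟨locQ_of_repWith st_flat cls_flat.bc cls_flat.loc hI h𝒳 b₁,
      locQ_of_repWith st_lfp cls_lfp.bc cls_lfp.loc hI h𝒳 b₂⟩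
  · exact exists_gerbe h𝒳 (repWith_of_locQ st_flat cls_flat.bc cls_flat.loc hI h𝒳 hd a₁)
      (repWith_of_locQ st_lfp cls_lfp.bc cls_lfp.loc hI h𝒳 hd a₂)

theorem repWith_lfp_inertia_of_field (h𝒳 : IsAlgStack Scheme.fppfPrecoverage 𝒳) {k : Type u} [Field k]
    {a : Spec (CommRingCat.of k) ⟶ S} (z : ofSch (Over.mk a) ⥤ᵇ 𝒳) (hz : Lifts z) :
    RepByAlgSpWith (LocP @Flat) (FibCat.inertiaToBase (FibCat.toSelf 𝒳)) ∧
      RepByAlgSpWith (LocP @LocallyOfFinitePresentation) (FibCat.inertiaToBase (FibCat.toSelf 𝒳)) := by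
  have hI := isAlgStack_inertia h𝒳
  have hl := repWith_inertia_of_diag (repWith_lft_diag_toSelf h𝒳)
  obtain ⟨V, m, e, he, ⟨i⟩, hm⟩ :=
    exists_model_of_repWith cls_lft.bc cls_lft.loc hI.isStack.1 h𝒳.isStack.1 hl (spOf (Over.mk a)) z
  have hlfp : LocP @LocallyOfFinitePresentation m.hom := fun W V' b c h hb hc comm => by
    haveI : LocallyOfFiniteType h.left := hm b c h hb hc comm
    obtain ⟨d, rfl⟩ := exists_map_eq c
    haveI : Etale d.left := (repWith_yon_iff d).1 hc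
    haveI : IsLocallyNoetherian (Over.mk a).left := inferInstanceAs (IsLocallyNoetherian (Spec (CommRingCat.of k)))
    haveI : IsLocallyNoetherian V'.left := LocallyOfFiniteType.isLocallyNoetherian d.left
    exact ConsEngine.lfp_of_lft h.left
  have hd : RepByAlgSp1 (FibCat.inertiaToBase (FibCat.toSelf 𝒳)) := repByAlgSp1_of_with hl
  exact ⟨repWith_of_lifts cls_flat.bc cls_flat.loc hd hz
      (repWith_fpFst_of_model cls_flat.bc he i (locP_flat_to_field m.hom)),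
    repWith_of_lifts cls_lfp.bc cls_lfp.loc hd hz (repWith_fpFst_of_model cls_lfp.bc he i hlfp)⟩

set_option maxHeartbeats 1000000 in
/-- reduced locally noetherian stacks with one point are gerbes over such spaces -/
theorem exists_gerbe_singleton (h𝒵 : IsAlgStack Scheme.fppfPrecoverage 𝒵)
    (hred : AlgSt.SmoothLocally (fun T => IsReduced T) 𝒵)
    (hnoeth : AlgSt.SmoothLocally (fun T => IsLocallyNoetherian T) 𝒵)
    (hne : Nonempty (AlgSt.Points 𝒵)) (hsub : Subsingleton (AlgSt.Points 𝒵)) :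
    ∃ (Z : AlgSp.Space S) (π : 𝒵 ⥤ᵇ AlgSt.ofSp Z.obj),
      Gerb.IsGerbeOver (QuotSh.J Scheme.fppfPrecoverage S) π ∧
        AlgSp.EtaleLocally (fun T => IsReduced T) Z.obj ∧ AlgSp.IsLocNoethSp Z.obj ∧
        Nonempty (AlgSp.Points Z.obj) ∧ Subsingleton (AlgSp.Points Z.obj) := by
  obtain ⟨k, _, a, z', z₁', z₂', z₃'⟩ := exists_lfp_fieldPt h𝒵 hred hnoeth hne hsub
  let z : ofSch (Over.mk a) ⥤ᵇ 𝒵 := BasedFunctor.comp (toOverCat _) z'
  have z₁ := (repWith_overCat_iff _ _ z').1 z₁'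
  have z₂ := (repWith_overCat_iff _ _ z').1 z₂'
  have z₃ := (repWith_overCat_iff _ _ z').1 z₃'
  obtain ⟨i₁, i₂⟩ := repWith_lfp_inertia_of_field h𝒵 z (lifts_of_fppf z₃ z₁ z₂)
  obtain ⟨Z, π, hπ⟩ := exists_gerbe h𝒵 i₁ i₂
  refine ⟨Z, π, hπ, ?_⟩
  have hZ := isAlgStack_ofSp Z
  have hU := isAlgStack_spOf (Over.mk a)
  obtain ⟨g₁, g₂, g₃⟩ := GerbeMor.locQ_gerbe h𝒵 hZ π hπ
  let c : ofSch (Over.mk a) ⥤ᵇ AlgSt.ofSp Z.obj := BasedFunctor.comp z π
  let p : spOf (Over.mk a) ⟶ Z := ObjectProperty.homMk (ObjectProperty.homMk (mapOf c))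
  have hp : AlgSt.ofSpMap p.hom ≅ c := mapOfIso c
  have c₂ : LocQ (LocP @Flat) c := locQ_comp st_flat cls_flat.comp hU h𝒵 hZ
    (locQ_of_repWith st_flat cls_flat.bc cls_flat.loc hU h𝒵 z₃) g₂
  have c₃ : LocQ (LocP @LocallyOfFinitePresentation) c := locQ_comp st_lfp cls_lfp.comp hU h𝒵 hZ
    (locQ_of_repWith st_lfp cls_lfp.bc cls_lfp.loc hU h𝒵 z₁) g₃
  refine (reduced_locNoeth_singleton_iff Z.property).2 ⟨k, ‹_›, a, p.hom,
    (locQ_ofSpMap_iff st_lfp p).1 (locQ_congr hp c₃), (locQ_ofSpMap_iff st_flat p).1 (locQ_congr hp c₂),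
    fun q => ?_⟩
  obtain ⟨r, hr⟩ := g₁ (stPts _ q)
  obtain ⟨s, rfl⟩ := isSurjective_of_repWith hU.isStack.1 h𝒵.isStack.1 z₂ r
  obtain ⟨t, rfl⟩ := (bijective_stPts _).2 s
  refine ⟨t, (bijective_stPts _).1 ?_⟩
  rw [← map_stPts, ← hr, ← map_comp_points]
  exact map_congr_points hp _

end Groth.Agent.AlgStLib.IsoSh

end
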