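import Groth.Agent.AlgStLib.SmLocus
import Groth.Agent.AlgSpLib.Subspace

/-!
# Largest open substacks on which a representable morphism has a property
-/

set_option autoImplicit false
set_option backward.isDefEq.respectTransparency false
set_option backward.isDefEq.respectTransparency.types false
set_option linter.style.haveILetI false
universe u

noncomputable section

namespace Groth.Agent.AlgStLib

open CategoryTheory CategoryTheory.Limits AlgebraicGeometry Opposite Groth.Agent.FibCatRep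
  Groth.Agent.FibCat2Misc Groth.Agent.AlgSpLib Groth.Agent.StkBasic
open _root_.AlgSp _root_.AlgSt

variable {S : Scheme.{u}} {𝒳 𝒴 𝒵 : AlgSt.Cat S} {f : 𝒳 ⥤ᵇ 𝒴}
  {P Q R : MorphismProperty (AlgSp.Sp S)}

local notation "AS" => IsAlgStack Scheme.fppfPrecoverage

/-- `w` is a largest open subspace on which `a` has `P` -/
def MaxP (P : MorphismProperty (AlgSp.Sp S)) {X Y : AlgSp.Space S} (a : X ⟶ Y) {W : AlgSp.Space S} (w : W ⟶ X) :
    Prop :=
  AlgSp.RepWith @IsOpenImmersion w.hom ∧ P (w ≫ a).hom ∧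
    ∀ (W₁ : AlgSp.Space S) (w₁ : W₁ ⟶ X), AlgSp.RepWith @IsOpenImmersion w₁.hom → P (w₁ ≫ a).hom →
      ∃ k : W₁ ⟶ W, k ≫ w = w₁

theorem MaxP.range_eq {X Y : AlgSp.Space S} {a : X ⟶ Y} {W W' : AlgSp.Space S} {w : W ⟶ X} {w' : W' ⟶ X}
    (h : MaxP P a w) (h' : MaxP P a w') :
    Set.range (AlgSp.Points.map w.hom) = Set.range (AlgSp.Points.map w'.hom) := by
  have key : ∀ {V V' : AlgSp.Space S} {v : V ⟶ X} {v' : V' ⟶ X}, MaxP P a v → MaxP P a v' →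
      Set.range (AlgSp.Points.map v'.hom) ⊆ Set.range (AlgSp.Points.map v.hom) := fun hv hv' => by
    obtain ⟨k, hk⟩ := hv.2.2 _ _ hv'.1 hv'.2.1
    rintro _ ⟨x, rfl⟩
    exact ⟨AlgSp.Points.map k.hom x, by rw [← AlgSp.Points.map_comp, ← hk]; rfl⟩
  exact Set.Subset.antisymm (key h' h) (key h h')

/-- the hypotheses -/
structure LocusHyp (P Q R : MorphismProperty (AlgSp.Sp S)) : Prop where
  hPb : BCStable P
  hQb : BCStable Q
  hRb : BCStable R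
  hP : IsLocalOnBase (IsFppfCover (S := S)) P
  hQ : IsLocalOnBase (IsFppfCover (S := S)) Q
  hR : IsLocalOnBase (IsFppfCover (S := S)) R
  sm : ∀ (X Y : AlgSp.Space S) (g : X ⟶ Y), AlgSp.LocP @Smooth g.hom → R g.hom
  ex : ∀ (X Y : AlgSp.Space S) (f : X ⟶ Y), Q f.hom → ∃ (W : AlgSp.Space S) (w : W ⟶ X), MaxP P f w
  bc : ∀ (X Y X' Y' : AlgSp.Space S) (f : X ⟶ Y) (g : Y' ⟶ Y) (f' : X' ⟶ Y') (g' : X' ⟶ X),
      IsPullback g'.hom f'.hom f.hom g.hom → Q f.hom → R g.hom →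
      ∀ (W : AlgSp.Space S) (w : W ⟶ X), MaxP P f w →
        ∀ (W' : AlgSp.Space S) (w' : W' ⟶ X') (k : W' ⟶ W), IsPullback k.hom w'.hom w.hom g'.hom → MaxP P f' w'

/-- a model of a base change of `f` -/
structure Mdl (f : 𝒳 ⥤ᵇ 𝒴) {T : AlgSp.Space S} (t : AlgSt.ofSp T.obj ⥤ᵇ 𝒴) where
  A : AlgSp.Space S
  a : A ⟶ T
  e : AlgSt.ofSp A.obj ⥤ᵇ FibCat.fp t f
  he : FibCat.IsEquivOver e
  pr : a.hom.hom = prjMap e

variable {T T' : AlgSp.Space S} {t : AlgSt.ofSp T.obj ⥤ᵇ 𝒴} {t' : AlgSt.ofSp T'.obj ⥤ᵇ 𝒴}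

theorem exists_mdl (H : LocusHyp P Q R) (h𝒳 : FibCat.IsFibGrpd 𝒳.p) (h𝒴 : FibCat.IsFibGrpd 𝒴.p)
    (hf : RepByAlgSpWith Q f) (t : AlgSt.ofSp T.obj ⥤ᵇ 𝒴) : Nonempty (Mdl f t) := by
  obtain ⟨A, a, e, he, ha, -⟩ := exists_model_space H.hQb H.hQ h𝒳 h𝒴 hf T t
  exact ⟨⟨A, a, e, he, ha⟩⟩

theorem Mdl.prop (m : Mdl f t) {Q : MorphismProperty (AlgSp.Sp S)} (hb : BCStable Q)
    (hl : IsLocalOnBase (IsFppfCover (S := S)) Q) (hf : RepByAlgSpWith Q f) : Q m.a.hom :=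
  prop_prjMap hb hl hf m.he m.a m.pr

/-- the points of a model -/
def Mdl.pts (m : Mdl f t) (x : AlgSp.Points m.A.obj) : AlgSt.Points (FibCat.fp t f) :=
  AlgSt.Points.map m.e (stPts m.A.obj x)

theorem Mdl.bijective_pts (m : Mdl f t) : Function.Bijective m.pts :=
  (bijective_map_of_equiv m.he).comp (bijective_stPts _)

/-- the points of the fibre product given by an open subspace of a model -/
def Mdl.ptSet (m : Mdl f t) {W : AlgSp.Space S} (w : W ⟶ m.A) : Set (AlgSt.Points (FibCat.fp t f)) :=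
  m.pts '' Set.range (AlgSp.Points.map w.hom)

/-- the set of points cutting out the largest open subspace after base change to `t` -/
def IsMaxOn (P : MorphismProperty (AlgSp.Sp S)) (f : 𝒳 ⥤ᵇ 𝒴) (O : Set (AlgSt.Points 𝒳))
    {T : AlgSp.Space S} (t : AlgSt.ofSp T.obj ⥤ᵇ 𝒴) : Prop :=
  ∀ (m : Mdl f t) (W : AlgSp.Space S) (w : W ⟶ m.A), MaxP P m.a w →
    m.ptSet w = AlgSt.Points.map (FibCat.fpSnd t f) ⁻¹' O

/-- change of the base of a fibre product -/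
abbrev bcFun (f : 𝒳 ⥤ᵇ 𝒴) (K : AlgSt.ofSp T'.obj ⥤ᵇ AlgSt.ofSp T.obj) (i : BasedFunctor.comp K t ≅ t') :
    FibCat.fp t' f ⥤ᵇ FibCat.fp t f :=
  fpMap (F := t) (G := f) t' f K (BasedFunctor.id 𝒳) (BasedFunctor.id 𝒴) i.symm (Iso.refl _)

set_option maxHeartbeats 1000000 in
/-- models of base changes form pullback squares -/
theorem exists_bc (K : AlgSt.ofSp T'.obj ⥤ᵇ AlgSt.ofSp T.obj) (k : T' ⟶ T) (hk : k.hom.hom = mapOf K)
    (i : BasedFunctor.comp K t ≅ t') (m : Mdl f t) (m' : Mdl f t') :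
    ∃ g : m'.A ⟶ m.A, IsPullback g.hom m'.a.hom m.a.hom k.hom ∧
      ∀ x, m.pts (AlgSp.Points.map g.hom x) = AlgSt.Points.map (bcFun f K i) (m'.pts x) := by
  haveI : (BasedFunctor.id (AlgSt.ofSp T.obj)).toFunctor.Full := inferInstanceAs (𝟭 _).Full
  haveI : (BasedFunctor.id (AlgSt.ofSp T.obj)).toFunctor.Faithful := inferInstanceAs (𝟭 _).Faithful
  haveI : (BasedFunctor.id 𝒴).toFunctor.Full := inferInstanceAs (𝟭 _).Full
  haveI : (BasedFunctor.id 𝒴).toFunctor.Faithful := inferInstanceAs (𝟭 _).Faithful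
  let G := bcFun f K i
  let Pα := BasedFunctor.comp (pasteFun K t f) (fpMap (F := t') (G := f) (BasedFunctor.comp K t) f
    (BasedFunctor.id _) (BasedFunctor.id _) (BasedFunctor.id _) i (Iso.refl _))
  have hPα : FibCat.IsEquivOver Pα := isEquivOver_comp (isEquivOver_pasteFun K t f)
    (isEquivOver_fpMap _ _ _ _ _ _ _ isEquivOver_id isEquivOver_id)
  let iJ : BasedFunctor.comp Pα G ≅ FibCat.fpSnd K (FibCat.fpFst t f) :=
    fpExt (FibCat.fpIso K (FibCat.fpFst t f)) (Iso.refl _) fun o => by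
      show t.map o.obj.iso.hom ≫ o.obj.snd.obj.iso.hom = (i.hom.toNatTrans.app o.obj.fst ≫
        (i.inv.toNatTrans.app o.obj.fst ≫ (t.map o.obj.iso.hom ≫ o.obj.snd.obj.iso.hom) ≫ 𝟙 _) ≫ 𝟙 _) ≫ f.map (𝟙 _)
      have hi : i.hom.toNatTrans.app o.obj.fst ≫ i.inv.toNatTrans.app o.obj.fst = 𝟙 _ :=
        congrArg (fun n => n.toNatTrans.app o.obj.fst) i.hom_inv_id
      rw [CategoryTheory.Functor.map_id, Category.comp_id, Category.comp_id, Category.comp_id, ← Category.assoc, hi]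
      exact (Category.id_comp _).symm
  -- a model by pullback
  have sqS := IsPullback.of_hasPullback m.a.hom k.hom
  have sq := (sqS.map (sheafToPresheaf (J S) (Type (u + 1)))).flip
  let M := fpMap (F := K) (G := FibCat.fpFst t f) (Stk.ofPshMap k.hom.hom) (Stk.ofPshMap m.a.hom.hom)
    (BasedFunctor.id _) m.e (BasedFunctor.id _)
    (show BasedFunctor.comp (Stk.ofPshMap k.hom.hom) (BasedFunctor.id _) ≅ BasedFunctor.comp (BasedFunctor.id _) K from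
      eqToIso (congrArg Stk.ofPshMap hk) ≪≫ mapOfIso K)
    (show BasedFunctor.comp (Stk.ofPshMap m.a.hom.hom) (BasedFunctor.id _) ≅ BasedFunctor.comp m.e (FibCat.fpFst t f) from
      eqToIso (congrArg Stk.ofPshMap m.pr) ≪≫ mapOfIso (BasedFunctor.comp m.e (FibCat.fpFst t f)))
  have hM : FibCat.IsEquivOver M := isEquivOver_fpMap _ _ _ _ _ _ _ isEquivOver_id m.he
  let e₀ := BasedFunctor.comp (BasedFunctor.comp (pbFun sq.toCommSq) M) Pα
  have he₀ : FibCat.IsEquivOver e₀ := isEquivOver_comp (isEquivOver_comp (isEquivOver_pbFun sq) hM) hPα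
  obtain ⟨k₀, hk₀, ⟨j₀⟩, ⟨j₁⟩⟩ := isEquivOver_symm m.he
  let Φ := BasedFunctor.comp G k₀
  let g : m'.A ⟶ m.A := ObjectProperty.homMk (ObjectProperty.homMk (mapOf (BasedFunctor.comp m'.e Φ)))
  obtain ⟨ii, hii⟩ := exists_iso_of_models he₀ m'.he
  have h₁ : mapOf (BasedFunctor.comp e₀ Φ) = (pullback.fst m.a.hom k.hom).hom :=
    (mapOf_congr ((post _ k₀).mapIso ((Stk.restr (BasedFunctor.comp (pbFun sq.toCommSq) M) _).mapIso iJ) ≪≫
      (Stk.restr (Stk.ofPshMap (pullback.fst m.a.hom k.hom).hom) _).mapIso j₀)).trans (mapOf_ofPshMap _)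
  have h₂ : mapOf (BasedFunctor.comp e₀ (FibCat.fpFst t' f)) = (pullback.snd m.a.hom k.hom).hom :=
    mapOf_ofPshMap _
  refine ⟨g, ?_, fun x => ?_⟩
  · let iS := (fullyFaithfulSheafToPresheaf (J S) (Type (u + 1))).preimageIso
      (X := m'.A.obj) (Y := pullback m.a.hom k.hom) ii
    refine IsPullback.of_iso sqS iS.symm (Iso.refl _) (Iso.refl _) (Iso.refl _) ?_ ?_ (by simp) (by simp)
    · simp only [Iso.refl_hom, Category.comp_id, Iso.symm_hom]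
      rw [Iso.eq_inv_comp]
      refine ObjectProperty.hom_ext _ ?_
      show ii.hom ≫ (pullback.fst m.a.hom k.hom).hom = g.hom.hom
      rw [← h₁]
      exact hii Φ
    · simp only [Iso.refl_hom, Category.comp_id, Iso.symm_hom]
      rw [Iso.eq_inv_comp]
      refine ObjectProperty.hom_ext _ ?_
      show ii.hom ≫ (pullback.snd m.a.hom k.hom).hom = m'.a.hom.hom
      rw [← h₂, m'.pr]
      exact hii _
  · show AlgSt.Points.map m.e _ = AlgSt.Points.map G (AlgSt.Points.map m'.e _)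
    rw [show stPts m.A.obj (AlgSp.Points.map g.hom x) = AlgSt.Points.map (BasedFunctor.comp m'.e Φ) (stPts m'.A.obj x) from
      (map_eq_stPts _ x).symm, ← map_comp_points, ← map_comp_points]
    exact map_congr_points ((Stk.restr (BasedFunctor.comp m'.e G) _).mapIso j₁) _

theorem preimage_ptSet (H : LocusHyp P Q R) (hf : RepByAlgSpWith Q f)
    (K : AlgSt.ofSp T'.obj ⥤ᵇ AlgSt.ofSp T.obj) (k : T' ⟶ T) (hk : k.hom.hom = mapOf K) (hR : R k.hom)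
    (i : BasedFunctor.comp K t ≅ t') (m : Mdl f t) (m' : Mdl f t') {W W' : AlgSp.Space S} {w : W ⟶ m.A}
    (hw : MaxP P m.a w) {w' : W' ⟶ m'.A} (hw' : MaxP P m'.a w') :
    AlgSt.Points.map (bcFun f K i) ⁻¹' m.ptSet w = m'.ptSet w' := by
  obtain ⟨g, sq, hg⟩ := exists_bc K k hk i m m'
  have sqW := IsPullback.of_hasPullback w.hom g.hom
  let W₂ : AlgSp.Space S := ⟨pullback w.hom g.hom,
    isAlgSpace_of_isPullback_space m.A.property W.property m'.A.property sqW⟩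
  let w₂ : W₂ ⟶ m'.A := ObjectProperty.homMk (pullback.snd w.hom g.hom)
  let k₂ : W₂ ⟶ W := ObjectProperty.homMk (pullback.fst w.hom g.hom)
  have hw₂ : MaxP P m'.a w₂ := H.bc _ _ _ _ m.a k m'.a g sq (m.prop H.hQb H.hQ hf) hR W w hw W₂ w₂ k₂ sqW
  ext p
  obtain ⟨x, rfl⟩ := m'.bijective_pts.2 p
  rw [Set.mem_preimage, ← hg]
  rw [Mdl.ptSet, Mdl.ptSet, m.bijective_pts.1.mem_set_image, m'.bijective_pts.1.mem_set_image, ← hw₂.range_eq hw']
  constructor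
  · rintro ⟨y, hy⟩
    obtain ⟨z, -, hz⟩ := exists_point_of_isPullback sqW y x hy
    exact ⟨z, hz⟩
  · rintro ⟨z, rfl⟩
    exact ⟨AlgSp.Points.map (pullback.fst w.hom g.hom) z, by
      rw [← AlgSp.Points.map_comp, show w₂.hom = pullback.snd w.hom g.hom from rfl, ← AlgSp.Points.map_comp, sqW.w]⟩

/-- maximality is stable under base change with `R` -/
theorem IsMaxOn.baseChange (H : LocusHyp P Q R) (h𝒳 : FibCat.IsFibGrpd 𝒳.p) (h𝒴 : FibCat.IsFibGrpd 𝒴.p)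
    (hf : RepByAlgSpWith Q f) {O : Set (AlgSt.Points 𝒳)} (hO : IsMaxOn P f O t)
    (K : AlgSt.ofSp T'.obj ⥤ᵇ AlgSt.ofSp T.obj) (k : T' ⟶ T) (hk : k.hom.hom = mapOf K) (hR : R k.hom)
    (i : BasedFunctor.comp K t ≅ t') : IsMaxOn P f O t' := fun m' W' w' hw' => by
  obtain ⟨m⟩ := exists_mdl H h𝒳 h𝒴 hf t
  obtain ⟨W, w, hw⟩ := H.ex _ _ m.a (m.prop H.hQb H.hQ hf)
  rw [← preimage_ptSet H hf K k hk hR i m m' hw hw', hO m W w hw]
  ext p
  obtain ⟨q, rfl⟩ := AlgSt.Points.mk_surjective p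
  rfl

set_option maxHeartbeats 1000000 in
/-- points of a fibre product with the same second projection come from a pair -/
theorem exists_pair_point (h𝒳 : FibCat.IsFibGrpd 𝒳.p) (h𝒴 : FibCat.IsFibGrpd 𝒴.p) {V B : AlgSp.Space S}
    (y : AlgSt.ofSp V.obj ⥤ᵇ 𝒴) (eB : AlgSt.ofSp B.obj ⥤ᵇ FibCat.fp y y) (heB : FibCat.IsEquivOver eB)
    (p q : AlgSt.Points (FibCat.fp y f))
    (h : AlgSt.Points.map (FibCat.fpSnd y f) p = AlgSt.Points.map (FibCat.fpSnd y f) q) :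
    ∃ ζ : AlgSt.Points (FibCat.fp (BasedFunctor.comp (BasedFunctor.comp eB (FibCat.fpFst y y)) y) f),
      AlgSt.Points.map (bcFun f (BasedFunctor.comp eB (FibCat.fpFst y y)) (Iso.refl _)) ζ = p ∧
      AlgSt.Points.map (bcFun f (BasedFunctor.comp eB (FibCat.fpSnd y y))
        ((Stk.restr eB _).mapIso (FibCat.fpIso y y).symm)) ζ = q := by
  have hF := isFibGrpd_fp (isFibGrpd_ofSpace V.obj.obj) h𝒳 h𝒴 y f
  obtain ⟨p, rfl⟩ := AlgSt.Points.mk_surjective p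
  obtain ⟨q, rfl⟩ := AlgSt.Points.mk_surjective q
  obtain ⟨r, m, n, -⟩ := (mk_eq_iff h𝒳).1 h
  have lift : ∀ (p : AlgSt.FPt (FibCat.fp y f)) (m : r.obj ⟶ (AlgSt.FPt.map (FibCat.fpSnd y f) p).obj),
      ∃ (p₁ : (FibCat.fp y f).obj) (_ : p₁ ⟶ p.obj) (χ : r.obj ⟶ p₁.obj.snd)
        (_ : (FibCat.fp y f).p.obj p₁ = 𝒳.p.obj r.obj), IsIso χ ∧ ∃ h, 𝒳.p.map χ = eqToHom h := fun p m => by
    obtain ⟨p₁, φ, hp₁, hφ⟩ := exists_lift hF (x := p.obj) (𝒳.p.map m ≫ eqToHom ((FibCat.fpSnd y f).w_obj p.obj))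
    obtain ⟨χ, ⟨hχ, -⟩, -⟩ := existsUnique_cart h𝒳 φ.hom.snd m (eqToHom (hp₁.symm.trans ((FibCat.fpSnd y f).w_obj p₁).symm)) (by
      rw [map_snd φ, show (AlgSt.ofSp V.obj).p.map φ.hom.fst = _ from hφ]
      simp)
    haveI : IsIso (𝒳.p.map χ) := by rw [hχ]; infer_instance
    exact ⟨p₁, φ, χ, hp₁, Groth.Agent.FibCatRep.isIso_of_map h𝒳 χ, _, hχ⟩
  obtain ⟨p₁, φp, χ, hp₁, hχi, hb₁, hχ⟩ := lift p m
  obtain ⟨q₁, φq, ψ, hq₁, hψi, hb₂, hψ⟩ := lift q n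
  let φ : p₁.obj.snd ≅ q₁.obj.snd := (asIso χ).symm ≪≫ asIso ψ
  have hφ : 𝒳.p.map φ.hom = eqToHom (hb₁.symm.trans hb₂) := by
    show 𝒳.p.map (inv χ ≫ ψ) = _
    rw [Functor.map_comp, Functor.map_inv, hψ]
    simp [hχ, inv_eqToHom]
  obtain ⟨e₁, he₁⟩ := map_iso_hom p₁
  obtain ⟨e₂, he₂⟩ := map_iso_hom q₁
  have hfφ : 𝒴.p.map (f.map φ.hom) = eqToHom ((f.w_obj _).trans ((hb₁.symm.trans hb₂).trans (f.w_obj _).symm)) := by
    rw [map_map f φ.hom, hφ]; simp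
  let η : (FibCat.fp y y).obj := ⟨⟨p₁.obj.fst, q₁.obj.fst, p₁.obj.iso ≪≫ f.toFunctor.mapIso φ ≪≫ q₁.obj.iso.symm⟩, by
    refine fpProp_of_map y y _ (((y.w_obj _).trans (hp₁.trans hq₁.symm)).trans (y.w_obj _).symm) ?_
    show 𝒴.p.map (p₁.obj.iso.hom ≫ f.map φ.hom ≫ q₁.obj.iso.inv) = _
    rw [Functor.map_comp, Functor.map_comp, he₁, hfφ, ← IsIso.Iso.inv_hom q₁.obj.iso, map_inv_of_eqToHom _ he₂]
    exact (congrArg (eqToHom e₁ ≫ ·) (eqToHom_trans _ _)).trans (eqToHom_trans _ _)⟩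
  obtain ⟨b, eb, hb, heb⟩ := (isEquivOver_data heB).2 η
  let K₁ := BasedFunctor.comp eB (FibCat.fpFst y y)
  let eb₁ : (eB.obj b).obj.fst ≅ p₁.obj.fst := (FibCat.fpFst y y).toFunctor.mapIso eb
  let eb₂ : (eB.obj b).obj.snd ≅ q₁.obj.fst := (FibCat.fpSnd y y).toFunctor.mapIso eb
  have wb : y.map eb₁.hom ≫ p₁.obj.iso.hom ≫ f.map φ.hom ≫ q₁.obj.iso.inv = (eB.obj b).obj.iso.hom ≫ y.map eb₂.hom :=
    eb.hom.hom.w
  have hb₀ : (AlgSt.ofSp B.obj).p.obj b = (AlgSt.ofSp V.obj).p.obj p₁.obj.fst := (eB.w_obj b).symm.trans hb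
  obtain ⟨d, hd⟩ : ∃ d, 𝒴.p.map (y.map eb₁.hom) = eqToHom d := by
    refine ⟨(y.w_obj _).trans ((show (AlgSt.ofSp V.obj).p.obj (eB.obj b).obj.fst = (AlgSt.ofSp V.obj).p.obj p₁.obj.fst from hb).trans (y.w_obj _).symm), ?_⟩
    rw [map_map y eb₁.hom, show (AlgSt.ofSp V.obj).p.map eb₁.hom = _ from heb]
    simp
  let z : (FibCat.fp (BasedFunctor.comp K₁ y) f).obj := ⟨⟨b, p₁.obj.snd, y.toFunctor.mapIso eb₁ ≪≫ p₁.obj.iso⟩, by
    refine fpProp_of_map (BasedFunctor.comp K₁ y) f _ (d.trans e₁) ?_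
    show 𝒴.p.map (y.map eb₁.hom ≫ p₁.obj.iso.hom) = _
    rw [Functor.map_comp, hd, he₁]
    simp⟩
  let ζ : AlgSt.FPt (FibCat.fp (BasedFunctor.comp K₁ y) f) :=
    { K := r.K, str := r.str, obj := z, lies := hb₀.trans (hp₁.trans r.lies) }
  refine ⟨AlgSt.Points.mk ζ, ?_, ?_⟩
  · rw [AlgSt.Points.map_mk]
    refine (mk_eq_of_hom (q := ζ.map (bcFun f K₁ (Iso.refl _))) (?_ ≫ φp : _ ⟶ p.obj))
    refine ObjectProperty.homMk ⟨eb₁.hom, 𝟙 _, ?_⟩
    show y.map eb₁.hom ≫ p₁.obj.iso.hom = (𝟙 _ ≫ (y.map eb₁.hom ≫ p₁.obj.iso.hom) ≫ 𝟙 _) ≫ f.map (𝟙 _)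
    simp only [CategoryTheory.Functor.map_id, Category.id_comp, Category.comp_id]
  · rw [AlgSt.Points.map_mk]
    refine (mk_eq_of_hom (q := ζ.map (bcFun f (BasedFunctor.comp eB (FibCat.fpSnd y y))
      ((Stk.restr eB _).mapIso (FibCat.fpIso y y).symm))) (?_ ≫ φq : _ ⟶ q.obj))
    refine ObjectProperty.homMk ⟨eb₂.hom, φ.hom, ?_⟩
    show y.map eb₂.hom ≫ q₁.obj.iso.hom =
      ((eB.obj b).obj.iso.inv ≫ (y.map eb₁.hom ≫ p₁.obj.iso.hom) ≫ 𝟙 _) ≫ f.map φ.hom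
    rw [Category.comp_id, Category.assoc, Category.assoc, ← cancel_epi (eB.obj b).obj.iso.hom, Iso.hom_inv_id_assoc,
      ← reassoc_of% wb, Iso.inv_hom_id, Category.comp_id]

theorem isOpen_range_of_openImm {X W : AlgSp.Space S} (w : W ⟶ X) (hw : AlgSp.RepWith @IsOpenImmersion w.hom) :
    IsOpen (Set.range (AlgSp.Points.map w.hom)) := by
  have : Mono w.hom := mono_of_repWith_immersion (AlgSpLib.repWith_mono (P := @IsOpenImmersion) (Q := @IsImmersion)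
    (fun _ _ g hg => have : IsOpenImmersion g := hg; inferInstance) hw)
  exact (exists_iso_subSheaf_of_mono W.property X.property w.hom (isEtaleMor_of_repWith'
    (AlgSpLib.repWith_mono (P := @IsOpenImmersion) (Q := @Etale)
      (fun _ _ g hg => have : IsOpenImmersion g := hg; inferInstance) hw))).1

theorem isOpen_ptSet (m : Mdl f t) {W : AlgSp.Space S} (w : W ⟶ m.A) (hw : AlgSp.RepWith @IsOpenImmersion w.hom) :
    IsOpen (m.ptSet w) :=
  ((isHomeomorph_map_of_equiv m.he (isAlgStack_ofSp m.A)).comp (isHomeomorph_stPts m.A)).isOpenMap _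
    (isOpen_range_of_openImm w hw)

/-- a set of points for an atlas of the target -/
theorem exists_isMaxOn (H : LocusHyp P Q R) (h𝒳 : AS 𝒳) (h𝒴 : AS 𝒴) (hf : RepByAlgSpWith Q f)
    {V : AlgSp.Space S} (y : AlgSt.ofSp V.obj ⥤ᵇ 𝒴) (hy : RepByAlgSpWith (LocP @Smooth) y) :
    ∃ O, IsOpen O ∧ IsMaxOn P f O y := by
  obtain ⟨m⟩ := exists_mdl H h𝒳.isStack.1 h𝒴.isStack.1 hf y
  obtain ⟨W, w, hw⟩ := H.ex _ _ m.a (m.prop H.hQb H.hQ hf)
  have hA : AS (FibCat.fp y f) := isAlgStack_fp_of _ (isAlgStack_ofSp V) h𝒳 h𝒴 y f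
  let O := AlgSt.Points.map (FibCat.fpSnd y f) '' m.ptSet w
  refine ⟨O, isOpenMap_map_of_smooth hA h𝒳 (repWith_fpSnd _ y f hy) _ (isOpen_ptSet m w hw.1), ?_⟩
  obtain ⟨B, k₁, eB, heB, hk₁, hsm₁⟩ := exists_model_space cls_smooth.bc cls_smooth.loc (isFibGrpd_ofSpace _)
    h𝒴.isStack.1 hy V y
  let k₂ : B ⟶ V := ObjectProperty.homMk (ObjectProperty.homMk (mapOf (BasedFunctor.comp eB (FibCat.fpSnd y y))))
  have hsm₂ : LocP @Smooth k₂.hom := prop_prjMap cls_smooth.bc cls_smooth.loc hy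
    (e := BasedFunctor.comp eB (swapFun y y)) (isEquivOver_comp heB (isEquivOver_swapFun y y)) k₂ rfl
  obtain ⟨mB⟩ := exists_mdl H h𝒳.isStack.1 h𝒴.isStack.1 hf (BasedFunctor.comp (BasedFunctor.comp eB (FibCat.fpFst y y)) y)
  obtain ⟨WB, wB, hwB⟩ := H.ex _ _ mB.a (mB.prop H.hQb H.hQ hf)
  have h₁ := preimage_ptSet H hf _ k₁ hk₁ (H.sm _ _ _ hsm₁) (Iso.refl _) m mB hw hwB
  have h₂ := preimage_ptSet H hf (BasedFunctor.comp eB (FibCat.fpSnd y y)) k₂ rfl (H.sm _ _ _ hsm₂)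
    ((Stk.restr eB _).mapIso (FibCat.fpIso y y).symm) m mB hw hwB
  have hsat : m.ptSet w = AlgSt.Points.map (FibCat.fpSnd y f) ⁻¹' O := by
    refine Set.Subset.antisymm (Set.subset_preimage_image _ _) fun q ⟨p, hp, hpq⟩ => ?_
    obtain ⟨ζ, hζ₁, hζ₂⟩ := exists_pair_point h𝒳.isStack.1 h𝒴.isStack.1 y eB heB p q hpq
    have : ζ ∈ mB.ptSet wB := h₁ ▸ show _ ∈ m.ptSet w from hζ₁ ▸ hp
    rw [← h₂, Set.mem_preimage, hζ₂] at this
    exact this
  intro m' W' w' hw'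
  have hid : R (𝟙 V : V ⟶ V).hom := H.sm _ _ _ (locP_mono (fun _ _ r hr => by haveI : Etale r := hr; infer_instance) _
    ((isEtaleMor_iff_locP V.property).1 (isEtaleMor_of_repWith' ((AlgSp.RepWith @Etale).id_mem V.obj))))
  rw [← preimage_ptSet H hf (BasedFunctor.id _) (𝟙 V) (mapOf_ofPshMap (𝟙 V.obj.obj)).symm hid (Iso.refl _) m m' hw hw', hsat]
  ext p
  obtain ⟨p, rfl⟩ := AlgSt.Points.mk_surjective p
  rfl

/-- open substacks on models -/
theorem exists_open_model (h𝒳 : AS 𝒳) {O : Set (AlgSt.Points 𝒳)} (hO : IsOpen O) (m : Mdl f t) :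
    ∃ (W : AlgSp.Space S) (w : W ⟶ m.A), AlgSp.RepWith @IsOpenImmersion w.hom ∧
      m.ptSet w = AlgSt.Points.map (FibCat.fpSnd t f) ⁻¹' O ∧
      ∃ L : AlgSt.ofSp W.obj ⥤ᵇ FibCat.fp t (BasedFunctor.comp (AlgSt.subIncl 𝒳 (InSet O)) f),
        FibCat.IsEquivOver L ∧ (w ≫ m.a).hom.hom = prjMap L := by
  let j := AlgSt.subIncl 𝒳 (InSet O)
  obtain ⟨hiso, hA, hj⟩ := isOpenSubstack_inSet h𝒳 hO
  haveI : (BasedFunctor.id 𝒳).toFunctor.Full := inferInstanceAs (𝟭 _).Full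
  haveI : (BasedFunctor.id 𝒳).toFunctor.Faithful := inferInstanceAs (𝟭 _).Faithful
  let u := BasedFunctor.comp m.e (FibCat.fpSnd t f)
  obtain ⟨W, w, e, he, hpr, hw⟩ := exists_model_space (bcStable_repWith @IsOpenImmersion)
    (isLocalOnBase_fppf (Groth.Agent.AlgSpLib.isLocalOnBase_repWith @IsOpenImmersion (fun _ _ r hr => by
      have : IsOpenImmersion r := hr
      exact Groth.Agent.QA.IndQA.of_isImmersion r))) hA.isStack.1 h𝒳.isStack.1 hj m.A u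
  let M := fpMap (F := FibCat.fpSnd t f) (G := j) u j m.e (BasedFunctor.id _) (BasedFunctor.id _) (Iso.refl _) (Iso.refl _)
  let L := BasedFunctor.comp (BasedFunctor.comp e M) (assocFun t f j)
  have hL : FibCat.IsEquivOver L := isEquivOver_comp (isEquivOver_comp he
    (isEquivOver_fpMap _ _ _ _ _ _ _ m.he isEquivOver_id)) (isEquivOver_assocFun t f j)
  refine ⟨W, w, hw, ?_, L, hL, ?_⟩
  · have hwp : ∀ z, stPts m.A.obj (AlgSp.Points.map w.hom z) =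
        AlgSt.Points.map (FibCat.fpFst u j) (AlgSt.Points.map e (stPts W.obj z)) := fun z => by
      rw [← map_comp_points, map_eq_stPts]
      exact congrArg (fun k : W.obj ⟶ m.A.obj => stPts _ (AlgSp.Points.map k z)) (ObjectProperty.hom_ext _ hpr)
    ext p
    obtain ⟨x, rfl⟩ := m.bijective_pts.2 p
    rw [Mdl.ptSet, m.bijective_pts.1.mem_set_image, Set.mem_preimage, Mdl.pts, ← map_comp_points]
    constructor
    · rintro ⟨z, rfl⟩
      rw [hwp, ← map_comp_points, map_congr_points (FibCat.fpIso u j), map_comp_points]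
      exact (range_subIncl_inSet O).le ⟨_, rfl⟩
    · intro hx
      obtain ⟨q, hq⟩ := (range_subIncl_inSet O).ge hx
      obtain ⟨v, hv, -⟩ := exists_points_fp hA.isStack.1 h𝒳.isStack.1 (isFibGrpd_ofSpace _) j u
        (stPts m.A.obj x) q hq.symm
      obtain ⟨z, rfl⟩ := ((bijective_map_of_equiv he).comp (bijective_stPts _)).2 v
      exact ⟨z, (bijective_stPts _).1 ((hwp z).trans hv)⟩
  · rw [show (w ≫ m.a).hom.hom = w.hom.hom ≫ m.a.hom.hom from rfl, hpr, m.pr]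
    exact (mapOf_comp (BasedFunctor.comp e (FibCat.fpFst u j)) (BasedFunctor.comp m.e (FibCat.fpFst t f))).symm

/-- the substack on a maximal set of points is the largest one -/
theorem largest_of_isMaxOn (H : LocusHyp P Q R) (h𝒳 : AS 𝒳) (h𝒴 : AS 𝒴) (hf : RepByAlgSpWith Q f)
    {V : AlgSp.Space S} (y : AlgSt.ofSp V.obj ⥤ᵇ 𝒴) (hy : RepByAlgSpWith (LocP @Smooth) y)
    (hy' : RepByAlgSpWith AlgSp.IsSurjectiveMor y) {O : Set (AlgSt.Points 𝒳)} (hO : IsOpen O)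
    (hmax : IsMaxOn P f O y) :
    RepByAlgSpWith P (BasedFunctor.comp (AlgSt.subIncl 𝒳 (InSet O)) f) ∧
      ∀ Q₁ : 𝒳.obj → Prop, AlgSt.IsOpenSubstack 𝒳 Q₁ Scheme.fppfPrecoverage →
        RepByAlgSpWith P (BasedFunctor.comp (AlgSt.subIncl 𝒳 Q₁) f) → ∀ a, Q₁ a → InSet O a := by
  obtain ⟨m⟩ := exists_mdl H h𝒳.isStack.1 h𝒴.isStack.1 hf y
  obtain ⟨W, w, hw⟩ := H.ex _ _ m.a (m.prop H.hQb H.hQ hf)
  have hS := hmax m W w hw
  refine ⟨?_, fun Q₁ hQ₁ hP₁ a ha => ?_⟩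
  · obtain ⟨W', w', hw', hS', L, hL, hpr⟩ := exists_open_model h𝒳 hO m
    obtain ⟨hiso, hA, hj⟩ := isOpenSubstack_inSet h𝒳 hO
    have hr : Set.range (AlgSp.Points.map w'.hom) = Set.range (AlgSp.Points.map w.hom) :=
      m.bijective_pts.1.image_injective (hS'.trans hS.symm)
    obtain ⟨k, hk⟩ := (exists_factor_iff W.property m.A.property w.hom hw.1 w'.hom).2 hr.le
    obtain ⟨k', hk'⟩ := (exists_factor_iff W'.property m.A.property w'.hom hw' w.hom).2 hr.ge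
    have hm : ∀ {W : AlgSp.Space S} (w : W ⟶ m.A), AlgSp.RepWith @IsOpenImmersion w.hom → Mono w.hom := fun w hw =>
      mono_of_repWith_immersion (AlgSpLib.repWith_mono (P := @IsOpenImmersion) (Q := @IsImmersion)
        (fun _ _ g hg => have : IsOpenImmersion g := hg; inferInstance) hw)
    haveI := hm w hw.1
    haveI := hm w' hw'
    haveI : IsIso k := ⟨k', (cancel_mono w'.hom).1 (by rw [Category.assoc, hk', hk, Category.id_comp]),
      (cancel_mono w.hom).1 (by rw [Category.assoc, hk, hk', Category.id_comp])⟩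
    have hP' : P (w' ≫ m.a).hom := by
      refine H.hPb W.property V.property W'.property V.property (w ≫ m.a).hom (𝟙 _) (w' ≫ m.a).hom k ?_ hw.2.1
      refine IsPullback.of_horiz_isIso ⟨?_⟩
      show k ≫ w.hom ≫ m.a.hom = (w'.hom ≫ m.a.hom) ≫ 𝟙 _
      rw [← Category.assoc, hk, Category.comp_id]
    have hrep : RepByAlgSp1 (BasedFunctor.comp (AlgSt.subIncl 𝒳 (InSet O)) f) :=
      repByAlgSp1_comp hA.isStack.1 h𝒳.isStack.1 (repByAlgSp1_of_with hj) (repByAlgSp1_of_with hf)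
    refine repWith_of_lifts H.hPb H.hP hrep (lifts_of_fppf ?_ ?_ hy') (repWith_fpFst_of_model H.hPb hL (a := w' ≫ m.a) ?_ hP')
    · exact repWith_mono hy fun _ _ a _ ha => locP_mono (fun _ _ r hr => by haveI : Smooth r := hr; infer_instance) a ha
    · exact repWith_mono hy fun _ _ a _ ha => locP_mono (fun _ _ r hr => by haveI : Smooth r := hr; infer_instance) a ha
    · exact (mapOfIso _).symm ≪≫ eqToIso (congrArg Stk.ofPshMap hpr.symm)
  · obtain ⟨hO₁, hQeq⟩ := isOpen_range_and_eq_inSet h𝒳 hQ₁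
    rw [← hQeq] at ha hP₁
    obtain ⟨W₁, w₁, hw₁, hS₁, L, hL, hpr⟩ := exists_open_model h𝒳 hO₁ m
    obtain ⟨k, hk⟩ := hw.2.2 W₁ w₁ hw₁ (prop_prjMap H.hPb H.hP hP₁ hL (w₁ ≫ m.a) hpr)
    have hsub : m.ptSet w₁ ⊆ m.ptSet w := Set.image_mono (by
      rintro _ ⟨x, rfl⟩
      exact ⟨AlgSp.Points.map k.hom x, by rw [← AlgSp.Points.map_comp, ← hk]; rfl⟩)
    intro p hp
    obtain ⟨q, hq⟩ := isSurjective_of_repWith (isFibGrpd_fp (isFibGrpd_ofSpace _) h𝒳.isStack.1 h𝒴.isStack.1 y f)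
      h𝒳.isStack.1 (repWith_fpSnd _ y f hy') (AlgSt.Points.mk p)
    rw [← hq]
    have hq₁ : q ∈ m.ptSet w₁ := hS₁.ge (by rw [Set.mem_preimage, hq]; exact ha p hp)
    exact hS.le (hsub hq₁)

/-- maximal sets of points pull back along maps with `R` -/
theorem largest_baseChange (H : LocusHyp P Q R) (h𝒳 : AS 𝒳) (h𝒴 : AS 𝒴) (h𝒵 : AS 𝒵) (hf : RepByAlgSpWith Q f)
    {V : AlgSp.Space S} (y : AlgSt.ofSp V.obj ⥤ᵇ 𝒴) (hy : RepByAlgSpWith (LocP @Smooth) y)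
    (hy' : RepByAlgSpWith AlgSp.IsSurjectiveMor y) {O : Set (AlgSt.Points 𝒳)} (hO : IsOpen O)
    (hmax : IsMaxOn P f O y) (z : 𝒵 ⥤ᵇ 𝒴) (hz : RepByAlgSpWith R z) :
    RepByAlgSpWith P (BasedFunctor.comp (AlgSt.subIncl (FibCat.fp z f)
        (InSet (AlgSt.Points.map (FibCat.fpSnd z f) ⁻¹' O))) (FibCat.fpFst z f)) ∧
      ∀ Q₁ : (FibCat.fp z f).obj → Prop, AlgSt.IsOpenSubstack (FibCat.fp z f) Q₁ Scheme.fppfPrecoverage →
        RepByAlgSpWith P (BasedFunctor.comp (AlgSt.subIncl (FibCat.fp z f) Q₁) (FibCat.fpFst z f)) →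
          ∀ a, Q₁ a → InSet (AlgSt.Points.map (FibCat.fpSnd z f) ⁻¹' O) a := by
  have hF : AS (FibCat.fp z f) := isAlgStack_fp_of _ h𝒵 h𝒳 h𝒴 z f
  obtain ⟨C, kC, eC, heC, hkC, hR⟩ := exists_model_space H.hRb H.hR h𝒵.isStack.1 h𝒴.isStack.1 hz V y
  let tC := BasedFunctor.comp eC (FibCat.fpSnd y z)
  have htC : RepByAlgSpWith (LocP @Smooth) tC := repWith_comp_of_isEquiv heC (repWith_fpSnd _ y z hy)
  have htC' : RepByAlgSpWith AlgSp.IsSurjectiveMor tC := repWith_comp_of_isEquiv heC (repWith_fpSnd _ y z hy')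
  have h₁ : IsMaxOn P f O (BasedFunctor.comp tC z) := hmax.baseChange H h𝒳.isStack.1 h𝒴.isStack.1 hf
    (BasedFunctor.comp eC (FibCat.fpFst y z)) kC hkC hR ((Stk.restr eC _).mapIso (FibCat.fpIso y z))
  have h₂ : IsMaxOn P (FibCat.fpFst z f) (AlgSt.Points.map (FibCat.fpSnd z f) ⁻¹' O) tC := fun m W w hw => by
    let m' : Mdl f (BasedFunctor.comp tC z) :=
      ⟨m.A, m.a, BasedFunctor.comp m.e (pasteFun tC z f), isEquivOver_comp m.he (isEquivOver_pasteFun tC z f), m.pr⟩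
    have e : ∀ x, m'.pts x = AlgSt.Points.map (pasteFun tC z f) (m.pts x) := fun x => map_comp_points _ _ _
    have hS := h₁ m' W w hw
    ext p
    obtain ⟨x, rfl⟩ := m.bijective_pts.2 p
    rw [Mdl.ptSet, m.bijective_pts.1.mem_set_image, ← m'.bijective_pts.1.mem_set_image, Set.mem_preimage, Set.mem_preimage]
    refine Iff.trans (Iff.of_eq (congrArg (fun s => m'.pts x ∈ s) hS)) ?_
    rw [Set.mem_preimage, e, ← map_comp_points, ← map_comp_points]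
    rfl
  exact largest_of_isMaxOn H hF h𝒵 (repWith_fpFst Q f z hf) tC htC htC'
    (hO.preimage (continuous_map h𝒳 _)) h₂

end Groth.Agent.AlgStLib

end
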