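import Groth.Agent.AlgStLib.QC

/-!
# Local lifts along jointly surjective flat families locally of finite presentation
-/

set_option autoImplicit false
set_option backward.isDefEq.respectTransparency false
set_option backward.isDefEq.respectTransparency.types false
set_option linter.style.haveILetI false
universe u

noncomputable section

namespace Groth.Agent.AlgStLib

open CategoryTheory CategoryTheory.Limits AlgebraicGeometry Opposite Groth.Agent.FibCatRep
  Groth.Agent.FibCat2Misc Groth.Agent.AlgSpLib Groth.Agent.StkBasic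
open _root_.AlgSp _root_.AlgSt

variable {S : Scheme.{u}} {𝒳 𝒴 : AlgSt.Cat S}

/-- maps of slices through representable presheaves -/
def ofOverCatMapIso {W U : Over S} (γ : W ⟶ U) :
    BasedFunctor.comp (AlgSt.ofOverCat W)
        (BasedFunctor.comp (Stk.ofPshMap ((pyon S).map γ)) (AlgSt.toOverCat U)) ≅ AlgSt.overMap γ :=
  BasedNatIso.mkNatIso (NatIso.ofComponents (fun z => Over.isoMk (Iso.refl _)
      (by show 𝟙 _ ≫ z.hom ≫ γ = z.hom ≫ γ; simp))
    (fun {z z'} m => Over.OverMorphism.ext ((Category.comp_id _).trans (Category.id_comp _).symm)))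
    (fun z => IsHomLift.of_fac' _ _ _ rfl rfl (show 𝟙 z.left = _ by simp; rfl))

theorem exists_lift_at (h𝒳 : IsAlgStack Scheme.fppfPrecoverage 𝒳) (h𝒴 : IsAlgStack Scheme.fppfPrecoverage 𝒴)
    (f : 𝒴 ⥤ᵇ 𝒳) (hf₁ : LocQ (LocP @Flat) f) (hf₂ : LocQ (LocP @LocallyOfFinitePresentation) f)
    {U : Over S} (x : FibCat.overCat U ⥤ᵇ 𝒳) (t : ↥U.left)
    (ht : AlgSt.Points.ofChart x t ∈ Set.range (AlgSt.Points.map f)) :
    ∃ (W : Over S) (γ : W ⟶ U), Flat γ.left ∧ LocallyOfFinitePresentation γ.left ∧ t ∈ Set.range γ.left ∧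
      ∃ x' : FibCat.overCat W ⥤ᵇ 𝒴, Nonempty (BasedFunctor.comp x' f ≅ BasedFunctor.comp (AlgSt.overMap γ) x) := by
  let y : AlgSt.ofSp (spOf U).obj ⥤ᵇ 𝒳 := BasedFunctor.comp (AlgSt.toOverCat U) x
  have hU := isAlgStack_spOf U
  have hA := algFp h𝒳 hU h𝒴 y f
  obtain ⟨W, w, hw, hw'⟩ := exists_atlas_sp hA
  let Φ := BasedFunctor.comp w (FibCat.fpFst y f)
  obtain ⟨γ, hγ⟩ := exists_map_eq (ObjectProperty.homMk (mapOf Φ) : (yon S).obj W ⟶ (yon S).obj U)
  let Γ : spOf W ⟶ spOf U := ObjectProperty.homMk ((yon S).map γ)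
  let j : Φ ≅ AlgSt.ofSpMap Γ.hom := (mapOfIso Φ).symm ≪≫
    eqToIso (congrArg (fun r : (yon S).obj W ⟶ (yon S).obj U => Stk.ofPshMap r.hom) hγ.symm)
  have key : ∀ {P : MorphismProperty Scheme.{u}} (hP : EtST P) (hs : IsSmoothLocalST (LocP (S := S) P))
      (hc : Cls (LocP (S := S) P)), LocQ (LocP P) f → RepByAlgSpWith (LocP P) w → P γ.left := by
    intro P hP hs hc hf hw
    have h₁ : LocQ (LocP P) Φ := locQ_comp hs hc.comp (isAlgStack_spOf W) hA hU
      (locQ_of_repWith hs hc.bc hc.loc (isAlgStack_spOf W) hA hw) (locQ_fpFst_of_bc hs hc.bc h𝒴 h𝒳 hU hf)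
    exact (locP_yon_iff hP γ).1 ((locQ_ofSpMap_iff hs Γ).1 (locQ_congr j.symm h₁))
  refine ⟨W, γ, key etST_flat st_flat cls_flat hf₁ (repWith_flat_of_smooth hw),
    key etST_lfp st_lfp cls_lfp hf₂ (repWith_lfp_of_smooth hw), ?_, ?_⟩
  · obtain ⟨q, hq⟩ := ht
    obtain ⟨t', ht'⟩ : ∃ t' : AlgSt.Points (AlgSt.ofSp (spOf U).obj), t' = stPts _ (AlgSp.Points.ofScheme U t) :=
      ⟨_, rfl⟩
    have hy : AlgSt.Points.map y t' = AlgSt.Points.map f q := by
      rw [hq, ht']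
      rfl
    obtain ⟨p, hp, -⟩ := exists_points_fp h𝒴.isStack.1 h𝒳.isStack.1 hU.isStack.1 f y t' q hy
    obtain ⟨r, rfl⟩ := isSurjective_of_repWith (isFibGrpd_ofSpace _) hA.isStack.1 hw' p
    obtain ⟨r, rfl⟩ := (bijective_stPts _).2 r
    rw [← map_comp_points, map_congr_points j, map_stPts, ht'] at hp
    refine ⟨AlgSp.Points.toScheme W r, ?_⟩
    have h := (bijective_stPts _).1 hp
    rw [← AlgSp.Points.ofScheme_toScheme W r] at h
    have h' : AlgSp.Points.ofPt ((yon S).map γ) (AlgSp.Points.toScheme W r) = AlgSp.Points.ofScheme U t := by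
      rw [← h, AlgSp.Points.map_ofPt, Category.id_comp]
      rfl
    rw [ofScheme_map] at h'
    have h'' := congrArg (AlgSp.Points.toScheme U) h'
    rwa [AlgSp.Points.toScheme_ofScheme, AlgSp.Points.toScheme_ofScheme] at h''
  · exact ⟨BasedFunctor.comp (BasedFunctor.comp (AlgSt.ofOverCat W) w) (FibCat.fpSnd y f),
      ⟨((Stk.restr (BasedFunctor.comp (AlgSt.ofOverCat W) w) _).mapIso (FibCat.fpIso y f)).symm ≪≫
        (post _ y).mapIso ((Stk.restr (AlgSt.ofOverCat W) _).mapIso j) ≪≫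
        (post _ x).mapIso (ofOverCatMapIso γ)⟩⟩

end Groth.Agent.AlgStLib

end
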