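import Groth.Agent.AlgStLib.Points
import Groth.Agent.SmLocalST.Basic

/-!
# Properties read on smooth charts: independence of the charts
-/

set_option autoImplicit false
set_option backward.isDefEq.respectTransparency false
set_option backward.isDefEq.respectTransparency.types false
set_option linter.style.haveILetI false
universe u

noncomputable section

namespace Groth.Agent.AlgStLib

open CategoryTheory CategoryTheory.Limits AlgebraicGeometry Opposite Groth.Agent.FibCatRep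
  Groth.Agent.FibCat2Misc Groth.Agent.AlgSpLib Groth.Agent.StkBasic
open _root_.AlgSp _root_.AlgSt

variable {S : Scheme.{u}} {𝒳 𝒴 : AlgSt.Cat S} {Q : MorphismProperty (Sp S)}

/-- a scheme as an algebraic space -/
abbrev spOf (U : Over S) : AlgSp.Space S := ⟨(yon S).obj U, IsAlgSpace.yon_obj U⟩

/-- base change of a model, with both projections -/
theorem exists_model_baseChange' {f : 𝒳 ⥤ᵇ 𝒴} {A B P P' : PSp S} {y : Stk.ofPsh A ⥤ᵇ 𝒴} (a : B ⟶ A)
    {e : Stk.ofPsh P ⥤ᵇ FibCat.fp y f} (he : FibCat.IsEquivOver e) {fst : P' ⟶ P} {snd : P' ⟶ B}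
    (sq : IsPullback fst snd (prjMap e) a) :
    ∃ e' : Stk.ofPsh P' ⥤ᵇ FibCat.fp (BasedFunctor.comp (Stk.ofPshMap a) y) f,
      FibCat.IsEquivOver e' ∧ prjMap e' = snd ∧
      Nonempty (BasedFunctor.comp e' (FibCat.fpSnd (BasedFunctor.comp (Stk.ofPshMap a) y) f) ≅
        BasedFunctor.comp (Stk.ofPshMap fst) (BasedFunctor.comp e (FibCat.fpSnd y f))) := by
  haveI : (BasedFunctor.id (Stk.ofPsh A)).toFunctor.Full := inferInstanceAs (𝟭 (Stk.EltObj A)).Full
  haveI : (BasedFunctor.id (Stk.ofPsh A)).toFunctor.Faithful := inferInstanceAs (𝟭 (Stk.EltObj A)).Faithful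
  let e₁ := pbFun sq.flip.toCommSq
  let m := fpMap (F := Stk.ofPshMap a) (G := FibCat.fpFst y f) (Stk.ofPshMap a) (Stk.ofPshMap (prjMap e))
    (BasedFunctor.id (Stk.ofPsh B)) e (BasedFunctor.id (Stk.ofPsh A)) (Iso.refl _)
    (mapOfIso (BasedFunctor.comp e (FibCat.fpFst y f)))
  refine ⟨BasedFunctor.comp (BasedFunctor.comp e₁ m) (pasteFun (Stk.ofPshMap a) y f),
    isEquivOver_comp (isEquivOver_comp (isEquivOver_pbFun sq.flip)
      (isEquivOver_fpMap _ _ _ _ _ _ _ isEquivOver_id he)) (isEquivOver_pasteFun _ _ _), ?_, ⟨Iso.refl _⟩⟩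
  ext T x
  exact secOf_ofPshMap snd ⟨T.unop, x⟩

/-- the property of the projection of a model over an algebraic space -/
theorem prop_prjMap (hb : BCStable Q) (hl : IsLocalOnBase (IsFppfCover (S := S)) Q) {f : 𝒳 ⥤ᵇ 𝒴}
    (hf : RepByAlgSpWith Q f) {P W : AlgSp.Space S} {w : AlgSt.ofSp W.obj ⥤ᵇ 𝒴}
    {e : AlgSt.ofSp P.obj ⥤ᵇ FibCat.fp w f} (he : FibCat.IsEquivOver e) (a : P ⟶ W)
    (ha : a.hom.hom = prjMap e) : Q a.hom := by
  haveI := respectsIso_onSp hb
  refine of_repBySpWith hl P.property W.property a.hom fun U ξ P' fst snd sq => ?_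
  rw [ha] at sq
  obtain ⟨b₁, b₂, b₃⟩ := repBySpWith_prjMap (repWith_onSp_iff.2 hf) he ξ fst snd sq
  exact ⟨b₁, b₂, b₃ b₂ (IsAlgSpace.yon_obj U)⟩

/-- models over algebraic spaces -/
theorem exists_model_space (hb : BCStable Q) (hl : IsLocalOnBase (IsFppfCover (S := S)) Q)
    (h𝒳 : FibCat.IsFibGrpd 𝒳.p) (h𝒴 : FibCat.IsFibGrpd 𝒴.p)
    {f : 𝒳 ⥤ᵇ 𝒴} (h : RepByAlgSpWith Q f) (W : AlgSp.Space S) (w : AlgSt.ofSp W.obj ⥤ᵇ 𝒴) :
    ∃ (V : AlgSp.Space S) (a : V ⟶ W) (e : AlgSt.ofSp V.obj ⥤ᵇ FibCat.fp w f),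
      FibCat.IsEquivOver e ∧ a.hom.hom = prjMap e ∧ Q a.hom := by
  obtain ⟨V, a, e, he, ⟨i⟩, ha⟩ := exists_model_of_repWith hb hl h𝒳 h𝒴 h W w
  exact ⟨V, a, e, he, ((mapOf_congr i).trans (mapOf_ofPshMap _)).symm, ha⟩

/-- morphisms of algebraic spaces with a property stable under base change -/
theorem repWith_ofSpMap (hb : BCStable Q) {V W : AlgSp.Space S} (a : V ⟶ W) (ha : Q a.hom) :
    RepByAlgSpWith Q (AlgSt.ofSpMap a.hom) := by
  haveI := respectsIso_onSp hb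
  exact repWith_onSp_iff.1 ((repWith_ofPshMap_iff _ _).2
      (repBySpWith_of_bc V.property W.property a.hom fun U ξ T fst snd hT sq _ _ =>
        hb V.property W.property hT (IsAlgSpace.yon_obj U) a.hom ξ snd fst sq ha))

/-- base change in the first factor keeps properties -/
theorem repWith_prodFst {𝒳' 𝒵 : AlgSt.Cat S} (p' : 𝒳' ⥤ᵇ 𝒵) (q : 𝒴 ⥤ᵇ 𝒵) (f : 𝒳 ⥤ᵇ 𝒳')
    (hf : RepByAlgSpWith Q f) : RepByAlgSpWith Q (prodFst p' q f) :=
  (repWith_iff_of_equiv Q (prodFst p' q f) (FibCat.fpFst (FibCat.fpSnd q p') f)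
    (BasedFunctor.comp (assocFun q p' f) (swapFun q (BasedFunctor.comp f p'))) (swapFun q p')
    (isEquivOver_comp (isEquivOver_assocFun q p' f) (isEquivOver_swapFun q (BasedFunctor.comp f p')))
    (isEquivOver_swapFun q p')
    (fpExt (FibCat.fpIso (FibCat.fpSnd q p') f) (Iso.refl _) fun w => by
      let i : q.obj w.obj.fst.obj.fst ≅ p'.obj w.obj.fst.obj.snd := w.obj.fst.obj.iso
      let k : w.obj.fst.obj.snd ≅ f.obj w.obj.snd := w.obj.iso
      show p'.map k.hom ≫ (i ≪≫ p'.toFunctor.mapIso k).inv = i.inv ≫ q.map (𝟙 _)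
      simp only [CategoryTheory.Functor.map_id]
      simp only [Iso.trans_inv, Functor.mapIso_inv]
      rw [← Category.assoc, ← Functor.map_comp, Iso.hom_inv_id, CategoryTheory.Functor.map_id]
      exact (Category.id_comp _).trans (Category.comp_id _).symm)).2 (repWith_fpFst Q f (FibCat.fpSnd q p') hf)

theorem repWith_comp_of_isEquiv {𝒵 : AlgSt.Cat S} {e : 𝒳 ⥤ᵇ 𝒴} (he : FibCat.IsEquivOver e) {g : 𝒴 ⥤ᵇ 𝒵}
    (hg : RepByAlgSpWith Q g) : RepByAlgSpWith Q (BasedFunctor.comp e g) :=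
  (repWith_iff_of_equiv Q g (BasedFunctor.comp e g) e (BasedFunctor.id 𝒵) he isEquivOver_id (Iso.refl _)).1 hg

variable {P : MorphismProperty (Sp S)}

/-- the property does not depend on the square -/
theorem prop_of_square (hP : IsSmoothLocalST P) (h𝒳 : FibCat.IsFibGrpd 𝒳.p) (h𝒴 : FibCat.IsFibGrpd 𝒴.p)
    {f : 𝒳 ⥤ᵇ 𝒴} {U V U' V' : AlgSp.Space S} (x : AlgSt.ofSp U.obj ⥤ᵇ 𝒳) (y : AlgSt.ofSp V.obj ⥤ᵇ 𝒴)
    (h : U ⟶ V) (α : BasedFunctor.comp x f ≅ BasedFunctor.comp (AlgSt.ofSpMap h.hom) y)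
    (hx₁ : RepByAlgSpWith (LocP @Smooth) x) (hx₂ : RepByAlgSpWith AlgSp.IsSurjectiveMor x)
    (hy : RepByAlgSpWith (LocP @Smooth) y) (hh : P h.hom)
    (y' : AlgSt.ofSp V'.obj ⥤ᵇ 𝒴) (hy' : RepByAlgSpWith (LocP @Smooth) y')
    (L : AlgSt.ofSp U'.obj ⥤ᵇ FibCat.fp f y') (hL : RepByAlgSpWith (LocP @Smooth) L) (h' : U' ⟶ V')
    (i : BasedFunctor.comp L (FibCat.fpSnd f y') ≅ AlgSt.ofSpMap h'.hom) : P h'.hom := by
  have gV' : FibCat.IsFibGrpd (AlgSt.ofSp V'.obj).p := isFibGrpd_ofSpace _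
  have gU' : FibCat.IsFibGrpd (AlgSt.ofSp U'.obj).p := isFibGrpd_ofSpace _
  -- the fibre product of the two charts of the target
  obtain ⟨B, p, eB, heB, hp, hps⟩ := exists_model_space cls_smooth.bc cls_smooth.loc gV' h𝒴 hy' V y
  let q : B ⟶ V' := ObjectProperty.homMk (ObjectProperty.homMk (mapOf (BasedFunctor.comp eB (FibCat.fpSnd y y'))))
  have hq : LocP @Smooth q.hom := prop_prjMap cls_smooth.bc cls_smooth.loc hy
    (e := BasedFunctor.comp eB (swapFun y y')) (isEquivOver_comp heB (isEquivOver_swapFun y y')) q rfl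
  -- its pullback to the chart of the source
  have sqS := IsPullback.of_hasPullback p.hom h.hom
  let C : AlgSp.Space S := ⟨pullback p.hom h.hom,
    isAlgSpace_of_isPullback_space V.property B.property U.property sqS⟩
  let r : C ⟶ B := ObjectProperty.homMk (pullback.fst p.hom h.hom)
  have hr : P r.hom :=
    hP.baseChange U.property V.property C.property B.property h.hom p.hom _ _ sqS.flip hps hh
  have hb : P (r ≫ q).hom := SmLocalST.postcomp hP C.property B.property V'.property r.hom q.hom hr hq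
  have sq := sqS.map (sheafToPresheaf (J S) (Type (u + 1)))
  obtain ⟨e', he', -, ⟨j'⟩⟩ := exists_model_baseChange' (f := y') h.hom.hom heB
    (P' := C.obj.obj) (fst := r.hom.hom) (snd := (pullback.snd p.hom h.hom).hom) (hp ▸ sq)
  let ch := fpMap (F := BasedFunctor.comp x f) (G := y')
    (BasedFunctor.comp (AlgSt.ofSpMap h.hom) y) y' (BasedFunctor.id (AlgSt.ofSp U.obj))
    (BasedFunctor.id (AlgSt.ofSp V'.obj)) (BasedFunctor.id 𝒴) α.symm (Iso.refl _)
  have hch : FibCat.IsEquivOver ch := isEquivOver_fp_change y' α.symm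
  let eC := BasedFunctor.comp e' ch
  have heC : FibCat.IsEquivOver eC := isEquivOver_comp he' hch
  -- the chart it gives of the fibre product
  let K := BasedFunctor.comp eC (prodFst f y' x)
  have hK₁ : RepByAlgSpWith (LocP @Smooth) K := repWith_comp_of_isEquiv heC (repWith_prodFst f y' x hx₁)
  have hK₂ : RepByAlgSpWith AlgSp.IsSurjectiveMor K := repWith_comp_of_isEquiv heC (repWith_prodFst f y' x hx₂)
  obtain ⟨A, π, eA, heA, hπ, hπs⟩ := exists_model_space cls_smooth.bc cls_smooth.loc gU'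
    (isFibGrpd_fp h𝒳 gV' h𝒴 f y') hL C K
  let σ : A ⟶ U' := ObjectProperty.homMk (ObjectProperty.homMk (mapOf (BasedFunctor.comp eA (FibCat.fpSnd K L))))
  have hσ : ∀ {Q : MorphismProperty (Sp S)}, BCStable Q → IsLocalOnBase (IsFppfCover (S := S)) Q →
      RepByAlgSpWith Q K → Q σ.hom := fun hb hl hKQ => prop_prjMap hb hl hKQ
    (e := BasedFunctor.comp eA (swapFun K L)) (isEquivOver_comp heA (isEquivOver_swapFun K L)) σ rfl
  -- compare the two composites
  have hK : mapOf (BasedFunctor.comp K (FibCat.fpSnd f y')) = (r ≫ q).hom.hom :=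
    (mapOf_congr j').trans ((mapOf_comp _ _).trans (congrArg (· ≫ _) (mapOf_ofPshMap r.hom.hom)))
  have e : σ ≫ h' = π ≫ (r ≫ q) := by
    refine ObjectProperty.hom_ext _ (ObjectProperty.hom_ext _ ?_)
    show mapOf (BasedFunctor.comp eA (FibCat.fpSnd K L)) ≫ h'.hom.hom = π.hom.hom ≫ (r ≫ q).hom.hom
    rw [hπ, ← mapOf_ofPshMap h'.hom.hom, ← mapOf_congr i, ← hK, ← mapOf_comp, ← mapOf_comp]
    exact mapOf_congr ((post _ (FibCat.fpSnd f y')).mapIso ((Stk.restr eA _).mapIso (FibCat.fpIso K L).symm))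
  have hc : P (σ ≫ h').hom := by
    rw [e]
    exact hP.precomp A.property C.property V'.property π.hom _ hπs hb
  refine (SmLocalST.isLocalOnSource hP (fun _ : PUnit.{u + 1} => A.obj) (fun _ => σ.hom) U'.property
    (fun _ => A.property) ⟨fun _ => hσ cls_smooth.bc cls_smooth.loc hK₁, fun z => ⟨⟨⟩, ?_⟩⟩
    h'.hom V'.property).2 fun _ => hc
  exact hσ cls_surjective.bc cls_surjective.loc hK₂ z

end Groth.Agent.AlgStLib

end
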