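import Groth.Agent.AlgStLib.LocQClasses

/-!
# Calculus of properties read on charts: composition, base change, descent
-/

set_option autoImplicit false
set_option backward.isDefEq.respectTransparency false
set_option backward.isDefEq.respectTransparency.types false
set_option linter.style.haveILetI false
universe u

noncomputable section

namespace Groth.Agent.AlgStLib

open CategoryTheory CategoryTheory.Limits AlgebraicGeometry Opposite Groth.Agent.FibCatRep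
  Groth.Agent.FibCat2Misc Groth.Agent.AlgSpLib Groth.Agent.StkBasic
open _root_.AlgSp _root_.AlgSt

variable {S : Scheme.{u}} {𝒳 𝒴 𝒵 : AlgSt.Cat S} {P : MorphismProperty (Sp S)}

theorem prop_of_repWith {Q : MorphismProperty (Sp S)} (hb : BCStable Q)
    (hl : IsLocalOnBase (IsFppfCover (S := S)) Q) {A B : AlgSp.Space S} (m : A ⟶ B)
    (h : RepByAlgSpWith Q (AlgSt.ofSpMap m.hom)) : Q m.hom := by
  haveI := respectsIso_onSp hb
  refine of_repBySpWith hl A.property B.property m.hom fun U ξ P' fst snd sq => ?_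
  obtain ⟨b₁, b₂, b₃⟩ := (repWith_ofPshMap_iff (onSp Q) m.hom.hom).1 (repWith_onSp_iff.2 h) ξ fst snd sq
  exact ⟨b₁, b₂, b₃ b₂ (IsAlgSpace.yon_obj U)⟩

theorem prop_of_repWith_yon {R : MorphismProperty Scheme.{u}} (hR : EtST R)
    (hc : Cls (LocP (S := S) R)) {U V : Over S} {h : U ⟶ V}
    (hh : RepByAlgSpWith (LocP R) (AlgSt.ofSpMap (spMap h).hom)) : R h.left :=
  (locP_yon_iff hR h).1 (prop_of_repWith hc.bc hc.loc (spMap h) hh)

/-- composition of maps of algebraic spaces -/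
def spCompIso {A B C : AlgSp.Space S} (k : A ⟶ B) (l : B ⟶ C) :
    BasedFunctor.comp (AlgSt.ofSpMap k.hom) (AlgSt.ofSpMap l.hom) ≅ AlgSt.ofSpMap (k ≫ l).hom :=
  isoOfSec _ _ fun a => by
    rw [secOf_comp_ofPshMap, secOf_ofPshMap, secOf_ofPshMap]
    rfl

theorem repWith_comp_equiv_right {Q : MorphismProperty (Sp S)} {g : 𝒳 ⥤ᵇ 𝒴} (hg : RepByAlgSpWith Q g)
    {e : 𝒴 ⥤ᵇ 𝒵} (he : FibCat.IsEquivOver e) : RepByAlgSpWith Q (BasedFunctor.comp g e) :=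
  (repWith_iff_of_equiv Q (BasedFunctor.comp g e) g (BasedFunctor.id 𝒳) e isEquivOver_id he (Iso.refl _)).2 hg

theorem repWith_prodSnd {Q : MorphismProperty (Sp S)} {𝒳' 𝒴' : AlgSt.Cat S} (p' : 𝒳' ⥤ᵇ 𝒵) (q' : 𝒴' ⥤ᵇ 𝒵)
    (g : 𝒴 ⥤ᵇ 𝒴') (hg : RepByAlgSpWith Q g) : RepByAlgSpWith Q (prodSnd p' q' g) :=
  (repWith_iff_of_equiv Q (prodSnd p' q' g) (FibCat.fpFst (FibCat.fpSnd p' q') g) (assocFun p' q' g)
    (BasedFunctor.id _) (isEquivOver_assocFun p' q' g) isEquivOver_id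
    (fpExt (Iso.refl _) (FibCat.fpIso (FibCat.fpSnd p' q') g) fun w => by
      show p'.map (𝟙 _) ≫ ((w.obj.fst.obj.iso.hom) ≫ q'.map w.obj.iso.hom) =
        w.obj.fst.obj.iso.hom ≫ q'.map w.obj.iso.hom
      simp only [CategoryTheory.Functor.map_id]
      exact Category.id_comp _)).2 (repWith_fpFst Q g (FibCat.fpSnd p' q') hg)

theorem locQ_congr {f f' : 𝒳 ⥤ᵇ 𝒴} (i : f' ≅ f) (h : LocQ P f) : LocQ P f' := by
  obtain ⟨U, V, x, y, a, α, h₁, h₂, h₃, h₄⟩ := h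
  exact ⟨U, V, x, y, a, (Stk.restr x _).mapIso i ≪≫ α, h₁, h₂, h₃, h₄⟩

/-- a smooth surjective chart of a fibre product over a chart of the target -/
structure GoodChart (f : 𝒳 ⥤ᵇ 𝒴) {V : Over S} (y : AlgSt.ofSp (spOf V).obj ⥤ᵇ 𝒴) {U : Over S} (h : U ⟶ V) where
  L : AlgSt.ofSp (spOf U).obj ⥤ᵇ FibCat.fp f y
  smooth : RepByAlgSpWith (LocP @Smooth) L
  surj : RepByAlgSpWith AlgSp.IsSurjectiveMor L
  iso : BasedFunctor.comp L (FibCat.fpSnd f y) ≅ AlgSt.ofSpMap (spMap h).hom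

theorem isAlgStack_spOf (V : Over S) : IsAlgStack Scheme.fppfPrecoverage (AlgSt.ofSp (spOf V).obj) :=
  (isDM_of_space (isAlgSpaceP_yon V)).1

theorem exists_good (h𝒳 : IsAlgStack Scheme.fppfPrecoverage 𝒳) (h𝒴 : IsAlgStack Scheme.fppfPrecoverage 𝒴)
    (f : 𝒳 ⥤ᵇ 𝒴) {V : Over S} (y : AlgSt.ofSp (spOf V).obj ⥤ᵇ 𝒴) :
    ∃ (U : Over S) (h : U ⟶ V), Nonempty (GoodChart f y h) := by
  obtain ⟨U, x₀, h₁, h₂⟩ := exists_atlas (isAlgStack_fp h𝒴.isStack h𝒴.diag h𝒳 (isAlgStack_spOf V) f y).atlas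
  obtain ⟨a, ha⟩ := exists_map_eq
    (ObjectProperty.homMk (mapOf (BasedFunctor.comp x₀ (FibCat.fpSnd f y))) : (yon S).obj U ⟶ (yon S).obj V)
  exact ⟨U, a, ⟨x₀, h₁, h₂, (mapOfIso _).symm ≪≫
    eqToIso (congrArg (fun k : (yon S).obj U ⟶ (yon S).obj V => Stk.ofPshMap k.hom) ha.symm)⟩⟩

theorem exists_atlas_sp (h : IsAlgStack Scheme.fppfPrecoverage 𝒴) :
    ∃ (V : Over S) (y : AlgSt.ofSp (spOf V).obj ⥤ᵇ 𝒴),
      RepByAlgSpWith (LocP @Smooth) y ∧ RepByAlgSpWith AlgSp.IsSurjectiveMor y :=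
  exists_atlas h.atlas

variable {f : 𝒳 ⥤ᵇ 𝒴} {V U : Over S} {y : AlgSt.ofSp (spOf V).obj ⥤ᵇ 𝒴} {h : U ⟶ V}

theorem GoodChart.repWith_x (c : GoodChart f y h) {Q : MorphismProperty (Sp S)} (hQ : Cls Q)
    (h𝒳 : FibCat.IsFibGrpd 𝒳.p) (h𝒴 : FibCat.IsFibGrpd 𝒴.p)
    (hL : RepByAlgSpWith Q c.L) (hy : RepByAlgSpWith Q y) :
    RepByAlgSpWith Q (BasedFunctor.comp c.L (FibCat.fpFst f y)) :=
  repWith_comp (isFibGrpd_ofSpace _) (isFibGrpd_fp h𝒳 (isFibGrpd_ofSpace _) h𝒴 f y) hQ.bc hQ.comp hQ.loc hL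
    (repWith_fpFst Q y f hy)

/-- the property is read on any good chart -/
theorem GoodChart.locQ_iff (c : GoodChart f y h) (hP : IsSmoothLocalST P) (h𝒳 : FibCat.IsFibGrpd 𝒳.p)
    (h𝒴 : FibCat.IsFibGrpd 𝒴.p) (hy : RepByAlgSpWith (LocP @Smooth) y)
    (hy' : RepByAlgSpWith AlgSp.IsSurjectiveMor y) : LocQ P f ↔ P ((yon S).map h) := by
  refine ⟨fun hf => ?_, fun hh => locQ_of_spSq hP h𝒳 h𝒴 ?_⟩
  · obtain ⟨U₀, V₀, x₀, y₀, h₀, α₀, hx₁, hx₂, hy₀, hh⟩ := spSq_of_locQ hf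
    exact prop_of_square hP h𝒳 h𝒴 x₀ y₀ h₀ α₀ hx₁ hx₂ hy₀ hh y hy c.L c.smooth (spMap h) c.iso
  · exact ⟨spOf U, spOf V, BasedFunctor.comp c.L (FibCat.fpFst f y), y, spMap h,
      (Stk.restr c.L _).mapIso (FibCat.fpIso f y) ≪≫ (post _ y).mapIso c.iso,
      c.repWith_x cls_smooth h𝒳 h𝒴 c.smooth hy, c.repWith_x cls_surjective h𝒳 h𝒴 c.surj hy', hy, hh⟩

theorem GoodChart.repWith_snd (c : GoodChart f y h) {Q : MorphismProperty (Sp S)} (hQ : Cls Q)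
    (h𝒳 : FibCat.IsFibGrpd 𝒳.p) (h𝒴 : FibCat.IsFibGrpd 𝒴.p) (hL : RepByAlgSpWith Q c.L)
    (hf : RepByAlgSpWith Q f) : RepByAlgSpWith Q (AlgSt.ofSpMap (spMap h).hom) :=
  repWith_congr Q c.iso.symm (repWith_comp (isFibGrpd_ofSpace _) (isFibGrpd_fp h𝒳 (isFibGrpd_ofSpace _) h𝒴 f y)
    hQ.bc hQ.comp hQ.loc hL (repWith_fpSnd Q f y hf))

theorem GoodChart.surjective (c : GoodChart f y h) (h𝒳 : FibCat.IsFibGrpd 𝒳.p) (h𝒴 : FibCat.IsFibGrpd 𝒴.p)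
    (hs : AlgSt.IsSurjective f) : Surjective h.left := by
  have g := isFibGrpd_ofSpace (S := S) (spOf V).obj.obj
  have g' := isFibGrpd_ofSpace (S := S) (spOf U).obj.obj
  have hsurj : AlgSt.IsSurjective (AlgSt.ofSpMap (spMap h).hom) := fun p => by
    obtain ⟨x, hx⟩ := hs (AlgSt.Points.map y p)
    obtain ⟨w, -, hw⟩ := exists_points_fp g h𝒴 h𝒳 y f x p hx
    obtain ⟨u, rfl⟩ := isSurjective_of_repWith g' (isFibGrpd_fp h𝒳 g h𝒴 f y) c.surj w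
    exact ⟨u, by rw [← map_congr_points c.iso, map_comp_points, hw]⟩
  have h₁ := prop_of_repWith cls_surjective.bc cls_surjective.loc (spMap h)
    (repWith_surjective_of_isSurjective g' g
      (repByAlgSp1_of_repByAlgSp (repByAlgSp_ofSp (spOf U)) (repByAlgSp_ofSp (spOf V)) _) hsurj)
  exact (repWith_yon_iff _).1 (repWith_surjective_of_isSurjectiveMor (AlgSp.representable_yon_map _) h₁)

/-- good charts compose -/
theorem exists_good_comp {g : 𝒴 ⥤ᵇ 𝒵} {W : Over S} {z : AlgSt.ofSp (spOf W).obj ⥤ᵇ 𝒵} {l : V ⟶ W}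
    (h𝒳 : FibCat.IsFibGrpd 𝒳.p) (h𝒴 : FibCat.IsFibGrpd 𝒴.p) (h𝒵 : FibCat.IsFibGrpd 𝒵.p)
    (d : GoodChart g z l) (c : GoodChart f (BasedFunctor.comp d.L (FibCat.fpFst g z)) h) :
    Nonempty (GoodChart (BasedFunctor.comp f g) z (h ≫ l)) := by
  have gW := isFibGrpd_ofSpace (S := S) (spOf W).obj.obj
  have gU := isFibGrpd_ofSpace (S := S) (spOf U).obj.obj
  have gY := isFibGrpd_fp h𝒴 gW h𝒵 g z
  let m := prodSnd f (FibCat.fpFst g z) d.L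
  let L := BasedFunctor.comp (BasedFunctor.comp c.L m) (pasteFun f g z)
  have hl : ∀ {Q : MorphismProperty (Sp S)}, Cls Q → RepByAlgSpWith Q c.L → RepByAlgSpWith Q d.L →
      RepByAlgSpWith Q L := fun hQ h₁ h₂ =>
    repWith_comp_equiv_right (repWith_comp gU (isFibGrpd_fp h𝒳 (isFibGrpd_ofSpace _) h𝒴 f _)
      hQ.bc hQ.comp hQ.loc h₁ (repWith_prodSnd f (FibCat.fpFst g z) d.L h₂)) (isEquivOver_pasteFun f g z)
  have i₁ : BasedFunctor.comp L (FibCat.fpSnd (BasedFunctor.comp f g) z) ≅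
      BasedFunctor.comp (AlgSt.ofSpMap (spMap h).hom) (BasedFunctor.comp d.L (FibCat.fpSnd g z)) :=
    (post _ (BasedFunctor.comp d.L (FibCat.fpSnd g z))).mapIso c.iso
  have i₂ : BasedFunctor.comp (AlgSt.ofSpMap (spMap h).hom) (BasedFunctor.comp d.L (FibCat.fpSnd g z)) ≅
      AlgSt.ofSpMap (spMap (h ≫ l)).hom :=
    (Stk.restr (AlgSt.ofSpMap (spMap h).hom) _).mapIso d.iso ≪≫ spCompIso (spMap h) (spMap l) ≪≫
    eqToIso (congrArg (fun k : (yon S).obj U ⟶ (yon S).obj W => Stk.ofPshMap k.hom)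
      ((yon S).map_comp h l).symm)
  exact ⟨⟨L, hl cls_smooth c.smooth d.smooth, hl cls_surjective c.surj d.surj, i₁ ≪≫ i₂⟩⟩

/-- compatible charts of a composition -/
theorem exists_chain (h𝒳 : IsAlgStack Scheme.fppfPrecoverage 𝒳) (h𝒴 : IsAlgStack Scheme.fppfPrecoverage 𝒴)
    (h𝒵 : IsAlgStack Scheme.fppfPrecoverage 𝒵) (f : 𝒳 ⥤ᵇ 𝒴) (g : 𝒴 ⥤ᵇ 𝒵) :
    ∃ (U V W : Over S) (k : U ⟶ V) (l : V ⟶ W),
      (∀ {P : MorphismProperty (Sp S)}, IsSmoothLocalST P →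
        (LocQ P f ↔ P ((yon S).map k)) ∧ (LocQ P g ↔ P ((yon S).map l)) ∧
        (LocQ P (BasedFunctor.comp f g) ↔ P ((yon S).map (k ≫ l)))) ∧
      (AlgSt.IsSurjective f → Surjective k.left) ∧
      (∀ {R : MorphismProperty Scheme.{u}}, EtST R → Cls (LocP (S := S) R) →
        (∀ ⦃A B : Scheme.{u}⦄ (r : A ⟶ B), Smooth r → R r) → RepByAlgSpWith (LocP R) f → R k.left) := by
  obtain ⟨W, z, hz, hz'⟩ := exists_atlas_sp h𝒵
  obtain ⟨V, l, ⟨d⟩⟩ := exists_good h𝒴 h𝒵 g z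
  let y := BasedFunctor.comp d.L (FibCat.fpFst g z)
  obtain ⟨U, k, ⟨c⟩⟩ := exists_good h𝒳 h𝒴 f y
  have hy := d.repWith_x cls_smooth h𝒴.isStack.1 h𝒵.isStack.1 d.smooth hz
  have hy' := d.repWith_x cls_surjective h𝒴.isStack.1 h𝒵.isStack.1 d.surj hz'
  obtain ⟨e⟩ := exists_good_comp h𝒳.isStack.1 h𝒴.isStack.1 h𝒵.isStack.1 d c
  refine ⟨U, V, W, k, l, fun {P} hP => ⟨c.locQ_iff hP h𝒳.isStack.1 h𝒴.isStack.1 hy hy',
    d.locQ_iff hP h𝒴.isStack.1 h𝒵.isStack.1 hz hz', e.locQ_iff hP h𝒳.isStack.1 h𝒵.isStack.1 hz hz'⟩,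
    fun hs => c.surjective h𝒳.isStack.1 h𝒴.isStack.1 hs, fun hR hc hsm hf => ?_⟩
  exact prop_of_repWith_yon hR hc (c.repWith_snd hc h𝒳.isStack.1 h𝒴.isStack.1
      (repWith_mono c.smooth fun _ _ _ _ ha => locP_mono hsm _ ha) hf)

/-- base change of a good chart along a map of schemes -/
theorem exists_pullback_chart {f : 𝒳 ⥤ᵇ 𝒴} {z : 𝒵 ⥤ᵇ 𝒴}
    (h𝒳 : FibCat.IsFibGrpd 𝒳.p) (h𝒴 : FibCat.IsFibGrpd 𝒴.p) (h𝒵 : FibCat.IsFibGrpd 𝒵.p)
    {V U : Over S} {y : AlgSt.ofSp (spOf V).obj ⥤ᵇ 𝒴} {h : U ⟶ V} (c : GoodChart f y h)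
    {W : Over S} (w : AlgSt.ofSp (spOf W).obj ⥤ᵇ 𝒵) (k : W ⟶ V)
    (i : BasedFunctor.comp w z ≅ BasedFunctor.comp (AlgSt.ofSpMap (spMap k).hom) y)
    (T : Over S) (p : T ⟶ W) (q : T ⟶ U) (sq : IsPullback p q k h) :
    Nonempty (GoodChart (FibCat.fpFst z f) w p) := by
  have gW := isFibGrpd_ofSpace (S := S) (spOf W).obj.obj
  have gV := isFibGrpd_ofSpace (S := S) (spOf V).obj.obj
  let κ := AlgSt.ofSpMap (spMap k).hom
  -- the chart, swapped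
  let L' := BasedFunctor.comp c.L (swapFun f y)
  let e₁ := pbFun (fst := ((yon S).map p).hom) (snd := ((yon S).map q).hom) (a := (spMap k).hom.hom)
    (π := (spMap h).hom.hom) (sq.map (yon S ⋙ sheafToPresheaf (J S) (Type (u + 1)))).toCommSq
  have he₁ : FibCat.IsEquivOver e₁ :=
    isEquivOver_pbFun (sq.map (yon S ⋙ sheafToPresheaf (J S) (Type (u + 1))))
  haveI : (BasedFunctor.id (AlgSt.ofSp (spOf V).obj)).toFunctor.Full :=
    inferInstanceAs (𝟭 (AlgSt.ofSp (spOf V).obj).obj).Full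
  haveI : (BasedFunctor.id (AlgSt.ofSp (spOf V).obj)).toFunctor.Faithful :=
    inferInstanceAs (𝟭 (AlgSt.ofSp (spOf V).obj).obj).Faithful
  haveI : (BasedFunctor.id 𝒴).toFunctor.Full := inferInstanceAs (𝟭 𝒴.obj).Full
  haveI : (BasedFunctor.id 𝒴).toFunctor.Faithful := inferInstanceAs (𝟭 𝒴.obj).Faithful
  let e₂ := fpMap (F := κ) (G := BasedFunctor.comp L' (FibCat.fpFst y f)) κ (AlgSt.ofSpMap (spMap h).hom)
    (BasedFunctor.id _) (BasedFunctor.id _) (BasedFunctor.id (AlgSt.ofSp (spOf V).obj)) (Iso.refl _) c.iso.symm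
  have he₂ : FibCat.IsEquivOver e₂ := isEquivOver_fpMap _ _ _ _ _ _ _ isEquivOver_id isEquivOver_id
  let m := prodSnd κ (FibCat.fpFst y f) L'
  let e₃ := pasteFun κ y f
  let e₄ := fpMap (F := BasedFunctor.comp w z) (G := f) (BasedFunctor.comp κ y) f
    (BasedFunctor.id _) (BasedFunctor.id 𝒳) (BasedFunctor.id 𝒴) i.symm (Iso.refl _)
  have he₄ : FibCat.IsEquivOver e₄ := isEquivOver_fp_change f i.symm
  obtain ⟨k', hk', -, ⟨j⟩⟩ := isEquivOver_symm (isEquivOver_pasteFun w z f)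
  have heq : FibCat.IsEquivOver (BasedFunctor.comp (BasedFunctor.comp (BasedFunctor.comp e₃ e₄) k')
      (swapFun w (FibCat.fpFst z f))) :=
    isEquivOver_comp (isEquivOver_comp (isEquivOver_comp (isEquivOver_pasteFun κ y f) he₄) hk')
      (isEquivOver_swapFun _ _)
  let A := BasedFunctor.comp (BasedFunctor.comp e₁ e₂) m
  let L := BasedFunctor.comp A (BasedFunctor.comp (BasedFunctor.comp (BasedFunctor.comp e₃ e₄) k')
    (swapFun w (FibCat.fpFst z f)))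
  have hl : ∀ {Q : MorphismProperty (Sp S)}, RepByAlgSpWith Q c.L → RepByAlgSpWith Q L := fun hQ =>
    repWith_comp_equiv_right (repWith_comp_of_isEquiv (isEquivOver_comp he₁ he₂)
      (repWith_prodSnd κ (FibCat.fpFst y f) L' (repWith_comp_equiv_right hQ (isEquivOver_swapFun f y)))) heq
  refine ⟨⟨L, hl c.smooth, hl c.surj, ?_⟩⟩
  exact (Stk.restr (BasedFunctor.comp A (BasedFunctor.comp e₃ e₄)) _).mapIso
    ((post _ (FibCat.fpFst (BasedFunctor.comp w z) f)).mapIso j)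

end Groth.Agent.AlgStLib

end
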