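import Groth.Agent.AlgStLib.LocQ

/-!
# Squares of scheme charts and squares of charts from algebraic spaces
-/

set_option autoImplicit false
set_option backward.isDefEq.respectTransparency false
set_option backward.isDefEq.respectTransparency.types false
set_option linter.style.haveILetI false
universe u

noncomputable section

namespace Groth.Agent.AlgStLib

open CategoryTheory CategoryTheory.Limits AlgebraicGeometry Opposite Groth.Agent.FibCatRep
  Groth.Agent.FibCat2Misc Groth.Agent.AlgSpLib Groth.Agent.StkBasic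
open _root_.AlgSp _root_.AlgSt

variable {S : Scheme.{u}} {𝒳 𝒴 : AlgSt.Cat S} {P : MorphismProperty (Sp S)} {f : 𝒳 ⥤ᵇ 𝒴}

/-- a morphism of schemes as a morphism of algebraic spaces -/
abbrev spMap {U V : Over S} (h : U ⟶ V) : spOf U ⟶ spOf V := ObjectProperty.homMk ((yon S).map h)

/-- existence of a square of space charts -/
def SpSq (P : MorphismProperty (Sp S)) (f : 𝒳 ⥤ᵇ 𝒴) : Prop :=
  ∃ (U V : AlgSp.Space S) (x : AlgSt.ofSp U.obj ⥤ᵇ 𝒳) (y : AlgSt.ofSp V.obj ⥤ᵇ 𝒴) (h : U ⟶ V)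
    (_ : BasedFunctor.comp x f ≅ BasedFunctor.comp (AlgSt.ofSpMap h.hom) y),
    RepByAlgSpWith (LocP @Smooth) x ∧ RepByAlgSpWith AlgSp.IsSurjectiveMor x ∧
    RepByAlgSpWith (LocP @Smooth) y ∧ P h.hom

theorem spSq_of_locQ (h : LocQ P f) : SpSq P f := by
  obtain ⟨U, V, x, y, a, α, hx, hx', hy, ha⟩ := h
  exact ⟨spOf U, spOf V, BasedFunctor.comp (toOverCat U) x, BasedFunctor.comp (toOverCat V) y, spMap a,
    (Stk.restr (toOverCat U) _).mapIso α, (repWith_overCat_iff _ U x).1 hx, (repWith_overCat_iff _ U x).1 hx',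
    (repWith_overCat_iff _ V y).1 hy, ha⟩

theorem locQ_of_spSq (hP : IsSmoothLocalST P) (h𝒳 : FibCat.IsFibGrpd 𝒳.p) (h𝒴 : FibCat.IsFibGrpd 𝒴.p)
    (h : SpSq P f) : LocQ P f := by
  obtain ⟨U, V, x, y, h, α, hx, hx', hy, hh⟩ := h
  obtain ⟨V₁, c, hce, hcs⟩ := V.property.atlas
  have hc : LocP @Smooth c :=
    EtSmLocalST.smooth_of_etale V.property (isEtaleMor_of_repWith' hce)
  have sqS := IsPullback.of_hasPullback h.hom c
  have hW : IsAlgSpace (pullback h.hom c) :=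
    isAlgSpace_of_isPullback_space V.property U.property (IsAlgSpace.yon_obj V₁) sqS
  let W : AlgSp.Space S := ⟨_, hW⟩
  let cS : spOf V₁ ⟶ V := ObjectProperty.homMk c
  let p : W ⟶ U := ObjectProperty.homMk (pullback.fst h.hom c)
  have hp : LocP @Smooth p.hom :=
    cls_smooth.bc (IsAlgSpace.yon_obj V₁) V.property hW U.property c h.hom _ _ sqS.flip hc
  have hps : AlgSp.IsSurjectiveMor p.hom := cls_surjective.bc (IsAlgSpace.yon_obj V₁) V.property hW U.property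
    c h.hom _ _ sqS.flip (isSurjectiveMor_of_repWith hcs)
  have hq : P (pullback.snd h.hom c) :=
    hP.baseChange U.property V.property hW (IsAlgSpace.yon_obj V₁) h.hom c _ _ sqS hc hh
  obtain ⟨U₁, d, hde, hds⟩ := hW.atlas
  have hd : LocP @Smooth d := EtSmLocalST.smooth_of_etale hW (isEtaleMor_of_repWith' hde)
  obtain ⟨g, hg⟩ := exists_map_eq (d ≫ pullback.snd h.hom c)
  have hg' : P ((yon S).map g) := by
    rw [hg]
    exact hP.precomp (IsAlgSpace.yon_obj U₁) hW (IsAlgSpace.yon_obj V₁) d _ hd hq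
  let a : spOf U₁ ⟶ U := ObjectProperty.homMk (d ≫ pullback.fst h.hom c)
  have ha : LocP @Smooth a.hom := cls_smooth.comp (IsAlgSpace.yon_obj U₁) hW U.property d _ hd hp
  have has : AlgSp.IsSurjectiveMor a.hom :=
    cls_surjective.comp (IsAlgSpace.yon_obj U₁) hW U.property d _ (isSurjectiveMor_of_repWith hds) hps
  have gU := isFibGrpd_ofSpace (S := S) U.obj.obj
  have gV := isFibGrpd_ofSpace (S := S) V.obj.obj
  have w : a.hom.hom ≫ h.hom.hom = ((yon S).map g).hom ≫ c.hom :=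
    congrArg (fun k => k.hom) (show (d ≫ pullback.fst h.hom c) ≫ h.hom = (yon S).map g ≫ c by
      rw [hg, Category.assoc, Category.assoc, sqS.w])
  refine ⟨U₁, V₁, BasedFunctor.comp (ofOverCat U₁) (BasedFunctor.comp (AlgSt.ofSpMap a.hom) x),
    BasedFunctor.comp (ofOverCat V₁) (BasedFunctor.comp (AlgSt.ofSpMap cS.hom) y), g, ?_,
    (repWith_ofOverCat_iff _ _).2 (repWith_comp (isFibGrpd_ofSpace _) gU cls_smooth.bc cls_smooth.comp
      cls_smooth.loc (repWith_ofSpMap cls_smooth.bc a ha) hx),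
    (repWith_ofOverCat_iff _ _).2 (repWith_comp (isFibGrpd_ofSpace _) gU cls_surjective.bc cls_surjective.comp
      cls_surjective.loc (repWith_ofSpMap cls_surjective.bc a has) hx'),
    (repWith_ofOverCat_iff _ _).2 (repWith_comp (isFibGrpd_ofSpace _) gV cls_smooth.bc cls_smooth.comp
      cls_smooth.loc (repWith_ofSpMap cls_smooth.bc cS hc) hy), hg'⟩
  refine (Stk.restr (BasedFunctor.comp (ofOverCat U₁) (AlgSt.ofSpMap a.hom)) _).mapIso α ≪≫ (post _ y).mapIso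
    (isoOfSec (BasedFunctor.comp (BasedFunctor.comp (ofOverCat U₁) (AlgSt.ofSpMap a.hom)) (AlgSt.ofSpMap h.hom))
      (BasedFunctor.comp (BasedFunctor.comp (AlgSt.overMap g) (ofOverCat V₁)) (AlgSt.ofSpMap cS.hom))
      fun z => ?_)
  let z₀ : Stk.EltObj ((yon S).obj U₁).obj := (ofOverCat U₁).obj z
  calc _ = h.hom.hom.app _ (a.hom.hom.app _ (secOf (ofOverCat U₁) z)) := by
        rw [secOf_comp_ofPshMap, secOf_comp_ofPshMap]
    _ = c.hom.app _ (((yon S).map g).hom.app _ (secOf (ofOverCat U₁) z)) :=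
        congrArg (fun k => k.app _ (secOf (ofOverCat U₁) z)) w
    _ = _ := by
        rw [secOf_comp_ofPshMap]
        rfl

/-- a chart-square independent form -/
theorem prop_of_scheme_square (hP : IsSmoothLocalST P) (h𝒳 : FibCat.IsFibGrpd 𝒳.p) (h𝒴 : FibCat.IsFibGrpd 𝒴.p)
    (hf : LocQ P f) {U V : Over S} (x : FibCat.overCat U ⥤ᵇ 𝒳) (y : FibCat.overCat V ⥤ᵇ 𝒴) (h : U ⟶ V)
    (α : BasedFunctor.comp x f ≅ BasedFunctor.comp (AlgSt.overMap h) y)
    (hy : RepByAlgSpWith (LocP @Smooth) y)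
    (hL : RepByAlgSpWith (LocP @Smooth) (FibCat.fpLift x (AlgSt.overMap h) α)) : P ((yon S).map h) := by
  obtain ⟨U₀, V₀, x₀, y₀, h₀, α₀, hx₁, hx₂, hy₀, hh⟩ := spSq_of_locQ hf
  let y' := BasedFunctor.comp (toOverCat V) y
  let L' : AlgSt.ofSp (spOf U).obj ⥤ᵇ FibCat.fp f y' := FibCat.fpLift (BasedFunctor.comp (toOverCat U) x)
    (Stk.ofPshMap ((pyon S).map h)) ((Stk.restr (toOverCat U) _).mapIso α)
  haveI : (BasedFunctor.id 𝒴).toFunctor.Full := inferInstanceAs (𝟭 𝒴.obj).Full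
  haveI : (BasedFunctor.id 𝒴).toFunctor.Faithful := inferInstanceAs (𝟭 𝒴.obj).Faithful
  let b := fpMap (F := f) (G := y) f y' (BasedFunctor.id 𝒳) (toOverCat V) (BasedFunctor.id 𝒴) (Iso.refl _)
    (Iso.refl _)
  have hb : FibCat.IsEquivOver b := isEquivOver_fpMap _ _ _ _ _ _ _ isEquivOver_id (isEquivOver_toOverCat V)
  exact prop_of_square hP h𝒳 h𝒴 x₀ y₀ h₀ α₀ hx₁ hx₂ hy₀ hh (V' := spOf V) y'
    ((repWith_overCat_iff _ V y).1 hy) (U' := spOf U) L'
    ((repWith_iff_of_equiv _ (FibCat.fpLift x (AlgSt.overMap h) α) L' (toOverCat U) b (isEquivOver_toOverCat U) hb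
      (fpExt (Iso.refl _) (Iso.refl _) fun w => by
        let t := (toOverCat U).obj w
        let p : f.obj (x.obj t) ≅ y.obj ((AlgSt.overMap h).obj t) :=
          ((BasedNatTrans.forgetful _ _).mapIso α).app t
        show f.map (𝟙 (x.obj t)) ≫ p.hom = (𝟙 (f.obj (x.obj t)) ≫ p.hom ≫ 𝟙 _) ≫ y.map (𝟙 _)
        simp
        )).1 hL) (spMap h) (Iso.refl _)

/-- compatible charts with a smooth map to the fibre product -/
theorem exists_good_square (h𝒳 : IsAlgStack Scheme.fppfPrecoverage 𝒳)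
    (h𝒴 : IsAlgStack Scheme.fppfPrecoverage 𝒴) (f : 𝒳 ⥤ᵇ 𝒴) (V : Over S) (y : FibCat.overCat V ⥤ᵇ 𝒴)
    (hy : RepByAlgSpWith (LocP @Smooth) y) (hy' : RepByAlgSpWith AlgSp.IsSurjectiveMor y) :
    ∃ (U : Over S) (h : U ⟶ V) (x : FibCat.overCat U ⥤ᵇ 𝒳)
      (α : BasedFunctor.comp x f ≅ BasedFunctor.comp (AlgSt.overMap h) y),
      RepByAlgSpWith (LocP @Smooth) x ∧ RepByAlgSpWith AlgSp.IsSurjectiveMor x ∧
        RepByAlgSpWith (LocP @Smooth) (FibCat.fpLift x (AlgSt.overMap h) α) := by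
  have hV : IsAlgStack Scheme.fppfPrecoverage (FibCat.overCat V) :=
    isAlgStack_of_equiv (isEquivOver_toOverCat V) (isDM_of_space (isAlgSpaceP_yon V)).1
  obtain ⟨U, x₀, h₁, h₂⟩ := (isAlgStack_fp h𝒴.isStack h𝒴.diag h𝒳 hV f y).atlas
  have g₁ := isFibGrpd_overCat (C := Over S) U
  have g₂ := isFibGrpd_fp h𝒳.isStack.1 (isFibGrpd_overCat (C := Over S) V) h𝒴.isStack.1 f y
  obtain ⟨a, ⟨i⟩⟩ := exists_overMap_iso (BasedFunctor.comp x₀ (FibCat.fpSnd f y))
  refine ⟨U, a, BasedFunctor.comp x₀ (FibCat.fpFst f y),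
    (Stk.restr x₀ 𝒴).mapIso (FibCat.fpIso f y) ≪≫ (post _ y).mapIso i,
    repWith_comp g₁ g₂ cls_smooth.bc cls_smooth.comp cls_smooth.loc h₁ (repWith_fpFst _ y f hy),
    repWith_comp g₁ g₂ cls_surjective.bc cls_surjective.comp cls_surjective.loc h₂ (repWith_fpFst _ y f hy'),
    repWith_congr _ (fpExt (b := x₀) (Iso.refl _) i.symm fun w => ?_) h₁⟩
  let p : f.obj (x₀.obj w).obj.fst ≅ y.obj (x₀.obj w).obj.snd := (x₀.obj w).obj.iso
  let q := ((BasedNatTrans.forgetful _ _).mapIso i).app w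
  show f.map (𝟙 _) ≫ p.hom = (p.hom ≫ y.map q.hom) ≫ y.map q.inv
  refine (congrArg (· ≫ p.hom) (f.toFunctor.map_id _)).trans ((Category.id_comp _).trans ?_)
  rw [Category.assoc, ← Functor.map_comp, q.hom_inv_id]
  exact ((congrArg (p.hom ≫ ·) (y.toFunctor.map_id _)).trans (Category.comp_id p.hom)).symm

theorem locQ_iff_forall (hP : IsSmoothLocalST P) (h𝒳 : IsAlgStack Scheme.fppfPrecoverage 𝒳)
    (h𝒴 : IsAlgStack Scheme.fppfPrecoverage 𝒴) (f : 𝒳 ⥤ᵇ 𝒴) :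
    LocQ P f ↔ ∀ (U V : Over S) (x : FibCat.overCat U ⥤ᵇ 𝒳) (y : FibCat.overCat V ⥤ᵇ 𝒴) (h : U ⟶ V)
        (α : BasedFunctor.comp x f ≅ BasedFunctor.comp (AlgSt.overMap h) y),
        RepByAlgSpWith (LocP @Smooth) x → RepByAlgSpWith (LocP @Smooth) y →
        RepByAlgSpWith (LocP @Smooth) (FibCat.fpLift x (AlgSt.overMap h) α) → P ((yon S).map h) := by
  refine ⟨fun hf U V x y h α _ hy hL => prop_of_scheme_square hP h𝒳.isStack.1 h𝒴.isStack.1 hf x y h α hy hL,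
    fun H => ?_⟩
  obtain ⟨V, y, hy, hy'⟩ := h𝒴.atlas
  obtain ⟨U, h, x, α, hx, hx', hL⟩ := exists_good_square h𝒳 h𝒴 f V y hy hy'
  exact ⟨U, V, x, y, h, α, hx, hx', hy, H U V x y h α hx hy hL⟩

end Groth.Agent.AlgStLib

end
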