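import Groth.Agent.AlgStLib.LocQChart

/-!
# Properties read on charts for representable functors
-/

set_option autoImplicit false
set_option backward.isDefEq.respectTransparency false
set_option backward.isDefEq.respectTransparency.types false
set_option linter.style.haveILetI false
universe u

noncomputable section

namespace Groth.Agent.AlgStLib

open CategoryTheory CategoryTheory.Limits AlgebraicGeometry Opposite Groth.Agent.FibCatRep
  Groth.Agent.FibCat2Misc Groth.Agent.AlgSpLib Groth.Agent.StkBasic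
open _root_.AlgSp _root_.AlgSt

variable {S : Scheme.{u}} {𝒳 𝒴 : AlgSt.Cat S} {P : MorphismProperty (Sp S)} {f : 𝒳 ⥤ᵇ 𝒴}

/-- identities of algebraic spaces, as functors -/
def ofSpId (W : AlgSp.Space S) : AlgSt.ofSpMap (𝟙 W : W ⟶ W).hom ≅ BasedFunctor.id (AlgSt.ofSp W.obj) :=
  isoOfSec _ _ fun a => (secOf_ofPshMap _ a).trans (secOf_id a).symm

theorem repWith_smooth_of_equiv_space {𝒵 : AlgSt.Cat S} {W : AlgSp.Space S} {e : AlgSt.ofSp W.obj ⥤ᵇ 𝒵}
    (he : FibCat.IsEquivOver e) :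
    RepByAlgSpWith (LocP @Smooth) e ∧ RepByAlgSpWith AlgSp.IsSurjectiveMor e := by
  have key : ∀ {Q : MorphismProperty (Sp S)}, BCStable Q → Q (𝟙 W.obj) → RepByAlgSpWith Q e :=
    fun hb h => (repWith_iff_of_equiv _ e (AlgSt.ofSpMap (𝟙 W : W ⟶ W).hom) (BasedFunctor.id _) e isEquivOver_id he
      ((post _ e).mapIso (ofSpId W))).2 (repWith_ofSpMap hb (𝟙 W) h)
  exact ⟨key cls_smooth.bc (SmLocalST.smooth_id W.property),
    key cls_surjective.bc fun z => ⟨z, AlgSp.Points.map_id z⟩⟩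

theorem locQ_of_repWith (hP : IsSmoothLocalST P) (hb : BCStable P) (hl : IsLocalOnBase (IsFppfCover (S := S)) P)
    (h𝒳 : IsAlgStack Scheme.fppfPrecoverage 𝒳) (h𝒴 : IsAlgStack Scheme.fppfPrecoverage 𝒴)
    (hf : RepByAlgSpWith P f) : LocQ P f := by
  obtain ⟨V, y, hy, hy'⟩ := h𝒴.atlas
  let y₀ := BasedFunctor.comp (toOverCat V) y
  obtain ⟨W, a, e, he, ha, hPa⟩ := exists_model_space hb hl h𝒳.isStack.1 h𝒴.isStack.1 hf (spOf V) y₀
  refine locQ_of_spSq hP h𝒳.isStack.1 h𝒴.isStack.1 ⟨W, spOf V, BasedFunctor.comp e (FibCat.fpSnd y₀ f), y₀, a,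
    (Stk.restr e _).mapIso (FibCat.fpIso y₀ f).symm ≪≫ (post _ y₀).mapIso ((mapOfIso _).symm ≪≫
      eqToIso (congrArg Stk.ofPshMap ha.symm)),
    repWith_comp_of_isEquiv he (repWith_fpSnd _ y₀ f ((repWith_overCat_iff _ V y).1 hy)),
    repWith_comp_of_isEquiv he (repWith_fpSnd _ y₀ f ((repWith_overCat_iff _ V y).1 hy')),
    (repWith_overCat_iff _ V y).1 hy, hPa⟩

theorem repWith_of_locQ (hP : IsSmoothLocalST P) (hb : BCStable P) (hl : IsLocalOnBase (IsFppfCover (S := S)) P)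
    (h𝒳 : IsAlgStack Scheme.fppfPrecoverage 𝒳) (h𝒴 : IsAlgStack Scheme.fppfPrecoverage 𝒴)
    (hf : RepByAlgSp1 f) (h : LocQ P f) : RepByAlgSpWith P f := by
  obtain ⟨V, y, hy, hy'⟩ := h𝒴.atlas
  let y₀ := BasedFunctor.comp (toOverCat V) y
  have hy₀ := (repWith_overCat_iff _ V y).1 hy
  obtain ⟨W, e, he⟩ := repByAlgSp_fp_yon hf V y₀
  let a : W ⟶ spOf V := ObjectProperty.homMk (ObjectProperty.homMk (prjMap e))
  have ha : a.hom.hom = prjMap e := rfl
  have i : BasedFunctor.comp e (FibCat.fpFst y₀ f) ≅ AlgSt.ofSpMap a.hom :=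
    (mapOfIso _).symm ≪≫ eqToIso (congrArg Stk.ofPshMap ha.symm)
  obtain ⟨U₀, V₀, x₁, y₁, h₁, α, hx₁, hx₂, hy₁, hh⟩ := spSq_of_locQ h
  have hPa : P a.hom := prop_of_square hP h𝒳.isStack.1 h𝒴.isStack.1 x₁ y₁ h₁ α hx₁ hx₂ hy₁ hh (V' := spOf V) y₀
    hy₀ (BasedFunctor.comp e (swapFun y₀ f))
    (repWith_smooth_of_equiv_space (isEquivOver_comp he (isEquivOver_swapFun y₀ f))).1 a i
  exact repWith_of_lifts hb hl hf
    (lifts_of_fppf (repWith_flat_of_smooth hy₀) (repWith_lfp_of_smooth hy₀) ((repWith_overCat_iff _ V y).1 hy'))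
    (repWith_fpFst_of_model hb he i hPa)

theorem locQ_ofSpMap_iff (hP : IsSmoothLocalST P) {F G : AlgSp.Space S} (a : F ⟶ G) :
    LocQ P (AlgSt.ofSpMap a.hom) ↔ P a.hom := by
  constructor
  · intro h
    obtain ⟨U, V, x, y, k, α, hx, hx', hy, hk⟩ := spSq_of_locQ h
    let p : U ⟶ F := ObjectProperty.homMk (ObjectProperty.homMk (mapOf x))
    let q : V ⟶ G := ObjectProperty.homMk (ObjectProperty.homMk (mapOf y))
    have key : ∀ {Q : MorphismProperty (Sp S)} {A B : AlgSp.Space S} (Φ : AlgSt.ofSp A.obj ⥤ᵇ AlgSt.ofSp B.obj)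
        (m : A ⟶ B), m.hom.hom = mapOf Φ → BCStable Q → IsLocalOnBase (IsFppfCover (S := S)) Q →
        RepByAlgSpWith Q Φ → Q m.hom := by
      intro Q A B Φ m hm hb hl hΦ
      haveI := respectsIso_onSp hb
      refine of_repBySpWith hl A.property B.property m.hom fun U ξ P' fst snd sq => ?_
      rw [hm] at sq
      obtain ⟨b₁, b₂, b₃⟩ := (repWith_ofPshMap_iff (onSp Q) (mapOf Φ)).1
        (repWith_congr _ (mapOfIso Φ) (repWith_onSp_iff.2 hΦ)) ξ fst snd sq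
      exact ⟨b₁, b₂, b₃ b₂ (IsAlgSpace.yon_obj U)⟩
    refine (SmLocalST.iff_chart hP a).2 ⟨U, V, p, q, k, key x p rfl cls_smooth.bc cls_smooth.loc hx,
      key y q rfl cls_smooth.bc cls_smooth.loc hy, key x p rfl cls_surjective.bc cls_surjective.loc hx', ?_, hk⟩
    refine ObjectProperty.hom_ext _ (ObjectProperty.hom_ext _ ?_)
    show mapOf x ≫ a.hom.hom = k.hom.hom ≫ mapOf y
    rw [← mapOf_ofPshMap a.hom.hom, ← mapOf_ofPshMap k.hom.hom, ← mapOf_comp, ← mapOf_comp]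
    exact mapOf_congr α
  · intro h
    obtain ⟨h₁, h₂⟩ := repWith_smooth_of_equiv_space (W := F) (isEquivOver_id (𝒳 := AlgSt.ofSp F.obj))
    exact locQ_of_spSq hP (isFibGrpd_ofSpace _) (isFibGrpd_ofSpace _) ⟨F, G, BasedFunctor.id _, BasedFunctor.id _,
      a, Iso.refl _, h₁, h₂, (repWith_smooth_of_equiv_space isEquivOver_id).1, h⟩

end Groth.Agent.AlgStLib

end
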