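import Groth.Agent.AlgStLib.OpenSub

/-!
# Local predicates cut out substacks
-/

set_option autoImplicit false
set_option backward.isDefEq.respectTransparency false
set_option backward.isDefEq.respectTransparency.types false
set_option linter.style.haveILetI false
universe u

noncomputable section

namespace Groth.Agent.AlgStLib

open CategoryTheory CategoryTheory.Limits AlgebraicGeometry Opposite Groth.Agent.FibCatRep
  Groth.Agent.FibCat2Misc Groth.Agent.AlgSpLib Groth.Agent.StkBasic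
open _root_.AlgSp _root_.AlgSt

variable {S : Scheme.{u}} {𝒳 : AlgSt.Cat S} {Q : 𝒳.obj → Prop}

/-- a natural transformation into a full subcategory -/
def natSub {𝒲 : AlgSt.Cat S} {G G' : 𝒲 ⥤ᵇ AlgSt.fullSub 𝒳 Q}
    (β : BasedFunctor.comp G (AlgSt.subIncl 𝒳 Q) ⟶ BasedFunctor.comp G' (AlgSt.subIncl 𝒳 Q)) : G ⟶ G' :=
  BasedNatTrans.mk
    { app := fun w => ObjectProperty.homMk (β.toNatTrans.app w)
      naturality := fun {a b} m => ObjectProperty.hom_ext _ (β.toNatTrans.naturality m) }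
    (fun a => IsHomLift.of_fac' (AlgSt.fullSub 𝒳 Q).p _ _ (G.w_obj a) (G'.w_obj a) (by
      show 𝒳.p.map (β.toNatTrans.app a) = _
      rw [map_app β a]
      simp))

/-- local downward closed predicates cut out stacks -/
theorem isStack_fullSub {J : GrothendieckTopology (Over S)} (h𝒳 : Stk.IsStack J 𝒳)
    (hQ : ∀ {a a' : 𝒳.obj}, (a' ⟶ a) → Q a → Q a')
    (hloc : ∀ (a : 𝒳.obj) (R : Sieve (𝒳.p.obj a)), R ∈ J (𝒳.p.obj a) →
      (∀ ⦃V : Over S⦄ (f : V ⟶ 𝒳.p.obj a), R f → ∀ (b : 𝒳.obj) (m : b ⟶ a) (h : 𝒳.p.obj b = V),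
        𝒳.p.map m = eqToHom h ≫ f → Q b) → Q a) :
    Stk.IsStack J (AlgSt.fullSub 𝒳 Q) := by
  refine ⟨isFibGrpd_fullSub h𝒳.1 hQ, fun U R hR => ?_⟩
  haveI : (Stk.resSieve R 𝒳).IsEquivalence := h𝒳.2 R hR
  let F := Stk.resSieve R (AlgSt.fullSub 𝒳 Q)
  haveI : F.Faithful := ⟨fun {G G'} β β' h => by
    have h' : (post _ (AlgSt.subIncl 𝒳 Q)).map β = (post _ (AlgSt.subIncl 𝒳 Q)).map β' :=
      (Stk.resSieve R 𝒳).map_injective (by
        apply BasedNatTrans.homCategory.ext
        ext w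
        exact congrArg InducedCategory.Hom.hom (congrArg (fun t => t.toNatTrans.app w) h :))
    apply BasedNatTrans.homCategory.ext
    ext w
    exact congrArg (fun t => t.toNatTrans.app w) h'⟩
  haveI : F.Full := ⟨fun {G G'} α => by
    let α' : BasedFunctor.comp (Stk.sieveIncl R) (BasedFunctor.comp G (AlgSt.subIncl 𝒳 Q)) ⟶
        BasedFunctor.comp (Stk.sieveIncl R) (BasedFunctor.comp G' (AlgSt.subIncl 𝒳 Q)) :=
      (post _ (AlgSt.subIncl 𝒳 Q)).map α
    obtain ⟨β, hβ⟩ := (Stk.resSieve R 𝒳).map_surjective α'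
    refine ⟨natSub β, ?_⟩
    apply BasedNatTrans.homCategory.ext
    ext w
    exact congrArg (fun t => t.toNatTrans.app w) hβ⟩
  haveI : F.EssSurj := ⟨fun H => by
    let G₀ := (Stk.resSieve R 𝒳).objPreimage (BasedFunctor.comp H (AlgSt.subIncl 𝒳 Q))
    let i := (Stk.resSieve R 𝒳).objObjPreimageIso (BasedFunctor.comp H (AlgSt.subIncl 𝒳 Q))
    have hG : ∀ o, Q (G₀.obj o) := fun o => by
      let e : 𝒳.p.obj (G₀.obj o) ⟶ U := eqToHom (G₀.w_obj o) ≫ o.hom
      refine hloc _ (R.pullback e) (J.pullback_stable _ hR) fun V f hf b m h hm => ?_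
      let o' : Over U := Over.mk (f ≫ e)
      let w : o' ⟶ o := Over.homMk (f ≫ eqToHom (G₀.w_obj o)) (by simp [o', e])
      obtain ⟨χ, -, -⟩ := existsUnique_cart h𝒳.1 (G₀.map w) m (eqToHom (h.trans (G₀.w_obj o').symm)) (by
        rw [map_map G₀ w, hm]
        show _ ≫ _ ≫ (f ≫ eqToHom _) ≫ _ = _
        simp [o'])
      exact hQ (χ ≫ i.hom.toNatTrans.app (⟨o', hf⟩ : (Stk.sieveCat R).obj)) (H.obj (⟨o', hf⟩ : (Stk.sieveCat R).obj)).property
    refine ⟨liftSub Q G₀ hG, ⟨?_⟩⟩
    exact { hom := natSub i.hom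
            inv := natSub i.inv
            hom_inv_id := by
              apply BasedNatTrans.homCategory.ext
              ext w
              exact congrArg (fun t => t.toNatTrans.app w) i.hom_inv_id
            inv_hom_id := by
              apply BasedNatTrans.homCategory.ext
              ext w
              exact congrArg (fun t => t.toNatTrans.app w) i.inv_hom_id }⟩
  exact { }

end Groth.Agent.AlgStLib

end
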