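import Groth.Agent.AlgStLib.Misc1

/-!
# Products of functors, affine functors over quasi-compact charts
-/

set_option autoImplicit false
set_option backward.isDefEq.respectTransparency false
set_option backward.isDefEq.respectTransparency.types false
set_option linter.style.haveILetI false
universe u

noncomputable section

namespace Groth.Agent.AlgStLib

open CategoryTheory CategoryTheory.Limits AlgebraicGeometry Opposite Groth.Agent.FibCatRep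
  Groth.Agent.FibCat2Misc Groth.Agent.AlgSpLib Groth.Agent.StkBasic
open _root_.AlgSp _root_.AlgSt

variable {S : Scheme.{u}} {𝒳 𝒴 𝒵 : AlgSt.Cat S} {Q : MorphismProperty (Sp S)}

/-- base change in the second factor keeps properties -/
theorem repWith_prodSnd' {𝒳' 𝒴' : AlgSt.Cat S} (p' : 𝒳' ⥤ᵇ 𝒵) (q' : 𝒴' ⥤ᵇ 𝒵) (g : 𝒴 ⥤ᵇ 𝒴')
    (hg : RepByAlgSpWith Q g) : RepByAlgSpWith Q (prodSnd p' q' g) :=
  (repWith_iff_of_equiv Q (prodSnd p' q' g) (FibCat.fpFst (FibCat.fpSnd p' q') g) (assocFun p' q' g)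
    (BasedFunctor.id _) (isEquivOver_assocFun p' q' g) isEquivOver_id
    (fpExt (Iso.refl _) (FibCat.fpIso (FibCat.fpSnd p' q') g) fun w => by
      show p'.map (𝟙 _) ≫ ((w.obj.fst.obj.iso.hom) ≫ q'.map w.obj.iso.hom) =
        w.obj.fst.obj.iso.hom ≫ q'.map w.obj.iso.hom
      simp only [CategoryTheory.Functor.map_id]
      exact Category.id_comp _)).2 (repWith_fpFst Q g (FibCat.fpSnd p' q') hg)

theorem selfOver_hom_app {𝒲 : AlgSt.Cat S} {F G : 𝒲 ⥤ᵇ FibCat.selfOver (Over S)} (α : F ⟶ G) (a : 𝒲.obj) :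
    α.toNatTrans.app a = eqToHom ((F.w_obj a).trans (G.w_obj a).symm) := map_app α a

theorem repWith_product {𝒳₁ 𝒳₂ 𝒴₁ 𝒴₂ : AlgSt.Cat S}
    (h𝒳₁ : FibCat.IsFibGrpd 𝒳₁.p) (h𝒳₂ : FibCat.IsFibGrpd 𝒳₂.p) (h𝒴₁ : FibCat.IsFibGrpd 𝒴₁.p)
    (hb : BCStable Q)
    (hc : ∀ ⦃X Y Z : Sp S⦄, IsAlgSpace X → IsAlgSpace Y → IsAlgSpace Z → ∀ (a : X ⟶ Y) (b : Y ⟶ Z),
      Q a → Q b → Q (a ≫ b))
    (hl : IsLocalOnBase (IsFppfCover (S := S)) Q)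
    (f₁ : 𝒳₁ ⥤ᵇ 𝒴₁) (f₂ : 𝒳₂ ⥤ᵇ 𝒴₂) (hf₁ : RepByAlgSpWith Q f₁) (hf₂ : RepByAlgSpWith Q f₂)
    (p₁ : 𝒳₁ ⥤ᵇ FibCat.selfOver (Over S)) (p₂ : 𝒳₂ ⥤ᵇ FibCat.selfOver (Over S))
    (q₁ : 𝒴₁ ⥤ᵇ FibCat.selfOver (Over S)) (q₂ : 𝒴₂ ⥤ᵇ FibCat.selfOver (Over S))
    (h₁ : BasedFunctor.comp f₁ q₁ = p₁) (h₂ : BasedFunctor.comp f₂ q₂ = p₂)
    (e : BasedFunctor.comp (BasedFunctor.comp (FibCat.fpFst p₁ p₂) f₁) q₁ ≅
      BasedFunctor.comp (BasedFunctor.comp (FibCat.fpSnd p₁ p₂) f₂) q₂) :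
    RepByAlgSpWith Q (FibCat.fpLift (BasedFunctor.comp (FibCat.fpFst p₁ p₂) f₁)
      (BasedFunctor.comp (FibCat.fpSnd p₁ p₂) f₂) e) := by
  subst h₁ h₂
  have K := repWith_comp (isFibGrpd_fp h𝒳₁ h𝒳₂ isFibGrpd_selfOver _ _)
    (isFibGrpd_fp h𝒴₁ h𝒳₂ isFibGrpd_selfOver q₁ (BasedFunctor.comp f₂ q₂)) hb hc hl
    (repWith_prodFst q₁ (BasedFunctor.comp f₂ q₂) f₁ hf₁) (repWith_prodSnd' q₁ q₂ f₂ hf₂)
  refine repWith_congr Q (fpExt
    (b := BasedFunctor.comp (prodFst q₁ (BasedFunctor.comp f₂ q₂) f₁) (prodSnd q₁ q₂ f₂))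
    (Iso.refl _) (Iso.refl _) fun w => ?_) K
  have e₁ := selfOver_hom_app (FibCat.fpIso (BasedFunctor.comp f₁ q₁) (BasedFunctor.comp f₂ q₂)).hom w
  have e₂ := selfOver_hom_app e.hom w
  show q₁.map (𝟙 _) ≫ w.obj.iso.hom = e.hom.toNatTrans.app w ≫ q₂.map (𝟙 _)
  rw [q₁.toFunctor.map_id, q₂.toFunctor.map_id, e₂]
  erw [Category.id_comp, Category.comp_id]
  exact e₁

/-- charts of affine schemes pull back along affine functors -/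
theorem exists_affine_chart_of_affine
    {f : 𝒳 ⥤ᵇ 𝒴} (hf : RepByAlgSpWith AlgSp.IsAffineMor f) {U : Over S} [IsAffine U.left]
    (x : FibCat.overCat U ⥤ᵇ 𝒴) (hx : RepByAlgSpWith Q x) :
    ∃ (W : Over S) (w : FibCat.overCat W ⥤ᵇ 𝒳), IsAffine W.left ∧ RepByAlgSpWith Q w := by
  obtain ⟨F, e, he, ha⟩ := hf U x
  obtain ⟨W, fst, snd, sq, hW⟩ := AlgSpLib.exists_repWith ((isAffineMor_iff_repWith _).1 ha) (𝟙 ((yon S).obj U))
  haveI : IsAffineHom snd.left := hW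
  haveI := sq.isIso_fst_of_isIso
  haveI : IsIso fst.hom := inferInstanceAs (IsIso ((sheafToPresheaf (J S) (Type (u + 1))).map fst))
  have h : RepByAlgSpWith Q (BasedFunctor.comp (BasedFunctor.comp (Stk.ofPshMap fst.hom) e) (FibCat.fpSnd x f)) :=
    repWith_comp_of_isEquiv (isEquivOver_comp (isEquivOver_ofPshMap fst.hom) he) (repWith_fpSnd Q x f hx)
  exact ⟨W, _, isAffine_of_isAffineHom snd.left, (repWith_ofOverCat_iff Q _).2 h⟩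

end Groth.Agent.AlgStLib

end
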