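import Groth.Agent.AlgStLib.FieldPt
import Groth.Agent.AlgSpLib.FpqcLocP
import Groth.Agent.SpQS.MonoField

/-!
# Monomorphisms into algebraic stacks with a point of finite presentation
-/

set_option autoImplicit false
set_option backward.isDefEq.respectTransparency false
set_option backward.isDefEq.respectTransparency.types false
set_option linter.style.haveILetI false
universe u

noncomputable section

namespace Groth.Agent.AlgStLib

open CategoryTheory CategoryTheory.Limits AlgebraicGeometry Opposite Groth.Agent.FibCatRep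
  Groth.Agent.FibCat2Misc Groth.Agent.AlgSpLib Groth.Agent.StkBasic
open _root_.AlgSp _root_.AlgSt

variable {S : Scheme.{u}} {𝒳 𝒴 : AlgSt.Cat S}

theorem cls_isIso : Cls (MorphismProperty.isomorphisms (Sp S)) :=
  ⟨fun _ _ _ _ _ _ _ _ a _ a' _ sq h => MorphismProperty.of_isPullback
      (P := MorphismProperty.isomorphisms (Sp S)) sq h,
    fun _ _ _ _ _ _ a b ha hb => by
      haveI : IsIso a := ha
      haveI : IsIso b := hb
      exact (inferInstance : IsIso (a ≫ b)),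
    isLocalOnBase_fppf isLocalOnBase_isomorphisms⟩

/-- representable functors with invertible models are equivalences -/
theorem isEquivOver_of_repWith_isIso (h𝒳 : IsAlgStack Scheme.fppfPrecoverage 𝒳) (h𝒴 : FibCat.IsFibGrpd 𝒴.p)
    {f : 𝒳 ⥤ᵇ 𝒴} (h : RepByAlgSpWith (MorphismProperty.isomorphisms (Sp S)) f) : FibCat.IsEquivOver f := by
  have h𝒳g := h𝒳.isStack.1
  have hm : AlgSt.IsMono f := repWith_mono h fun _ _ g _ hg => by
    haveI : IsIso g := hg
    exact (inferInstance : Mono g)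
  obtain ⟨hfull, hfaith⟩ := fullyFaithful_of_isMono h𝒳g h𝒴 hm
  haveI := hfull
  haveI := hfaith
  refine isEquivOver_of_fullyFaithful f fun η => ?_
  obtain ⟨y, i, hi⟩ := exists_point h𝒴 η
  obtain ⟨V, a, e, he, ⟨j⟩, ha⟩ := exists_model_of_repWith cls_isIso.bc cls_isIso.loc h𝒳g h𝒴 h
    (spOf (𝒴.p.obj η)) y
  haveI : IsIso a.hom := ha
  let ia : AlgSt.ofSp (spOf (𝒴.p.obj η)).obj ⥤ᵇ AlgSt.ofSp V.obj := Stk.ofPshMap (inv a.hom).hom
  let z := BasedFunctor.comp ia e
  have k : BasedFunctor.comp z (FibCat.fpFst y f) ≅ BasedFunctor.id _ :=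
    (Stk.restr ia _).mapIso j ≪≫ isoOfSec (BasedFunctor.comp ia (AlgSt.ofSpMap a.hom)) _ fun o => by
      rw [secOf_comp_ofPshMap, secOf_ofPshMap, secOf_id]
      show a.hom.hom.app _ ((inv a.hom).hom.app _ o.sec) = o.sec
      have hh : (inv a.hom).hom ≫ a.hom.hom = 𝟙 _ := congrArg (fun t => t.hom) (IsIso.inv_hom_id a.hom)
      exact congrArg (fun t => t.app (op o.base) o.sec) hh
  let w := BasedFunctor.comp z (FibCat.fpSnd y f)
  let E : BasedFunctor.comp w f ≅ y :=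
    ((Stk.restr z _).mapIso (FibCat.fpIso y f)).symm ≪≫ (post _ y).mapIso k
  let E₀ := ((BasedNatTrans.forgetful _ _).mapIso E).app (pt (𝒴.p.obj η))
  refine ⟨w.obj (pt _), E₀ ≪≫ i, ((f.w_obj _).trans (w.w_obj (pt _))), ?_⟩
  show 𝒴.p.map (E.hom.toNatTrans.app _ ≫ i.hom) = _
  rw [Functor.map_comp, map_app, hi, eqToHom_trans]

/-- a monomorphism into a stack with a flat surjective point of finite presentation is empty or an equivalence -/
theorem isEquivOver_of_mono_fieldPt (h𝒳 : IsAlgStack Scheme.fppfPrecoverage 𝒳)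
    (h𝒴 : IsAlgStack Scheme.fppfPrecoverage 𝒴) (f : 𝒳 ⥤ᵇ 𝒴) (hf : AlgSt.IsMono f) (hne : Nonempty (AlgSt.Points 𝒳))
    {k : Type u} [Field k] {str : Spec (CommRingCat.of k) ⟶ S} (z : FibCat.overCat (Over.mk str) ⥤ᵇ 𝒴)
    (hzp : RepByAlgSpWith (LocP @LocallyOfFinitePresentation) z)
    (hzs : RepByAlgSpWith AlgSp.IsSurjectiveMor z) (hzf : RepByAlgSpWith (LocP @Flat) z) :
    FibCat.IsEquivOver f := by
  let Y := Over.mk str
  let z₀ : AlgSt.ofSp (spOf Y).obj ⥤ᵇ 𝒴 := BasedFunctor.comp (AlgSt.toOverCat Y) z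
  obtain ⟨V, a, e, he, ⟨i⟩, ha⟩ := exists_model_of_repWith cls_mono.bc cls_mono.loc h𝒳.isStack.1 h𝒴.isStack.1 hf
    (spOf Y) z₀
  haveI : Mono a.hom := ha
  have hs := (repWith_overCat_iff _ _ z).1 hzs
  obtain ⟨p⟩ := hne
  obtain ⟨q, hq⟩ := isSurjective_of_repWith (isFibGrpd_ofSpace _) h𝒴.isStack.1 hs (AlgSt.Points.map f p)
  obtain ⟨r, -, -⟩ := exists_points_fp h𝒳.isStack.1 h𝒴.isStack.1 (isFibGrpd_ofSpace _) f z₀ q p hq
  obtain ⟨r', rfl⟩ := (bijective_map_of_equiv he).2 r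
  obtain ⟨v, rfl⟩ := (bijective_stPts _).2 r'
  haveI : IsIso a.hom := SpQS.isIso_of_mono_to_field str V.property a.hom v
  exact isEquivOver_of_repWith_isIso h𝒳 h𝒴.isStack.1 (repWith_of_lifts cls_isIso.bc cls_isIso.loc
    (repByAlgSp1_of_with hf)
    (lifts_of_fppf ((repWith_overCat_iff _ _ z).1 hzf) ((repWith_overCat_iff _ _ z).1 hzp) hs)
    (repWith_fpFst_of_model cls_isIso.bc he i (inferInstance : IsIso a.hom)))

end Groth.Agent.AlgStLib

end
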