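import Groth.Agent.AlgStLib.Morphisms
import Groth.Agent.UnivInjMor.MonoUnram

/-!
# Separation conditions on functors representable by algebraic spaces
-/

set_option autoImplicit false
set_option backward.isDefEq.respectTransparency false
set_option backward.isDefEq.respectTransparency.types false
set_option linter.style.haveILetI false
universe u

noncomputable section

namespace Groth.Agent.AlgStLib

open CategoryTheory CategoryTheory.Limits AlgebraicGeometry Opposite Groth.Agent.AlgSpLib
open _root_.AlgSp _root_.AlgSt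

variable {S : Scheme.{u}} {𝒳 𝒴 : AlgSt.Cat S}

theorem isRepresentable1_diag_of_rep {f : 𝒳 ⥤ᵇ 𝒴} (hf : RepByAlgSp1 f) :
    FibCat.IsRepresentable1 (FibCat.diag f) :=
  isRepresentable1_of_repWith (MorphismProperty.monomorphisms Scheme.{u})
    (repWith_diag_rep _ hf fun _ _ π hX => (repWith_diagonal_props hX π).1)

theorem repWith_separated_diag_of_rep {f : 𝒳 ⥤ᵇ 𝒴} (hf : RepByAlgSp1 f) :
    RepByAlgSpWith AlgSp.IsSeparatedMor (FibCat.diag f) :=
  repWith_mono (isMono_diag_of_rep hf) fun _ _ a _ ha => by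
    haveI : Mono a := ha
    exact repWith_of_isIso (P := @IsClosedImmersion) (pullback.diagonal a)

theorem isDMMor_of_rep {f : 𝒳 ⥤ᵇ 𝒴} (hf : RepByAlgSp1 f) : IsDMMor f :=
  repWith_mono (repWith_diag_rep (MorphismProperty.monomorphisms Scheme.{u} ⊓ @LocallyOfFiniteType) hf
    fun _ _ π hX => repWith_inf_iff.2 (repWith_diagonal_props hX π))
    fun F U a hF ha => by
      haveI := AlgSpLib.mono_of_repWith (repWith_inf_iff.1 ha).1
      exact UnivInjMor.unramified_of_mono hF (IsAlgSpace.yon_obj U) a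
        ((locP_iff_repWith etST_lft (IsAlgSpace.yon_obj U) ha.1).2 (repWith_inf_iff.1 ha).2)

theorem isQuasiDMMor_of_isDMMor {f : 𝒳 ⥤ᵇ 𝒴} (hf : IsDMMor f) : IsQuasiDMMor f :=
  repWith_mono hf fun _ _ _ _ ha U V a b h h₁ h₂ e => by
    obtain ⟨hl, hu⟩ := ha a b h h₁ h₂ e
    exact ⟨UnivInjMor.lqf_of_unramified h.left, hl⟩

end Groth.Agent.AlgStLib

end
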