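import Groth.Agent.AlgStLib.Diag
import Groth.Agent.AlgSpLib.ProperRange
import Groth.Agent.AlgSpLib.FpqcList

/-!
# Separation conditions on functors over the base: base change, composition, graphs, sections
-/

set_option autoImplicit false
set_option backward.isDefEq.respectTransparency false
set_option backward.isDefEq.respectTransparency.types false
set_option linter.style.haveILetI false
universe w v₄ u₄ v₃ u₃ v₂ u₂ u

noncomputable section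

namespace Groth.Agent.AlgStLib

open CategoryTheory CategoryTheory.Limits AlgebraicGeometry Opposite Groth.Agent.FibCatRep
  Groth.Agent.FibCat2Misc Groth.Agent.AlgSpLib Groth.Agent.StkBasic
open _root_.AlgSp _root_.AlgSt

variable {S : Scheme.{u}}

/-- classes of morphisms of algebraic spaces stable under base change and composition and local on the base -/
structure Cls (Q : MorphismProperty (Sp S)) : Prop where
  bc : BCStable Q
  comp : ∀ ⦃X Y Z : Sp S⦄, IsAlgSpace X → IsAlgSpace Y → IsAlgSpace Z → ∀ (a : X ⟶ Y) (b : Y ⟶ Z),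
    Q a → Q b → Q (a ≫ b)
  loc : IsLocalOnBase (IsFppfCover (S := S)) Q

theorem isLocalOnBase_fppf {Q : MorphismProperty (Sp S)} (h : IsLocalOnBase (IsFpqcCover (S := S)) Q) :
    IsLocalOnBase (IsFppfCover (S := S)) Q :=
  fun _ _ Yi g hY hYi hg _ f hX Xi p q hXi sq => h Yi g hY hYi (isFpqcCover_of_fppf hY hYi hg) f hX Xi p q hXi sq

theorem cls_locP {P : MorphismProperty Scheme.{u}} (hP : EtST P) [IsZariskiLocalAtTarget P]
    (hl : IsLocalOnBase (IsFpqcCover (S := S)) (LocP (S := S) P)) : Cls (LocP (S := S) P) :=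
  ⟨fun _ _ _ _ hX₁ hY₁ hX₂ hY₂ _ _ _ _ sq h => locP_baseChange hP hX₁ hY₁ hX₂ hY₂ sq h,
    fun _ _ _ _ hY hZ _ _ ha hb => locP_comp hP hY hZ ha hb, isLocalOnBase_fppf hl⟩

theorem cls_unramified : Cls (LocP (S := S) (@LocallyOfFiniteType ⊓ @FormallyUnramified)) :=
  ⟨fun _ _ _ _ hX₁ hY₁ hX₂ hY₂ _ _ _ _ sq h => locP_baseChange etST_unramified hX₁ hY₁ hX₂ hY₂ sq h,
    fun _ _ _ _ hY hZ _ _ ha hb => locP_comp etST_unramified hY hZ ha hb,
    isLocalOnBase_fppf isLocalOnBase_unramified⟩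

theorem cls_lqf : Cls (LocP (S := S) (@LocallyQuasiFinite ⊓ @LocallyOfFiniteType)) :=
  ⟨fun _ _ _ _ hX₁ hY₁ hX₂ hY₂ _ _ _ _ sq h => locP_baseChange etST_lqf hX₁ hY₁ hX₂ hY₂ sq h,
    fun _ _ _ _ hY hZ _ _ ha hb => locP_comp etST_lqf hY hZ ha hb,
    isLocalOnBase_fppf (isLocalOnBase_locP etST_lqf)⟩

theorem cls_proper : Cls (AlgSp.IsProperMor (S := S)) :=
  ⟨fun _ _ _ _ hX₁ hY₁ hX₂ hY₂ _ _ _ _ sq h => isProperMor_baseChange hX₁ hY₁ hY₂ hX₂ sq h,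
    fun _ _ _ _ hY hZ _ _ ha hb => isProperMor_comp hY hZ ha hb,
    isLocalOnBase_fppf isLocalOnBase_isProperMor⟩

theorem cls_separated : Cls (AlgSp.IsSeparatedMor (S := S)) :=
  ⟨fun _ _ _ _ _ _ _ _ _ _ _ _ sq h => isSeparatedMor_baseChange sq h,
    fun _ _ _ _ _ _ _ _ ha hb => isSeparatedMor_comp ha hb, isLocalOnBase_fppf isLocalOnBase_isSeparatedMor⟩

theorem cls_quasiSeparated : Cls (AlgSp.IsQuasiSeparatedMor (S := S)) :=
  ⟨fun _ _ _ _ _ _ _ _ _ _ _ _ sq h => isQuasiSeparatedMor_baseChange sq h,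
    fun _ _ _ _ _ _ _ _ ha hb => isQuasiSeparatedMor_comp ha hb,
    isLocalOnBase_fppf isLocalOnBase_isQuasiSeparatedMor⟩

theorem cls_qcqs : Cls (AlgSp.IsQuasiCompactMor ⊓ AlgSp.IsQuasiSeparatedMor : MorphismProperty (Sp S)) :=
  ⟨fun _ _ _ _ _ _ _ _ _ _ _ _ sq h => ⟨fun _ _ hW hWq _ _ _ sq' => h.1 hW hWq _ _ _ (sq'.paste_horiz sq),
      isQuasiSeparatedMor_baseChange sq h.2⟩,
    fun _ _ _ _ hY hZ _ _ ha hb => ⟨isQuasiCompactMor_comp hY hZ ha.1 hb.1, isQuasiSeparatedMor_comp ha.2 hb.2⟩,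
    isLocalOnBase_fppf (isLocalOnBase_and isLocalOnBase_isQuasiCompactMor isLocalOnBase_isQuasiSeparatedMor)⟩

variable {𝒳 𝒴 𝒵 𝒯 : AlgSt.Cat S} {Q : MorphismProperty (Sp S)}

/-- base change of diagonals -/
theorem repWith_diag_fpFst (f : 𝒳 ⥤ᵇ 𝒴) (g : 𝒵 ⥤ᵇ 𝒴) (h : RepByAlgSpWith Q (FibCat.diag f)) :
    RepByAlgSpWith Q (FibCat.diag (FibCat.fpFst g f)) :=
  (repWith_iff_of_equiv Q (FibCat.fpFst (bcSelf f g) (FibCat.diag f)) (FibCat.diag (FibCat.fpFst g f))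
    (bcDiag f g) (BasedFunctor.id _) (isEquivOver_bcDiag f g) isEquivOver_id (Iso.refl _)).1
    (repWith_fpFst Q (FibCat.diag f) (bcSelf f g) h)

/-- comparison functors are base changes of diagonals -/
theorem repWith_comparison (f : 𝒳 ⥤ᵇ 𝒵) (g : 𝒴 ⥤ᵇ 𝒵) (t : 𝒵 ⥤ᵇ 𝒯)
    (e : BasedFunctor.comp (FibCat.fpFst f g) (BasedFunctor.comp f t) ≅
      BasedFunctor.comp (FibCat.fpSnd f g) (BasedFunctor.comp g t))
    (he : ∀ x, e.hom.toNatTrans.app x = t.map x.obj.iso.hom) (h : RepByAlgSpWith Q (FibCat.diag t)) :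
    RepByAlgSpWith Q (FibCat.fpLift (FibCat.fpFst f g) (FibCat.fpSnd f g) e) :=
  (repWith_iff_of_equiv Q (FibCat.fpFst (cmpMap f g t) (FibCat.diag t))
    (FibCat.fpLift (FibCat.fpFst f g) (FibCat.fpSnd f g) e) (cmpDiag e he) (BasedFunctor.id _)
    (isEquivOver_cmpDiag e he) isEquivOver_id (Iso.refl _)).1
    (repWith_fpFst Q (FibCat.diag t) (cmpMap f g t) h)

/-- graphs are base changes of diagonals -/
theorem repWith_graph {p : 𝒳 ⥤ᵇ 𝒯} {q : 𝒴 ⥤ᵇ 𝒯} (g : 𝒳 ⥤ᵇ 𝒴)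
    (e : BasedFunctor.comp (BasedFunctor.id 𝒳) p ≅ BasedFunctor.comp g q)
    (h : RepByAlgSpWith Q (FibCat.diag q)) :
    RepByAlgSpWith Q (FibCat.fpLift (BasedFunctor.id 𝒳) g e) :=
  (repWith_iff_of_equiv Q (FibCat.fpFst (graphMap g e) (FibCat.diag q)) (FibCat.fpLift (BasedFunctor.id 𝒳) g e)
    (graphDiag g e) (BasedFunctor.id _) (isEquivOver_graphDiag g e) isEquivOver_id (Iso.refl _)).1
    (repWith_fpFst Q (FibCat.diag q) (graphMap g e) h)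

theorem isEquivOver_fpSnd_id (f : 𝒳 ⥤ᵇ 𝒯) :
    FibCat.IsEquivOver (FibCat.fpSnd (BasedFunctor.id 𝒯) f) := by
  haveI : (FibCat.fpSnd (BasedFunctor.id 𝒯) f).toFunctor.Faithful := ⟨fun {o o'} m m' h => by
    have h' : m.hom.snd = m'.hom.snd := h
    have w : m.hom.fst ≫ o'.obj.iso.hom = o.obj.iso.hom ≫ f.map m.hom.snd := m.hom.w
    have w' : m'.hom.fst ≫ o'.obj.iso.hom = o.obj.iso.hom ≫ f.map m'.hom.snd := m'.hom.w
    exact ObjectProperty.hom_ext _ (CategoricalPullback.hom_ext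
      (by rw [← cancel_mono o'.obj.iso.hom, w, w', h']) h')⟩
  haveI : (FibCat.fpSnd (BasedFunctor.id 𝒯) f).toFunctor.Full := ⟨fun {o o'} n => by
    let j : o.obj.fst ≅ f.obj o.obj.snd := o.obj.iso
    let j' : o'.obj.fst ≅ f.obj o'.obj.snd := o'.obj.iso
    exact ⟨ObjectProperty.homMk ⟨j.hom ≫ f.map n ≫ j'.inv, n, show (j.hom ≫ f.map n ≫ j'.inv) ≫ j'.hom =
      j.hom ≫ f.map n by simp⟩, rfl⟩⟩
  refine isEquivOver_of_fullyFaithful _ fun x => ?_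
  exact ⟨⟨⟨f.obj x, x, Iso.refl _⟩, fpProp_of_map (BasedFunctor.id 𝒯) f _ rfl (𝒯.p.map_id _)⟩,
    Iso.refl _, rfl, 𝒳.p.map_id _⟩

/-- sections are base changes of diagonals -/
theorem repWith_section (f : 𝒳 ⥤ᵇ 𝒯) (s : 𝒯 ⥤ᵇ 𝒳) (e : BasedFunctor.comp s f ≅ BasedFunctor.id 𝒯)
    (h : RepByAlgSpWith Q (FibCat.diag f)) : RepByAlgSpWith Q s := by
  let e' : BasedFunctor.comp (BasedFunctor.id 𝒯) (BasedFunctor.id 𝒯) ≅ BasedFunctor.comp s f := e.symm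
  exact (repWith_iff_of_equiv Q s (FibCat.fpLift (BasedFunctor.id 𝒯) s e') (BasedFunctor.id 𝒯)
    (FibCat.fpSnd (BasedFunctor.id 𝒯) f) isEquivOver_id (isEquivOver_fpSnd_id f) (Iso.refl _)).2
    (repWith_graph (p := BasedFunctor.id 𝒯) (q := f) s e' h)

/-- composition of diagonals -/
theorem repWith_diag_comp (h𝒳 : FibCat.IsFibGrpd 𝒳.p) (h𝒴 : FibCat.IsFibGrpd 𝒴.p) (hQ : Cls Q)
    (f : 𝒳 ⥤ᵇ 𝒴) (g : 𝒴 ⥤ᵇ 𝒵) (hf : RepByAlgSpWith Q (FibCat.diag f))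
    (hg : RepByAlgSpWith Q (FibCat.diag g)) : RepByAlgSpWith Q (FibCat.diag (BasedFunctor.comp f g)) := by
  let e : BasedFunctor.comp (FibCat.fpFst f f) (BasedFunctor.comp f g) ≅
      BasedFunctor.comp (FibCat.fpSnd f f) (BasedFunctor.comp f g) := (post _ g).mapIso (FibCat.fpIso f f)
  have hC := repWith_comparison f f g e (fun _ => rfl) hg
  let i : FibCat.diag (BasedFunctor.comp f g) ≅
      BasedFunctor.comp (FibCat.diag f) (FibCat.fpLift (FibCat.fpFst f f) (FibCat.fpSnd f f) e) :=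
    fpExt (Iso.refl _) (Iso.refl _) fun x => by
      show g.map (f.map (𝟙 x)) ≫ g.map (𝟙 (f.obj x)) = 𝟙 (g.obj (f.obj x)) ≫ g.map (f.map (𝟙 x))
      simp
  exact repWith_congr Q i (repWith_comp h𝒳 (isFibGrpd_fp h𝒳 h𝒳 h𝒴 f f) hQ.bc hQ.comp hQ.loc hf hC)

end Groth.Agent.AlgStLib

end
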