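import Groth.Agent.AlgStLib.DiagProps
import Groth.Agent.AlgStLib.Cancel

/-!
# The neutral section of the inertia is an immersion when the inertia is locally separated
-/

set_option autoImplicit false
set_option backward.isDefEq.respectTransparency false
set_option backward.isDefEq.respectTransparency.types false
set_option linter.style.haveILetI false
universe u

namespace Groth.Agent.AlgStLib

open CategoryTheory CategoryTheory.Limits AlgebraicGeometry Groth.Agent.AlgSpLib Groth.Agent.StkBasic
open _root_.AlgSp _root_.AlgSt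

variable {S : Scheme.{u}} {𝒳 𝒴 : AlgSt.Cat S}

theorem respectsIso_locallySeparated : (AlgSp.IsLocallySeparatedMor (S := S)).RespectsIso :=
  respectsIso_of_bc fun _ _ _ _ _ _ _ _ sq h => by
    obtain ⟨b, hb⟩ := exists_isPullback_diagonal sq
    exact repWith_baseChange hb h

theorem isImm_diag_of_locallySeparated {f : 𝒳 ⥤ᵇ 𝒴} (h : RepByAlgSpWith AlgSp.IsLocallySeparatedMor f) :
    IsImm (FibCat.diag f) := by
  haveI := respectsIso_locallySeparated (S := S)
  exact repWith_diag_of_repWith h fun _ U π hX hπ =>
    repBySpWith_diagonal (fun _ _ _ _ _ h => h) hX (IsAlgSpace.yon_obj U) π hπ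

theorem isImm_neutral {f : 𝒳 ⥤ᵇ 𝒴} :
    (RepByAlgSpWith AlgSp.IsLocallySeparatedMor (FibCat.inertiaToBase f) → IsImm (FibCat.inertiaNeutral f)) ∧
      (RepByAlgSpWith AlgSp.IsLocallySeparatedMor (FibCat.diag f) → IsImm (FibCat.inertiaNeutral f)) :=
  ⟨fun h => repWith_neutral_of_diag (isImm_diag_of_locallySeparated h),
    fun h => repWith_neutral_of_diag (isImm_diag_of_locallySeparated (repWith_inertia_of_diag h))⟩

end Groth.Agent.AlgStLib
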