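import Groth.Agent.AlgStLib.SmLocally
import Groth.Agent.AlgStLib.QC2

/-!
# Properties read smooth locally: algebraic spaces as charts
-/

set_option autoImplicit false
set_option backward.isDefEq.respectTransparency false
set_option backward.isDefEq.respectTransparency.types false
set_option linter.style.haveILetI false
universe u

noncomputable section

namespace Groth.Agent.AlgStLib

open CategoryTheory CategoryTheory.Limits AlgebraicGeometry Opposite Groth.Agent.FibCatRep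
  Groth.Agent.FibCat2Misc Groth.Agent.AlgSpLib Groth.Agent.StkBasic
open _root_.AlgSp _root_.AlgSt

variable {S : Scheme.{u}} {𝒳 : AlgSt.Cat S}

/-- the identity of a scheme as an atlas -/
theorem repWith_ofOverCat_atlas (U : Over S) :
    RepByAlgSpWith (LocP @Smooth) (AlgSt.ofOverCat U) ∧
      RepByAlgSpWith AlgSp.IsSurjectiveMor (AlgSt.ofOverCat U) := by
  obtain ⟨h₁, h₂⟩ := repWith_smooth_of_equiv_space (W := spOf U) (e := BasedFunctor.id _) isEquivOver_id
  exact ⟨(repWith_ofOverCat_iff _ (BasedFunctor.id _)).2 h₁, (repWith_ofOverCat_iff _ (BasedFunctor.id _)).2 h₂⟩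

/-- etale charts of spaces composed with smooth functors -/
theorem repWith_chart_comp (h𝒳 : FibCat.IsFibGrpd 𝒳.p) {X : AlgSp.Space S} {W : Over S}
    (p : (yon S).obj W ⟶ X.obj) (he : RepWith @Etale p) (hs : RepWith @Surjective p)
    {x : AlgSt.ofSp X.obj ⥤ᵇ 𝒳} (hx : RepByAlgSpWith (LocP @Smooth) x) :
    RepByAlgSpWith (LocP @Smooth) (BasedFunctor.comp (BasedFunctor.comp (AlgSt.ofOverCat W) (Stk.ofPshMap p.hom)) x) ∧
      (RepByAlgSpWith AlgSp.IsSurjectiveMor x → RepByAlgSpWith AlgSp.IsSurjectiveMor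
        (BasedFunctor.comp (BasedFunctor.comp (AlgSt.ofOverCat W) (Stk.ofPshMap p.hom)) x)) := by
  have g := isFibGrpd_overCat (C := Over S) W
  have g' := isFibGrpd_ofSpace X.obj.obj
  have h₁ := (repWith_ofOverCat_iff _ _).2
    (repWith_smooth_ofPshMap_of_etale (IsAlgSpace.yon_obj W) X.property p he)
  have h₂ := (repWith_ofOverCat_iff _ _).2
    (repWith_ofSpMap cls_surjective.bc (V := spOf W) (W := X) (ObjectProperty.homMk p) (isSurjectiveMor_of_repWith hs))
  exact ⟨repWith_comp g g' cls_smooth.bc cls_smooth.comp cls_smooth.loc h₁ hx,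
    fun hxs => repWith_comp g g' cls_surjective.bc cls_surjective.comp cls_surjective.loc h₂ hxs⟩

variable {P : Scheme.{u} → Prop}

theorem etaleLocally_of_smoothLocally (h𝒳 : FibCat.IsFibGrpd 𝒳.p) (h : AlgSt.SmoothLocally P 𝒳)
    (X : AlgSp.Space S) (x : AlgSt.ofSp X.obj ⥤ᵇ 𝒳) (hx : RepByAlgSpWith (LocP @Smooth) x) :
    AlgSp.EtaleLocally P X.obj := by
  obtain ⟨W, p, he, hs⟩ := X.property.atlas
  exact ⟨W, p, he, hs, h W _ (repWith_chart_comp h𝒳 p he hs hx).1⟩

theorem smoothLocally_of_space (h𝒳 : IsAlgStack Scheme.fppfPrecoverage 𝒳)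
    (hP : ∀ (U : Scheme.{u}) (R : Presieve U), R ∈ Scheme.precoverage @Smooth U →
      (P U ↔ ∀ ⦃V : Scheme.{u}⦄ (g : V ⟶ U), R g → P V))
    {X : AlgSp.Space S} {x : AlgSt.ofSp X.obj ⥤ᵇ 𝒳} (hx : RepByAlgSpWith (LocP @Smooth) x)
    (hxs : RepByAlgSpWith AlgSp.IsSurjectiveMor x) (h : AlgSp.EtaleLocally P X.obj) :
    AlgSt.SmoothLocally P 𝒳 := by
  obtain ⟨W, p, he, hs, hW⟩ := h
  obtain ⟨h₁, h₂⟩ := repWith_chart_comp h𝒳.isStack.1 p he hs hx
  exact (smoothLocally_iff_exists h𝒳 P hP).2 ⟨W, _, h₁, h₂ hxs, hW⟩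

theorem exists_space_atlas (h : IsAlgStack Scheme.fppfPrecoverage 𝒳) :
    ∃ (X : AlgSp.Space S) (x : AlgSt.ofSp X.obj ⥤ᵇ 𝒳),
      RepByAlgSpWith (LocP @Smooth) x ∧ RepByAlgSpWith AlgSp.IsSurjectiveMor x := by
  obtain ⟨U, x, h₁, h₂⟩ := exists_atlas h.atlas
  exact ⟨spOf U, x, h₁, h₂⟩

end Groth.Agent.AlgStLib

end
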