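import Groth.Agent.AlgStLib.Misc1
import Groth.Agent.AlgStLib.SmLocallySp
import Groth.Agent.S10547
import Mathlib.Topology.Sober

/-!
# Locally Noetherian algebraic stacks: immersions and points
-/

set_option autoImplicit false
set_option backward.isDefEq.respectTransparency false
set_option backward.isDefEq.respectTransparency.types false
set_option linter.style.haveILetI false
universe u

noncomputable section

namespace Groth.Agent.AlgStLib

open CategoryTheory CategoryTheory.Limits AlgebraicGeometry Opposite Groth.Agent.FibCatRep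
  Groth.Agent.FibCat2Misc Groth.Agent.AlgSpLib Groth.Agent.StkBasic TopologicalSpace
open _root_.AlgSp _root_.AlgSt

variable {S : Scheme.{u}} {𝒳 𝒴 : AlgSt.Cat S}

local notation "AS" => IsAlgStack Scheme.fppfPrecoverage
local notation "LN" => AlgSt.SmoothLocally (fun T => IsLocallyNoetherian T)

theorem quasiCompact_of_isImmersion {X Y : Scheme.{u}} (f : X ⟶ Y) [IsImmersion f] [IsLocallyNoetherian Y] :
    QuasiCompact f := by
  haveI : IsLocallyNoetherian f.coborderRange.toScheme := inferInstance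
  rw [← f.liftCoborder_ι]
  infer_instance

theorem isQuasiCompactMor_immersion {F : Sp S} {V : Over S} [IsLocallyNoetherian V.left]
    (a : F ⟶ (yon S).obj V) (ha : RepWith @IsImmersion a) : AlgSp.IsQuasiCompactMor a := by
  haveI := respectsIso_quasiCompact (S := S)
  obtain ⟨W, fst, snd, sq, hW⟩ := AlgSpLib.exists_repWith ha (𝟙 ((yon S).obj V))
  haveI : IsImmersion snd.left := hW
  haveI := sq.isIso_fst_of_isIso
  refine (MorphismProperty.cancel_left_of_respectsIso _ fst a).1 ?_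
  rw [sq.w, Category.comp_id]
  exact (isQuasiCompactMor_iff_repWith (IsAlgSpace.yon_obj W) (IsAlgSpace.yon_obj V)
    (representable_yon_map snd)).2 ((repWith_yon_iff snd).2 (quasiCompact_of_isImmersion snd.left))

theorem repWith_qc_of_isImm (h𝒳 : AS 𝒳) (h𝒴 : AS 𝒴) {j : 𝒳 ⥤ᵇ 𝒴} (hj : AlgSt.IsImm j) (h : LN 𝒴) :
    RepByAlgSpWith AlgSp.IsQuasiCompactMor j := by
  obtain ⟨V, y, hy, hy'⟩ := exists_atlas_sp h𝒴
  haveI : IsLocallyNoetherian V.left :=
    h V (BasedFunctor.comp (AlgSt.ofOverCat V) y) ((repWith_ofOverCat_iff _ y).2 hy)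
  obtain ⟨A, a, e, he, hi, ha⟩ := exists_model_of_repWith (bcStable_repWith @IsImmersion)
    (Groth.Agent.S10547.result S) h𝒳.isStack.1 h𝒴.isStack.1 hj (spOf V) y
  exact (repWith_iff_exists_model cls_qc.bc cls_qc.loc h𝒳 h𝒴 j (spOf V) y (repWith_flat_of_smooth hy)
    (repWith_lfp_of_smooth hy) hy').2 ⟨A, a, e, he, hi, isQuasiCompactMor_immersion a.hom ha⟩

theorem repWith_qs_of_isImm {j : 𝒳 ⥤ᵇ 𝒴} (hj : AlgSt.IsImm j) :
    RepByAlgSpWith AlgSp.IsQuasiSeparatedMor j :=
  repWith_mono hj fun _ U _ hF ha =>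
    (isQuasiSeparatedMor_iff_repWith hF (IsAlgSpace.yon_obj U) ha.1).2 (AlgSpLib.repWith_mono (fun _ _ r hr => by
      haveI : IsImmersion r := hr
      infer_instance) ha)

theorem isQuasiSeparatedOver_of_qs (h𝒳 : AS 𝒳) (h𝒴 : AS 𝒴) {j : 𝒳 ⥤ᵇ 𝒴}
    (hj : RepByAlgSpWith AlgSp.IsQuasiSeparatedMor j) (h : AlgSt.IsQuasiSeparatedOver 𝒴) :
    AlgSt.IsQuasiSeparatedOver 𝒳 := by
  unfold AlgSt.IsQuasiSeparatedOver AlgSt.IsQuasiSeparatedMor
  rw [← comp_toSelf j]
  exact repWith_diag_comp h𝒳.isStack.1 h𝒴.isStack.1 cls_qcqs _ _ (isQuasiSeparatedMor_of_quasiSeparated hj) h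

/-- local Noetherianity of the space of points -/
theorem exists_noetherian_nhd (h𝒳 : AS 𝒳) (h : LN 𝒳) (p : AlgSt.Points 𝒳) :
    ∃ O : Set (AlgSt.Points 𝒳), IsOpen O ∧ p ∈ O ∧ NoetherianSpace O := by
  obtain ⟨U, x, h₁, h₂⟩ := h𝒳.atlas
  haveI : IsLocallyNoetherian U.left := h U x h₁
  obtain ⟨t, rfl⟩ := exists_point_of_surjective h𝒳.isStack.1 x h₂ p
  obtain ⟨Z, hZ, htZ, -⟩ := TopologicalSpace.Opens.isBasis_iff_nbhd.mp U.left.isBasis_affineOpens
    (TopologicalSpace.Opens.mem_top t)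
  haveI := IsLocallyNoetherian.component_noetherian ⟨Z, hZ⟩
  haveI : NoetherianSpace (Z : Set U.left) := noetherianSpace_of_isAffineOpen Z hZ
  refine ⟨AlgSt.Points.ofChart x '' (Z : Set U.left),
    isOpenMap_ofChart h𝒳.isStack.1 x (repWith_flat_of_smooth h₁) (repWith_lfp_of_smooth h₁) _ Z.isOpen,
    ⟨t, htZ, rfl⟩, ?_⟩
  rw [Set.image_eq_range]
  exact NoetherianSpace.range _ ((continuous_ofChart h𝒳 x).comp continuous_subtype_val)

theorem noetherianSpace_points (h𝒳 : AS 𝒳) (hq : AlgSt.IsQuasiCompact 𝒳) (h : LN 𝒳) :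
    NoetherianSpace (AlgSt.Points 𝒳) := by
  obtain ⟨U, x, hU, h₁, h₂⟩ := hq
  haveI : IsLocallyNoetherian U.left := h U x h₁
  haveI : IsNoetherian U.left := { }
  exact noetherianSpace_of_surjective _ (continuous_ofChart h𝒳 x) (exists_point_of_surjective h𝒳.isStack.1 x h₂)

/-- every irreducible closed set has a generic point -/
theorem quasiSober_points (h𝒳 : AS 𝒳) (h : LN 𝒳) : QuasiSober (AlgSt.Points 𝒳) := ⟨fun {Z} hZ hc => by
  obtain ⟨U, x, h₁, h₂⟩ := h𝒳.atlas
  haveI : IsLocallyNoetherian U.left := h U x h₁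
  obtain ⟨p, hp⟩ := hZ.nonempty
  obtain ⟨t, rfl⟩ := exists_point_of_surjective h𝒳.isStack.1 x h₂ p
  obtain ⟨V, hV, htV, -⟩ := TopologicalSpace.Opens.isBasis_iff_nbhd.mp U.left.isBasis_affineOpens
    (TopologicalSpace.Opens.mem_top t)
  haveI := IsLocallyNoetherian.component_noetherian ⟨V, hV⟩
  haveI : NoetherianSpace ↥(Scheme.Opens.toScheme V) := noetherianSpace_of_isAffineOpen V hV
  let g : ↥(Scheme.Opens.toScheme V) → AlgSt.Points 𝒳 := fun v => AlgSt.Points.ofChart x ((Scheme.Opens.ι V) v)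
  have hg : Continuous g := (continuous_ofChart h𝒳 x).comp (Scheme.Opens.ι V).continuous
  have hgo : IsOpenMap g :=
    (isOpenMap_ofChart h𝒳.isStack.1 x (repWith_flat_of_smooth h₁) (repWith_lfp_of_smooth h₁)).comp
      (Scheme.Opens.ι V).isOpenEmbedding.isOpenMap
  let O := Set.range g
  have hO : IsOpen O := hgo.isOpen_range
  have htO : AlgSt.Points.ofChart x t ∈ O := ⟨⟨t, htV⟩, rfl⟩
  obtain ⟨s, hsf, hsc, hsi, hsu⟩ := NoetherianSpace.exists_finite_set_isClosed_irreducible (hc.preimage hg)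
  haveI : Finite s := hsf
  let η : s → ↥(Scheme.Opens.toScheme V) := fun i => (hsi i.1 i.2).genericPoint
  have cov : Z ⊆ ⋃ i : s, closure {g (η i)} := by
    refine (subset_closure_inter_of_isPreirreducible_of_isOpen hZ.2 hO ⟨_, hp, htO⟩).trans
      (closure_minimal ?_ (isClosed_iUnion_of_finite fun _ => isClosed_closure))
    rintro z ⟨hz, v, rfl⟩
    have hv : v ∈ g ⁻¹' Z := hz
    rw [hsu] at hv
    obtain ⟨C, hC, hvC⟩ := hv
    refine Set.mem_iUnion.mpr ⟨⟨C, hC⟩, ?_⟩
    have hgen : IsGenericPoint (hsi C hC).genericPoint C := by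
      have := (hsi C hC).isGenericPoint_genericPoint_closure
      rwa [(hsc C hC).closure_eq] at this
    have h9 : v ∈ closure {η ⟨C, hC⟩} := by
      show v ∈ closure {(hsi C hC).genericPoint}
      rw [hgen.def]; exact hvC
    have := image_closure_subset_closure_image hg ⟨v, h9, rfl⟩
    rwa [Set.image_singleton] at this
  obtain ⟨i, hi⟩ : ∃ i : s, Z ⊆ closure {g (η i)} := by
    classical
    obtain ⟨C, hC, hZC⟩ := isIrreducible_iff_sUnion_isClosed.mp hZ
      ((Set.finite_range fun i : s => closure {g (η i)}).toFinset) (by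
        intro C hC
        obtain ⟨i, rfl⟩ := (Set.Finite.mem_toFinset _).mp hC
        exact isClosed_closure) (by
        rw [Set.Finite.coe_toFinset, Set.sUnion_range]
        exact cov)
    obtain ⟨i, rfl⟩ := (Set.Finite.mem_toFinset _).mp hC
    exact ⟨i, hZC⟩
  refine ⟨g (η i), Set.Subset.antisymm (closure_minimal (Set.singleton_subset_iff.mpr ?_) hc) hi⟩
  have hgen : IsGenericPoint (hsi i.1 i.2).genericPoint i.1 := by
    have := (hsi i.1 i.2).isGenericPoint_genericPoint_closure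
    rwa [(hsc i.1 i.2).closure_eq] at this
  show η i ∈ g ⁻¹' Z
  rw [hsu]
  exact ⟨i.1, i.2, hgen.mem⟩⟩

end Groth.Agent.AlgStLib

end
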