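import Groth.Agent.AlgStLib.Misc1

/-!
# Open substacks and their points
-/

set_option autoImplicit false
set_option backward.isDefEq.respectTransparency false
set_option backward.isDefEq.respectTransparency.types false
set_option linter.style.haveILetI false
universe u

noncomputable section

namespace Groth.Agent.AlgStLib

open CategoryTheory CategoryTheory.Limits AlgebraicGeometry Opposite Groth.Agent.FibCatRep
  Groth.Agent.FibCat2Misc Groth.Agent.AlgSpLib Groth.Agent.StkBasic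
open _root_.AlgSp _root_.AlgSt

variable {S : Scheme.{u}} {𝒳 𝒴 𝒵 : AlgSt.Cat S}

local notation "AS" => IsAlgStack Scheme.fppfPrecoverage

/-- the objects all of whose points lie in a set of points -/
def InSet (O : Set (AlgSt.Points 𝒳)) (a : 𝒳.obj) : Prop :=
  ∀ p : AlgSt.FPt 𝒳, Nonempty (p.obj ⟶ a) → AlgSt.Points.mk p ∈ O

theorem InSet.of_hom {O : Set (AlgSt.Points 𝒳)} {a a' : 𝒳.obj} (m : a' ⟶ a) (h : InSet O a) : InSet O a' :=
  fun p ⟨n⟩ => h p ⟨n ≫ m⟩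

theorem inSet_closedUnderIso (O : Set (AlgSt.Points 𝒳)) : ObjectProperty.IsClosedUnderIsomorphisms (InSet O) :=
  ⟨fun i h => h.of_hom i.inv⟩

theorem mk_eq_of_hom {p q : AlgSt.FPt 𝒳} (m : q.obj ⟶ p.obj) : AlgSt.Points.mk q = AlgSt.Points.mk p :=
  AlgSt.Points.sound ⟨q, 𝟙 _, m, trivial⟩

theorem inSet_fpt_iff {O : Set (AlgSt.Points 𝒳)} {p : AlgSt.FPt 𝒳} : InSet O p.obj ↔ AlgSt.Points.mk p ∈ O :=
  ⟨fun h => h p ⟨𝟙 _⟩, fun h q ⟨m⟩ => (mk_eq_of_hom m).symm ▸ h⟩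

/-- membership on charts -/
theorem inSet_chart_iff (h𝒳 : FibCat.IsFibGrpd 𝒳.p) (O : Set (AlgSt.Points 𝒳)) {U : Over S} (x : FibCat.overCat U ⥤ᵇ 𝒳) (o : Over U) :
    InSet O (x.obj o) ↔ ∀ t : ↥o.left.left, AlgSt.Points.ofChart x (o.hom.left t) ∈ O := by
  let A : ∀ t : ↥o.left.left, Over o.left := fun t => Over.mk (Over.homMk (o.left.left.fromSpecResidueField t) rfl :
    Over.mk (o.left.left.fromSpecResidueField t ≫ o.left.hom) ⟶ o.left)
  constructor
  · intro h t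
    rw [← ofChart_overMap]
    refine h _ ⟨?_⟩
    exact x.map (Over.homMk (A t).hom (by simp [A]; rfl) : (AlgSt.overMap o.hom).obj (A t) ⟶ o)
  · rintro h p ⟨m⟩
    obtain ⟨k⟩ := nonempty_pt p
    let e : 𝒳.p.obj p.obj ⟶ o.left := 𝒳.p.map m ≫ eqToHom (x.w_obj o)
    have key := h (e.left k)
    rw [← ofChart_overMap] at key
    convert key using 1
    let z : Over U := Over.mk (e ≫ o.hom)
    let w : z ⟶ o := Over.homMk e rfl
    let K := (𝒳.p.obj p.obj).left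
    let B : Over U := Over.mk ((Over.homMk (K.fromSpecResidueField k) rfl :
      Over.mk (K.fromSpecResidueField k ≫ (𝒳.p.obj p.obj).hom) ⟶ 𝒳.p.obj p.obj) ≫ e ≫ o.hom)
    let T := o.left.left.fromSpecResidueField (e.left k)
    have hT := Scheme.Hom.SpecMap_residueFieldMap_fromSpecResidueField e.left k
    let n : B ⟶ (AlgSt.overMap o.hom).obj (A (e.left k)) :=
      Over.homMk (Over.homMk (Spec.map (e.left.residueFieldMap k)) (by
        show Spec.map _ ≫ o.left.left.fromSpecResidueField (e.left k) ≫ o.left.hom =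
          K.fromSpecResidueField k ≫ (𝒳.p.obj p.obj).hom
        rw [← Category.assoc, hT, Category.assoc, Over.w e]))
        (Over.OverMorphism.ext (by
          show Spec.map _ ≫ o.left.left.fromSpecResidueField (e.left k) ≫ o.hom.left =
            K.fromSpecResidueField k ≫ e.left ≫ o.hom.left
          rw [← Category.assoc, hT, Category.assoc]))
    let n' : B ⟶ o := Over.homMk ((Over.homMk (K.fromSpecResidueField k) rfl :
      Over.mk (K.fromSpecResidueField k ≫ (𝒳.p.obj p.obj).hom) ⟶ 𝒳.p.obj p.obj) ≫ e) (Category.assoc _ _ _)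
    let r : AlgSt.FPt 𝒳 := ⟨K.residueField k, K.fromSpecResidueField k ≫ (𝒳.p.obj p.obj).hom, x.obj B, x.w_obj B⟩
    refine AlgSt.Points.sound ⟨r, ?_, ?_, trivial⟩
    · exact (existsUnique_cart h𝒳 m (x.map n') (eqToHom (x.w_obj B) ≫
        (Over.homMk (K.fromSpecResidueField k) rfl :
          Over.mk (K.fromSpecResidueField k ≫ (𝒳.p.obj p.obj).hom) ⟶ 𝒳.p.obj p.obj)) (by
            rw [map_map x n', Category.assoc]
            show _ = _ ≫ ((Over.homMk (K.fromSpecResidueField k) rfl :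
              Over.mk (K.fromSpecResidueField k ≫ (𝒳.p.obj p.obj).hom) ⟶ 𝒳.p.obj p.obj) ≫ e) ≫ _
            simp [e])).exists.choose
    · exact x.map n

section substack

variable {Q : 𝒳.obj → Prop}

/-- downward closed predicates give categories fibred in groupoids -/
theorem isFibGrpd_fullSub (h𝒳 : FibCat.IsFibGrpd 𝒳.p) (hQ : ∀ {a a' : 𝒳.obj}, (a' ⟶ a) → Q a → Q a') :
    FibCat.IsFibGrpd (AlgSt.fullSub 𝒳 Q).p := by
  refine isFibGrpd_mk (fun {x V} f => ?_) (fun {z y x} φ ψ g h => ?_)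
  · obtain ⟨w, φ, hw, hφ⟩ := exists_lift h𝒳 f
    exact ⟨⟨w, hQ φ x.property⟩, ObjectProperty.homMk φ, hw, hφ⟩
  · obtain ⟨χ, ⟨h₁, h₂⟩, hu⟩ := existsUnique_cart h𝒳 φ.hom ψ.hom g h
    exact ⟨ObjectProperty.homMk χ, ⟨h₁, ObjectProperty.hom_ext _ h₂⟩, fun χ' h' =>
      ObjectProperty.hom_ext _ (hu χ'.hom ⟨h'.1, congrArg InducedCategory.Hom.hom h'.2⟩)⟩

/-- substacks are downward closed -/
theorem substack_of_hom (h𝒳 : FibCat.IsFibGrpd 𝒳.p) (hiso : ObjectProperty.IsClosedUnderIsomorphisms Q)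
    (hfib : FibCat.IsFibGrpd (AlgSt.fullSub 𝒳 Q).p) {a a' : 𝒳.obj} (m : a' ⟶ a) (h : Q a) : Q a' := by
  obtain ⟨z, φ, hz, hφ⟩ := exists_lift hfib (x := ⟨a, h⟩) (V := 𝒳.p.obj a') (𝒳.p.map m)
  obtain ⟨χ, ⟨hχ, -⟩, -⟩ := existsUnique_cart h𝒳 φ.hom m (eqToHom hz.symm) (by
    rw [show 𝒳.p.map φ.hom = eqToHom hz ≫ 𝒳.p.map m from hφ]; simp)
  haveI : IsIso (𝒳.p.map χ) := by rw [hχ]; infer_instance
  haveI := Groth.Agent.FibCatRep.isIso_of_map h𝒳 χ
  exact hiso.of_iso (asIso χ).symm z.property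

variable (Q) in
/-- corestriction to a full subcategory -/
def liftSub {𝒲 : AlgSt.Cat S} (F : 𝒲 ⥤ᵇ 𝒳) (h : ∀ w, Q (F.obj w)) : 𝒲 ⥤ᵇ AlgSt.fullSub 𝒳 Q where
  toFunctor := ObjectProperty.lift Q F.toFunctor h
  w := F.w

theorem range_map_subIncl_subset {T : Set (AlgSt.Points 𝒳)}
    (h : ∀ p : AlgSt.FPt 𝒳, Q p.obj → AlgSt.Points.mk p ∈ T) :
    Set.range (AlgSt.Points.map (AlgSt.subIncl 𝒳 Q)) ⊆ T := by
  rintro _ ⟨x, rfl⟩
  obtain ⟨p, rfl⟩ := AlgSt.Points.mk_surjective x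
  exact h _ p.obj.property

theorem mk_mem_range_subIncl (p : AlgSt.FPt 𝒳) (h : Q p.obj) :
    AlgSt.Points.mk p ∈ Set.range (AlgSt.Points.map (AlgSt.subIncl 𝒳 Q)) :=
  ⟨AlgSt.Points.mk { K := p.K, str := p.str, obj := ⟨p.obj, h⟩, lies := p.lies }, rfl⟩

end substack

theorem range_subIncl_inSet (O : Set (AlgSt.Points 𝒳)) :
    Set.range (AlgSt.Points.map (AlgSt.subIncl 𝒳 (InSet O))) = O := by
  refine Set.Subset.antisymm (range_map_subIncl_subset fun p h => inSet_fpt_iff.1 h) fun x hx => ?_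
  obtain ⟨p, rfl⟩ := AlgSt.Points.mk_surjective x
  exact mk_mem_range_subIncl p (inSet_fpt_iff.2 hx)

/-- the inclusion of the objects with points in an open set is an open immersion -/
theorem isOpenImm_inSet (h𝒳 : AS 𝒳) {O : Set (AlgSt.Points 𝒳)} (hO : IsOpen O) :
    AlgSt.IsOpenImm (AlgSt.subIncl 𝒳 (InSet O)) := by
  intro U y
  let W : U.left.Opens := ⟨AlgSt.Points.ofChart y ⁻¹' O, hO.preimage (continuous_ofChart h𝒳 y)⟩
  let U' : Over S := Over.mk (W.ι ≫ U.hom)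
  let j : U' ⟶ U := Over.homMk W.ι
  have hQ : ∀ o : (FibCat.overCat U').obj, InSet O ((BasedFunctor.comp (AlgSt.overMap j) y).obj o) := fun o => by
    refine (inSet_chart_iff h𝒳.isStack.1 O y ((AlgSt.overMap j).obj o)).2 fun t => ?_
    exact (o.hom.left t).2
  let L : FibCat.overCat U' ⥤ᵇ FibCat.fp y (AlgSt.subIncl 𝒳 (InSet O)) :=
    FibCat.fpLift (AlgSt.overMap j) (liftSub (InSet O) (BasedFunctor.comp (AlgSt.overMap j) y) hQ) (Iso.refl _)
  haveI : L.toFunctor.Faithful := ⟨fun {a b} m m' h => by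
    have := congrArg (fun t => t.hom.fst.left) h
    exact Over.OverMorphism.ext this⟩
  haveI : L.toFunctor.Full := ⟨fun {a b} n => by
    refine ⟨Over.homMk n.hom.fst.left ?_, ?_⟩
    · refine Over.OverMorphism.ext ((cancel_mono W.ι).1 ?_)
      have w := congrArg CommaMorphism.left (Over.w n.hom.fst)
      simpa [L, j, AlgSt.overMap, FibCat.fpLift] using w
    · refine ObjectProperty.hom_ext _ (CategoricalPullback.hom_ext (Over.OverMorphism.ext rfl) ?_)
      refine ObjectProperty.hom_ext _ ?_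
      have w : y.map n.hom.fst ≫ (L.obj b).obj.iso.hom = (L.obj a).obj.iso.hom ≫ n.hom.snd.hom := n.hom.w
      show y.map _ = n.hom.snd.hom
      simp [L, FibCat.fpLift] at w
      convert ((Category.comp_id _).symm.trans w).trans (Category.id_comp _) using 2
      exact Over.OverMorphism.ext rfl⟩
  have hL : FibCat.IsEquivOver L := by
    refine isEquivOver_of_fullyFaithful L fun η => ?_
    obtain ⟨h₁, h₂⟩ := map_iso_hom η
    have hin : InSet O (y.obj η.obj.fst) := η.obj.snd.property.of_hom η.obj.iso.hom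
    have hr : Set.range η.obj.fst.hom.left ⊆ Set.range W.ι := by
      rintro _ ⟨t, rfl⟩
      rw [Scheme.Opens.range_ι]
      exact (inSet_chart_iff h𝒳.isStack.1 O y η.obj.fst).1 hin t
    let g := IsOpenImmersion.lift W.ι η.obj.fst.hom.left hr
    have hg : g ≫ W.ι = η.obj.fst.hom.left := IsOpenImmersion.lift_fac _ _ _
    let ξ : (FibCat.overCat U').obj := Over.mk (Over.homMk g (by
      show g ≫ W.ι ≫ U.hom = η.obj.fst.left.hom
      rw [← Category.assoc, hg, Over.w η.obj.fst.hom]) : η.obj.fst.left ⟶ U')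
    let a : (AlgSt.overMap j).obj ξ ≅ η.obj.fst := Over.isoMk (Iso.refl _) (by
      refine Over.OverMorphism.ext ?_
      simpa [ξ, j, AlgSt.overMap] using hg.symm)
    let b : (liftSub (InSet O) (BasedFunctor.comp (AlgSt.overMap j) y) hQ).obj ξ ≅ η.obj.snd :=
      ObjectProperty.isoMk _ (y.toFunctor.mapIso a ≪≫ η.obj.iso)
    refine ⟨ξ, ObjectProperty.isoMk _ (CategoricalPullback.mkIso a b (by
      simp [L, b, liftSub, FibCat.fpLift, AlgSt.subIncl]
      exact (Category.id_comp _).symm)), rfl, ?_⟩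
    show (FibCat.overCat U).p.map a.hom = _
    rfl
  refine ⟨spOf U', BasedFunctor.comp (AlgSt.toOverCat U') L, isEquivOver_comp (isEquivOver_toOverCat U') hL, ?_⟩
  have hmap : AlgSt.spMapOfOver (BasedFunctor.comp (BasedFunctor.comp (AlgSt.toOverCat U') L)
      (FibCat.fpFst y (AlgSt.subIncl 𝒳 (InSet O)))) = (yon S).map j :=
    ObjectProperty.hom_ext _ (by ext T x; apply ULift.ext; rfl)
  rw [hmap]
  exact (repWith_yon_iff _).2 (inferInstanceAs (IsOpenImmersion W.ι))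

theorem isOpenSubstack_inSet (h𝒳 : AS 𝒳) {O : Set (AlgSt.Points 𝒳)} (hO : IsOpen O) :
    AlgSt.IsOpenSubstack 𝒳 (InSet O) Scheme.fppfPrecoverage :=
  ⟨inSet_closedUnderIso O, isAlgStack_of_rep (isFibGrpd_fullSub h𝒳.isStack.1 fun m h => h.of_hom m) h𝒳
    (repByAlgSp1_of_with (isOpenImm_inSet h𝒳 hO)), isOpenImm_inSet h𝒳 hO⟩

section model

/-- two functors to a slice with the same structure morphisms are isomorphic -/
theorem nonempty_iso_overCat {U : Over S} {𝒲 : AlgSt.Cat S} (Φ Ψ : 𝒲 ⥤ᵇ FibCat.overCat U)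
    (h : ∀ w, eqToHom (Φ.w_obj w).symm ≫ (Φ.obj w).hom = eqToHom (Ψ.w_obj w).symm ≫ (Ψ.obj w).hom) :
    Nonempty (Φ ≅ Ψ) :=
  ⟨BasedNatIso.mkNatIso (NatIso.ofComponents (fun w => Over.isoMk (eqToIso ((Φ.w_obj w).trans (Ψ.w_obj w).symm)) (by
      have := h w
      rw [← cancel_epi (eqToHom (Φ.w_obj w).symm), this]
      simp)) (fun {a b} m => Over.OverMorphism.ext (by
        have h₁ := map_map Φ m
        have h₂ := map_map Ψ m
        change (Φ.map m).left = _ at h₁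
        change (Ψ.map m).left = _ at h₂
        show (Φ.map m).left ≫ eqToHom ((Φ.w_obj b).trans (Ψ.w_obj b).symm) =
          eqToHom ((Φ.w_obj a).trans (Ψ.w_obj a).symm) ≫ (Ψ.map m).left
        rw [h₁, h₂]
        simp)))
    (fun w => IsHomLift.of_fac' (FibCat.overCat U).p (𝟙 _) _ (Φ.w_obj w) (Ψ.w_obj w) (by
      show eqToHom ((Φ.w_obj w).trans (Ψ.w_obj w).symm) = _
      simp))⟩

theorem isEquivOver_ofOverCat (U : Over S) : FibCat.IsEquivOver (AlgSt.ofOverCat U) := by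
  haveI : (AlgSt.ofOverCat U).toFunctor.Faithful :=
    ⟨fun {a b} m m' h => Over.OverMorphism.ext (congrArg Stk.EltObj.Hom.hom h)⟩
  haveI : (AlgSt.ofOverCat U).toFunctor.Full :=
    ⟨fun {a b} m => ⟨Over.homMk m.hom (congrArg ULift.down m.map_sec), Stk.EltObj.hom_ext rfl⟩⟩
  exact isEquivOver_of_fullyFaithful _ fun η => ⟨Over.mk η.sec.down, Iso.refl _, rfl, rfl⟩

/-- models by schemes -/
theorem exists_scheme_model {P : MorphismProperty Scheme.{u}} {f : 𝒳 ⥤ᵇ 𝒴} (hf : AlgSt.RepByAlgSpWith (AlgSp.RepWith P) f)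
    (U : Over S) (y : FibCat.overCat U ⥤ᵇ 𝒴) :
    ∃ (V : Over S) (ι : V ⟶ U) (e : FibCat.overCat V ⥤ᵇ FibCat.fp y f),
      FibCat.IsEquivOver e ∧ P ι.left ∧ Nonempty (BasedFunctor.comp e (FibCat.fpFst y f) ≅ AlgSt.overMap ι) := by
  obtain ⟨F, e, he, hπ⟩ := hf U y
  obtain ⟨hrep, hP⟩ := hπ
  let fst := hrep.fst (𝟙 ((yon S).obj U))
  let ι := hrep.snd (𝟙 ((yon S).obj U))
  have sq : IsPullback fst ((yon S).map ι) _ (𝟙 ((yon S).obj U)) := hrep.isPullback _
  haveI : IsIso fst := sq.isIso_fst_of_isIso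
  haveI : IsIso fst.hom := inferInstanceAs (IsIso ((sheafToPresheaf (J S) (Type (u + 1))).map fst))
  refine ⟨_, ι, BasedFunctor.comp (BasedFunctor.comp (AlgSt.ofOverCat _) (Stk.ofPshMap fst.hom)) e,
    isEquivOver_comp (isEquivOver_comp (isEquivOver_ofOverCat _) (isEquivOver_ofPshMap fst.hom)) he,
    hP _ fst ι sq, nonempty_iso_overCat _ _ fun w => ?_⟩
  have h := congrArg (fun t => t.hom.app (op w.left) ⟨w.hom⟩) sq.w
  exact (congrArg ULift.down h).trans (Category.id_comp (w.hom ≫ ι)).symm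

variable {Q : 𝒳.obj → Prop}

/-- a substack with monic inclusion pulls back to a subscheme of each chart -/
theorem exists_chart_sub {P : MorphismProperty Scheme.{u}} (h𝒳 : FibCat.IsFibGrpd 𝒳.p)
    (hiso : ObjectProperty.IsClosedUnderIsomorphisms Q) (hfib : FibCat.IsFibGrpd (AlgSt.fullSub 𝒳 Q).p)
    (hi : AlgSt.RepByAlgSpWith (AlgSp.RepWith P) (AlgSt.subIncl 𝒳 Q)) (U : Over S) (y : FibCat.overCat U ⥤ᵇ 𝒳) :
    ∃ (V : Over S) (ι : V ⟶ U), P ι.left ∧ (∀ o : Over U, Q (y.obj o) ↔ ∃ g, g ≫ ι = o.hom) ∧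
      AlgSt.Points.ofChart y ⁻¹' Set.range (AlgSt.Points.map (AlgSt.subIncl 𝒳 Q)) = Set.range ι.left := by
  obtain ⟨V, ι, e, he, hP, ⟨i⟩⟩ := exists_scheme_model hi U y
  have hch : ∀ o : Over U, Q (y.obj o) ↔ ∃ g, g ≫ ι = o.hom := fun o => by
    constructor
    · intro hQ
      let η : (FibCat.fp y (AlgSt.subIncl 𝒳 Q)).obj := ⟨⟨o, ⟨y.obj o, hQ⟩, Iso.refl _⟩,
        fpProp_of_map y (AlgSt.subIncl 𝒳 Q) _ rfl (𝒳.p.map_id _)⟩
      obtain ⟨ξ, k, hk, hk'⟩ := (isEquivOver_data he).2 η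
      let n : (AlgSt.overMap ι).obj ξ ⟶ o := i.inv.toNatTrans.app ξ ≫ k.hom.hom.fst
      haveI : IsIso n := by
        haveI : IsIso k.hom.hom.fst := inferInstanceAs (IsIso ((FibCat.fpFst y (AlgSt.subIncl 𝒳 Q)).map k.hom))
        haveI : IsIso (i.inv.toNatTrans.app ξ) :=
          inferInstanceAs (IsIso (((BasedNatTrans.forgetful _ _).mapIso i).inv.app ξ))
        infer_instance
      refine ⟨(inv n).left ≫ ξ.hom, ?_⟩
      rw [Category.assoc]
      exact Over.w (inv n)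
    · rintro ⟨g, hg⟩
      let a : (AlgSt.overMap ι).obj (Over.mk g) ≅ o := Over.isoMk (Iso.refl _) (by
        show 𝟙 _ ≫ o.hom = g ≫ ι
        rw [Category.id_comp, hg])
      let η := e.obj (Over.mk g)
      let j : (FibCat.fpFst y (AlgSt.subIncl 𝒳 Q)).obj η ≅ o :=
        ((BasedNatTrans.forgetful _ _).mapIso i).app (Over.mk g) ≪≫ a
      exact hiso.of_iso (η.obj.iso.symm ≪≫ y.toFunctor.mapIso j) η.obj.snd.property
  refine ⟨V, ι, hP, hch, Set.ext fun t => ⟨fun ⟨x, hx⟩ => ?_, ?_⟩⟩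
  · obtain ⟨p, rfl⟩ := AlgSt.Points.mk_surjective x
    obtain ⟨r, m, n, -⟩ := (mk_eq_iff h𝒳).1 hx
    have hr : Q r.obj := substack_of_hom h𝒳 hiso hfib m p.obj.property
    let A : Over U := Over.mk (Over.homMk (U.left.fromSpecResidueField t) rfl :
      Over.mk (U.left.fromSpecResidueField t ≫ U.hom) ⟶ U)
    let b : 𝒳.p.obj r.obj ⟶ A.left := 𝒳.p.map n ≫ eqToHom (y.w_obj A)
    let o : Over U := Over.mk (b ≫ A.hom)
    let w : o ⟶ A := Over.homMk b rfl
    obtain ⟨χ, ⟨hχ, -⟩, -⟩ := existsUnique_cart h𝒳 (show r.obj ⟶ y.obj A from n) (y.map w)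
      (eqToHom (y.w_obj o)) (by rw [map_map y w]; show _ = _ ≫ b ≫ _; simp [b])
    haveI : IsIso (𝒳.p.map χ) := by rw [hχ]; infer_instance
    haveI := Groth.Agent.FibCatRep.isIso_of_map h𝒳 χ
    obtain ⟨g, hg⟩ := (hch o).1 (hiso.of_iso (asIso χ).symm hr)
    obtain ⟨k⟩ := nonempty_pt r
    refine ⟨g.left k, ?_⟩
    rw [← Scheme.Hom.comp_apply, show g.left ≫ ι.left = o.hom.left from congrArg CommaMorphism.left hg]
    show (b.left ≫ U.left.fromSpecResidueField t) k = t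
    rw [Scheme.Hom.comp_apply]
    exact Scheme.fromSpecResidueField_apply _ _
  · rintro ⟨v, rfl⟩
    rw [Set.mem_preimage, ← ofChart_overMap]
    exact mk_mem_range_subIncl _ ((hch _).2 ⟨_, rfl⟩)

/-- points of an open substack form an open set which determines it -/
theorem isOpen_range_and_eq_inSet (h𝒳 : AS 𝒳) (hQ : AlgSt.IsOpenSubstack 𝒳 Q Scheme.fppfPrecoverage) :
    IsOpen (Set.range (AlgSt.Points.map (AlgSt.subIncl 𝒳 Q))) ∧
      InSet (Set.range (AlgSt.Points.map (AlgSt.subIncl 𝒳 Q))) = Q := by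
  obtain ⟨hiso, hA, hi⟩ := hQ
  refine ⟨fun U y _ => ?_, funext fun a => propext ⟨fun h => ?_, fun h p ⟨m⟩ =>
    mk_mem_range_subIncl p (substack_of_hom h𝒳.isStack.1 hiso hA.isStack.1 m h)⟩⟩
  · obtain ⟨V, ι, hP, -, hr⟩ := exists_chart_sub h𝒳.isStack.1 hiso hA.isStack.1 hi U y
    haveI : IsOpenImmersion ι.left := hP
    rw [hr]
    exact ι.left.isOpenEmbedding.isOpen_range
  · obtain ⟨y, i₀, -⟩ := exists_point h𝒳.isStack.1 a
    let y₀ := BasedFunctor.comp (AlgSt.ofOverCat (𝒳.p.obj a)) y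
    obtain ⟨V, ι, hP, hch, hr⟩ := exists_chart_sub h𝒳.isStack.1 hiso hA.isStack.1 hi (𝒳.p.obj a) y₀
    haveI : IsOpenImmersion ι.left := hP
    let top : Over (𝒳.p.obj a) := Over.mk (𝟙 _)
    have ha : InSet (Set.range (AlgSt.Points.map (AlgSt.subIncl 𝒳 Q))) (y₀.obj top) := h.of_hom i₀.hom
    have hs : Set.range (𝟙 (𝒳.p.obj a).left) ⊆ Set.range ι.left := by
      rintro _ ⟨t, rfl⟩
      exact hr.le ((inSet_chart_iff h𝒳.isStack.1 _ y₀ top).1 ha t)
    refine hiso.of_iso i₀ ((hch top).2 ⟨Over.homMk (IsOpenImmersion.lift ι.left (𝟙 _) hs) ?_, ?_⟩)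
    · rw [← Over.w ι, ← Category.assoc, IsOpenImmersion.lift_fac, Category.id_comp]
      rfl
    · exact Over.OverMorphism.ext (IsOpenImmersion.lift_fac _ _ _)

end model

/-- objects in the image of a functor have their points in the image -/
theorem inSet_range_map {𝒲 : AlgSt.Cat S} (h𝒲 : FibCat.IsFibGrpd 𝒲.p) (h𝒳 : FibCat.IsFibGrpd 𝒳.p)
    (f : 𝒲 ⥤ᵇ 𝒳) (a : 𝒲.obj) : InSet (Set.range (AlgSt.Points.map f)) (f.obj a) := by
  rintro p ⟨m⟩
  obtain ⟨b, φ, hb, hφ⟩ := exists_lift h𝒲 (x := a) (𝒳.p.map m ≫ eqToHom (f.w_obj a))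
  obtain ⟨χ, -, -⟩ := existsUnique_cart h𝒳 m (f.map φ) (eqToHom ((f.w_obj b).trans hb)) (by
    rw [map_map f φ, hφ]; simp)
  refine ⟨AlgSt.Points.mk { K := p.K, str := p.str, obj := b, lies := hb.trans p.lies }, ?_⟩
  rw [AlgSt.Points.map_mk]
  exact (mk_eq_of_hom (p := p) (q := AlgSt.FPt.map f _) χ)

/-- cancellation of fully faithful functors -/
theorem repWith_of_comp_ff (P : MorphismProperty (Sp S)) {g : 𝒵 ⥤ᵇ 𝒴} {i : 𝒴 ⥤ᵇ 𝒳} [i.toFunctor.Full]
    [i.toFunctor.Faithful] (h : AlgSt.RepByAlgSpWith P (BasedFunctor.comp g i)) : AlgSt.RepByAlgSpWith P g := by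
  refine repWith_transfer P (fun U y => ?_) h
  have key : FibCat.IsEquivOver (fpMap y g (BasedFunctor.id _) (BasedFunctor.id _) i
      (F := BasedFunctor.comp y i) (G := BasedFunctor.comp g i) (Iso.refl _) (Iso.refl _)) :=
    isEquivOver_fpMap _ _ _ _ _ _ _ isEquivOver_id isEquivOver_id
  obtain ⟨k, hk, -, ⟨j⟩⟩ := isEquivOver_symm key
  exact ⟨BasedFunctor.comp y i, k, hk, ⟨(post _ (FibCat.fpFst (BasedFunctor.comp y i) (BasedFunctor.comp g i))).mapIso j⟩⟩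

instance full_subIncl (Q : 𝒳.obj → Prop) : (AlgSt.subIncl 𝒳 Q).toFunctor.Full :=
  inferInstanceAs (ObjectProperty.ι Q).Full

instance faithful_subIncl (Q : 𝒳.obj → Prop) : (AlgSt.subIncl 𝒳 Q).toFunctor.Faithful :=
  inferInstanceAs (ObjectProperty.ι Q).Faithful

theorem injective_map_subIncl (h𝒳 : FibCat.IsFibGrpd 𝒳.p) {Q : 𝒳.obj → Prop}
    (hQ : ∀ {a a' : 𝒳.obj}, (a' ⟶ a) → Q a → Q a') : Function.Injective (AlgSt.Points.map (AlgSt.subIncl 𝒳 Q)) := by
  intro a b h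
  obtain ⟨p, rfl⟩ := AlgSt.Points.mk_surjective a
  obtain ⟨q, rfl⟩ := AlgSt.Points.mk_surjective b
  obtain ⟨r, m, n, -⟩ := (mk_eq_iff h𝒳).1 h
  exact AlgSt.Points.sound ⟨{ K := r.K, str := r.str, obj := ⟨r.obj, hQ m p.obj.property⟩, lies := r.lies },
    ObjectProperty.homMk m, ObjectProperty.homMk n, trivial⟩

/-- a closed immersion through which a flat surjection factors is an isomorphism -/
theorem isIso_of_flat_surjective_factor {V U W : Scheme.{u}} (ι : V ⟶ U) [IsClosedImmersion ι] (g : W ⟶ V)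
    [Flat (g ≫ ι)] [Surjective (g ≫ ι)] : IsIso ι := by
  haveI : Surjective ι := ⟨fun t => by
    obtain ⟨w, hw⟩ := (g ≫ ι).surjective t
    exact ⟨g w, by rw [← Scheme.Hom.comp_apply]; exact hw⟩⟩
  haveI : ∀ x, IsIso (ι.stalkMap x) := fun x => by
    obtain ⟨w, hw⟩ := (g ≫ ι).surjective (ι x)
    rw [Scheme.Hom.comp_apply] at hw
    obtain rfl : g w = x := ι.isClosedEmbedding.injective hw
    have hinj : Function.Injective ((g ≫ ι).stalkMap w) := by
      algebraize [((g ≫ ι).stalkMap w).hom]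
      have : Module.FaithfullyFlat (U.presheaf.stalk ((g ≫ ι) w)) (W.presheaf.stalk w) :=
        @Module.FaithfullyFlat.of_flat_of_isLocalHom _ _ _ _ _ _ _
          (Flat.stalkMap (g ≫ ι) w) ((g ≫ ι).toLRSHom.prop w)
      exact ‹RingHom.FaithfullyFlat _›.injective
    rw [ConcreteCategory.isIso_iff_bijective]
    refine ⟨?_, ι.stalkMap_surjective _⟩
    rw [Scheme.Hom.stalkMap_comp] at hinj
    exact fun a b hab => hinj (congrArg (g.stalkMap w) hab)
  haveI : IsOpenImmersion ι := IsOpenImmersion.of_isIso_stalkMap ι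
    (ι.isClosedEmbedding.isEmbedding.toHomeomorphOfSurjective ι.surjective).isOpenEmbedding
  exact (isIso_iff_isOpenImmersion_and_surjective ι).2 ⟨inferInstance, inferInstance⟩

/-- maps from reduced stacks factor through closed substacks containing their points -/
theorem closedSub_obj_of_reduced (h𝒳 : AS 𝒳) {Q : 𝒳.obj → Prop} (hQ : AlgSt.IsClosedSubstack 𝒳 Q Scheme.fppfPrecoverage)
    (h𝒴 : AS 𝒴) (hred : AlgSt.SmoothLocally (fun X => IsReduced X) 𝒴) (f : 𝒴 ⥤ᵇ 𝒳)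
    (hsub : Set.range (AlgSt.Points.map f) ⊆ Set.range (AlgSt.Points.map (AlgSt.subIncl 𝒳 Q))) (a : 𝒴.obj) :
    Q (f.obj a) := by
  obtain ⟨hiso, hA, hi⟩ := hQ
  obtain ⟨U₀, x, hx, hx'⟩ := h𝒴.atlas
  haveI : IsReduced U₀.left := hred U₀ x hx
  have hxQ : ∀ o, Q (f.obj (x.obj o)) := by
    obtain ⟨V, ι, hι, hch, hr⟩ := exists_chart_sub h𝒳.isStack.1 hiso hA.isStack.1 hi U₀ (BasedFunctor.comp x f)
    haveI : IsClosedImmersion ι.left := hι
    haveI : Surjective ι.left := ⟨fun t => hr.le (show AlgSt.Points.ofChart (BasedFunctor.comp x f) t ∈ _ from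
      hsub ⟨_, map_ofChart x f t⟩)⟩
    haveI : IsIso ι.left := isIso_of_isClosedImmersion_of_surjective ι.left
    haveI : IsIso ((Over.forget S).map ι) := inferInstanceAs (IsIso ι.left)
    haveI : IsIso ι := isIso_of_reflects_iso ι (Over.forget S)
    exact fun o => (hch o).2 ⟨o.hom ≫ inv ι, by simp⟩
  obtain ⟨y₁, i₀, -⟩ := exists_point h𝒴.isStack.1 a
  let U := 𝒴.p.obj a
  let y := BasedFunctor.comp (AlgSt.ofOverCat U) y₁
  obtain ⟨W, α, b, ⟨i⟩, -, hP, hs⟩ := exists_pair_chart h𝒴.isStack.1 x y (repByAlgSp1_of_with hx)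
  haveI : Smooth b.left := hP _ etST_smooth hx
  haveI := hs hx'
  obtain ⟨V, ι, hι, hch, -⟩ := exists_chart_sub h𝒳.isStack.1 hiso hA.isStack.1 hi U (BasedFunctor.comp y f)
  haveI : IsClosedImmersion ι.left := hι
  obtain ⟨g, hg⟩ := (hch ((AlgSt.overMap b).obj (Over.mk (𝟙 W)))).1
    (hiso.of_iso (f.toFunctor.mapIso (((BasedNatTrans.forgetful _ _).mapIso i).app (Over.mk (𝟙 W)))).symm (hxQ _))
  have hg' : g.left ≫ ι.left = b.left := by
    rw [← Over.comp_left, hg]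
    exact Category.id_comp _
  haveI : IsIso ι.left := by
    haveI : Flat (g.left ≫ ι.left) := by rw [hg']; infer_instance
    haveI : Surjective (g.left ≫ ι.left) := by rw [hg']; infer_instance
    exact isIso_of_flat_surjective_factor ι.left g.left
  haveI : IsIso ((Over.forget S).map ι) := inferInstanceAs (IsIso ι.left)
  haveI : IsIso ι := isIso_of_reflects_iso ι (Over.forget S)
  exact hiso.of_iso (f.toFunctor.mapIso i₀) ((hch (Over.mk (𝟙 U))).2 ⟨inv ι, by simp⟩)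

/-- stacks covered by open substacks in setoids are in setoids -/
theorem faithful_of_open_cover (h𝒳 : AS 𝒳) {κ : Type*} (Q : κ → 𝒳.obj → Prop)
    (hQ : ∀ i, AlgSt.IsOpenSubstack 𝒳 (Q i) Scheme.fppfPrecoverage)
    (hcov : ⋃ i, Set.range (AlgSt.Points.map (AlgSt.subIncl 𝒳 (Q i))) = Set.univ)
    (hfa : ∀ i, (AlgSt.fullSub 𝒳 (Q i)).p.Faithful) : 𝒳.p.Faithful := by
  refine ⟨fun {t t'} α β hp => ?_⟩
  obtain ⟨y₁, i₀, hi₀⟩ := exists_point h𝒳.isStack.1 t
  let U := 𝒳.p.obj t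
  let y := BasedFunctor.comp (AlgSt.ofOverCat U) y₁
  let W : κ → U.left.Opens := fun i => ⟨AlgSt.Points.ofChart y ⁻¹' Set.range (AlgSt.Points.map (AlgSt.subIncl 𝒳 (Q i))),
    (isOpen_range_and_eq_inSet h𝒳 (hQ i)).1.preimage (continuous_ofChart h𝒳 y)⟩
  have hW : ∀ s : ↥U.left, ∃ i, s ∈ W i := fun s => by
    obtain ⟨i, hi⟩ := Set.mem_iUnion.1 (hcov ▸ Set.mem_univ (AlgSt.Points.ofChart y s))
    exact ⟨i, hi⟩
  choose idx hidx using hW
  let R : Sieve U :=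
    { arrows := fun V f => ∃ i, Set.range f.left ⊆ W i
      downward_closed := fun {V V' f} ⟨i, hi⟩ g => ⟨i, fun _ ⟨v, hv⟩ => hi ⟨g.left v, by
        rw [← hv, Over.comp_left, Scheme.Hom.comp_apply]⟩⟩ }
  let 𝒰 := U.left.openCoverOfIsOpenCover (fun s => W (idx s))
    (TopologicalSpace.IsOpenCover.mk (top_le_iff.1 fun s _ => TopologicalSpace.Opens.mem_iSup.2 ⟨s, hidx s⟩))
  have hle : Sieve.generate 𝒰.toPreZeroHypercover.presieve₀ ≤ Sieve.overEquiv U R := by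
    rw [Sieve.generate_le_iff]
    rintro _ _ ⟨s⟩
    refine (Sieve.overEquiv_iff R (W (idx s)).ι).2 ⟨idx s, ?_⟩
    exact (Scheme.Opens.range_ι _).le
  have hR : R ∈ (QuotSh.J Scheme.fppfPrecoverage S) U :=
    (GrothendieckTopology.mem_over_iff _ R).2 (GrothendieckTopology.superset_covering _ hle
      (Precoverage.generate_mem_toGrothendieck (Scheme.zariskiPrecoverage_le_fppfPrecoverage _ 𝒰.mem₀)))
  haveI : (Stk.resSieve R 𝒳).IsEquivalence := h𝒳.isStack.2 R hR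
  refine Groth.Agent.FibCat2Misc.eq_of_locally h𝒳.isStack.1 rfl R inferInstance α β hp fun V f ⟨i, hi⟩ => ?_
  obtain ⟨z, μ, hz, hμ⟩ := exists_lift h𝒳.isStack.1 (x := t) f
  refine ⟨z, μ, hz, by rw [hμ]; simp, ?_⟩
  have hQi := (isOpen_range_and_eq_inSet h𝒳 (hQ i)).2
  have hQz : Q i z := by
    rw [← hQi]
    let o : Over U := Over.mk f
    let w : o ⟶ Over.mk (𝟙 U) := Over.homMk f (Category.comp_id f)
    obtain ⟨χ, -, -⟩ := existsUnique_cart h𝒳.isStack.1 (y.map w ≫ i₀.hom) μ (eqToHom (hz.trans (y.w_obj o).symm)) (by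
      rw [Functor.map_comp, map_map y w, hi₀, hμ]
      show eqToHom _ ≫ (eqToHom _ ≫ f ≫ eqToHom _) ≫ eqToHom _ = _
      simp)
    exact ((inSet_chart_iff h𝒳.isStack.1 _ y o).2 fun v => hi ⟨v, rfl⟩).of_hom χ
  obtain ⟨z', γ, hz', hγ⟩ := exists_lift h𝒳.isStack.1 (x := t') (𝒳.p.map (μ ≫ α))
  obtain ⟨a, ⟨ha, ca⟩, -⟩ := existsUnique_cart h𝒳.isStack.1 γ (μ ≫ α) (eqToHom hz'.symm) (by simp [hγ])
  obtain ⟨b, ⟨hb, cb⟩, -⟩ := existsUnique_cart h𝒳.isStack.1 γ (μ ≫ β) (eqToHom hz'.symm) (by simp [hγ, hp])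
  haveI : IsIso (𝒳.p.map a) := by rw [ha]; infer_instance
  haveI := Groth.Agent.FibCatRep.isIso_of_map h𝒳.isStack.1 a
  haveI := hfa i
  have key : (ObjectProperty.homMk a : (⟨z, hQz⟩ : (AlgSt.fullSub 𝒳 (Q i)).obj) ⟶ ⟨z', (hQ i).1.of_iso (asIso a) hQz⟩) =
      ObjectProperty.homMk b := (AlgSt.fullSub 𝒳 (Q i)).p.map_injective (ha.trans hb.symm)
  have key' : a = b := congrArg InducedCategory.Hom.hom key
  rw [← ca, ← cb, key']

end Groth.Agent.AlgStLib

end
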