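import Groth.Agent.AlgStLib.PointsBasic
import Mathlib.AlgebraicGeometry.Limits

/-!
# Points of algebraic stacks: functoriality, fibre products, surjectivity, compactness
-/

set_option autoImplicit false
set_option backward.isDefEq.respectTransparency false
set_option backward.isDefEq.respectTransparency.types false
set_option linter.style.haveILetI false
universe u

noncomputable section

namespace Groth.Agent.AlgStLib

open CategoryTheory CategoryTheory.Limits AlgebraicGeometry Opposite Groth.Agent.FibCatRep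
  Groth.Agent.FibCat2Misc Groth.Agent.AlgSpLib Groth.Agent.StkBasic
open _root_.AlgSp _root_.AlgSt

variable {S : Scheme.{u}} {𝒳 𝒴 𝒵 : AlgSt.Cat S}

theorem map_comp_points (f : 𝒳 ⥤ᵇ 𝒴) (g : 𝒴 ⥤ᵇ 𝒵) (p : AlgSt.Points 𝒳) :
    AlgSt.Points.map (BasedFunctor.comp f g) p = AlgSt.Points.map g (AlgSt.Points.map f p) := by
  obtain ⟨p, rfl⟩ := AlgSt.Points.mk_surjective p
  rfl

theorem map_id_points (p : AlgSt.Points 𝒳) : AlgSt.Points.map (BasedFunctor.id 𝒳) p = p := by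
  obtain ⟨p, rfl⟩ := AlgSt.Points.mk_surjective p
  rfl

theorem map_congr_points {f g : 𝒳 ⥤ᵇ 𝒴} (i : f ≅ g) (p : AlgSt.Points 𝒳) :
    AlgSt.Points.map f p = AlgSt.Points.map g p := by
  obtain ⟨p, rfl⟩ := AlgSt.Points.mk_surjective p
  exact AlgSt.Points.sound ⟨p.map f, 𝟙 _, i.hom.toNatTrans.app p.obj, trivial⟩

theorem bijective_map_of_equiv {e : 𝒳 ⥤ᵇ 𝒴} (he : FibCat.IsEquivOver e) :
    Function.Bijective (AlgSt.Points.map e) := by
  obtain ⟨k, ⟨i⟩, ⟨j⟩⟩ := he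
  refine Function.bijective_iff_has_inverse.2 ⟨AlgSt.Points.map k, fun p => ?_, fun p => ?_⟩
  · rw [← map_comp_points, map_congr_points i, map_id_points]
  · rw [← map_comp_points, map_congr_points j, map_id_points]

theorem exists_points_fp (h𝒳 : FibCat.IsFibGrpd 𝒳.p) (h𝒴 : FibCat.IsFibGrpd 𝒴.p) (h𝒵 : FibCat.IsFibGrpd 𝒵.p)
    (f : 𝒳 ⥤ᵇ 𝒴) (g : 𝒵 ⥤ᵇ 𝒴) (z : AlgSt.Points 𝒵) (x : AlgSt.Points 𝒳)
    (h : AlgSt.Points.map g z = AlgSt.Points.map f x) :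
    ∃ w : AlgSt.Points (FibCat.fp g f),
      AlgSt.Points.map (FibCat.fpFst g f) w = z ∧ AlgSt.Points.map (FibCat.fpSnd g f) w = x := by
  obtain ⟨U, a, t, rfl⟩ := exists_ofChart h𝒵 z
  obtain ⟨V, b, s, rfl⟩ := exists_ofChart h𝒳 x
  rw [map_ofChart, map_ofChart] at h
  obtain ⟨K, α, β, k, ⟨i⟩, rfl, rfl⟩ := exists_common_point h𝒴 h
  exact ⟨AlgSt.Points.ofChart (FibCat.fpLift (BasedFunctor.comp (AlgSt.overMap α) a)
    (BasedFunctor.comp (AlgSt.overMap β) b) i) k, ofChart_overMap a α k, ofChart_overMap b β k⟩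

theorem isSurjective_fpFst (h𝒳 : FibCat.IsFibGrpd 𝒳.p) (h𝒴 : FibCat.IsFibGrpd 𝒴.p)
    (h𝒵 : FibCat.IsFibGrpd 𝒵.p) (f : 𝒳 ⥤ᵇ 𝒴) (g : 𝒵 ⥤ᵇ 𝒴) (hf : AlgSt.IsSurjective f) :
    AlgSt.IsSurjective (FibCat.fpFst g f) := fun z => by
  obtain ⟨x, hx⟩ := hf (AlgSt.Points.map g z)
  obtain ⟨w, hw, -⟩ := exists_points_fp h𝒳 h𝒴 h𝒵 f g z x hx.symm
  exact ⟨w, hw⟩

theorem injective_map_of_fullyFaithful (h𝒳 : FibCat.IsFibGrpd 𝒳.p) (h𝒴 : FibCat.IsFibGrpd 𝒴.p)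
    (f : 𝒳 ⥤ᵇ 𝒴) [f.toFunctor.Full] [f.toFunctor.Faithful] : Function.Injective (AlgSt.Points.map f) := by
  intro p q h
  obtain ⟨U, a, t, rfl⟩ := exists_ofChart h𝒳 p
  obtain ⟨V, b, s, rfl⟩ := exists_ofChart h𝒳 q
  rw [map_ofChart, map_ofChart] at h
  obtain ⟨K, α, β, k, ⟨i⟩, rfl, rfl⟩ := exists_common_point h𝒴 h
  let a' := BasedFunctor.comp (AlgSt.overMap α) a
  let b' := BasedFunctor.comp (AlgSt.overMap β) b
  let T : Over K := Over.mk (𝟙 K)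
  let χ : a'.obj T ⟶ b'.obj T := f.toFunctor.preimage (i.hom.toNatTrans.app T)
  have hχ : 𝒳.p.map χ = eqToHom ((a'.w_obj T).trans (b'.w_obj T).symm) := by
    have h₁ : 𝒴.p.map (f.map χ) = 𝒴.p.map (i.hom.toNatTrans.app T) := by
      rw [Functor.map_preimage]
    rw [map_map f χ, map_app] at h₁
    have h₂ := congrArg (fun m => eqToHom (f.w_obj (a'.obj T)).symm ≫ m ≫ eqToHom (f.w_obj (b'.obj T))) h₁
    simpa using h₂
  obtain ⟨j⟩ := nonempty_iso_of_top h𝒳 a' b' χ hχ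
  exact (ofChart_overMap a α k).symm.trans ((ofChart_congr j k).trans (ofChart_overMap b β k))

/-- lifting maps out of slices to models -/
theorem exists_lift_model {F : Sp S} {e : ofSp F ⥤ᵇ 𝒵} (he : FibCat.IsEquivOver e) {K : Over S}
    (L : FibCat.overCat K ⥤ᵇ 𝒵) :
    ∃ l : (yon S).obj K ⟶ F, ∀ {T : Over S} (Φ : 𝒵 ⥤ᵇ FibCat.overCat T) (γ : K ⟶ T)
      (_ : BasedFunctor.comp L Φ ≅ AlgSt.overMap γ),
        l ≫ spMapOfOver (BasedFunctor.comp e Φ) = (yon S).map γ := by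
  obtain ⟨k, hk, -, ⟨j⟩⟩ := isEquivOver_symm he
  refine ⟨ObjectProperty.homMk (mapOf (BasedFunctor.comp (BasedFunctor.comp (toOverCat K) L) k)),
    fun {T} Φ γ iΦ => ObjectProperty.hom_ext _ ?_⟩
  show mapOf _ ≫ (spMapOfOver (BasedFunctor.comp e Φ)).hom = _
  rw [spMapOfOver_hom]
  refine (mapOf_comp _ _).symm.trans ((mapOf_congr ((post _ (BasedFunctor.comp Φ (ofOverCat T))).mapIso
    ((Stk.restr (BasedFunctor.comp (toOverCat K) L) _).mapIso j) ≪≫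
    (post _ (ofOverCat T)).mapIso ((Stk.restr (toOverCat K) _).mapIso iΦ))).trans ?_)
  ext Z g
  exact ULift.ext _ _ (by
    show 𝟙 _ ≫ g.down ≫ γ = g.down ≫ γ
    rw [Category.id_comp])

theorem isSurjective_of_repWith (h𝒳 : FibCat.IsFibGrpd 𝒳.p) (h𝒴 : FibCat.IsFibGrpd 𝒴.p) {f : 𝒳 ⥤ᵇ 𝒴}
    (hf : RepByAlgSpWith AlgSp.IsSurjectiveMor f) : AlgSt.IsSurjective f := fun p => by
  obtain ⟨U, y, t, rfl⟩ := exists_ofChart h𝒴 p
  obtain ⟨F, e, he, hs⟩ := hf U y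
  obtain ⟨q, hq⟩ := hs (AlgSp.Points.ofScheme U t)
  obtain ⟨T, a, s, rfl⟩ := exists_ofPt q
  obtain ⟨γ, hγ, ⟨i⟩⟩ := exists_map_of_chart a (BasedFunctor.comp e (FibCat.fpFst y f))
  rw [AlgSp.Points.map_ofPt, ← hγ, ofScheme_map] at hq
  refine ⟨AlgSt.Points.ofChart (BasedFunctor.comp (BasedFunctor.comp (BasedFunctor.comp (ofOverCat T)
    (Stk.ofPshMap a.hom)) e) (FibCat.fpSnd y f)) s, ?_⟩
  rw [map_ofChart, ← (Points.schemeEquiv U).injective hq, ← ofChart_overMap]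
  exact ofChart_congr (((Stk.restr (BasedFunctor.comp (BasedFunctor.comp (ofOverCat T)
    (Stk.ofPshMap a.hom)) e) 𝒴).mapIso (FibCat.fpIso y f)).symm ≪≫ (post _ y).mapIso i) s

theorem repWith_surjective_of_isSurjective (h𝒳 : FibCat.IsFibGrpd 𝒳.p) (h𝒴 : FibCat.IsFibGrpd 𝒴.p)
    {f : 𝒳 ⥤ᵇ 𝒴} (hf : RepByAlgSp1 f) (hs : AlgSt.IsSurjective f) :
    RepByAlgSpWith AlgSp.IsSurjectiveMor f := by
  intro U y
  obtain ⟨F, e, he⟩ := hf U y
  refine ⟨F, e, he, fun q => ?_⟩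
  obtain ⟨t, rfl⟩ := (Points.schemeEquiv U).surjective q
  obtain ⟨x, hx⟩ := hs (AlgSt.Points.ofChart y t)
  obtain ⟨V, b, s, rfl⟩ := exists_ofChart h𝒳 x
  rw [map_ofChart] at hx
  obtain ⟨K, α, β, k, ⟨i⟩, rfl, rfl⟩ := exists_common_point h𝒴 hx.symm
  obtain ⟨l, hl⟩ := exists_lift_model he
    (FibCat.fpLift (F := y) (G := f) (AlgSt.overMap α) (BasedFunctor.comp (AlgSt.overMap β) b) i)
  refine ⟨AlgSp.Points.ofPt l k, ?_⟩
  rw [AlgSp.Points.map_ofPt, hl (FibCat.fpFst y f) α (Iso.refl _), ofScheme_map]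
  rfl

/-! ### charts -/

theorem repWith_smooth_ofPshMap_of_etale {X Y : Sp S} (hX : IsAlgSpace X) (hY : IsAlgSpace Y) (π : X ⟶ Y)
    (h : RepWith @Etale π) : RepByAlgSpWith (LocP @Smooth) (Stk.ofPshMap π.hom) :=
  repWith_mono ((repWith_ofPshMap_iff _ π.hom).2 (repBySpWith_repWith hX hY π h))
    fun _ T a _ ha => (locP_iff_repWith etST_smooth (IsAlgSpace.yon_obj T) ha.1).2
      (AlgSpLib.repWith_mono (fun _ _ r hr => by
        haveI : Etale r := hr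
        infer_instance) ha)

theorem repWith_ofOverCat_iff (Q : MorphismProperty (Sp S)) {U : Over S}
    (x : Stk.ofPsh ((pyon S).obj U) ⥤ᵇ 𝒳) :
    RepByAlgSpWith Q (BasedFunctor.comp (ofOverCat U) x) ↔ RepByAlgSpWith Q x := by
  have i : BasedFunctor.comp (toOverCat U) (BasedFunctor.comp (ofOverCat U) x) ≅ x := (post _ x).mapIso
    (isoOfSec (BasedFunctor.comp (toOverCat U) (ofOverCat U))
      (BasedFunctor.id (Stk.ofPsh ((pyon S).obj U))) (fun a => rfl))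
  rw [repWith_overCat_iff]
  exact ⟨fun h => repWith_congr Q i.symm h, fun h => repWith_congr Q i h⟩

theorem repWith_smooth_overMap {U V : Over S} (d : U ⟶ V) [Etale d.left] :
    RepByAlgSpWith (LocP @Smooth) (AlgSt.overMap d) := by
  refine (repWith_iff_of_equiv _ (AlgSt.overMap d) (Stk.ofPshMap ((yon S).map d).hom) (toOverCat U) (toOverCat V)
    (isEquivOver_toOverCat U) (isEquivOver_toOverCat V) ?_).2
    (repWith_smooth_ofPshMap_of_etale (IsAlgSpace.yon_obj U) (IsAlgSpace.yon_obj V) ((yon S).map d)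
      ((repWith_yon_iff _).2 ‹_›))
  exact Iso.refl _

theorem isOpenMap_map_space (h𝒳 : FibCat.IsFibGrpd 𝒳.p) {U : AlgSp.Space S}
    (u : AlgSt.ofSp U.obj ⥤ᵇ 𝒳) (h₁ : RepByAlgSpWith (LocP @Flat) u)
    (h₂ : RepByAlgSpWith (LocP @LocallyOfFinitePresentation) u) : IsOpenMap (AlgSt.Points.map u) := fun O hO => by
  obtain ⟨W, π, -, hs, hsu⟩ := exists_chart_atlas ((isAlgSpaceP_obj_iff _).2 U.property)
  let c := BasedFunctor.comp (ofOverCat W) (Stk.ofPshMap π)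
  have c₁ : RepByAlgSpWith (LocP @Smooth) c := (repWith_ofOverCat_iff _ _).2 hs
  have c₂ : RepByAlgSpWith AlgSp.IsSurjectiveMor c := (repWith_ofOverCat_iff _ _).2 hsu
  have g₁ := isFibGrpd_overCat (C := Over S) W
  have hU := isFibGrpd_ofSpace U.obj.obj
  have e : AlgSt.Points.map u '' O = AlgSt.Points.ofChart (BasedFunctor.comp c u) ''
      (AlgSt.Points.ofChart c ⁻¹' O) := by
    ext p
    constructor
    · rintro ⟨q, hq, rfl⟩
      obtain ⟨t, rfl⟩ := exists_point_of_surjective hU c c₂ q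
      exact ⟨t, hq, rfl⟩
    · rintro ⟨t, ht, rfl⟩
      exact ⟨_, ht, rfl⟩
  rw [e]
  exact isOpenMap_ofChart h𝒳 _
    (repWith_comp g₁ hU bcStable_flat (cls_locP etST_flat (isLocalOnBase_locP etST_flat)).comp
      (cls_locP etST_flat (isLocalOnBase_locP etST_flat)).loc (repWith_flat_of_smooth c₁) h₁)
    (repWith_comp g₁ hU bcStable_lfp (cls_locP etST_lfp (isLocalOnBase_locP etST_lfp)).comp
      (cls_locP etST_lfp (isLocalOnBase_locP etST_lfp)).loc (repWith_lfp_of_smooth c₁) h₂)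
    _ (hO W c c₁)

theorem exists_isOpen_isCompact_nhd (h𝒳 : IsAlgStack Scheme.fppfPrecoverage 𝒳) (x : AlgSt.Points 𝒳)
    (W : Set (AlgSt.Points 𝒳)) (hW : IsOpen W) (hx : x ∈ W) :
    ∃ V : Set (AlgSt.Points 𝒳), IsOpen V ∧ IsCompact V ∧ x ∈ V ∧ V ⊆ W := by
  obtain ⟨U, y, h₁, h₂⟩ := h𝒳.atlas
  obtain ⟨t, rfl⟩ := exists_point_of_surjective h𝒳.isStack.1 y h₂ x
  obtain ⟨Z, hZ, htZ, hle⟩ := TopologicalSpace.Opens.isBasis_iff_nbhd.mp U.left.isBasis_affineOpens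
    (show t ∈ (⟨_, hW U y h₁⟩ : U.left.Opens) from hx)
  exact ⟨_, isOpenMap_ofChart h𝒳.isStack.1 y (repWith_flat_of_smooth h₁) (repWith_lfp_of_smooth h₁) _ Z.isOpen,
    hZ.isCompact.image (continuous_ofChart h𝒳 y), ⟨t, htZ, rfl⟩, Set.image_subset_iff.2 hle⟩

theorem isQuasiCompact_iff_compactSpace (h𝒳 : IsAlgStack Scheme.fppfPrecoverage 𝒳) :
    AlgSt.IsQuasiCompact 𝒳 ↔ CompactSpace (AlgSt.Points 𝒳) := by
  constructor
  · rintro ⟨U, x, hU, h₁, h₂⟩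
    refine ⟨?_⟩
    rw [← Set.range_eq_univ.2 (exists_point_of_surjective h𝒳.isStack.1 x h₂)]
    exact isCompact_range (continuous_ofChart h𝒳 x)
  · intro _
    obtain ⟨U, x, h₁, h₂⟩ := h𝒳.atlas
    have hop := isOpenMap_ofChart h𝒳.isStack.1 x (repWith_flat_of_smooth h₁) (repWith_lfp_of_smooth h₁)
    let ι := {Z : U.left.Opens // IsAffineOpen Z}
    obtain ⟨s, hs⟩ := isCompact_univ.elim_finite_subcover
      (fun Z : ι => AlgSt.Points.ofChart x '' (Z.1 : Set U.left)) (fun Z => hop _ Z.1.isOpen) (fun p _ => by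
        obtain ⟨t, rfl⟩ := exists_point_of_surjective h𝒳.isStack.1 x h₂ p
        obtain ⟨Z, hZ, htZ, -⟩ := TopologicalSpace.Opens.isBasis_iff_nbhd.mp U.left.isBasis_affineOpens
          (TopologicalSpace.Opens.mem_top t)
        exact Set.mem_iUnion.mpr ⟨⟨Z, hZ⟩, t, htZ, rfl⟩)
    let q : (∐ fun Z : s => Z.1.1.toScheme) ⟶ U.left := Sigma.desc fun Z => Z.1.1.ι
    haveI : ∀ Z : s, IsAffine Z.1.1.toScheme := fun Z => Z.1.2
    let U' : Over S := Over.mk (q ≫ U.hom)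
    haveI : IsAffine U'.left := inferInstanceAs (IsAffine (∐ fun Z : s => Z.1.1.toScheme))
    let d : U' ⟶ U := Over.homMk q rfl
    haveI : Etale d.left := (IsZariskiLocalAtSource.iff_of_openCover (P := @Etale) (f := q)
      (sigmaOpenCover fun Z : s => Z.1.1.toScheme)).2 fun Z => by
        show Etale (Sigma.ι (fun Z : s => Z.1.1.toScheme) Z ≫ Sigma.desc fun Z => Z.1.1.ι)
        rw [Sigma.ι_desc]
        infer_instance
    have g' := isFibGrpd_overCat (C := Over S) U'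
    have g := isFibGrpd_overCat (C := Over S) U
    have hsm : RepByAlgSpWith (LocP @Smooth) (BasedFunctor.comp (AlgSt.overMap d) x) :=
      repWith_comp g' g cls_smooth.bc cls_smooth.comp cls_smooth.loc (repWith_smooth_overMap d) h₁
    refine ⟨U', BasedFunctor.comp (AlgSt.overMap d) x, ‹_›, hsm,
      repWith_surjective_of_isSurjective g' h𝒳.isStack.1 (repByAlgSp1_of_with hsm) fun p => ?_⟩
    obtain ⟨Z, hZ⟩ := Set.mem_iUnion.mp (hs (Set.mem_univ p))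
    obtain ⟨hZs, t, ht, rfl⟩ := Set.mem_iUnion.mp hZ
    let u : ↥U'.left := Sigma.ι (fun Z : s => Z.1.1.toScheme) ⟨Z, hZs⟩ ⟨t, ht⟩
    have hu : d.left u = t := by
      show (Sigma.ι (fun Z : s => Z.1.1.toScheme) ⟨Z, hZs⟩ ≫ q) ⟨t, ht⟩ = t
      rw [Sigma.ι_desc]
      rfl
    refine ⟨AlgSt.Points.ofChart (BasedFunctor.id _) u, ?_⟩
    rw [map_ofChart, ← hu]
    exact ofChart_overMap x d u

theorem isQuasiCompact_of_isSurjective (h𝒳 : IsAlgStack Scheme.fppfPrecoverage 𝒳)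
    (h𝒴 : IsAlgStack Scheme.fppfPrecoverage 𝒴) {f : 𝒳 ⥤ᵇ 𝒴} (hf : AlgSt.IsSurjective f)
    (h : AlgSt.IsQuasiCompact 𝒳) : AlgSt.IsQuasiCompact 𝒴 := by
  haveI := (isQuasiCompact_iff_compactSpace h𝒳).1 h
  refine (isQuasiCompact_iff_compactSpace h𝒴).2 ⟨?_⟩
  rw [← Set.range_eq_univ.2 hf]
  exact isCompact_range (continuous_map h𝒴 f)

/-! ### universally injective functors -/

theorem isUnivInjective_fpFst (h𝒳 : FibCat.IsFibGrpd 𝒳.p) (f : 𝒳 ⥤ᵇ 𝒴) (g : 𝒵 ⥤ᵇ 𝒴)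
    (hf : AlgSt.IsUnivInjective Scheme.fppfPrecoverage f) :
    AlgSt.IsUnivInjective Scheme.fppfPrecoverage (FibCat.fpFst g f) := by
  intro 𝒲 h𝒲 h p q e
  apply (bijective_map_of_equiv (isEquivOver_pasteFun h g f)).1
  apply hf 𝒲 h𝒲 (BasedFunctor.comp h g)
  rw [← map_comp_points, ← map_comp_points]
  exact e

theorem isUnivInjective_comp (h𝒴 : IsAlgStack Scheme.fppfPrecoverage 𝒴)
    (h𝒵 : IsAlgStack Scheme.fppfPrecoverage 𝒵) {f : 𝒳 ⥤ᵇ 𝒴} {g : 𝒴 ⥤ᵇ 𝒵}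
    (hf : AlgSt.IsUnivInjective Scheme.fppfPrecoverage f) (hg : AlgSt.IsUnivInjective Scheme.fppfPrecoverage g) :
    AlgSt.IsUnivInjective Scheme.fppfPrecoverage (BasedFunctor.comp f g) := by
  intro 𝒲 h𝒲 h p q e
  have hA := bijective_map_of_equiv (isEquivOver_assocFun h g f)
  obtain ⟨p, rfl⟩ := hA.2 p
  obtain ⟨q, rfl⟩ := hA.2 q
  refine congrArg _ (hf _ (isAlgStack_fp h𝒵.isStack h𝒵.diag h𝒲 h𝒴 h g) (FibCat.fpSnd h g) (hg 𝒲 h𝒲 h ?_))
  rw [← map_comp_points, ← map_comp_points] at e ⊢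
  exact e

end Groth.Agent.AlgStLib

end
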