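import Groth.Agent.AlgStLib.Charts
import Groth.Prelude.Def_AlgSt4
import Mathlib.AlgebraicGeometry.PullbackCarrier

/-!
# Points of algebraic stacks
-/

set_option autoImplicit false
set_option backward.isDefEq.respectTransparency false
set_option backward.isDefEq.respectTransparency.types false
set_option linter.style.haveILetI false
universe u

noncomputable section

namespace Groth.Agent.AlgStLib

open CategoryTheory CategoryTheory.Limits AlgebraicGeometry Opposite Groth.Agent.FibCatRep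
  Groth.Agent.FibCat2Misc Groth.Agent.AlgSpLib Groth.Agent.StkBasic
open _root_.AlgSp _root_.AlgSt

variable {S : Scheme.{u}} {𝒳 𝒴 : AlgSt.Cat S}

theorem subsingleton_pt (q : FPt 𝒳) : Subsingleton ↥(𝒳.p.obj q.obj).left := by
  rw [q.lies]
  exact inferInstanceAs (Subsingleton ↥(Spec (CommRingCat.of q.K)))

theorem nonempty_pt (q : FPt 𝒳) : Nonempty ↥(𝒳.p.obj q.obj).left := by
  rw [q.lies]
  exact inferInstanceAs (Nonempty ↥(Spec (CommRingCat.of q.K)))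

theorem rel_refl (p : FPt 𝒳) : FPt.Rel p p := ⟨p, 𝟙 _, 𝟙 _, trivial⟩

theorem rel_symm {p q : FPt 𝒳} (h : FPt.Rel p q) : FPt.Rel q p := by
  obtain ⟨r, a, b, -⟩ := h
  exact ⟨r, b, a, trivial⟩

theorem rel_trans (h𝒳 : FibCat.IsFibGrpd 𝒳.p) {p q s : FPt 𝒳} (h : FPt.Rel p q) (h' : FPt.Rel q s) :
    FPt.Rel p s := by
  obtain ⟨r, a, b, -⟩ := h
  obtain ⟨r', b', c, -⟩ := h'
  haveI := subsingleton_pt q
  obtain ⟨x₀⟩ := nonempty_pt r
  obtain ⟨y₀⟩ := nonempty_pt r'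
  let g := (𝒳.p.map b).left
  let g' := (𝒳.p.map b').left
  obtain ⟨w, -, -⟩ := Scheme.Pullback.exists_preimage_pullback (f := g) (g := g') x₀ y₀ (Subsingleton.elim _ _)
  let k := (pullback g g').fromSpecResidueField w
  let str : Spec (CommRingCat.of ((pullback g g').residueField w)) ⟶ S :=
    k ≫ pullback.fst g g' ≫ (𝒳.p.obj r.obj).hom
  let k₁ : Over.mk str ⟶ 𝒳.p.obj r.obj := Over.homMk (k ≫ pullback.fst g g') (Category.assoc _ _ _)
  let k₂ : Over.mk str ⟶ 𝒳.p.obj r'.obj := Over.homMk (k ≫ pullback.snd g g') (by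
    show (k ≫ pullback.snd g g') ≫ (𝒳.p.obj r'.obj).hom = str
    rw [← Over.w (𝒳.p.map b'), Category.assoc]
    simp only [str, g']
    rw [← pullback.condition_assoc, Over.w (𝒳.p.map b)])
  have hk : k₁ ≫ 𝒳.p.map b = k₂ ≫ 𝒳.p.map b' :=
    Over.OverMorphism.ext (by
      show (k ≫ pullback.fst g g') ≫ g = (k ≫ pullback.snd g g') ≫ g'
      rw [Category.assoc, Category.assoc, pullback.condition])
  obtain ⟨ρ, φ, hρ, hφ⟩ := exists_lift h𝒳 k₁
  obtain ⟨χ, -, -⟩ := existsUnique_cart h𝒳 b' (φ ≫ b) (eqToHom hρ ≫ k₂)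
    (by rw [Functor.map_comp, hφ, Category.assoc, Category.assoc, hk])
  exact ⟨{ K := (pullback g g').residueField w, str := str, obj := ρ, lies := hρ }, φ ≫ a, χ ≫ c, trivial⟩

theorem equivalence_rel (h𝒳 : FibCat.IsFibGrpd 𝒳.p) : _root_.Equivalence (@AlgSt.FPt.Rel S 𝒳) :=
  ⟨rel_refl, rel_symm, rel_trans h𝒳⟩

theorem mk_eq_iff (h𝒳 : FibCat.IsFibGrpd 𝒳.p) {p q : FPt 𝒳} :
    AlgSt.Points.mk p = AlgSt.Points.mk q ↔ FPt.Rel p q :=
  ⟨fun h => (equivalence_rel h𝒳).eqvGen_iff.1 (Quot.eqvGen_exact h), AlgSt.Points.sound⟩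

/-- isomorphisms of functors out of a slice -/
theorem nonempty_iso_of_top (h𝒳 : FibCat.IsFibGrpd 𝒳.p) {U : Over S} (Φ Ψ : FibCat.overCat U ⥤ᵇ 𝒳)
    (χ : Φ.obj (Over.mk (𝟙 U)) ⟶ Ψ.obj (Over.mk (𝟙 U)))
    (hχ : 𝒳.p.map χ = eqToHom ((Φ.w_obj _).trans (Ψ.w_obj _).symm)) : Nonempty (Φ ≅ Ψ) := by
  haveI := Groth.Agent.S6409.result h𝒳 U
  haveI : IsIso (𝒳.p.map χ) := by rw [hχ]; infer_instance
  haveI := isIso_of_map h𝒳 χ
  let i : (FibCat.evalAtId 𝒳 U).obj Φ ≅ (FibCat.evalAtId 𝒳 U).obj Ψ :=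
    { hom := ⟨χ, IsHomLift.of_fac' 𝒳.p _ _ (Φ.w_obj _) (Ψ.w_obj _) (by rw [hχ]; simp)⟩
      inv := ⟨inv χ, IsHomLift.of_fac' 𝒳.p _ _ (Ψ.w_obj _) (Φ.w_obj _)
        (by rw [Functor.map_inv, IsIso.inv_eq_of_hom_inv_id]; rw [hχ]; simp)⟩
      hom_inv_id := Subtype.ext (IsIso.hom_inv_id χ)
      inv_hom_id := Subtype.ext (IsIso.inv_hom_id χ) }
  exact ⟨(FibCat.evalAtId 𝒳 U).preimageIso i⟩

theorem ofChart_congr {U : Over S} {Φ Ψ : FibCat.overCat U ⥤ᵇ 𝒳} (i : Φ ≅ Ψ) (t : ↥U.left) :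
    AlgSt.Points.ofChart Φ t = AlgSt.Points.ofChart Ψ t :=
  AlgSt.Points.sound ⟨_, 𝟙 _, i.hom.toNatTrans.app _, trivial⟩

theorem map_ofChart {U : Over S} (x : FibCat.overCat U ⥤ᵇ 𝒳) (f : 𝒳 ⥤ᵇ 𝒴) (t : ↥U.left) :
    AlgSt.Points.map f (AlgSt.Points.ofChart x t) = AlgSt.Points.ofChart (BasedFunctor.comp x f) t := rfl

theorem ofChart_overMap {U W : Over S} (x : FibCat.overCat U ⥤ᵇ 𝒳) (a : W ⟶ U) (w : ↥W.left) :
    AlgSt.Points.ofChart (BasedFunctor.comp (AlgSt.overMap a) x) w = AlgSt.Points.ofChart x (a.left w) := by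
  let A : Over U := (Over.map a).obj (Over.mk (Over.homMk (W.left.fromSpecResidueField w) rfl :
    Over.mk (W.left.fromSpecResidueField w ≫ W.hom) ⟶ W))
  let B : Over U := Over.mk (Over.homMk (U.left.fromSpecResidueField (a.left w)) rfl :
    Over.mk (U.left.fromSpecResidueField (a.left w) ≫ U.hom) ⟶ U)
  have h := Scheme.Hom.SpecMap_residueFieldMap_fromSpecResidueField a.left w
  let m : A ⟶ B := Over.homMk (Over.homMk (Spec.map (a.left.residueFieldMap w)) (by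
      show Spec.map _ ≫ U.left.fromSpecResidueField (a.left w) ≫ U.hom = W.left.fromSpecResidueField w ≫ W.hom
      rw [← Category.assoc, h, Category.assoc, Over.w a]))
    (Over.OverMorphism.ext h)
  exact AlgSt.Points.sound ⟨_, 𝟙 _, x.map m, trivial⟩

/-- every point lies on a chart -/
theorem exists_ofChart (h𝒳 : FibCat.IsFibGrpd 𝒳.p) (x : AlgSt.Points 𝒳) :
    ∃ (U : Over S) (y : FibCat.overCat U ⥤ᵇ 𝒳) (t : ↥U.left), AlgSt.Points.ofChart y t = x := by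
  obtain ⟨p, rfl⟩ := AlgSt.Points.mk_surjective x
  let K : Over S := Over.mk p.str
  haveI := Groth.Agent.S6409.result h𝒳 K
  let z : 𝒳.p.Fiber K := ⟨p.obj, p.lies⟩
  let i := (FibCat.evalAtId 𝒳 K).objObjPreimageIso z
  let y := (FibCat.evalAtId 𝒳 K).objPreimage z
  let t : ↥K.left := IsLocalRing.closedPoint p.K
  let A : Over K := Over.mk (Over.homMk (K.left.fromSpecResidueField t) rfl :
    Over.mk (K.left.fromSpecResidueField t ≫ K.hom) ⟶ K)
  exact ⟨K, y, t, AlgSt.Points.sound ⟨_, 𝟙 _,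
    y.map (Over.homMk A.hom (Category.comp_id _) : A ⟶ Over.mk (𝟙 K)) ≫
      Functor.Fiber.fiberInclusion.map i.hom, trivial⟩⟩

theorem exists_top_iso (h𝒳 : FibCat.IsFibGrpd 𝒳.p) (r : FPt 𝒳) {U : Over S}
    (x : FibCat.overCat U ⥤ᵇ 𝒳) (A : Over U) (a : r.obj ⟶ x.obj A) :
    ∃ (α : Over.mk r.str ⟶ U) (χ : (BasedFunctor.comp (AlgSt.overMap α) x).obj (Over.mk (𝟙 _)) ⟶ r.obj)
      (h : 𝒳.p.obj ((BasedFunctor.comp (AlgSt.overMap α) x).obj (Over.mk (𝟙 _))) = 𝒳.p.obj r.obj),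
      𝒳.p.map χ = eqToHom h ∧ ∃ n : Over.mk r.str ⟶ A.left, n ≫ A.hom = α := by
  let n : Over.mk r.str ⟶ A.left := eqToHom r.lies.symm ≫ 𝒳.p.map a ≫ eqToHom (x.w_obj A)
  let z : Over U := (AlgSt.overMap (n ≫ A.hom)).obj (Over.mk (𝟙 (Over.mk r.str)))
  let m : z ⟶ A := Over.homMk n (show n ≫ A.hom = 𝟙 _ ≫ n ≫ A.hom from (Category.id_comp _).symm)
  let h : 𝒳.p.obj (x.obj z) = 𝒳.p.obj r.obj := (x.w_obj z).trans r.lies.symm
  obtain ⟨χ, ⟨hχ, -⟩, -⟩ := existsUnique_cart h𝒳 a (x.map m) (eqToHom h) (by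
    have hm : 𝒳.p.map (x.map m) = eqToHom (x.w_obj z) ≫ n ≫ eqToHom (x.w_obj A).symm := map_map x m
    rw [hm]
    simp [n])
  exact ⟨n ≫ A.hom, χ, h, hχ, n, rfl⟩

/-- two charts with a common point meet at a field-valued point -/
theorem exists_common_point (h𝒳 : FibCat.IsFibGrpd 𝒳.p) {U V : Over S} {x : FibCat.overCat U ⥤ᵇ 𝒳}
    {y : FibCat.overCat V ⥤ᵇ 𝒳} {t : ↥U.left} {s : ↥V.left}
    (e : AlgSt.Points.ofChart x t = AlgSt.Points.ofChart y s) :
    ∃ (K : Over S) (α : K ⟶ U) (β : K ⟶ V) (k : ↥K.left),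
      Nonempty (BasedFunctor.comp (AlgSt.overMap α) x ≅ BasedFunctor.comp (AlgSt.overMap β) y) ∧
        α.left k = t ∧ β.left k = s := by
  obtain ⟨r, a, b, -⟩ := (mk_eq_iff h𝒳).1 e
  let A : Over U := Over.mk (Over.homMk (U.left.fromSpecResidueField t) rfl :
    Over.mk (U.left.fromSpecResidueField t ≫ U.hom) ⟶ U)
  let B : Over V := Over.mk (Over.homMk (V.left.fromSpecResidueField s) rfl :
    Over.mk (V.left.fromSpecResidueField s ≫ V.hom) ⟶ V)
  obtain ⟨α, χ, hχ', hχ, n, hn⟩ := exists_top_iso h𝒳 r x A a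
  obtain ⟨β, ψ, hψ', hψ, m, hm⟩ := exists_top_iso h𝒳 r y B b
  haveI : IsIso (𝒳.p.map ψ) := by rw [hψ]; infer_instance
  haveI := isIso_of_map h𝒳 ψ
  refine ⟨Over.mk r.str, α, β, IsLocalRing.closedPoint r.K,
    nonempty_iso_of_top h𝒳 _ _ (χ ≫ inv ψ) ?_, ?_, ?_⟩
  · rw [Functor.map_comp, Functor.map_inv]
    simp [hχ, hψ, inv_eqToHom]
  · rw [← hn]
    exact Scheme.fromSpecResidueField_apply t _
  · rw [← hm]
    exact Scheme.fromSpecResidueField_apply s _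

/-- maps given by charts of spaces -/
theorem exists_map_of_chart {F : Sp S} {W V : Over S} (c : (yon S).obj W ⟶ F)
    (Φ : ofSp F ⥤ᵇ FibCat.overCat V) :
    ∃ b : W ⟶ V, (yon S).map b = c ≫ spMapOfOver Φ ∧
      Nonempty (BasedFunctor.comp (BasedFunctor.comp (ofOverCat W) (Stk.ofPshMap c.hom)) Φ ≅ AlgSt.overMap b) := by
  obtain ⟨b, hb⟩ := exists_map_eq (c ≫ spMapOfOver Φ)
  let C := BasedFunctor.comp (ofOverCat W) (Stk.ofPshMap c.hom)
  let i₁ : BasedFunctor.comp C (Stk.ofPshMap (mapOf (BasedFunctor.comp Φ (ofOverCat V)))) ≅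
      BasedFunctor.comp (AlgSt.overMap b) (ofOverCat V) := isoOfSec _ _ fun z => by
    rw [secOf_comp_ofPshMap, ← spMapOfOver_hom]
    show (spMapOfOver Φ).hom.app _ (secOf (BasedFunctor.comp (ofOverCat W) (Stk.ofPshMap c.hom)) z) = _
    rw [secOf_comp_ofPshMap]
    refine Eq.trans ?_ (ULift.ext (ULift.up (z.hom ≫ b)) _ (Category.id_comp _).symm)
    refine (congrArg (fun k => k.hom.app (op z.left) (secOf (ofOverCat W) z)) hb.symm).trans ?_
    refine ULift.ext _ _ ?_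
    show (𝟙 z.left ≫ z.hom) ≫ b = z.hom ≫ b
    rw [Category.id_comp]
  exact ⟨b, hb, ⟨(post _ (toOverCat V)).mapIso
    (((Stk.restr C _).mapIso (mapOfIso (BasedFunctor.comp Φ (ofOverCat V)))).symm ≪≫ i₁)⟩⟩

/-- charts of fibre products of two charts -/
theorem exists_pair_chart (h𝒳 : FibCat.IsFibGrpd 𝒳.p) {U V : Over S} (x : FibCat.overCat U ⥤ᵇ 𝒳)
    (y : FibCat.overCat V ⥤ᵇ 𝒳) (hx : RepByAlgSp1 x) :
    ∃ (W : Over S) (a : W ⟶ U) (b : W ⟶ V),
      Nonempty (BasedFunctor.comp (AlgSt.overMap b) y ≅ BasedFunctor.comp (AlgSt.overMap a) x) ∧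
      (∀ (t : ↥U.left) (s : ↥V.left), AlgSt.Points.ofChart x t = AlgSt.Points.ofChart y s →
        ∃ w : ↥W.left, a.left w = t ∧ b.left w = s) ∧
      (∀ (P : MorphismProperty Scheme.{u}), EtST P → RepByAlgSpWith (LocP P) x → P b.left) ∧
      (RepByAlgSpWith AlgSp.IsSurjectiveMor x → Surjective b.left) := by
  obtain ⟨F, e, he⟩ := hx V y
  obtain ⟨W, c, hce, hcs⟩ := F.property.atlas
  obtain ⟨k, hk, -, ⟨j⟩⟩ := isEquivOver_symm he
  let p₁ := BasedFunctor.comp e (FibCat.fpFst y x)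
  let p₂ := BasedFunctor.comp e (FibCat.fpSnd y x)
  let C := BasedFunctor.comp (ofOverCat W) (Stk.ofPshMap c.hom)
  obtain ⟨b, hb, ⟨ib⟩⟩ := exists_map_of_chart c p₁
  obtain ⟨a, ha, ⟨ia⟩⟩ := exists_map_of_chart c p₂
  have trans' : ∀ (Q : MorphismProperty (Sp S)), BCStable Q → RepByAlgSpWith Q x → Q (spMapOfOver p₁) := by
    intro Q hQ h
    haveI := respectsIso_onSp hQ
    obtain ⟨F', e', he', hq⟩ := repWith_onSp_iff.2 h V y
    obtain ⟨i, hi⟩ := exists_iso_of_models he he'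
    have h' : onSp Q (spMapOfOver p₁) := by
      let iso : F'.obj ≅ F.obj := (fullyFaithfulSheafToPresheaf (J S) (Type (u + 1))).preimageIso i
      have hh : iso.hom ≫ spMapOfOver p₁ = spMapOfOver (BasedFunctor.comp e' (FibCat.fpFst y x)) := by
        refine ObjectProperty.hom_ext _ ?_
        show iso.hom.hom ≫ (spMapOfOver p₁).hom = _
        rw [spMapOfOver_hom, spMapOfOver_hom]
        rw [show iso.hom.hom = i.hom from rfl]
        exact hi (BasedFunctor.comp (FibCat.fpFst y x) (ofOverCat V))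
      rw [← hh] at hq
      exact ((onSp Q).cancel_left_of_respectsIso iso.hom _).1 hq
    exact h' F.property (IsAlgSpace.yon_obj V)
  refine ⟨W, a, b, ⟨?_⟩, fun t s hts => ?_, fun P hP h => ?_, fun h => ?_⟩
  · exact ((post _ y).mapIso ib).symm ≪≫
      (Stk.restr (BasedFunctor.comp C e) 𝒳).mapIso (FibCat.fpIso y x) ≪≫ (post _ x).mapIso ia
  · obtain ⟨K, α, β, κ, ⟨i⟩, rfl, rfl⟩ := exists_common_point h𝒳 hts
    let L : FibCat.overCat K ⥤ᵇ FibCat.fp y x := FibCat.fpLift (AlgSt.overMap β) (AlgSt.overMap α) i.symm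
    let l : (yon S).obj K ⟶ F.obj :=
      ObjectProperty.homMk (mapOf (BasedFunctor.comp (BasedFunctor.comp (toOverCat K) L) k))
    have hl : ∀ {T : Over S} (Φ : FibCat.fp y x ⥤ᵇ FibCat.overCat T) (γ : K ⟶ T)
        (_ : BasedFunctor.comp L Φ ≅ AlgSt.overMap γ),
        l ≫ spMapOfOver (BasedFunctor.comp e Φ) = (yon S).map γ := by
      intro T Φ γ iΦ
      refine ObjectProperty.hom_ext _ ?_
      show l.hom ≫ (spMapOfOver (BasedFunctor.comp e Φ)).hom = _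
      rw [spMapOfOver_hom]
      refine (mapOf_comp _ _).symm.trans ((mapOf_congr ((post _ (BasedFunctor.comp Φ (ofOverCat T))).mapIso
        ((Stk.restr (BasedFunctor.comp (toOverCat K) L) _).mapIso j) ≪≫
        (post _ (ofOverCat T)).mapIso ((Stk.restr (toOverCat K) _).mapIso iΦ))).trans ?_)
      ext Z g
      exact ULift.ext _ _ (by
        show 𝟙 _ ≫ g.down ≫ γ = g.down ≫ γ
        rw [Category.id_comp])
    obtain ⟨K', f₁, f₂, sqK, hsK⟩ := exists_repWith hcs l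
    obtain ⟨g₁, hg₁⟩ := exists_map_eq f₁
    haveI : Surjective f₂.left := hsK
    obtain ⟨v, hv⟩ := f₂.left.surjective κ
    have eb : g₁ ≫ b = f₂ ≫ β := (yon S).map_injective (by
      rw [Functor.map_comp, Functor.map_comp, hb, hg₁, sqK.w_assoc, hl (FibCat.fpFst y x) β (Iso.refl _)])
    have ea : g₁ ≫ a = f₂ ≫ α := (yon S).map_injective (by
      rw [Functor.map_comp, Functor.map_comp, ha, hg₁, sqK.w_assoc, hl (FibCat.fpSnd y x) α (Iso.refl _)])
    refine ⟨g₁.left v, ?_, ?_⟩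
    · show (g₁ ≫ a).left v = α.left κ
      rw [ea, ← hv]
      rfl
    · show (g₁ ≫ b).left v = β.left κ
      rw [eb, ← hv]
      rfl
  · exact trans' _ (fun _ _ _ _ h₁ h₂ h₃ h₄ _ _ _ _ sq h => locP_baseChange hP h₁ h₂ h₃ h₄ sq h) h c (𝟙 _) b
      hce repWith_id' (by rw [Category.comp_id, hb])
  · have hs : AlgSp.IsSurjectiveMor ((yon S).map b) := by
      rw [hb]
      exact cls_surjective.comp (IsAlgSpace.yon_obj W) F.property (IsAlgSpace.yon_obj V) c _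
        (isSurjectiveMor_of_repWith hcs) (trans' _ bcStable_surjective h)
    exact (repWith_yon_iff _).1 (repWith_surjective_of_isSurjectiveMor (AlgSp.representable_yon_map _) hs)

theorem exists_point_of_surjective (h𝒳 : FibCat.IsFibGrpd 𝒳.p) {U : Over S} (x : FibCat.overCat U ⥤ᵇ 𝒳)
    (hx : RepByAlgSpWith AlgSp.IsSurjectiveMor x) (p : AlgSt.Points 𝒳) :
    ∃ t, AlgSt.Points.ofChart x t = p := by
  obtain ⟨V, y, s, rfl⟩ := exists_ofChart h𝒳 p
  obtain ⟨W, a, b, ⟨i⟩, -, -, hs⟩ := exists_pair_chart h𝒳 x y (repByAlgSp1_of_with hx)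
  haveI := hs hx
  obtain ⟨w, rfl⟩ := b.left.surjective s
  exact ⟨a.left w, by rw [← ofChart_overMap, ← ofChart_overMap, ofChart_congr i]⟩

/-! ### topology -/

theorem isOpenMap_ofChart (h𝒳 : FibCat.IsFibGrpd 𝒳.p) {U : Over S} (x : FibCat.overCat U ⥤ᵇ 𝒳)
    (h₁ : RepByAlgSpWith (LocP @Flat) x) (h₂ : RepByAlgSpWith (LocP @LocallyOfFinitePresentation) x) :
    IsOpenMap (AlgSt.Points.ofChart x) := fun O hO => by
  refine AlgSt.Points.isOpen_iff.2 fun V y _ => ?_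
  obtain ⟨W, a, b, ⟨i⟩, hp, hP, -⟩ := exists_pair_chart h𝒳 x y (repByAlgSp1_of_with h₁)
  haveI : Flat b.left := hP _ etST_flat h₁
  haveI : LocallyOfFinitePresentation b.left := hP _ etST_lfp h₂
  have e : AlgSt.Points.ofChart y ⁻¹' (AlgSt.Points.ofChart x '' O) = b.left '' (a.left ⁻¹' O) := by
    ext s
    constructor
    · rintro ⟨t, ht, ht'⟩
      obtain ⟨w, rfl, rfl⟩ := hp t s ht'
      exact ⟨w, ht, rfl⟩
    · rintro ⟨w, hw, rfl⟩
      exact ⟨a.left w, hw, by rw [← ofChart_overMap, ← ofChart_overMap, ofChart_congr i]⟩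
  rw [e]
  exact (inferInstance : UniversallyOpen b.left).universally_isOpenMap _ _ _ (IsPullback.id_vert b.left) _ (hO.preimage a.left.continuous)

theorem continuous_ofChart (h𝒳 : IsAlgStack Scheme.fppfPrecoverage 𝒳) {U : Over S}
    (x : FibCat.overCat U ⥤ᵇ 𝒳) : Continuous (AlgSt.Points.ofChart x) := by
  refine continuous_def.2 fun O hO => ?_
  obtain ⟨V, y, hy, hy'⟩ := h𝒳.atlas
  obtain ⟨W, a, b, ⟨i⟩, -, hP, hs⟩ := exists_pair_chart h𝒳.isStack.1 y x (repByAlgSp1_of_with hy)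
  haveI : Smooth b.left := hP _ etST_smooth hy
  haveI := hs hy'
  have e : AlgSt.Points.ofChart x ⁻¹' O = b.left '' (a.left ⁻¹' (AlgSt.Points.ofChart y ⁻¹' O)) := by
    ext s
    constructor
    · intro hsO
      obtain ⟨w, rfl⟩ := b.left.surjective s
      refine ⟨w, ?_, rfl⟩
      show AlgSt.Points.ofChart y (a.left w) ∈ O
      rw [← ofChart_overMap, ← ofChart_congr i, ofChart_overMap]
      exact hsO
    · rintro ⟨w, hw, rfl⟩
      show AlgSt.Points.ofChart x (b.left w) ∈ O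
      rw [← ofChart_overMap, ofChart_congr i, ofChart_overMap]
      exact hw
  rw [e]
  exact b.left.isOpenMap _ ((hO V y hy).preimage a.left.continuous)

theorem continuous_map (h𝒴 : IsAlgStack Scheme.fppfPrecoverage 𝒴) (f : 𝒳 ⥤ᵇ 𝒴) :
    Continuous (AlgSt.Points.map f) :=
  continuous_def.2 fun _ hO U x _ => (continuous_ofChart h𝒴 (BasedFunctor.comp x f)).isOpen_preimage _ hO

end Groth.Agent.AlgStLib

end
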