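import Groth.Agent.AlgStLib.Calc
import Groth.Agent.AlgSpLib.ProperCrit

/-!
# Functors representable by algebraic spaces: representable properties and monomorphisms
-/

set_option autoImplicit false
set_option backward.isDefEq.respectTransparency false
set_option backward.isDefEq.respectTransparency.types false
set_option linter.style.haveILetI false
universe v₄ u₄ v₃ u₃ v₂ u₂ v₁ u₁ u

noncomputable section

namespace Groth.Agent.AlgStLib

open CategoryTheory CategoryTheory.Limits AlgebraicGeometry Opposite Groth.Agent.FibCatRep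
  Groth.Agent.FibCat2Misc Groth.Agent.AlgSpLib Groth.Agent.StkBasic
open _root_.AlgSp _root_.AlgSt

variable {S : Scheme.{u}}

section swap

variable {C : Type u₁} [Category.{v₁} C] {𝒳 : BasedCategory.{v₂, u₂} C} {𝒴 : BasedCategory.{v₃, u₃} C}
  {𝒮 : BasedCategory.{v₄, u₄} C}

/-- exchange of the factors of a fibre product -/
def swapFun (F : 𝒳 ⥤ᵇ 𝒮) (G : 𝒴 ⥤ᵇ 𝒮) : FibCat.fp F G ⥤ᵇ FibCat.fp G F :=
  FibCat.fpLift (FibCat.fpSnd F G) (FibCat.fpFst F G) (FibCat.fpIso F G).symm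

theorem isEquivOver_swapFun (F : 𝒳 ⥤ᵇ 𝒮) (G : 𝒴 ⥤ᵇ 𝒮) : FibCat.IsEquivOver (swapFun F G) := by
  haveI : (swapFun F G).toFunctor.Faithful := ⟨fun {a b} m m' h => ObjectProperty.hom_ext _
    (CategoricalPullback.hom_ext (congrArg (fun t => t.hom.snd) h) (congrArg (fun t => t.hom.fst) h))⟩
  haveI : (swapFun F G).toFunctor.Full := ⟨fun {a b} m => by
    refine ⟨ObjectProperty.homMk ⟨m.hom.snd, m.hom.fst, ?_⟩,
      ObjectProperty.hom_ext _ (CategoricalPullback.hom_ext rfl rfl)⟩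
    have w : G.map m.hom.fst ≫ b.obj.iso.inv = a.obj.iso.inv ≫ F.map m.hom.snd := m.hom.w
    rw [← cancel_mono b.obj.iso.inv, Category.assoc, Category.assoc, w]
    simp⟩
  refine isEquivOver_of_fullyFaithful _ fun η => ?_
  obtain ⟨q, hq⟩ := map_iso_hom η
  refine ⟨⟨⟨η.obj.snd, η.obj.fst, η.obj.iso.symm⟩, fpProp_of_map F G _ q.symm ?_⟩,
    ObjectProperty.isoMk _ (CategoricalPullback.mkIso (Iso.refl _) (Iso.refl _) ?_), rfl, ?_⟩
  · show 𝒮.p.map η.obj.iso.inv = _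
    rw [← IsIso.Iso.inv_hom η.obj.iso]
    exact map_inv_of_eqToHom _ hq
  · show G.map (𝟙 _) ≫ η.obj.iso.hom = η.obj.iso.hom ≫ F.map (𝟙 _)
    simp only [CategoryTheory.Functor.map_id]
    exact (Category.id_comp _).trans (Category.comp_id _).symm
  · exact 𝒴.p.map_id η.obj.fst

end swap

/-- relative representability with a representable property, between sheaves -/
theorem repWith_of_repBySpWith {P : MorphismProperty Scheme.{u}} [P.IsStableUnderBaseChange]
    {X Y : Sp S} (f : X ⟶ Y) (h : RepBySpWith (RepWith (S := S) P) f.hom) : RepWith P f := by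
  have : P.RespectsIso := MorphismProperty.IsStableUnderBaseChange.respectsIso
  refine repWith_of_exists fun U ξ => ?_
  have sq := IsPullback.of_hasPullback f ξ
  obtain ⟨h', -, hq⟩ := h ξ.hom (pullback.fst f ξ).hom (pullback.snd f ξ).hom
    (sq.map (sheafToPresheaf (J S) (Type (u + 1))))
  obtain ⟨V, fst, snd, sq', hP⟩ := exists_repWith (f := pullback.snd f ξ) hq (𝟙 ((yon S).obj U))
  refine ⟨V, fst ≫ pullback.fst f ξ, snd, ?_, hP⟩
  simpa using sq'.paste_horiz sq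

variable {𝒳 𝒴 𝒵 : AlgSt.Cat S}

/-- composition for representable properties -/
theorem repWith_comp_rep (h𝒳 : FibCat.IsFibGrpd 𝒳.p) (h𝒴 : FibCat.IsFibGrpd 𝒴.p)
    {P : MorphismProperty Scheme.{u}} [P.IsStableUnderBaseChange] [P.IsStableUnderComposition]
    {f : 𝒳 ⥤ᵇ 𝒴} {g : 𝒴 ⥤ᵇ 𝒵} (hf : RepByAlgSpWith (RepWith (S := S) P) f)
    (hg : RepByAlgSpWith (RepWith (S := S) P) g) :
    RepByAlgSpWith (RepWith (S := S) P) (BasedFunctor.comp f g) := by
  have : P.RespectsIso := MorphismProperty.IsStableUnderBaseChange.respectsIso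
  haveI : (RepWith (S := S) P).RespectsIso := MorphismProperty.IsStableUnderBaseChange.respectsIso
  exact repWith_comp_aux h𝒳 h𝒴 hf hg _ fun _ _ _ a b _ _ ha hb =>
    AlgSpLib.repWith_comp (repWith_of_repBySpWith a ha) hb

theorem repWith_isAffineMor_iff {f : 𝒳 ⥤ᵇ 𝒴} :
    RepByAlgSpWith AlgSp.IsAffineMor f ↔ RepByAlgSpWith (RepWith (S := S) @IsAffineHom) f :=
  ⟨fun h => repWith_mono h fun _ _ a _ ha => (isAffineMor_iff_repWith a).1 ha,
    fun h => repWith_mono h fun _ _ a _ ha => (isAffineMor_iff_repWith a).2 ha⟩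

theorem repWith_isIntegralMor_iff {f : 𝒳 ⥤ᵇ 𝒴} :
    RepByAlgSpWith AlgSp.IsIntegralMor f ↔ RepByAlgSpWith (RepWith (S := S) @IsIntegralHom) f :=
  ⟨fun h => repWith_mono h fun _ _ a _ ha => (isIntegralMor_iff_repWith a).1 ha,
    fun h => repWith_mono h fun _ _ a _ ha => (isIntegralMor_iff_repWith a).2 ha⟩

theorem repWith_isFiniteMor_iff {f : 𝒳 ⥤ᵇ 𝒴} :
    RepByAlgSpWith AlgSp.IsFiniteMor f ↔ RepByAlgSpWith (RepWith (S := S) @IsFinite) f :=
  ⟨fun h => repWith_mono h fun _ _ a _ ha => (isFiniteMor_iff_repWith a).1 ha,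
    fun h => repWith_mono h fun _ _ a _ ha => (isFiniteMor_iff_repWith a).2 ha⟩

/-- injectivity of a map relatively representable by monomorphisms -/
theorem injective_of_repBySpWith {A P : PSp S} {π : P ⟶ A}
    (h : RepBySpWith (MorphismProperty.monomorphisms (Sp S)) π) (T : (Over S)ᵒᵖ) :
    Function.Injective (π.app T) := by
  intro x₁ x₂ hx
  let ξ : (pyon S).obj T.unop ⟶ A := sEq.symm (π.app T x₁)
  have sq := IsPullback.of_hasPullback π ξ
  obtain ⟨h', -, hm⟩ := h ξ _ _ sq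
  haveI : Mono (pullback.snd π ξ) := by
    haveI : Mono _ := hm
    exact inferInstanceAs (Mono ((sheafToPresheaf (J S) (Type (u + 1))).map (ObjectProperty.homMk
      (pullback.snd π ξ) : (⟨_, h'⟩ : Sp S) ⟶ (yon S).obj T.unop)))
  have hz : ∀ x : P.obj T, π.app T x = π.app T x₁ → sEq.symm x ≫ π = 𝟙 _ ≫ ξ := fun x e' => by
    apply sEq.injective
    rw [sEq_comp, Category.id_comp, Equiv.apply_symm_apply, Equiv.apply_symm_apply]
    exact e'
  have := (cancel_mono (pullback.snd π ξ)).1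
    ((sq.lift_snd (sEq.symm x₁) (𝟙 _) (hz x₁ rfl)).trans (sq.lift_snd (sEq.symm x₂) (𝟙 _) (hz x₂ hx.symm)).symm)
  have := congrArg (· ≫ pullback.fst _ _) this
  simp only [IsPullback.lift_fst] at this
  exact sEq.symm.injective this

theorem mono_of_repBySpWith {X Y : Sp S} (f : X ⟶ Y)
    (h : RepBySpWith (MorphismProperty.monomorphisms (Sp S)) f.hom) : Mono f := by
  haveI : ∀ T, Mono (f.hom.app T) := fun T => (mono_iff_injective _).2 (injective_of_repBySpWith h T)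
  exact Functor.mono_of_mono_map (sheafToPresheaf (J S) (Type (u + 1))) (NatTrans.mono_of_mono_app f.hom)

/-- composition of monomorphisms -/
theorem isMono_comp (h𝒳 : FibCat.IsFibGrpd 𝒳.p) (h𝒴 : FibCat.IsFibGrpd 𝒴.p) {f : 𝒳 ⥤ᵇ 𝒴} {g : 𝒴 ⥤ᵇ 𝒵}
    (hf : IsMono f) (hg : IsMono g) : IsMono (BasedFunctor.comp f g) :=
  repWith_comp_aux h𝒳 h𝒴 hf hg _ fun _ _ _ a b _ _ ha hb => by
    haveI := mono_of_repBySpWith a ha
    haveI : Mono b := hb
    exact mono_comp a b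

/-- the second projection as a base change -/
theorem repWith_fpSnd (P : MorphismProperty (Sp S)) (z : 𝒵 ⥤ᵇ 𝒴) (f : 𝒳 ⥤ᵇ 𝒴)
    (hz : RepByAlgSpWith P z) : RepByAlgSpWith P (FibCat.fpSnd z f) :=
  (repWith_iff_of_equiv P (FibCat.fpFst f z) (FibCat.fpSnd z f) (swapFun z f) (BasedFunctor.id 𝒳)
    (isEquivOver_swapFun z f) isEquivOver_id (Iso.refl _)).1 (repWith_fpFst P z f hz)

theorem repByAlgSp_fp_swap (h𝒴 : FibCat.IsFibGrpd 𝒴.p) {𝒰 : AlgSt.Cat S} (h𝒰 : FibCat.IsFibGrpd 𝒰.p)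
    {g : 𝒰 ⥤ᵇ 𝒴} (hg : RepByAlgSp1 g) (x : 𝒵 ⥤ᵇ 𝒴) (hZ : RepByAlgSp 𝒵) :
    RepByAlgSp (FibCat.fp g x) :=
  (repByAlgSp_iff_of_equiv (isEquivOver_swapFun g x)).2 (repByAlgSp_fp h𝒰 h𝒴 hg x hZ)

end Groth.Agent.AlgStLib

end
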