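import Groth.Agent.AlgStLib.UnivTop

/-!
# Quasi-compact functors of algebraic stacks: calculus
-/

set_option autoImplicit false
set_option backward.isDefEq.respectTransparency false
set_option backward.isDefEq.respectTransparency.types false
set_option linter.style.haveILetI false
universe u

noncomputable section

namespace Groth.Agent.AlgStLib

open CategoryTheory CategoryTheory.Limits AlgebraicGeometry Opposite Groth.Agent.FibCatRep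
  Groth.Agent.FibCat2Misc Groth.Agent.AlgSpLib Groth.Agent.StkBasic
open _root_.AlgSp _root_.AlgSt

variable {S : Scheme.{u}} {𝒳 𝒴 𝒵 : AlgSt.Cat S}

local notation "AS" => IsAlgStack Scheme.fppfPrecoverage
local notation "QC" => AlgSt.IsQuasiCompactMor Scheme.fppfPrecoverage

theorem isAlgStack_overCat (U : Over S) : AS (FibCat.overCat U) :=
  isAlgStack_of_equiv (isEquivOver_toOverCat U) (isDM_of_space (isAlgSpaceP_yon U)).1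

theorem algFp (h𝒵 : AS 𝒵) (h𝒳 : AS 𝒳) (h𝒴 : AS 𝒴) (f : 𝒳 ⥤ᵇ 𝒵) (g : 𝒴 ⥤ᵇ 𝒵) : AS (FibCat.fp f g) :=
  isAlgStack_fp h𝒵.isStack h𝒵.diag h𝒳 h𝒴 f g

theorem exists_ofChart_id {U : Over S} (p : AlgSt.Points (FibCat.overCat U)) :
    ∃ t, AlgSt.Points.ofChart (BasedFunctor.id (FibCat.overCat U)) t = p := by
  obtain ⟨V, y, s, rfl⟩ := exists_ofChart (isFibGrpd_overCat U) p
  let o : (FibCat.overCat V).obj := Over.mk (𝟙 V)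
  let γ : V ⟶ U := eqToHom (y.w_obj o).symm ≫ (y.obj o).hom
  obtain ⟨i⟩ := nonempty_iso_of_top (isFibGrpd_overCat U) y (AlgSt.overMap γ)
    (Over.homMk (eqToHom (y.w_obj o)) (by
      show eqToHom (y.w_obj o) ≫ 𝟙 V ≫ eqToHom (y.w_obj o).symm ≫ (y.obj o).hom = _
      erw [Category.id_comp, eqToHom_trans_assoc, eqToHom_refl, Category.id_comp])) rfl
  exact ⟨γ.left s, ((ofChart_congr i s).trans (ofChart_overMap (BasedFunctor.id _) γ s)).symm⟩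

theorem isQuasiCompact_of_chart (h𝒳 : AS 𝒳) {U : Over S} [CompactSpace ↥U.left]
    (x : FibCat.overCat U ⥤ᵇ 𝒳) (hx : Function.Surjective (AlgSt.Points.ofChart x)) :
    AlgSt.IsQuasiCompact 𝒳 :=
  (isQuasiCompact_iff_compactSpace h𝒳).2 ⟨by
    rw [← Set.range_eq_univ.2 hx]
    exact isCompact_range (continuous_ofChart h𝒳 x)⟩

theorem isQuasiCompact_overCat (U : Over S) [CompactSpace ↥U.left] : AlgSt.IsQuasiCompact (FibCat.overCat U) :=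
  isQuasiCompact_of_chart (isAlgStack_overCat U) (BasedFunctor.id _) exists_ofChart_id

theorem isQuasiCompact_iff_of_equiv {e : 𝒳 ⥤ᵇ 𝒴} (he : FibCat.IsEquivOver e) (h𝒳 : AS 𝒳) :
    AlgSt.IsQuasiCompact 𝒳 ↔ AlgSt.IsQuasiCompact 𝒴 := by
  rw [isQuasiCompact_iff_compactSpace h𝒳, isQuasiCompact_iff_compactSpace (isAlgStack_of_equiv he h𝒳)]
  let E := (isHomeomorph_map_of_equiv he h𝒳).homeomorph
  exact ⟨fun _ => E.compactSpace, fun _ => E.symm.compactSpace⟩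

theorem isQuasiCompact_swap (h𝒵 : AS 𝒵) (h𝒳 : AS 𝒳) (h𝒴 : AS 𝒴) {f : 𝒳 ⥤ᵇ 𝒵} {g : 𝒴 ⥤ᵇ 𝒵}
    (h : AlgSt.IsQuasiCompact (FibCat.fp f g)) : AlgSt.IsQuasiCompact (FibCat.fp g f) :=
  (isQuasiCompact_iff_of_equiv (isEquivOver_swapFun f g) (algFp h𝒵 h𝒳 h𝒴 f g)).1 h

theorem isSurjective_fpSnd (h𝒳 : FibCat.IsFibGrpd 𝒳.p) (h𝒴 : FibCat.IsFibGrpd 𝒴.p)
    (h𝒵 : FibCat.IsFibGrpd 𝒵.p) (σ : 𝒳 ⥤ᵇ 𝒵) (f : 𝒴 ⥤ᵇ 𝒵) (hσ : AlgSt.IsSurjective σ) :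
    AlgSt.IsSurjective (FibCat.fpSnd σ f) := fun y => by
  obtain ⟨x, hx⟩ := hσ (AlgSt.Points.map f y)
  obtain ⟨w, -, hw⟩ := exists_points_fp h𝒴 h𝒵 h𝒳 f σ x y hx
  exact ⟨w, hw⟩

/-- precomposing the first functor with a surjection -/
theorem isQuasiCompact_fp_of_surjective {𝒳' : AlgSt.Cat S} (h𝒵 : AS 𝒵) (h𝒳' : AS 𝒳') (h𝒳 : AS 𝒳) (h𝒴 : AS 𝒴)
    {σ : 𝒳' ⥤ᵇ 𝒳} {g : 𝒳 ⥤ᵇ 𝒵} {f : 𝒴 ⥤ᵇ 𝒵} (hσ : AlgSt.IsSurjective σ)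
    (h : AlgSt.IsQuasiCompact (FibCat.fp (BasedFunctor.comp σ g) f)) :
    AlgSt.IsQuasiCompact (FibCat.fp g f) := by
  have hA := algFp h𝒳 h𝒳' (algFp h𝒵 h𝒳 h𝒴 g f) σ (FibCat.fpFst g f)
  exact isQuasiCompact_of_isSurjective hA (algFp h𝒵 h𝒳 h𝒴 g f)
    (isSurjective_fpSnd h𝒳'.isStack.1 (algFp h𝒵 h𝒳 h𝒴 g f).isStack.1 h𝒳.isStack.1 σ _ hσ)
    ((isQuasiCompact_iff_of_equiv (isEquivOver_pasteFun σ g f) hA).2 h)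

theorem isQuasiCompact_fp_congr (h𝒵 : AS 𝒵) (h𝒳 : AS 𝒳) (h𝒴 : AS 𝒴)
    {a b : 𝒳 ⥤ᵇ 𝒵} (i : a ≅ b) {f : 𝒴 ⥤ᵇ 𝒵} (h : AlgSt.IsQuasiCompact (FibCat.fp a f)) :
    AlgSt.IsQuasiCompact (FibCat.fp b f) := by
  let L : FibCat.fp a f ⥤ᵇ FibCat.fp b f := FibCat.fpLift (FibCat.fpFst a f) (FibCat.fpSnd a f)
    ((Stk.restr (FibCat.fpFst a f) _).mapIso i.symm ≪≫ FibCat.fpIso a f)
  refine isQuasiCompact_of_isSurjective (f := L) (algFp h𝒵 h𝒳 h𝒴 a f) (algFp h𝒵 h𝒳 h𝒴 b f) (fun p => ?_) h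
  obtain ⟨T, P, t, rfl⟩ := exists_ofChart (isFibGrpd_fp h𝒳.isStack.1 h𝒴.isStack.1 h𝒵.isStack.1 b f) p
  let x := BasedFunctor.comp P (FibCat.fpFst b f)
  let y := BasedFunctor.comp P (FibCat.fpSnd b f)
  let P' := FibCat.fpLift (F := a) (G := f) x y
    ((Stk.restr x _).mapIso i ≪≫ (Stk.restr P _).mapIso (FibCat.fpIso b f))
  refine ⟨AlgSt.Points.ofChart P' t, ?_⟩
  rw [map_ofChart]
  refine ofChart_congr (fpExt (a := BasedFunctor.comp P' L) (b := P) (Iso.refl _) (Iso.refl _) fun o => ?_) t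
  show b.map (𝟙 _) ≫ (P.obj o).obj.iso.hom =
    (i.inv.toNatTrans.app (x.obj o) ≫ (i.hom.toNatTrans.app (x.obj o) ≫ (P.obj o).obj.iso.hom)) ≫ f.map (𝟙 _)
  rw [b.toFunctor.map_id, f.toFunctor.map_id]
  have e : i.inv.toNatTrans.app (x.obj o) ≫ i.hom.toNatTrans.app (x.obj o) = 𝟙 _ :=
    congrArg (fun η : b ⟶ b => η.toNatTrans.app (x.obj o)) i.inv_hom_id
  erw [Category.comp_id, Category.id_comp, ← Category.assoc, e, Category.id_comp]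

theorem isQuasiCompactMor_congr (h𝒳 : AS 𝒳) (h𝒴 : AS 𝒴) {f f' : 𝒳 ⥤ᵇ 𝒴} (i : f ≅ f') (h : QC f) : QC f' :=
  fun 𝒵 h𝒵 q g => isQuasiCompact_swap h𝒴 h𝒳 h𝒵
    (isQuasiCompact_fp_congr h𝒴 h𝒳 h𝒵 i (isQuasiCompact_swap h𝒴 h𝒵 h𝒳 (h 𝒵 h𝒵 q g)))

theorem isQuasiCompactMor_fpFst {𝒴' : AlgSt.Cat S} (h𝒳 : AS 𝒳) (h𝒴 : AS 𝒴) (h𝒴' : AS 𝒴') {f : 𝒳 ⥤ᵇ 𝒴}
    (g : 𝒴' ⥤ᵇ 𝒴) (h : QC f) : QC (FibCat.fpFst g f) := fun 𝒵 h𝒵 q k =>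
  (isQuasiCompact_iff_of_equiv (isEquivOver_pasteFun k g f)
    (algFp h𝒴' h𝒵 (algFp h𝒴 h𝒴' h𝒳 g f) k _)).2 (h 𝒵 h𝒵 q (BasedFunctor.comp k g))

theorem qcMor_comp (h𝒳 : AS 𝒳) (h𝒴 : AS 𝒴) (h𝒵 : AS 𝒵) {f : 𝒳 ⥤ᵇ 𝒴} {g : 𝒴 ⥤ᵇ 𝒵}
    (hf : QC f) (hg : QC g) : QC (BasedFunctor.comp f g) := fun 𝒲 h𝒲 q k => by
  have hA := algFp h𝒵 h𝒴 h𝒲 g k
  exact isQuasiCompact_swap h𝒵 h𝒳 h𝒲
    ((isQuasiCompact_iff_of_equiv (isEquivOver_pasteFun f g k) (algFp h𝒴 h𝒳 hA f _)).1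
      (isQuasiCompact_swap h𝒴 hA h𝒳
        (hf _ hA (isQuasiCompact_swap h𝒵 h𝒲 h𝒴 (hg 𝒲 h𝒲 q k)) (FibCat.fpFst g k))))

theorem qcMor_of_surjective (h𝒳 : AS 𝒳) (h𝒴 : AS 𝒴) (h𝒵 : AS 𝒵)
    {f : 𝒳 ⥤ᵇ 𝒴} {p : 𝒳 ⥤ᵇ 𝒵} {q : 𝒴 ⥤ᵇ 𝒵} (e : BasedFunctor.comp f q ≅ p)
    (hf : AlgSt.IsSurjective f) (hp : QC p) : QC q := fun 𝒲 h𝒲 hq k => by
  exact isQuasiCompact_swap h𝒵 h𝒴 h𝒲 (isQuasiCompact_fp_of_surjective h𝒵 h𝒳 h𝒴 h𝒲 hf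
    (isQuasiCompact_fp_congr h𝒵 h𝒳 h𝒲 e.symm (isQuasiCompact_swap h𝒵 h𝒲 h𝒳 (hp 𝒲 h𝒲 hq k))))

/-- affine test objects suffice -/
theorem isQuasiCompactMor_of_affine (h𝒳 : AS 𝒳) (h𝒴 : AS 𝒴) {f : 𝒳 ⥤ᵇ 𝒴}
    (h : ∀ (Z : Over S) (z : FibCat.overCat Z ⥤ᵇ 𝒴), IsAffine Z.left → AlgSt.IsQuasiCompact (FibCat.fp z f)) :
    QC f := fun 𝒵 h𝒵 q g => by
  obtain ⟨U, x, hU, -, hx⟩ := q
  exact isQuasiCompact_fp_of_surjective h𝒴 (isAlgStack_overCat U) h𝒵 h𝒳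
    (isSurjective_of_repWith (isFibGrpd_overCat U) h𝒵.isStack.1 hx) (h U _ hU)

theorem isQuasiCompact_fp_overCat {f : 𝒳 ⥤ᵇ 𝒴} (hf : QC f) (Z : Over S) [CompactSpace ↥Z.left]
    (z : FibCat.overCat Z ⥤ᵇ 𝒴) : AlgSt.IsQuasiCompact (FibCat.fp z f) :=
  hf _ (isAlgStack_overCat Z) (isQuasiCompact_overCat Z) z

theorem isQuasiCompact_source (h𝒳 : AS 𝒳) (h𝒴 : AS 𝒴) {f : 𝒳 ⥤ᵇ 𝒴} (hf : QC f)
    (h : AlgSt.IsQuasiCompact 𝒴) : AlgSt.IsQuasiCompact 𝒳 :=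
  isQuasiCompact_of_isSurjective (algFp h𝒴 h𝒴 h𝒳 _ f) h𝒳
    (isSurjective_fpSnd h𝒴.isStack.1 h𝒳.isStack.1 h𝒴.isStack.1 (BasedFunctor.id 𝒴) f
      fun y => ⟨y, map_id_points y⟩)
    (hf 𝒴 h𝒴 h (BasedFunctor.id 𝒴))

end Groth.Agent.AlgStLib

end
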