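import Groth.Agent.AlgStLib.QuotMap
import Groth.Agent.FibCatRep.Cart

/-!
# The square `G × X ⇉ X → [X/G]` is 2-cartesian
-/

set_option autoImplicit false
set_option backward.isDefEq.respectTransparency false
universe u

noncomputable section

namespace Groth.Agent.AlgStLib

open CategoryTheory MonoidalCategory CartesianMonoidalCategory MonObj GrpObj AlgebraicGeometry
open CategoryTheory.Limits

variable {S : Scheme.{u}} {G X : Over S} [GrpObj G] {aX : AlgGrp.Action G X}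

local notation "qm" => AlgSt.quotMap Scheme.fppfPrecoverage G aX

/-- a point of a scheme as an object of its category -/
abbrev qpt {U : Over S} (T : Over S) (x : T ⟶ U) : (AlgSt.ofSch U).obj := ⟨T, ⟨x⟩⟩

/-- The morphism of trivial torsors given by a morphism of bases and a point of `G`. -/
def quotMor {T T' : Over S} {x : T ⟶ X} {x' : T' ⟶ X} (f : T ⟶ T') (g : T ⟶ G)
    (hg : lift g (f ≫ x') ≫ aX.act = x) : (qm).obj (qpt T x) ⟶ (qm).obj (qpt T' x') where
  base := f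
  top := lift (fst G T * (snd G T ≫ g)) (snd G T ≫ f)
  eqv := by
    show (AlgSt.leftMul G T).act ≫ lift (fst G T * (snd G T ≫ g)) (snd G T ≫ f) =
      (G ◁ lift (fst G T * (snd G T ≫ g)) (snd G T ≫ f)) ≫ (AlgSt.leftMul G T').act
    have e : (G ◁ lift (fst G T * (snd G T ≫ g)) (snd G T ≫ f)) =
        lift (fst G (G ⊗ T)) (snd G (G ⊗ T) ≫ lift (fst G T * (snd G T ≫ g)) (snd G T ≫ f)) :=
      CartesianMonoidalCategory.hom_ext _ _ (by simp) (by simp)
    rw [e, comp_leftMul]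
    simp only [AlgSt.leftMul, comp_lift, comp_mul, lift_fst, lift_snd, lift_snd_assoc, Category.assoc,
      _root_.mul_assoc]
  cart := isPullback_rightMul g f
  wφ := by
    show lift (fst G T * (snd G T ≫ g)) (snd G T ≫ f) ≫ (G ◁ x') ≫ aX.act = (G ◁ x) ≫ aX.act
    rw [wf_iff aX g f x', hg]

/-- every morphism of trivial torsors is given by a point of `G` -/
lemma exists_quotMor {T T' : Over S} {x : T ⟶ X} {x' : T' ⟶ X} (h : (qm).obj (qpt T x) ⟶ (qm).obj (qpt T' x')) :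
    ∃ g : T ⟶ G, lift g ((h.base : T ⟶ T') ≫ x') ≫ aX.act = x ∧
      h.top = lift (fst G T * (snd G T ≫ g)) (snd G T ≫ h.base) := by
  have w : h.top ≫ snd G T' = snd G T ≫ h.base := h.cart.w
  have htop := leftMul_hom_eq (T := T) (T' := T') h.top h.base h.eqv w
  refine ⟨lift (1 : T ⟶ G) (𝟙 T) ≫ h.top ≫ fst G T', ?_, htop⟩
  have hw : h.top ≫ (G ◁ x') ≫ aX.act = (G ◁ x) ≫ aX.act := h.wφ
  generalize lift (1 : T ⟶ G) (𝟙 T) ≫ h.top ≫ fst G T' = g at htop ⊢
  rw [htop] at hw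
  have hf := (wf_iff aX g h.base x').symm.trans hw
  have := lift (1 : T ⟶ G) (𝟙 T) ≫= hf
  simp only [lift_whiskerLeft_assoc, Category.id_comp] at this
  exact ((Groth.Agent.Torsor.one_smul aX _).symm.trans this).trans (Groth.Agent.Torsor.one_smul aX x)

lemma act_eq_smul (aX : AlgGrp.Action G X) {T : Over S} (p : T ⟶ G ⊗ X) :
    p ≫ aX.act = Groth.Agent.Torsor.smul aX (p ≫ fst G X) (p ≫ snd G X) := by
  show _ = lift _ _ ≫ aX.act
  rw [← comp_lift, lift_fst_snd, Category.comp_id]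

lemma actSnd_hom_cond (aX : AlgGrp.Action G X) {T : Over S} (p : T ⟶ G ⊗ X) :
    lift (p ≫ fst G X) (𝟙 T ≫ p ≫ snd G X) ≫ aX.act = p ≫ aX.act := by
  rw [Category.id_comp, act_eq_smul aX p]
  rfl

lemma actSnd_inv_cond (aX : AlgGrp.Action G X) {T : Over S} (p : T ⟶ G ⊗ X) :
    lift (p ≫ fst G X)⁻¹ (𝟙 T ≫ p ≫ aX.act) ≫ aX.act = p ≫ snd G X := by
  show Groth.Agent.Torsor.smul aX _ _ = _
  rw [Category.id_comp, act_eq_smul aX p, ← Groth.Agent.Torsor.mul_smul, inv_mul_cancel,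
    Groth.Agent.Torsor.one_smul]

lemma quotMor_comp_base {T T' T'' : Over S} {x : T ⟶ X} {x' : T' ⟶ X} {x'' : T'' ⟶ X} (f : T ⟶ T') (g : T ⟶ G)
    (hg : lift g (f ≫ x') ≫ aX.act = x) (f' : T' ⟶ T'') (g' : T' ⟶ G)
    (hg' : lift g' (f' ≫ x'') ≫ aX.act = x') :
    AlgSt.QuotObj.Hom.base (quotMor f g hg ≫ quotMor f' g' hg') = f ≫ f' := rfl

lemma qm_id_base (T : Over S) (x : T ⟶ X) :
    AlgSt.QuotObj.Hom.base (𝟙 ((qm).obj (qpt T x))) = 𝟙 T := rfl

variable (aX) in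
/-- the component at `(T, (g, x))` of the 2-isomorphism: right multiplication by `g` -/
def actSndPt (T : Over S) (p : T ⟶ G ⊗ X) :
    (qm).obj (qpt T (p ≫ aX.act)) ≅ (qm).obj (qpt T (p ≫ snd G X)) where
  hom := quotMor (𝟙 T) (p ≫ fst G X) (actSnd_hom_cond aX p)
  inv := quotMor (𝟙 T) (p ≫ fst G X)⁻¹ (actSnd_inv_cond aX p)
  hom_inv_id := AlgSt.QuotObj.hom_ext ((quotMor_comp_base (aX := aX) _ _ _ _ _ _).trans ((Category.id_comp (𝟙 T)).trans (qm_id_base (aX := aX) T _).symm)) (by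
    show lift (fst G T * (snd G T ≫ p ≫ fst G X)) (snd G T ≫ 𝟙 _) ≫
      lift (fst G T * (snd G T ≫ (p ≫ fst G X)⁻¹)) (snd G T ≫ 𝟙 _) = 𝟙 _
    simp only [Category.comp_id, comp_lift, comp_mul, comp_inv, lift_fst, lift_snd, lift_snd_assoc,
      mul_inv_cancel_right, lift_fst_snd])
  inv_hom_id := AlgSt.QuotObj.hom_ext ((quotMor_comp_base (aX := aX) _ _ _ _ _ _).trans ((Category.id_comp (𝟙 T)).trans (qm_id_base (aX := aX) T _).symm)) (by
    show lift (fst G T * (snd G T ≫ (p ≫ fst G X)⁻¹)) (snd G T ≫ 𝟙 _) ≫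
      lift (fst G T * (snd G T ≫ p ≫ fst G X)) (snd G T ≫ 𝟙 _) = 𝟙 _
    simp only [Category.comp_id, comp_lift, comp_mul, comp_inv, lift_fst, lift_snd, lift_snd_assoc,
      inv_mul_cancel_right, lift_fst_snd])

lemma actSndPt_nat (aX : AlgGrp.Action G X) {T T' : Over S} (f : T ⟶ T') (p : T ⟶ G ⊗ X) (p' : T' ⟶ G ⊗ X)
    (hs : f ≫ p' = p) :
    (G ◁ f) ≫ lift (fst G T' * (snd G T' ≫ p' ≫ fst G X)) (snd G T' ≫ 𝟙 T') =
      lift (fst G T * (snd G T ≫ p ≫ fst G X)) (snd G T ≫ 𝟙 T) ≫ (G ◁ f) := by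
  simp only [Category.comp_id, comp_lift, comp_mul, lift_whiskerLeft, whiskerLeft_fst, whiskerLeft_snd,
    whiskerLeft_snd_assoc, reassoc_of% hs]

lemma actSnd_nat_base {T T' : Over S} (f : T ⟶ T') : f ≫ 𝟙 T' = 𝟙 T ≫ f :=
  (Category.comp_id f).trans (Category.id_comp f).symm

variable (aX) in
/-- the canonical 2-isomorphism `π ∘ a ≅ π ∘ pr₂` -/
def actSndIso : BasedFunctor.comp (AlgSt.ofSpMap ((AlgSp.yon S).map aX.act)) qm ≅
    BasedFunctor.comp (AlgSt.ofSpMap ((AlgSp.yon S).map (snd G X))) qm :=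
  BasedNatIso.mkNatIso
    (NatIso.ofComponents (fun w => actSndPt aX w.base w.sec.down) (fun {w w'} m =>
      AlgSt.QuotObj.hom_ext (actSnd_nat_base m.hom)
        (actSndPt_nat aX m.hom _ _ (congrArg ULift.down m.map_sec))))
    (fun w => IsHomLift.of_fac' _ _ _ rfl rfl (by
      refine (?_ : 𝟙 w.base = _)
      exact (Category.id_comp _).symm.trans (Category.comp_id _).symm |>.trans (Category.id_comp _).symm))

theorem isTwoCartOver_actSnd :
    FibCat.IsTwoCartOver (AlgSt.ofSpMap ((AlgSp.yon S).map aX.act))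
      (AlgSt.ofSpMap ((AlgSp.yon S).map (snd G X))) (actSndIso aX) := by
  let L := FibCat.fpLift (AlgSt.ofSpMap ((AlgSp.yon S).map aX.act))
      (AlgSt.ofSpMap ((AlgSp.yon S).map (snd G X))) (actSndIso aX)
  haveI : L.toFunctor.Faithful := ⟨fun {w w'} m m' h => Stk.EltObj.hom_ext
    (congrArg (fun t => (t.hom.fst).hom) h)⟩
  haveI : L.toFunctor.Full := ⟨fun {w w'} φ => by
    let α : (AlgSt.ofSpMap ((AlgSp.yon S).map aX.act)).obj w ⟶
        (AlgSt.ofSpMap ((AlgSp.yon S).map aX.act)).obj w' := φ.hom.fst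
    let β : (AlgSt.ofSpMap ((AlgSp.yon S).map (snd G X))).obj w ⟶
        (AlgSt.ofSpMap ((AlgSp.yon S).map (snd G X))).obj w' := φ.hom.snd
    let f : w.base ⟶ w'.base := α.hom
    let f₂ : w.base ⟶ w'.base := β.hom
    have hw := φ.hom.w
    have hb0 : f ≫ 𝟙 w'.base = 𝟙 w.base ≫ f₂ := congrArg AlgSt.QuotObj.Hom.base hw
    have hb : f = f₂ := ((Category.comp_id f).symm.trans hb0).trans (Category.id_comp f₂)
    have ht : (G ◁ f) ≫ lift (fst G w'.base * (snd G w'.base ≫ w'.sec.down ≫ fst G X)) (snd G w'.base ≫ 𝟙 _) =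
          lift (fst G w.base * (snd G w.base ≫ w.sec.down ≫ fst G X)) (snd G w.base ≫ 𝟙 _) ≫ (G ◁ f₂) :=
      congrArg AlgSt.QuotObj.Hom.top hw
    have h1 := lift (1 : w.base ⟶ G) (𝟙 w.base) ≫= (ht =≫ fst G w'.base)
    simp only [Category.assoc, lift_whiskerLeft_assoc, whiskerLeft_fst, lift_fst, lift_fst_assoc, lift_snd_assoc,
      comp_mul, Category.id_comp, _root_.one_mul, Category.comp_id] at h1
    have h2 : f₂ ≫ w'.sec.down ≫ snd G X = w.sec.down ≫ snd G X := congrArg ULift.down β.map_sec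
    have hm : f ≫ w'.sec.down = w.sec.down := CartesianMonoidalCategory.hom_ext _ _
      (by rw [Category.assoc]; exact h1) (by rw [Category.assoc, hb]; exact h2)
    refine ⟨⟨f, congrArg ULift.up hm⟩, ?_⟩
    apply ObjectProperty.hom_ext
    apply CategoricalPullback.hom_ext
    · exact Stk.EltObj.hom_ext rfl
    · exact Stk.EltObj.hom_ext hb⟩
  refine Groth.Agent.FibCatRep.isEquivOver_of_fullyFaithful L (fun z => ?_)
  let a : (AlgSt.ofSch X).obj := z.obj.fst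
  let b : (AlgSt.ofSch X).obj := z.obj.snd
  let i : (qm).obj (qpt a.base a.sec.down) ≅ (qm).obj (qpt b.base b.sec.down) := z.obj.iso
  obtain ⟨g, hg, htop⟩ := exists_quotMor i.hom
  let f : a.base ⟶ b.base := i.hom.base
  haveI : IsIso f := ((AlgSt.QuotObj.forget Scheme.fppfPrecoverage G aX).mapIso i).isIso_hom
  let ξ : (AlgSt.ofSch (G ⊗ X)).obj := ⟨a.base, ⟨lift g (f ≫ b.sec.down)⟩⟩
  let e₁ : (AlgSt.ofSpMap ((AlgSp.yon S).map aX.act)).obj ξ ≅ a :=
    { hom := ⟨𝟙 a.base, congrArg ULift.up (show 𝟙 a.base ≫ a.sec.down = lift g (f ≫ b.sec.down) ≫ aX.act by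
        rw [Category.id_comp]; exact hg.symm)⟩
      inv := ⟨𝟙 a.base, congrArg ULift.up (show 𝟙 a.base ≫ lift g (f ≫ b.sec.down) ≫ aX.act = a.sec.down by
        rw [Category.id_comp]; exact hg)⟩
      hom_inv_id := Stk.EltObj.hom_ext (Category.id_comp _)
      inv_hom_id := Stk.EltObj.hom_ext (Category.id_comp _) }
  let e₂ : (AlgSt.ofSpMap ((AlgSp.yon S).map (snd G X))).obj ξ ≅ b :=
    { hom := ⟨f, congrArg ULift.up (show f ≫ b.sec.down = lift g (f ≫ b.sec.down) ≫ snd G X by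
        rw [lift_snd])⟩
      inv := ⟨inv f, congrArg ULift.up (show inv f ≫ lift g (f ≫ b.sec.down) ≫ snd G X = b.sec.down by
        rw [lift_snd, IsIso.inv_hom_id_assoc])⟩
      hom_inv_id := Stk.EltObj.hom_ext (IsIso.hom_inv_id f)
      inv_hom_id := Stk.EltObj.hom_ext (IsIso.inv_hom_id f) }
  refine ⟨ξ, ObjectProperty.isoMk _ (CategoricalPullback.mkIso e₁ e₂ ?_), rfl, rfl⟩
  apply AlgSt.QuotObj.hom_ext
  · show 𝟙 a.base ≫ f = 𝟙 a.base ≫ f
    rfl
  · show (G ◁ 𝟙 a.base) ≫ i.hom.top =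
      lift (fst G a.base * (snd G a.base ≫ lift g (f ≫ b.sec.down) ≫ fst G X)) (snd G a.base ≫ 𝟙 _) ≫ (G ◁ f)
    rw [MonoidalCategory.whiskerLeft_id, Category.id_comp, lift_fst, htop, lift_whiskerLeft, Category.assoc,
      Category.id_comp]

end Groth.Agent.AlgStLib

end
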