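import Groth.Agent.AlgStLib.QuotModuli
import Groth.Agent.FibCatRep.Cart
import Mathlib.AlgebraicGeometry.AlgClosed.Basic

/-!
# Categorical quotients with orbits as geometric fibres give coarse moduli spaces of quotient stacks
-/

set_option autoImplicit false
set_option backward.isDefEq.respectTransparency false
set_option backward.isDefEq.respectTransparency.types false
set_option linter.style.haveILetI false
universe u

noncomputable section

namespace Groth.Agent.AlgStLib.Quot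

open CategoryTheory CategoryTheory.Limits MonoidalCategory CartesianMonoidalCategory MonObj GrpObj AlgebraicGeometry
open _root_.AlgSp Opposite

variable {S : Scheme.{u}} {G X : Over S} [GrpObj G] {aX : AlgGrp.Action G X}
  [Flat G.hom] [LocallyOfFinitePresentation G.hom]

/-- torsors over algebraically closed points are trivial -/
lemma exists_triv {Ω : Type u} [Field Ω] [IsAlgClosed Ω] (t : Spec (CommRingCat.of Ω) ⟶ S)
    (A : AlgSt.QuotObj Scheme.fppfPrecoverage G aX) (hA : A.base = Over.mk t) :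
    ∃ (x : Over.mk t ⟶ X) (h : (AlgSt.quotMap Scheme.fppfPrecoverage G aX).obj (qpt (Over.mk t) x) ⟶ A),
      h.base = eqToHom hA.symm := by
  obtain ⟨h₁, h₂, h₃⟩ := fppf_π A
  let q : A.P.left ⟶ Spec (CommRingCat.of Ω) := A.π.left ≫ (eqToHom hA).left
  haveI := h₂
  haveI := h₃
  haveI : IsIso (eqToHom hA).left := inferInstanceAs (IsIso ((Over.forget S).map (eqToHom hA)))
  haveI : LocallyOfFiniteType q := inferInstanceAs (LocallyOfFiniteType (A.π.left ≫ (eqToHom hA).left))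
  haveI : Surjective q := inferInstanceAs (Surjective (A.π.left ≫ (eqToHom hA).left))
  obtain ⟨p₀, -⟩ := q.surjective (IsLocalRing.closedPoint Ω)
  haveI : JacobsonSpace A.P.left := LocallyOfFiniteType.jacobsonSpace q
  obtain ⟨p, hp⟩ : (closedPoints A.P.left).Nonempty := by
    rw [← closure_nonempty_iff, closure_closedPoints]
    exact ⟨p₀, trivial⟩
  let s₀ : Spec (CommRingCat.of Ω) ⟶ A.P.left := pointOfClosedPoint q p hp
  have hs₀ : s₀ ≫ q = 𝟙 _ := pointOfClosedPoint_comp q p hp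
  let s : Over.mk t ⟶ A.P := Over.homMk s₀ (by
    show s₀ ≫ A.P.hom = t
    rw [← Over.w (A.π ≫ eqToHom hA)]
    show s₀ ≫ q ≫ t = t
    rw [← Category.assoc, hs₀, Category.id_comp])
  refine ⟨s ≫ A.φ, trivHom A s, ?_⟩
  show s ≫ A.π = eqToHom hA.symm
  rw [← cancel_mono (eqToHom hA), eqToHom_trans, eqToHom_refl]
  exact Over.OverMorphism.ext ((Category.assoc _ _ _).trans hs₀)

/-- coarse moduli spaces of quotient stacks -/
theorem isCoarseModuli_of_orbits {Y : Over S} (f : X ⟶ Y)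
    (hinv : aX.act ≫ f = snd G X ≫ f)
    (horb : ∀ (Ω : Type u) [Field Ω] [IsAlgClosed Ω] (t : Spec (CommRingCat.of Ω) ⟶ S),
      (∀ y : Over.mk t ⟶ Y, ∃ x : Over.mk t ⟶ X, x ≫ f = y) ∧
      (∀ x x' : Over.mk t ⟶ X, x ≫ f = x' ≫ f → ∃ g : Over.mk t ⟶ G, lift g x' ≫ aX.act = x))
    (hcat : ∀ (N : AlgSp.Space S) (ψ : (yon S).obj X ⟶ N.obj),
      (yon S).map aX.act ≫ ψ = (yon S).map (snd G X) ≫ ψ →
        ∃! χ : (yon S).obj Y ⟶ N.obj, (yon S).map f ≫ χ = ψ)
    (π : AlgSt.QuotSt Scheme.fppfPrecoverage G aX ⥤ᵇ AlgSt.ofSch Y)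
    (hπ : Nonempty (BasedFunctor.comp (AlgSt.quotMap Scheme.fppfPrecoverage G aX) π ≅
      AlgSt.ofSpMap ((yon S).map f))) :
    AlgSt.IsCoarseModuli π := by
  obtain ⟨i⟩ := hπ
  have hπ' := eq_of_iso i
  have hres : ∀ {N : Sp S} (g : (yon S).obj Y ⟶ N),
      BasedFunctor.comp (AlgSt.quotMap Scheme.fppfPrecoverage G aX) (BasedFunctor.comp π (AlgSt.ofSpMap g)) =
        AlgSt.ofSpMap ((yon S).map f ≫ g) := fun g =>
    congrArg (fun Ψ => BasedFunctor.comp Ψ (AlgSt.ofSpMap g)) hπ'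
  refine ⟨⟨IsAlgSpace.yon_obj Y, fun N hN φ => ?_⟩, fun Ω _ _ t => ⟨fun m => ?_, ?_⟩⟩
  · obtain ⟨g, hg⟩ := exists_ofSpMap (BasedFunctor.comp (AlgSt.quotMap Scheme.fppfPrecoverage G aX) φ)
    have hg_inv := invariant_of_factor φ g hg.symm
    obtain ⟨χ, hχ, hχu⟩ := hcat ⟨N, hN⟩ g hg_inv
    obtain ⟨φ₀, -, huniq⟩ := existsUnique_desc g hg_inv
    refine ⟨χ, ⟨eqToIso ?_⟩, fun g' ⟨j⟩ => ?_⟩
    · rw [huniq _ hg.symm]
      refine huniq _ ?_
      show BasedFunctor.comp _ (BasedFunctor.comp π _) = _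
      rw [hres, hχ]
    · refine hχu g' (ofSpMap_injective ?_)
      rw [← hres, eq_of_iso j, hg]
  · obtain ⟨x, hx⟩ := (horb Ω t).1 (m : ULift.{u + 1} (Over.mk t ⟶ Y)).down
    refine ⟨⟨(AlgSt.quotMap Scheme.fppfPrecoverage G aX).obj (qpt (Over.mk t) x), rfl⟩, ?_⟩
    show _ = m
    refine Eq.trans ?_ (Eq.trans (Groth.Agent.AlgStLib.secOf_ofPshMap ((pyon S).map f) (qpt (Over.mk t) x))
      (ULift.ext _ _ hx))
    refine Eq.trans ?_ (congrArg (fun Φ => Groth.Agent.AlgStLib.secOf Φ (qpt (Over.mk t) x)) hπ')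
    rw [Groth.Agent.AlgStLib.secOf_comp]
    exact (FunctorToTypes.map_id_apply _ _).symm
  · rintro ⟨A, hA⟩ ⟨A', hA'⟩ heq
    obtain ⟨x, h, hh⟩ := exists_triv t A hA
    obtain ⟨x', h', hh'⟩ := exists_triv t A' hA'
    have key : ∀ (B : AlgSt.QuotObj Scheme.fppfPrecoverage G aX) (hB : B.base = Over.mk t)
        (z : Over.mk t ⟶ X) (k : (AlgSt.quotMap Scheme.fppfPrecoverage G aX).obj (qpt (Over.mk t) z) ⟶ B),
        k.base = eqToHom hB.symm → (⟨z ≫ f⟩ : ULift.{u + 1} (Over.mk t ⟶ Y)) =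
          AlgSt.fibSec π (⟨B, hB⟩ : (AlgSt.QuotSt Scheme.fppfPrecoverage G aX).p.Fiber (Over.mk t)) := by
      intro B hB z k hk
      refine Eq.trans (Groth.Agent.AlgStLib.secOf_ofPshMap ((pyon S).map f) (qpt (Over.mk t) z)).symm ?_
      refine (congrArg (fun Φ => Groth.Agent.AlgStLib.secOf Φ (qpt (Over.mk t) z)) hπ').symm.trans ?_
      rw [Groth.Agent.AlgStLib.secOf_comp, ← Groth.Agent.AlgStLib.secOf_map π k]
      show ((yon S).obj Y).obj.map _ (((yon S).obj Y).obj.map k.base.op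
        (((yon S).obj Y).obj.map _ (π.obj B).sec)) = ((yon S).obj Y).obj.map _ (π.obj B).sec
      rw [hk, ← Functor.map_comp_apply, ← Functor.map_comp_apply, ← op_comp, ← op_comp, eqToHom_trans,
        eqToHom_trans]
    have hxx : x ≫ f = x' ≫ f :=
      congrArg ULift.down ((key A hA x h hh).trans (heq.trans (key A' hA' x' h' hh').symm))
    obtain ⟨g, hg⟩ := (horb Ω t).2 x x' hxx
    let p : Over.mk t ⟶ A'.P := lift g (unitPt h') ≫ A'.act.act
    have hpφ : p ≫ A'.φ = x := by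
      rw [Category.assoc, A'.eqv, lift_whiskerLeft_assoc, unitPt_φ, hg]
    have hpπ : p ≫ A'.π = eqToHom hA'.symm := by
      rw [Category.assoc, A'.cart.w, lift_snd_assoc, unitPt_π, hh']
    subst hpφ
    let h'' := trivHom A' p
    haveI : IsIso ((AlgSt.QuotSt Scheme.fppfPrecoverage G aX).p.map h) := by
      show IsIso h.base
      rw [hh]
      infer_instance
    haveI : IsIso ((AlgSt.QuotSt Scheme.fppfPrecoverage G aX).p.map h'') := by
      show IsIso (p ≫ A'.π)
      rw [hpπ]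
      infer_instance
    haveI := Groth.Agent.FibCatRep.isIso_of_map (isFibGrpd G aX) h
    haveI := Groth.Agent.FibCatRep.isIso_of_map (isFibGrpd G aX) h''
    let e : A ≅ A' := (asIso h).symm ≪≫ asIso h''
    have he : (AlgSt.QuotSt Scheme.fppfPrecoverage G aX).p.map e.hom = eqToHom (hA.trans hA'.symm) := by
      show (AlgSt.QuotSt Scheme.fppfPrecoverage G aX).p.map (inv h ≫ h'') = _
      rw [Functor.map_comp, Functor.map_inv, IsIso.inv_comp_eq]
      show p ≫ A'.π = h.base ≫ _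
      rw [hpπ, hh, eqToHom_trans]
    have he' : (AlgSt.QuotSt Scheme.fppfPrecoverage G aX).p.map e.inv = eqToHom (hA'.trans hA.symm) := by
      rw [← IsIso.Iso.inv_hom e]
      exact Groth.Agent.FibCatRep.map_inv_of_eqToHom _ he
    exact ⟨{ hom := Groth.Agent.FibCatRep.fibHom _ _ e.hom he
             inv := Groth.Agent.FibCatRep.fibHom _ _ e.inv he'
             hom_inv_id := Functor.Fiber.hom_ext e.hom_inv_id
             inv_hom_id := Functor.Fiber.hom_ext e.inv_hom_id }⟩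

end Groth.Agent.AlgStLib.Quot
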