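import Groth.Prelude.Def_AlgSt5
import Groth.Prelude.Def_AlgSt2
import Groth.Agent.Torsor.Points
import Mathlib.AlgebraicGeometry.Sites.Fpqc
import Mathlib.CategoryTheory.Monoidal.Cartesian.Grp

/-!
# The canonical functor to a quotient category
-/

set_option autoImplicit false
set_option backward.isDefEq.respectTransparency false
universe u

noncomputable section

namespace Groth.Agent.AlgStLib

open CategoryTheory MonoidalCategory CartesianMonoidalCategory MonObj GrpObj AlgebraicGeometry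
open Groth.Agent.Torsor

variable {S : Scheme.{u}} {G X : Over S} [GrpObj G]

lemma comp_leftMul {T U : Over S} (g : U ⟶ G) (p : U ⟶ G ⊗ T) :
    lift g p ≫ (AlgSt.leftMul G T).act = lift (g * (p ≫ fst G T)) (p ≫ snd G T) := by
  simp only [AlgSt.leftMul, comp_lift, comp_mul, lift_fst, lift_snd_assoc]

lemma leftMul_hom_eq {T T' : Over S} (top : G ⊗ T ⟶ G ⊗ T') (f : T ⟶ T')
    (eqv : (AlgSt.leftMul G T).act ≫ top = (G ◁ top) ≫ (AlgSt.leftMul G T').act)
    (w : top ≫ snd G T' = snd G T ≫ f) :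
    top = lift (fst G T * (snd G T ≫ (lift (1 : T ⟶ G) (𝟙 T) ≫ top ≫ fst G T'))) (snd G T ≫ f) := by
  have h := lift (fst G T) (lift (1 : G ⊗ T ⟶ G) (snd G T)) ≫= eqv
  rw [← Category.assoc, comp_leftMul, lift_fst, lift_snd, _root_.mul_one, lift_fst_snd, Category.id_comp,
    lift_whiskerLeft_assoc, comp_leftMul] at h
  have e : lift (1 : G ⊗ T ⟶ G) (snd G T) = snd G T ≫ lift (1 : T ⟶ G) (𝟙 T) := by
    rw [comp_lift, comp_one, Category.comp_id]
  refine h.trans ?_
  simp only [e, Category.assoc, w]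
  rw [lift_snd_assoc, Category.id_comp]

lemma wf_iff {T T' : Over S} (aX : AlgGrp.Action G X) (g : T ⟶ G) (f : T ⟶ T') (x' : T' ⟶ X) :
    lift (fst G T * (snd G T ≫ g)) (snd G T ≫ f) ≫ (G ◁ x') ≫ aX.act =
      (G ◁ (lift g (f ≫ x') ≫ aX.act)) ≫ aX.act := by
  have hR : (G ◁ (lift g (f ≫ x') ≫ aX.act)) ≫ aX.act =
      smul aX (fst G T) (snd G T ≫ smul aX g (f ≫ x')) := by
    show _ = lift (fst G T) (snd G T ≫ lift g (f ≫ x') ≫ aX.act) ≫ aX.act
    congr 1
  rw [hR, comp_smul, ← Torsor.mul_smul, lift_whiskerLeft_assoc, Category.assoc]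
  rfl

/-- the automorphism given by right translation -/
lemma isPullback_rightMul {T T' : Over S} (g : T ⟶ G) (f : T ⟶ T') :
    IsPullback (lift (fst G T * (snd G T ≫ g)) (snd G T ≫ f)) (snd G T) (snd G T') f := by
  let θ : G ⊗ T ⟶ G ⊗ T := lift (fst G T * (snd G T ≫ g)) (snd G T)
  have hθ : IsIso θ := ⟨⟨lift (fst G T * (snd G T ≫ g)⁻¹) (snd G T), by
    simp only [θ, comp_lift, comp_mul, comp_inv, lift_fst, lift_snd, lift_snd_assoc, mul_inv_cancel_right,
      lift_fst_snd], by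
    simp only [θ, comp_lift, comp_mul, comp_inv, lift_fst, lift_snd, lift_snd_assoc, inv_mul_cancel_right,
      lift_fst_snd]⟩⟩
  have e : θ ≫ (G ◁ f) = lift (fst G T * (snd G T ≫ g)) (snd G T ≫ f) := by
    simp only [θ, lift_whiskerLeft]
  have sq : IsPullback θ (snd G T) (snd G T) (𝟙 T) := IsPullback.of_horiz_isIso ⟨by simp [θ]⟩
  have := sq.paste_horiz (AlgSt.isPullback_whiskerLeft f)
  rwa [e, Category.id_comp] at this

end Groth.Agent.AlgStLib

end
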