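import Groth.Agent.AlgStLib.QuotDescend
import Groth.Agent.AlgStLib.QuotCart
import Groth.Agent.AlgStLib.FinitePoints
import Groth.Agent.LangMap.Torsor
import Mathlib.GroupTheory.GroupAction.Quotient

/-!
# The mass of a quotient stack over a finite field
-/

set_option autoImplicit false
set_option backward.isDefEq.respectTransparency false
set_option backward.isDefEq.respectTransparency.types false
set_option linter.style.haveILetI false
universe u

noncomputable section

namespace Groth.Agent.AlgStLib.Quot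

open CategoryTheory CategoryTheory.Limits MonoidalCategory CartesianMonoidalCategory MonObj GrpObj AlgebraicGeometry
open Groth.Agent.FibCatRep

variable {F : Type u} [Field F] [Finite F] {X G : Over (Spec (CommRingCat.of F))} [GrpObj G]
  {aX : AlgGrp.Action G X}

/-- the point -/
abbrev ePt (F : Type u) [Field F] : Over (Spec (CommRingCat.of F)) := Over.mk (𝟙 _)

/-- the fibre category over the point -/
abbrev FibE (aX : AlgGrp.Action G X) :=
  (AlgSt.QuotSt Scheme.fppfPrecoverage G aX).p.Fiber (ePt F)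

/-- the object of a rational point -/
abbrev qo (x : ePt F ⟶ X) : FibE aX :=
  ⟨(AlgSt.quotMap Scheme.fppfPrecoverage G aX).obj (qpt (ePt F) x), rfl⟩

omit [Finite F] in
lemma end_ePt (f : ePt F ⟶ ePt F) : f = 𝟙 _ := Over.mkIdTerminal.hom_ext _ _

omit [Finite F] in
/-- morphisms of the fibre are isomorphisms -/
lemma exists_iso {ξ ζ : FibE aX} (f : ξ.1 ⟶ ζ.1) : ∃ e : ξ ≅ ζ, e.hom.1 = f := by
  have hb : ∀ {a b : FibE aX} (k : a.1 ⟶ b.1),
      (AlgSt.QuotSt Scheme.fppfPrecoverage G aX).p.map k = eqToHom (a.2.trans b.2.symm) := by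
    rintro ⟨A, hA⟩ ⟨B, hB⟩ k
    change (AlgSt.QuotSt Scheme.fppfPrecoverage G aX).p.map k = _
    rw [← cancel_mono (eqToHom hB), ← cancel_epi (eqToHom hA.symm)]
    exact (end_ePt _).trans (end_ePt _).symm
  haveI : IsIso ((AlgSt.QuotSt Scheme.fppfPrecoverage G aX).p.map f) := by rw [hb f]; infer_instance
  haveI := isIso_of_map (isFibGrpd G aX) f
  let mk : ∀ {a b : FibE aX} (k : a.1 ⟶ b.1), a ⟶ b := fun {a b} k =>
    ⟨k, IsHomLift.of_fac' _ _ _ a.2 b.2 (by rw [hb k]; simp)⟩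
  exact ⟨⟨mk f, mk (inv f), Subtype.ext (IsIso.hom_inv_id f), Subtype.ext (IsIso.inv_hom_id f)⟩, rfl⟩

omit [Finite F] in
lemma exists_transporter (x x' : ePt F ⟶ X) (k : (qo (aX := aX) x).1 ⟶ (qo (aX := aX) x').1) :
    ∃ g : ePt F ⟶ G, Torsor.smul aX g x' = x ∧
      k.top = lift (fst G (ePt F) * (snd G (ePt F) ≫ g)) (snd G (ePt F) ≫ 𝟙 _) := by
  obtain ⟨g, h₁, h₂⟩ := exists_quotMor k
  have hb : (k.base : ePt F ⟶ ePt F) = 𝟙 _ := end_ePt _
  refine ⟨g, ?_, h₂.trans (congrArg (fun b => lift _ (snd G (ePt F) ≫ b)) hb)⟩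
  exact ((congrArg (fun b : ePt F ⟶ X => lift g b ≫ aX.act)
    ((congrArg (· ≫ x') hb).trans (Category.id_comp x'))).symm.trans h₁)

omit [Finite F] in
/-- isomorphisms of objects of rational points are the transporters -/
def isoEquiv (x x' : ePt F ⟶ X) :
    (qo (aX := aX) x ≅ qo x') ≃ {g : ePt F ⟶ G // Torsor.smul aX g x' = x} := by
  refine (Equiv.ofBijective (fun e => ⟨(exists_transporter x x' e.hom.1).choose,
    (exists_transporter x x' e.hom.1).choose_spec.1⟩) ⟨?_, ?_⟩)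
  · intro e e' h
    refine Iso.ext (Subtype.ext (AlgSt.QuotObj.hom_ext ((end_ePt _).trans (end_ePt _).symm) ?_))
    rw [(exists_transporter x x' e.hom.1).choose_spec.2, (exists_transporter x x' e'.hom.1).choose_spec.2,
      show (exists_transporter x x' e.hom.1).choose = (exists_transporter x x' e'.hom.1).choose from
        (congrArg Subtype.val h :)]
  · intro g
    obtain ⟨e, he⟩ := exists_iso (ξ := qo (aX := aX) x) (ζ := qo x') (quotMor (𝟙 (ePt F)) g.1 (by
      rw [Category.id_comp]; exact g.2))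
    refine ⟨e, Subtype.ext ?_⟩
    have h := (exists_transporter x x' e.hom.1).choose_spec.2
    show (exists_transporter x x' e.hom.1).choose = g.1
    generalize (exists_transporter x x' e.hom.1).choose = g₀ at h ⊢
    rw [he] at h
    have h' : lift (fst G (ePt F) * (snd G (ePt F) ≫ g.1)) (snd G (ePt F) ≫ 𝟙 _) =
        lift (fst G (ePt F) * (snd G (ePt F) ≫ g₀)) (snd G (ePt F) ≫ 𝟙 _) := h
    have := lift (1 : ePt F ⟶ G) (𝟙 _) ≫= (h' =≫ fst G (ePt F))
    simp only [lift_fst, comp_mul, lift_snd_assoc, Category.id_comp, _root_.one_mul] at this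
    exact this.symm

/-- every object of the fibre comes from a rational point -/
theorem exists_qo [Smooth G.hom] [IsAffineHom G.hom] [ConnectedSpace ↥G.left] (ξ : FibE aX) :
    ∃ x : ePt F ⟶ X, Nonempty (qo x ≅ ξ) := by
  obtain ⟨A, hA⟩ := ξ
  change A.base = ePt F at hA
  obtain ⟨h₁, h₂, h₃⟩ := fppf_π A
  haveI : IsAffine G.left := isAffine_of_isAffineHom G.hom
  haveI hb : IsIso A.base.hom := by
    rw [← Over.w (eqToHom hA)]
    haveI : IsIso (eqToHom hA).left := Functor.map_isIso (Over.forget _) (eqToHom hA)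
    show IsIso ((eqToHom hA).left ≫ 𝟙 _)
    infer_instance
  have hP : A.π.left ≫ A.base.hom = A.P.hom := Over.w A.π
  haveI : LocallyOfFiniteType A.P.hom := by rw [← hP]; infer_instance
  haveI : Nonempty A.P.left := by
    obtain ⟨z, -⟩ := A.π.left.surjective ((inv A.base.hom) (IsLocalRing.closedPoint F))
    exact ⟨z⟩
  obtain ⟨Fr, hFr⟩ := LangMap.exists_frob G
  let t : IsTerminal A.base := Over.mkIdTerminal.ofIso (eqToIso hA.symm)
  have hiso : IsIso (lift A.act.act (snd G A.P)) := by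
    have hc : IsPullback (fst A.P A.P) (snd A.P A.P) A.π A.π := by
      have h := IsPullback.of_is_product (C := Over (Spec (CommRingCat.of F)))
        (tensorProductIsBinaryProduct A.P A.P) t
      exact (t.hom_ext (t.from A.P) A.π) ▸ (show IsPullback (fst A.P A.P) (snd A.P A.P) (t.from A.P) (t.from A.P) from h)
    have : lift A.act.act (snd G A.P) = (A.cart.isoIsPullback _ _ hc).hom := hc.hom_ext
      (by rw [lift_fst]; exact (IsPullback.isoIsPullback_hom_fst _ _ _ _).symm)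
      (by rw [lift_snd]; exact (IsPullback.isoIsPullback_hom_snd _ _ _ _).symm)
    rw [this]
    infer_instance
  obtain ⟨p⟩ := LangMap.nonempty_ratPoint_of_torsor A.act Fr hFr hiso
  let p' : ePt F ⟶ A.P := (Over.homMk (𝟙 _) (by simp) :
    ePt F ⟶ 𝟙_ (Over (Spec (CommRingCat.of F)))) ≫ p
  obtain ⟨e, -⟩ := exists_iso (ξ := qo (aX := aX) (p' ≫ A.φ)) (ζ := ⟨A, hA⟩) (trivHom A p')
  exact ⟨_, ⟨e⟩⟩

/-- the mass formula -/
theorem mass [Smooth X.hom] [QuasiCompact X.hom] [Smooth G.hom] [IsAffineHom G.hom] [ConnectedSpace ↥G.left] :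
    Finite (Quotient (isIsomorphicSetoid (FibE aX))) ∧ (∀ ξ : FibE aX, Finite (Aut ξ)) ∧
      ∑ᶠ c : Quotient (isIsomorphicSetoid (FibE aX)), ((Nat.card (Aut c.out) : ℚ))⁻¹ =
        (Nat.card (ePt F ⟶ X) : ℚ) / (Nat.card (ePt F ⟶ G) : ℚ) := by
  classical
  haveI := FinitePoints.finite_points X
  haveI := FinitePoints.finite_points G
  letI : Fintype (ePt F ⟶ X) := Fintype.ofFinite _
  letI : Fintype (ePt F ⟶ G) := Fintype.ofFinite _
  letI act : MulAction (ePt F ⟶ G) (ePt F ⟶ X) :=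
    { smul := fun g x => Torsor.smul aX g x
      one_smul := Torsor.one_smul aX
      mul_smul := Torsor.mul_smul aX }
  let O := MulAction.orbitRel.Quotient (ePt F ⟶ G) (ePt F ⟶ X)
  have hrel : ∀ x x' : ePt F ⟶ X, Nonempty (qo (aX := aX) x ≅ qo x') ↔
      (MulAction.orbitRel (ePt F ⟶ G) (ePt F ⟶ X)).r x x' := fun x x' =>
    (isoEquiv x x').nonempty_congr.trans ⟨fun ⟨g⟩ => ⟨g.1, g.2⟩, fun ⟨g, hg⟩ => ⟨⟨g, hg⟩⟩⟩
  let Ψ : O → Quotient (isIsomorphicSetoid (FibE aX)) :=
    Quotient.map (qo (aX := aX)) fun x x' h => (hrel x x').2 h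
  have hΨ : Function.Bijective Ψ := by
    refine ⟨fun a b => Quotient.inductionOn₂ a b fun x x' h => Quotient.sound ((hrel x x').1 (Quotient.exact h)),
      fun c => Quotient.inductionOn c fun ξ => ?_⟩
    obtain ⟨x, hx⟩ := exists_qo ξ
    exact ⟨Quotient.mk _ x, Quotient.sound hx⟩
  let Θ := Equiv.ofBijective Ψ hΨ
  have hstab : ∀ x : ePt F ⟶ X,
      Nonempty (Aut (qo (aX := aX) x) ≃ MulAction.stabilizer (ePt F ⟶ G) x) := fun x =>
    ⟨(isoEquiv x x).trans (Equiv.subtypeEquivRight fun _ => Iff.rfl)⟩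
  have hfin : ∀ ξ : FibE aX, Finite (Aut ξ) := fun ξ => by
    obtain ⟨x, ⟨e⟩⟩ := exists_qo ξ
    obtain ⟨k⟩ := hstab x
    exact Finite.of_equiv _ (k.symm.trans e.conjAut.toEquiv)
  refine ⟨Finite.of_equiv _ Θ, hfin, ?_⟩
  haveI : Fintype O := Fintype.ofFinite _
  rw [← finsum_comp_equiv Θ, finsum_eq_sum_of_fintype]
  have hcard : ∀ o : O, ((Nat.card (Aut (Θ o).out) : ℚ))⁻¹ =
      (Nat.card (MulAction.orbitRel.Quotient.orbit o) : ℚ) / Nat.card (ePt F ⟶ G) := by
    intro o
    induction o using Quotient.inductionOn with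
    | h x =>
      obtain ⟨e⟩ : Nonempty (qo (aX := aX) x ≅ (Θ (Quotient.mk _ x)).out) :=
        Quotient.exact (Quotient.out_eq (Θ (Quotient.mk _ x))).symm
      obtain ⟨k⟩ := hstab x
      have horb : Nat.card (MulAction.orbitRel.Quotient.orbit
          (Quotient.mk (MulAction.orbitRel (ePt F ⟶ G) (ePt F ⟶ X)) x)) =
          Nat.card (MulAction.orbit (ePt F ⟶ G) x) := by
        rw [MulAction.orbitRel.Quotient.orbit_mk]
      have hmul := MulAction.card_orbit_mul_card_stabilizer_eq_card_group (ePt F ⟶ G) x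
      rw [← Nat.card_eq_fintype_card, ← Nat.card_eq_fintype_card, ← Nat.card_eq_fintype_card] at hmul
      have hne : Nat.card (MulAction.stabilizer (ePt F ⟶ G) x) ≠ 0 := Nat.card_pos.ne'
      have hne' : Nat.card (MulAction.orbit (ePt F ⟶ G) x) ≠ 0 := by
        haveI : Nonempty (MulAction.orbit (ePt F ⟶ G) x) := ⟨⟨x, MulAction.mem_orbit_self x⟩⟩
        exact Nat.card_pos.ne'
      rw [horb, Nat.card_congr (e.conjAut.symm.toEquiv.trans k), ← hmul, Nat.cast_mul]
      have h₁ : (Nat.card (MulAction.orbit (ePt F ⟶ G) x) : ℚ) ≠ 0 := Nat.cast_ne_zero.2 hne'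
      field_simp
  rw [Finset.sum_congr rfl fun o _ => hcard o, ← Finset.sum_div, ← Nat.cast_sum,
    ← Nat.card_sigma, ← Nat.card_congr (MulAction.selfEquivSigmaOrbits' (ePt F ⟶ G) (ePt F ⟶ X))]

end Groth.Agent.AlgStLib.Quot

end
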