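import Groth.Agent.AlgStLib.QuotDescend
import Groth.Agent.AlgStLib.OfPsh
import Groth.Prelude.Def_StCoarse
import Groth.Prelude.Def_W4bk4git07Quot

/-!
# Categorical moduli spaces of quotient stacks and categorical quotients
-/

set_option autoImplicit false
set_option backward.isDefEq.respectTransparency false
set_option backward.isDefEq.respectTransparency.types false
universe u v w

noncomputable section

namespace Groth.Agent.AlgStLib.Quot

open CategoryTheory CategoryTheory.Limits MonoidalCategory CartesianMonoidalCategory MonObj GrpObj AlgebraicGeometry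
open _root_.AlgSp Opposite

variable {S : Scheme.{u}}

/-- functors over the base into the category of a sheaf are equal once they are isomorphic -/
lemma eq_of_iso {𝒵 : AlgSt.Cat S} {M : Sp S} {Φ Ψ : 𝒵 ⥤ᵇ AlgSt.ofSp M} (i : Φ ≅ Ψ) : Φ = Ψ := by
  refine functor_ext fun a => eq_of_sec ((Groth.Agent.AlgStLib.base_eq Φ a).trans (Groth.Agent.AlgStLib.base_eq Ψ a).symm) _ _ ?_
  rw [Groth.Agent.AlgStLib.sec_eq Φ a, Groth.Agent.AlgStLib.sec_eq Ψ a, Groth.Agent.AlgStLib.secOf_congr i a, ← Functor.map_comp_apply, ← op_comp,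
    eqToHom_trans]

lemma exists_ofSpMap {F N : Sp S} (Φ : AlgSt.ofSp F ⥤ᵇ AlgSt.ofSp N) : ∃ g : F ⟶ N, AlgSt.ofSpMap g = Φ :=
  ⟨⟨Groth.Agent.AlgStLib.mapOf Φ⟩, eq_of_iso (Groth.Agent.AlgStLib.mapOfIso Φ)⟩

lemma ofSpMap_injective {F N : Sp S} {g g' : F ⟶ N} (h : AlgSt.ofSpMap g = AlgSt.ofSpMap g') : g = g' := by
  ext1
  rw [← Groth.Agent.AlgStLib.mapOf_ofPshMap g.hom, ← Groth.Agent.AlgStLib.mapOf_ofPshMap g'.hom]
  exact congrArg Groth.Agent.AlgStLib.mapOf h

lemma comp_ofSpMap {F F' N : Sp S} (a : F ⟶ F') (b : F' ⟶ N) :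
    BasedFunctor.comp (AlgSt.ofSpMap a) (AlgSt.ofSpMap b) = AlgSt.ofSpMap (a ≫ b) := rfl

variable {G X : Over S} [GrpObj G] {aX : AlgGrp.Action G X}

/-- a functor out of the quotient stack restricts to an invariant map -/
lemma invariant_of_factor {N : Sp S} (Φ : AlgSt.QuotSt Scheme.fppfPrecoverage G aX ⥤ᵇ AlgSt.ofSp N)
    (g : (yon S).obj X ⟶ N)
    (h : BasedFunctor.comp (AlgSt.quotMap Scheme.fppfPrecoverage G aX) Φ = AlgSt.ofSpMap g) :
    (yon S).map aX.act ≫ g = (yon S).map (snd G X) ≫ g := by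
  let A := (AlgSt.quotMap Scheme.fppfPrecoverage G aX).obj (qpt (G ⊗ X) (snd G X))
  let p : G ⊗ X ⟶ A.P := lift (fst G X) (𝟙 (G ⊗ X))
  have hp : p ≫ A.π = 𝟙 _ := lift_snd _ _
  have hx : p ≫ A.φ = aX.act := by
    show lift (fst G X) (𝟙 (G ⊗ X)) ≫ (G ◁ snd G X) ≫ aX.act = aX.act
    rw [lift_whiskerLeft_assoc, Category.id_comp, lift_fst_snd, Category.id_comp]
  have key : ∀ x : G ⊗ X ⟶ X, Groth.Agent.AlgStLib.secOf Φ ((AlgSt.quotMap Scheme.fppfPrecoverage G aX).obj (qpt _ x)) =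
      toSec ((yon S).map x ≫ g) := by
    intro x
    have e := congrArg (fun Ψ => Groth.Agent.AlgStLib.secOf Ψ (qpt (G ⊗ X) x)) h
    simp only [Groth.Agent.AlgStLib.secOf_comp] at e
    refine Eq.trans ?_ (e.trans ((Groth.Agent.AlgStLib.secOf_ofPshMap g.hom _).trans (toSec_comp g x).symm))
    exact (FunctorToTypes.map_id_apply N.obj _).symm
  have e : N.obj.map (𝟙 (G ⊗ X)).op (Groth.Agent.AlgStLib.secOf Φ A) =
      Groth.Agent.AlgStLib.secOf Φ ((AlgSt.quotMap Scheme.fppfPrecoverage G aX).obj (qpt _ (p ≫ A.φ))) :=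
    (congrArg (fun k : G ⊗ X ⟶ G ⊗ X => N.obj.map k.op (Groth.Agent.AlgStLib.secOf Φ A)) hp.symm).trans
      (Groth.Agent.AlgStLib.secOf_map Φ (trivHom A p))
  rw [key, key, op_id, FunctorToTypes.map_id_apply, hx] at e
  exact (toSec_injective e).symm

variable [Flat G.hom] [LocallyOfFinitePresentation G.hom]

/-- categorical moduli spaces in schemes of the quotient stack are categorical quotients -/
theorem isCatModuliSch_iff {Y : Over S} (f : X ⟶ Y)
    (π : AlgSt.QuotSt Scheme.fppfPrecoverage G aX ⥤ᵇ AlgSt.ofSch Y)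
    (hπ : Nonempty (BasedFunctor.comp (AlgSt.quotMap Scheme.fppfPrecoverage G aX) π ≅
      AlgSt.ofSpMap ((yon S).map f))) :
    AlgSt.IsCatModuliSch π ↔ GIT.IsCatQuot aX f := by
  obtain ⟨i⟩ := hπ
  have hπ' := eq_of_iso i
  have hf := invariant_of_factor π _ hπ'
  have hrep : ∀ Z : Over S, ((yon S).obj Z).obj.IsRepresentable := fun Z =>
    Functor.RepresentableBy.isRepresentable (Y := Z)
      { homEquiv := Equiv.ulift.symm, homEquiv_comp := fun _ _ => rfl }
  -- restriction of composites along the canonical map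
  have hres : ∀ {N : Sp S} (g : (yon S).obj Y ⟶ N),
      BasedFunctor.comp (AlgSt.quotMap Scheme.fppfPrecoverage G aX) (BasedFunctor.comp π (AlgSt.ofSpMap g)) =
        AlgSt.ofSpMap ((yon S).map f ≫ g) := fun g =>
    congrArg (fun Ψ => BasedFunctor.comp Ψ (AlgSt.ofSpMap g)) hπ'
  constructor
  · intro hM
    refine ⟨(yon S).map_injective (by rw [Functor.map_comp, Functor.map_comp]; exact hf), fun Z ψ hψ => ?_⟩
    have hψ' : (yon S).map aX.act ≫ (yon S).map ψ = (yon S).map (snd G X) ≫ (yon S).map ψ := by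
      rw [← Functor.map_comp, ← Functor.map_comp, hψ]
    obtain ⟨φ, hφ, huniq⟩ := existsUnique_desc ((yon S).map ψ) hψ'
    obtain ⟨g, ⟨j⟩, hg⟩ := hM.2 _ (hrep Z) φ
    obtain ⟨χ, rfl⟩ := (yon S).map_surjective g
    refine ⟨χ, ?_, fun χ' hχ' => (yon S).map_injective (hg _ ?_)⟩
    · apply (yon S).map_injective
      apply ofSpMap_injective
      rw [Functor.map_comp, ← hres, eq_of_iso j]
      exact hφ
    · refine ⟨eqToIso (huniq _ ?_)⟩
      show BasedFunctor.comp (AlgSt.quotMap Scheme.fppfPrecoverage G aX)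
        (BasedFunctor.comp π (AlgSt.ofSpMap ((yon S).map χ'))) = _
      rw [hres, ← Functor.map_comp, hχ']
  · intro hq
    refine ⟨hrep Y, fun N hN φ => ?_⟩
    haveI : N.obj.IsRepresentable := hN
    obtain ⟨g, hg⟩ := exists_ofSpMap (BasedFunctor.comp (AlgSt.quotMap Scheme.fppfPrecoverage G aX) φ)
    have hinv := invariant_of_factor φ g hg.symm
    let Z := N.obj.reprX
    let e : (yon S).obj Z ≅ N := (fullyFaithfulSheafToPresheaf _ _).preimageIso
      (NatIso.ofComponents (fun T => Equiv.toIso (Equiv.ulift.trans N.obj.representableBy.homEquiv))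
        (fun {T T'} k => by
          ext x
          exact N.obj.representableBy.homEquiv_comp k.unop x.down))
    obtain ⟨ψ, hψ⟩ := (yon S).map_surjective (g ≫ e.inv)
    have hψinv : GIT.IsInvariant aX ψ := by
      apply (yon S).map_injective
      rw [Functor.map_comp, Functor.map_comp, hψ, reassoc_of% hinv]
    obtain ⟨χ, hχ, hχu⟩ := hq.2 Z ψ hψinv
    have hg' : (yon S).map f ≫ (yon S).map χ ≫ e.hom = g := by
      rw [← Functor.map_comp_assoc, hχ, hψ, Category.assoc, Iso.inv_hom_id, Category.comp_id]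
    obtain ⟨φ₀, -, huniq⟩ := existsUnique_desc g hinv
    refine ⟨(yon S).map χ ≫ e.hom, ⟨eqToIso ?_⟩, fun g' ⟨j⟩ => ?_⟩
    · rw [huniq _ hg.symm]
      refine huniq _ ?_
      show BasedFunctor.comp _ (BasedFunctor.comp π _) = _
      rw [hres, hg']
    · have e₁ : (yon S).map f ≫ g' = g := by
        apply ofSpMap_injective
        rw [← hres, eq_of_iso j, hg]
      obtain ⟨χ', hχ'⟩ := (yon S).map_surjective (g' ≫ e.inv)
      have : χ' = χ := hχu χ' (by
        apply (yon S).map_injective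
        rw [Functor.map_comp, hχ', reassoc_of% e₁, hψ])
      rw [← this, hχ', Category.assoc, Iso.inv_hom_id, Category.comp_id]

end Groth.Agent.AlgStLib.Quot

end
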