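import Groth.Agent.AlgStLib.QuotStack
import Groth.Agent.AlgStLib.QuotCart

/-!
# The canonical map to a quotient stack is representable by torsors
-/

set_option autoImplicit false
set_option backward.isDefEq.respectTransparency false
set_option backward.isDefEq.respectTransparency.types false
universe u

noncomputable section

namespace Groth.Agent.AlgStLib.Quot

open CategoryTheory CategoryTheory.Limits MonoidalCategory CartesianMonoidalCategory MonObj GrpObj AlgebraicGeometry
open _root_.AlgSp Groth.Agent.FibCatRep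

variable {S : Scheme.{u}} {G X : Over S} [GrpObj G] {aX : AlgGrp.Action G X}

local notation "qm" => AlgSt.quotMap Scheme.fppfPrecoverage G aX

/-- a point of the total space trivialises the torsor over it -/
def trivHom (A : AlgSt.QuotObj Scheme.fppfPrecoverage G aX) {T : Over S} (p : T ⟶ A.P) :
    (qm).obj (qpt T (p ≫ A.φ)) ⟶ A where
  base := p ≫ A.π
  top := (G ◁ p) ≫ A.act.act
  eqv := by
    show (AlgSt.leftMul G T).act ≫ (G ◁ p) ≫ A.act.act = (G ◁ ((G ◁ p) ≫ A.act.act)) ≫ A.act.act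
    have e₁ : (AlgSt.leftMul G T).act ≫ (G ◁ p) ≫ A.act.act = Torsor.smul A.act
        (fst G (G ⊗ T) * (snd G (G ⊗ T) ≫ fst G T)) (snd G (G ⊗ T) ≫ snd G T ≫ p) := by
      simp only [AlgSt.leftMul, lift_whiskerLeft_assoc, Category.assoc]
      rfl
    have e₂ : (G ◁ ((G ◁ p) ≫ A.act.act)) ≫ A.act.act = Torsor.smul A.act (fst G (G ⊗ T))
        (snd G (G ⊗ T) ≫ Torsor.smul A.act (fst G T) (snd G T ≫ p)) := by
      show _ = lift (fst G (G ⊗ T)) (snd G (G ⊗ T) ≫ lift (fst G T) (snd G T ≫ p) ≫ A.act.act) ≫ A.act.act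
      congr 1
    rw [e₁, e₂, Torsor.comp_smul, ← Torsor.mul_smul]
  cart := (AlgSt.isPullback_whiskerLeft (G := G) p).paste_horiz A.cart
  wφ := by
    show ((G ◁ p) ≫ A.act.act) ≫ A.φ = (G ◁ (p ≫ A.φ)) ≫ aX.act
    rw [Category.assoc, A.eqv, MonoidalCategory.whiskerLeft_comp, Category.assoc]

/-- the image of the unit section -/
def unitPt {A : AlgSt.QuotObj Scheme.fppfPrecoverage G aX} {T : Over S} {x : T ⟶ X}
    (h : (qm).obj (qpt T x) ⟶ A) : T ⟶ A.P :=
  lift (1 : T ⟶ G) (𝟙 T) ≫ h.top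

lemma unitPt_trivHom (A : AlgSt.QuotObj Scheme.fppfPrecoverage G aX) {T : Over S} (p : T ⟶ A.P) :
    unitPt (trivHom A p) = p := by
  show lift (1 : T ⟶ G) (𝟙 T) ≫ (G ◁ p) ≫ A.act.act = p
  rw [lift_whiskerLeft_assoc, Category.id_comp]
  exact Torsor.one_smul A.act p

lemma unitPt_φ {A : AlgSt.QuotObj Scheme.fppfPrecoverage G aX} {T : Over S} {x : T ⟶ X}
    (h : (qm).obj (qpt T x) ⟶ A) : unitPt h ≫ A.φ = x := by
  have hw : h.top ≫ A.φ = (G ◁ x) ≫ aX.act := h.wφ
  rw [unitPt, Category.assoc, hw, lift_whiskerLeft_assoc, Category.id_comp]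
  exact Torsor.one_smul aX x

lemma unitPt_π {A : AlgSt.QuotObj Scheme.fppfPrecoverage G aX} {T : Over S} {x : T ⟶ X}
    (h : (qm).obj (qpt T x) ⟶ A) : unitPt h ≫ A.π = h.base := by
  have hw : h.top ≫ A.π = snd G T ≫ h.base := h.cart.w
  rw [unitPt, Category.assoc, hw, lift_snd_assoc, Category.id_comp]

lemma top_eq {A : AlgSt.QuotObj Scheme.fppfPrecoverage G aX} {T : Over S} {x : T ⟶ X}
    (h : (qm).obj (qpt T x) ⟶ A) : h.top = (G ◁ unitPt h) ≫ A.act.act := by
  have he : (AlgSt.leftMul G T).act ≫ h.top = (G ◁ h.top) ≫ A.act.act := h.eqv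
  have hid : lift (fst G T) (lift (1 : G ⊗ T ⟶ G) (snd G T)) ≫ (AlgSt.leftMul G T).act = 𝟙 _ := by
    rw [comp_leftMul, lift_fst, lift_snd, _root_.mul_one, lift_fst_snd]
  have e : lift (1 : G ⊗ T ⟶ G) (snd G T) = snd G T ≫ lift (1 : T ⟶ G) (𝟙 T) := by
    rw [comp_lift, comp_one, Category.comp_id]
  have := lift (fst G T) (lift (1 : G ⊗ T ⟶ G) (snd G T)) ≫= he
  rw [reassoc_of% hid, lift_whiskerLeft_assoc, e, Category.assoc] at this
  rw [this]
  show _ = (G ◁ (lift (1 : T ⟶ G) (𝟙 T) ≫ h.top)) ≫ A.act.act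
  congr 1

lemma hom_ext_unitPt {A : AlgSt.QuotObj Scheme.fppfPrecoverage G aX} {T : Over S} {x : T ⟶ X}
    {h h' : (qm).obj (qpt T x) ⟶ A} (e : unitPt h = unitPt h') : h = h' :=
  AlgSt.QuotObj.hom_ext (by rw [← unitPt_π h, e, unitPt_π]) (by rw [top_eq h, top_eq h', e])

lemma unitPt_comp {A A' : AlgSt.QuotObj Scheme.fppfPrecoverage G aX} {T : Over S} {x : T ⟶ X}
    (h : (qm).obj (qpt T x) ⟶ A) (k : A ⟶ A') : unitPt (h ≫ k) = unitPt h ≫ k.top :=
  (Category.assoc _ _ _).symm

lemma unitPt_map {A : AlgSt.QuotObj Scheme.fppfPrecoverage G aX} {T T' : Over S} {x : T ⟶ X} {x' : T' ⟶ X}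
    (f : T ⟶ T') (hf : f ≫ x' = x) (h : (qm).obj (qpt T' x') ⟶ A) :
    unitPt ((qm).map (⟨f, congrArg ULift.up hf⟩ : qpt T x ⟶ qpt T' x') ≫ h) = f ≫ unitPt h := by
  show lift (1 : T ⟶ G) (𝟙 T) ≫ (G ◁ f) ≫ h.top = f ≫ lift (1 : T' ⟶ G) (𝟙 T') ≫ h.top
  rw [lift_whiskerLeft_assoc, comp_lift_assoc, comp_one, Category.id_comp, Category.comp_id]

variable {U : Over S} (y : FibCat.overCat U ⥤ᵇ AlgSt.QuotSt Scheme.fppfPrecoverage G aX)

/-- the torsor classified by a point -/
abbrev torsor : AlgSt.QuotObj Scheme.fppfPrecoverage G aX := y.obj (StackCrit.top U)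

/-- its structure map to `U` -/
abbrev torsorτ : (torsor y).P ⟶ U := (torsor y).π ≫ eqToHom (y.w_obj (StackCrit.top U))

/-- pullback of the classified torsor to a slice object -/
abbrev toTorsor (z : Over U) : y.obj z ⟶ torsor y := y.map (StackCrit.toTop z)

lemma toTorsor_base (z : Over U) :
    (toTorsor y z).base = eqToHom (y.w_obj z) ≫ z.hom ≫ eqToHom (y.w_obj (StackCrit.top U)).symm :=
  map_map y (StackCrit.toTop z)

abbrev qX : FibCat.overCat X ⥤ᵇ AlgSt.QuotSt Scheme.fppfPrecoverage G aX :=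
  BasedFunctor.comp (AlgSt.ofOverCat X) qm

lemma exists_comparison (a : (AlgSt.ofSch (torsor y).P).obj) :
    ∃! χ : (qm).obj (qpt a.base (a.sec.down ≫ (torsor y).φ)) ⟶ y.obj (Over.mk (a.sec.down ≫ torsorτ y)),
      (AlgSt.QuotSt Scheme.fppfPrecoverage G aX).p.map χ =
          eqToHom (y.w_obj (Over.mk (a.sec.down ≫ torsorτ y))).symm ∧
        χ ≫ toTorsor y _ = trivHom (torsor y) a.sec.down :=
  existsUnique_cart (isFibGrpd G aX) (toTorsor y _) (trivHom (torsor y) a.sec.down) _ (by
    show _ ≫ (toTorsor y _).base = a.sec.down ≫ (torsor y).π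
    rw [toTorsor_base]
    simp [torsorτ])

/-- the isomorphism of torsors at a point of the total space -/
def comparison (a : (AlgSt.ofSch (torsor y).P).obj) :
    y.obj (Over.mk (a.sec.down ≫ torsorτ y)) ≅ (qm).obj (qpt a.base (a.sec.down ≫ (torsor y).φ)) :=
  haveI : IsIso (exists_comparison y a).choose := by
    haveI : IsIso ((AlgSt.QuotSt Scheme.fppfPrecoverage G aX).p.map (exists_comparison y a).choose) := by
      rw [(exists_comparison y a).choose_spec.1.1]
      infer_instance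
    exact isIso_of_map (isFibGrpd G aX) _
  (asIso (exists_comparison y a).choose).symm

lemma comparison_inv_comp (a : (AlgSt.ofSch (torsor y).P).obj) :
    (comparison y a).inv ≫ toTorsor y _ = trivHom (torsor y) a.sec.down :=
  (exists_comparison y a).choose_spec.1.2

lemma comparison_inv_base (a : (AlgSt.ofSch (torsor y).P).obj) :
    (AlgSt.QuotSt Scheme.fppfPrecoverage G aX).p.map (comparison y a).inv =
      eqToHom (y.w_obj (Over.mk (a.sec.down ≫ torsorτ y))).symm :=
  (exists_comparison y a).choose_spec.1.1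

lemma comparison_hom_base (a : (AlgSt.ofSch (torsor y).P).obj) :
    (AlgSt.QuotSt Scheme.fppfPrecoverage G aX).p.map (comparison y a).hom =
      eqToHom (y.w_obj (Over.mk (a.sec.down ≫ torsorτ y))) := by
  rw [← IsIso.Iso.inv_inv (comparison y a), Functor.map_inv]
  exact IsIso.inv_eq_of_hom_inv_id (by rw [comparison_inv_base]; simp)

lemma comparison_nat (a a' : (AlgSt.ofSch (torsor y).P).obj) (f : a.base ⟶ a'.base)
    (hf : f ≫ a'.sec.down = a.sec.down)
    (n : Over.mk (a.sec.down ≫ torsorτ y) ⟶ Over.mk (a'.sec.down ≫ torsorτ y)) (hn : n.left = f)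
    (hf' : f ≫ a'.sec.down ≫ (torsor y).φ = a.sec.down ≫ (torsor y).φ) :
    y.map n ≫ (comparison y a').hom = (comparison y a).hom ≫
      (qm).map (⟨f, congrArg ULift.up hf'⟩ :
        qpt a.base (a.sec.down ≫ (torsor y).φ) ⟶ qpt a'.base (a'.sec.down ≫ (torsor y).φ)) := by
  rw [← Iso.inv_comp_eq, ← Category.assoc, ← Iso.eq_comp_inv]
  refine cancel (isFibGrpd G aX) (toTorsor y _) ?_ ?_
  · rw [Functor.map_comp, Functor.map_comp, comparison_inv_base, comparison_inv_base, map_map]
    subst hn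
    simp
    rfl
  · have e : n ≫ StackCrit.toTop (Over.mk (a'.sec.down ≫ torsorτ y)) = StackCrit.toTop (Over.mk (a.sec.down ≫ torsorτ y)) :=
      Over.OverMorphism.ext (Over.w n)
    rw [Category.assoc, Category.assoc, comparison_inv_comp, ← Functor.map_comp, e, comparison_inv_comp]
    apply hom_ext_unitPt
    rw [unitPt_map f hf', unitPt_trivHom, unitPt_trivHom, hf]

/-- the comparison of the total space with the fibre product -/
def fibreFun : AlgSt.ofSch (torsor y).P ⥤ᵇ FibCat.fp y (qX (aX := aX)) where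
  toFunctor :=
    { obj := fun a => ⟨{ fst := Over.mk (a.sec.down ≫ torsorτ y)
                         snd := Over.mk (a.sec.down ≫ (torsor y).φ)
                         iso := comparison y a },
        IsHomLift.of_fac' _ _ _ (y.w_obj _) rfl ((comparison_hom_base y a).trans (by simp))⟩
      map := fun {a a'} m => ObjectProperty.homMk
        { fst := Over.homMk m.hom (by
            show m.hom ≫ a'.sec.down ≫ torsorτ y = a.sec.down ≫ torsorτ y
            rw [← Category.assoc, show m.hom ≫ a'.sec.down = a.sec.down from congrArg ULift.down m.map_sec])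
          snd := Over.homMk m.hom (by
            show m.hom ≫ a'.sec.down ≫ (torsor y).φ = a.sec.down ≫ (torsor y).φ
            rw [← Category.assoc, show m.hom ≫ a'.sec.down = a.sec.down from congrArg ULift.down m.map_sec])
          w := comparison_nat y a a' m.hom (congrArg ULift.down m.map_sec) _ rfl
            ((Category.assoc _ _ _).symm.trans (congrArg (· ≫ (torsor y).φ) (congrArg ULift.down m.map_sec :))) }
      map_id := fun a =>
        ObjectProperty.hom_ext _ (CategoricalPullback.hom_ext (Over.OverMorphism.ext rfl) (Over.OverMorphism.ext rfl))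
      map_comp := fun m m' => by
        exact ObjectProperty.hom_ext _ (CategoricalPullback.hom_ext (Over.OverMorphism.ext rfl) (Over.OverMorphism.ext rfl)) }
  w := rfl

lemma unitPt_inv_congr (o : (FibCat.fp y (qX (aX := aX))).obj) {T : Over S} {x : T ⟶ X}
    (h : (qm).obj (qpt T x) ⟶ y.obj o.obj.fst) :
    unitPt (h ≫ toTorsor y o.obj.fst) ≫ torsorτ y = h.base ≫ eqToHom (y.w_obj o.obj.fst) ≫ o.obj.fst.hom := by
  rw [torsorτ, ← Category.assoc, unitPt_π, AlgSt.QuotObj.comp_base, toTorsor_base]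
  simp

theorem isEquivOver_fibreFun : FibCat.IsEquivOver (fibreFun y) := by
  haveI : (fibreFun y).toFunctor.Faithful := ⟨fun {a a'} m m' h =>
    Stk.EltObj.hom_ext (congrArg CommaMorphism.left (congrArg (fun t => t.hom.fst) h :))⟩
  haveI : (fibreFun y).toFunctor.Full := ⟨fun {a a'} φ => by
    let f : a.base ⟶ a'.base := φ.hom.fst.left
    let f₂ : a.base ⟶ a'.base := φ.hom.snd.left
    have hw : y.map φ.hom.fst ≫ (comparison y a').hom = (comparison y a).hom ≫ (qX (aX := aX)).map φ.hom.snd :=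
      φ.hom.w
    have hf₂ : f₂ ≫ a'.sec.down ≫ (torsor y).φ = a.sec.down ≫ (torsor y).φ := Over.w φ.hom.snd
    rw [← Iso.inv_comp_eq, ← Category.assoc, ← Iso.eq_comp_inv] at hw
    have e : φ.hom.fst ≫ StackCrit.toTop (Over.mk (a'.sec.down ≫ torsorτ y)) =
        StackCrit.toTop (Over.mk (a.sec.down ≫ torsorτ y)) :=
      Over.OverMorphism.ext (Over.w φ.hom.fst)
    have h₁ := ((Category.assoc _ _ _).symm.trans
      (congrArg (· ≫ toTorsor y (Over.mk (a'.sec.down ≫ torsorτ y))) hw)).trans (Category.assoc _ _ _)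
    have h₂ : trivHom (torsor y) a.sec.down =
        (qm).map (⟨f₂, congrArg ULift.up hf₂⟩ :
          qpt a.base (a.sec.down ≫ (torsor y).φ) ⟶ qpt a'.base (a'.sec.down ≫ (torsor y).φ)) ≫
          trivHom (torsor y) a'.sec.down := by
      have hc : y.map φ.hom.fst ≫ toTorsor y (Over.mk (a'.sec.down ≫ torsorτ y)) =
          toTorsor y (Over.mk (a.sec.down ≫ torsorτ y)) := (y.map_comp _ _).symm.trans (congrArg y.map e)
      calc trivHom (torsor y) a.sec.down
          = (comparison y a).inv ≫ toTorsor y (Over.mk (a.sec.down ≫ torsorτ y)) := (comparison_inv_comp y a).symm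
        _ = (comparison y a).inv ≫ y.map φ.hom.fst ≫ toTorsor y (Over.mk (a'.sec.down ≫ torsorτ y)) :=
            congrArg ((comparison y a).inv ≫ ·) hc.symm
        _ = (qX (aX := aX)).map φ.hom.snd ≫ (comparison y a').inv ≫
              toTorsor y (Over.mk (a'.sec.down ≫ torsorτ y)) := h₁
        _ = _ := congrArg ((qX (aX := aX)).map φ.hom.snd ≫ ·) (comparison_inv_comp y a')
    have hm : f₂ ≫ a'.sec.down = a.sec.down := by
      have := congrArg unitPt h₂
      rw [unitPt_map f₂ hf₂, unitPt_trivHom, unitPt_trivHom] at this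
      exact this.symm
    have hf : f = f₂ := by
      have h : f₂ = 𝟙 _ ≫ f ≫ 𝟙 _ := map_snd φ
      rw [Category.id_comp, Category.comp_id] at h
      exact h.symm
    refine ⟨⟨f₂, congrArg ULift.up hm⟩, ?_⟩
    apply ObjectProperty.hom_ext
    apply CategoricalPullback.hom_ext
    · exact Over.OverMorphism.ext hf.symm
    · exact Over.OverMorphism.ext rfl⟩
  refine isEquivOver_of_fullyFaithful _ fun o => ?_
  let z : Over U := o.obj.fst
  let x : Over X := o.obj.snd
  let i : y.obj z ≅ (qm).obj (qpt x.left x.hom) := o.obj.iso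
  let h : (qm).obj (qpt x.left x.hom) ⟶ torsor y := i.inv ≫ toTorsor y z
  let a : (AlgSt.ofSch (torsor y).P).obj := ⟨x.left, ⟨unitPt h⟩⟩
  obtain ⟨q, hq⟩ := map_iso_hom o
  have hxz : x.left = z.left := q.symm.trans (y.w_obj z)
  have hib : i.inv.base ≫ eqToHom (y.w_obj z) = eqToHom hxz := by
    have : (AlgSt.QuotSt Scheme.fppfPrecoverage G aX).p.map i.inv = eqToHom q.symm :=
      (congrArg _ (IsIso.Iso.inv_hom i).symm).trans (map_inv_of_eqToHom _ hq)
    exact (congrArg (· ≫ eqToHom (y.w_obj z)) this).trans (eqToHom_trans _ _)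
  have hs : eqToHom hxz ≫ z.hom = a.sec.down ≫ torsorτ y := by
    show _ = unitPt h ≫ _
    rw [unitPt_inv_congr y o i.inv, ← Category.assoc i.inv.base, hib]
  let e₁ : Over.mk (a.sec.down ≫ torsorτ y) ≅ z := Over.isoMk (eqToIso hxz) hs
  have hs₂ : a.sec.down ≫ (torsor y).φ = x.hom := unitPt_φ h
  let e₂ : Over.mk (a.sec.down ≫ (torsor y).φ) ≅ x := Over.isoMk (Iso.refl _) ((Category.id_comp _).trans hs₂.symm)
  refine ⟨a, ObjectProperty.isoMk _ (CategoricalPullback.mkIso e₁ e₂ ?_), hxz.trans rfl, ?_⟩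
  · show y.map e₁.hom ≫ i.hom = (comparison y a).hom ≫ (qX (aX := aX)).map e₂.hom
    rw [← Iso.inv_comp_eq, ← Category.assoc, ← Iso.eq_comp_inv]
    refine cancel (isFibGrpd G aX) (toTorsor y _) ?_ ?_
    · rw [Functor.map_comp, Functor.map_comp, comparison_inv_base, map_map, map_map]
      have : (AlgSt.QuotSt Scheme.fppfPrecoverage G aX).p.map i.inv = eqToHom q.symm :=
        (congrArg _ (IsIso.Iso.inv_hom i).symm).trans (map_inv_of_eqToHom _ hq)
      rw [this]
      simp [e₁, e₂]
      show eqToHom hxz ≫ _ = 𝟙 _ ≫ _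
      simp
    · have e : e₁.hom ≫ StackCrit.toTop z = StackCrit.toTop (Over.mk (a.sec.down ≫ torsorτ y)) :=
        Over.OverMorphism.ext (Over.w e₁.hom)
      rw [Category.assoc, Category.assoc, ← Functor.map_comp, e, comparison_inv_comp]
      apply hom_ext_unitPt
      rw [unitPt_trivHom]
      exact ((Category.id_comp _).symm.trans (unitPt_map (𝟙 x.left)
        ((Category.id_comp _).trans hs₂.symm) h).symm)
  · show (e₁.hom).left = _
    rfl

lemma spMapOfOver_fibreFun :
    AlgSt.spMapOfOver (BasedFunctor.comp (fibreFun y) (FibCat.fpFst y (qX (aX := aX)))) =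
      (yon S).map (torsorτ y) := by
  refine SheafGlue.hom_ext' fun V v => ULift.ext _ _ ?_
  exact Category.id_comp _

theorem repWith_qX (Q : MorphismProperty (Sp S))
    (h : ∀ A : AlgSt.QuotObj Scheme.fppfPrecoverage G aX, ∀ {U : Over S} (e : A.base ≅ U),
      Q ((yon S).map (A.π ≫ e.hom))) :
    AlgSt.RepByAlgSpWith Q (qX (aX := aX)) := fun U y =>
  ⟨⟨(yon S).obj (torsor y).P, IsAlgSpace.yon_obj _⟩, fibreFun y, isEquivOver_fibreFun y,
    by rw [spMapOfOver_fibreFun]; exact h (torsor y) (eqToIso (y.w_obj (StackCrit.top U)))⟩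

end Groth.Agent.AlgStLib.Quot

end
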