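import Groth.Agent.AlgStLib.QuotRep
import Groth.Agent.AlgSpLib.LocP
import Groth.Agent.AlgSpLib.EtST
import Groth.Agent.AlgSpLib.Points
import Mathlib.AlgebraicGeometry.Morphisms.LocalFlatDescent

/-!
# Properties of the canonical map to a quotient stack
-/

set_option autoImplicit false
set_option backward.isDefEq.respectTransparency false
universe u

namespace Groth.Agent.AlgStLib.Quot

open CategoryTheory CategoryTheory.Limits MonoidalCategory CartesianMonoidalCategory MonObj GrpObj AlgebraicGeometry
open _root_.AlgSp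

variable {S : Scheme.{u}} {G X : Over S} [GrpObj G] {aX : AlgGrp.Action G X}

theorem repWith_qX_locP (P : MorphismProperty Scheme.{u}) (hP : Groth.Agent.AlgSpLib.EtST P)
    [IsZariskiLocalAtTarget P] [P.IsStableUnderBaseChange]
    [P.DescendsAlong (@Surjective ⊓ @Flat ⊓ @QuasiCompact)] (hG : P G.hom) :
    AlgSt.RepByAlgSpWith (LocP P) (qX (aX := aX)) :=
  repWith_qX _ fun A {U} e => by
    have hT : IsAlgSpace ((yon S).obj U) := IsAlgSpace.yon_obj _
    have h : RepWith P ((yon S).map (A.π ≫ e.hom)) := (repWith_yon_map_iff _ _).2 (by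
      haveI : IsIso e.hom.left := Functor.map_isIso (Over.forget S) e.hom
      show P (A.π.left ≫ e.hom.left)
      exact (P.cancel_right_of_respectsIso _ _).2 (prop_π P hG A))
    exact (Groth.Agent.AlgSpLib.locP_iff_repWith hP hT h.1).2 h

theorem repWith_qX_surjective : AlgSt.RepByAlgSpWith IsSurjectiveMor (qX (aX := aX)) :=
  repWith_qX _ fun A {U} e => by
    haveI : IsIso e.hom.left := Functor.map_isIso (Over.forget S) e.hom
    have h₁ : Surjective G.hom := ⟨fun x => ⟨η[G].left x, by
      rw [← Scheme.Hom.comp_apply, Over.w η[G]]; rfl⟩⟩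
    exact Groth.Agent.AlgSpLib.isSurjectiveMor_of_repWith ((repWith_yon_map_iff _ _).2 (by
      show Surjective (A.π.left ≫ e.hom.left)
      exact ((MorphismProperty.cancel_right_of_respectsIso @Surjective _ _)).2 (prop_π @Surjective h₁ A)))

end Groth.Agent.AlgStLib.Quot
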