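import Groth.Agent.SpecSpLib.Basic

/-!
# Open quotients of spectral spaces
-/

set_option autoImplicit false
universe u v

open TopologicalSpace Set Topology

namespace Groth.Agent.AlgStLib.QuotSpectral

variable {X : Type u} {Y : Type v} [TopologicalSpace X] [TopologicalSpace Y]

/-- a non-empty subset closed in the constructible topology has a point with no proper generisation in it -/
theorem exists_minimal [SpectralSpace X] {E : Set X} (hE : IsOpen[constructibleTopology X] Eᶜ) (h : E.Nonempty) :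
    ∃ e ∈ E, ∀ d ∈ E, d ⤳ e → d = e := by
  obtain ⟨x, hx⟩ := h
  haveI := (SpecSpLib.subset_spectral hE).1
  let C := irreducibleComponent (⟨x, hx⟩ : E)
  have hC : IsIrreducible C := isIrreducible_irreducibleComponent
  obtain ⟨g, hg⟩ := QuasiSober.sober hC isClosed_irreducibleComponent
  refine ⟨g.1, g.2, fun d hd hdg => ?_⟩
  have hdg' : (⟨d, hd⟩ : E) ⤳ g := (subtype_specializes_iff _ _).2 hdg
  have hsub : C ⊆ closure {(⟨d, hd⟩ : E)} := by
    rw [← hg.def]
    exact closure_minimal (singleton_subset_iff.2 hdg'.mem_closure) isClosed_closure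
  have heq := (irreducibleComponent_mem_irreducibleComponents (⟨x, hx⟩ : E)).2
    (isIrreducible_singleton.closure : IsIrreducible (closure {(⟨d, hd⟩ : E)})) hsub
  have hgd : g ⤳ ⟨d, hd⟩ := by
    refine specializes_iff_mem_closure.2 ?_
    rw [hg.def]
    exact heq (subset_closure rfl)
  exact (hdg.antisymm ((subtype_specializes_iff _ _).1 hgd)).eq

/-- the target of an open surjection from a spectral space with quasi-compact saturations and
constructibly closed fibres is spectral -/
theorem spectralSpace_of_open_surjective [SpectralSpace X] {f : X → Y} (hc : Continuous f) (ho : IsOpenMap f)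
    (hs : Function.Surjective f) (hW : ∀ W : Set X, IsOpen W → IsCompact W → IsCompact (f ⁻¹' (f '' W)))
    (hfib : ∀ x : X, IsOpen[constructibleTopology X] (f ⁻¹' {f x})ᶜ) : SpectralSpace Y := by
  haveI : CompactSpace Y := ⟨by rw [← hs.range_eq]; exact isCompact_range hc⟩
  have hB : IsTopologicalBasis {V : Set Y | IsOpen V ∧ IsCompact V} := by
    refine isTopologicalBasis_of_isOpen_of_nhds (fun V hV => hV.1) fun y V hy hV => ?_
    obtain ⟨x, rfl⟩ := hs y
    obtain ⟨W, ⟨hWo, hWc⟩, hxW, hWV⟩ := PrespectralSpace.isTopologicalBasis.exists_subset_of_mem_open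
      (show x ∈ f ⁻¹' V from hy) (hV.preimage hc)
    exact ⟨f '' W, ⟨ho W hWo, hWc.image hc⟩, mem_image_of_mem f hxW, image_subset_iff.2 hWV⟩
  haveI : PrespectralSpace Y := ⟨hB⟩
  have hpre : ∀ V : Set Y, IsOpen V → IsCompact V → IsCompact (f ⁻¹' V) := by
    intro V hVo hVc
    have hcov : ∀ y ∈ V, ∃ W : Set X, (IsOpen W ∧ IsCompact W) ∧ y ∈ f '' W ∧ f '' W ⊆ V := by
      intro y hy
      obtain ⟨x, rfl⟩ := hs y
      obtain ⟨W, hW', hxW, hWV⟩ := PrespectralSpace.isTopologicalBasis.exists_subset_of_mem_open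
        (show x ∈ f ⁻¹' V from hy) (hVo.preimage hc)
      exact ⟨W, hW', mem_image_of_mem f hxW, image_subset_iff.2 hWV⟩
    choose W hW' hyW hWV using hcov
    obtain ⟨t, ht⟩ := hVc.elim_finite_subcover (fun y : V => f '' W y.1 y.2) (fun y => ho _ (hW' y.1 y.2).1)
      (fun y hy => mem_iUnion.2 ⟨⟨y, hy⟩, hyW y hy⟩)
    have e : f ⁻¹' V = ⋃ y ∈ t, f ⁻¹' (f '' W y.1 y.2) := by
      apply subset_antisymm
      · intro x hx
        simpa only [mem_iUnion, mem_preimage] using ht hx
      · exact iUnion₂_subset fun y _ => preimage_mono (hWV y.1 y.2)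
    rw [e]
    exact t.isCompact_biUnion fun y _ => hW _ (hW' y.1 y.2).1 (hW' y.1 y.2).2
  haveI : QuasiSeparatedSpace Y := ⟨fun U V hU hUc hV hVc => by
    rw [← Set.image_preimage_eq (U ∩ V) hs]
    exact (QuasiSeparatedSpace.inter_isCompact _ _ (hU.preimage hc) (hpre U hU hUc) (hV.preimage hc)
      (hpre V hV hVc)).image hc⟩
  haveI : T0Space Y := ⟨fun y y' h => by
    obtain ⟨x, rfl⟩ := hs y
    obtain ⟨x', rfl⟩ := hs y'
    obtain ⟨e, he, hmin⟩ := exists_minimal (hfib x') ⟨x', rfl⟩
    have hcl : ∀ a b z : X, f a ⤳ f b → f z = f b → z ∈ closure (f ⁻¹' {f a}) := fun a b z hab hz => by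
      rw [← ho.preimage_closure_eq_closure_preimage hc, mem_preimage, hz]
      exact hab.mem_closure
    obtain ⟨d, hd, hde⟩ := SpecSpLib.exists_specializes (hfib x) (hcl x x' e h.specializes he)
    obtain ⟨c, hc', hcd⟩ := SpecSpLib.exists_specializes (hfib x') (hcl x' x d h.symm.specializes hd)
    have hce : c = e := hmin c hc' (hcd.trans hde)
    subst hce
    rw [(hde.antisymm hcd).eq] at hd
    exact hd.symm.trans he⟩
  haveI : QuasiSober Y := ⟨fun {C} hC hCc => by
    obtain ⟨x, hxC, hx⟩ := SpecSpLib.exists_forall_mem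
      (fun V : {V : Set Y // (IsOpen V ∧ IsCompact V) ∧ (C ∩ V).Nonempty} => f ⁻¹' V.1)
      (E := f ⁻¹' C)
      (ConsTop.isOpen_cons_of_isOpen (hCc.preimage hc).isOpen_compl)
      (fun V => (SpecSpLib.isClopen_of_isCompact (V.2.1.1.preimage hc) (hpre _ V.2.1.1 V.2.1.2)).2) fun t => by
        classical
        obtain ⟨y, hyC, hy⟩ := (isIrreducible_iff_sInter.1 hC) (t.image fun V => V.1)
          (fun U hU => by
            obtain ⟨V, -, rfl⟩ := Finset.mem_image.1 hU
            exact V.2.1.1)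
          (fun U hU => by
            obtain ⟨V, -, rfl⟩ := Finset.mem_image.1 hU
            exact V.2.2)
        obtain ⟨x, rfl⟩ := hs y
        exact ⟨x, hyC, mem_iInter₂.2 fun V hV => hy V.1 (Finset.mem_image_of_mem _ hV)⟩
    refine ⟨f x, subset_antisymm (closure_minimal (singleton_subset_iff.2 hxC) hCc) fun y hy => ?_⟩
    refine hB.mem_closure_iff.2 fun V hV hyV => ⟨f x, ?_, rfl⟩
    exact mem_iInter.1 hx ⟨V, hV, y, hy, hyV⟩⟩
  exact { }

end Groth.Agent.AlgStLib.QuotSpectral
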