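import Groth.Agent.FibCatRep.Cart
import Groth.Prelude.Def_AlgSt

/-!
# A criterion for stacks: cones on covering sieves are colimits

In a category fibred in groupoids a descent datum glues when it has a cone, and morphisms glue when
cones are universal.
-/

set_option autoImplicit false
set_option backward.isDefEq.respectTransparency false
set_option backward.isDefEq.respectTransparency.types false
universe v₂ u₂ v u

noncomputable section

namespace Groth.Agent.AlgStLib.StackCrit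

open CategoryTheory Groth.Agent.FibCatRep

variable {C : Type u} [Category.{v} C] {𝒳 : BasedCategory.{v₂, u₂} C} {U : C} {R : Sieve U}

/-- A cone on a functor on a sieve: an object over `U` receiving all values, over the arrows of the sieve. -/
structure Cone (H : Stk.sieveCat R ⥤ᵇ 𝒳) where
  pt : 𝒳.obj
  hpt : 𝒳.p.obj pt = U
  q : ∀ w : (Stk.sieveCat R).obj, H.obj w ⟶ pt
  hq : ∀ w : (Stk.sieveCat R).obj, 𝒳.p.map (q w) = eqToHom (H.w_obj w) ≫ w.obj.hom ≫ eqToHom hpt.symm
  nat : ∀ {w' w : (Stk.sieveCat R).obj} (m : w' ⟶ w), H.map m ≫ q w = q w'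

/-- cones are universal among cones -/
def Desc (R : Sieve U) (𝒳 : BasedCategory.{v₂, u₂} C) : Prop :=
  ∀ (H : Stk.sieveCat R ⥤ᵇ 𝒳) (c c' : Cone H),
    ∃! φ : c.pt ⟶ c'.pt, 𝒳.p.map φ = eqToHom (c.hpt.trans c'.hpt.symm) ∧ ∀ w, c.q w ≫ φ = c'.q w

variable (h𝒳 : FibCat.IsFibGrpd 𝒳.p)

/-- the terminal object of the slice -/
abbrev top (U : C) : Over U := Over.mk (𝟙 U)

/-- the map to the terminal object -/
abbrev toTop (z : Over U) : z ⟶ top U := Over.homMk z.hom (Category.comp_id _)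

/-- the cone of a functor on the slice, twisted by a natural transformation on the sieve -/
def coneOf (H : Stk.sieveCat R ⥤ᵇ 𝒳) (G : FibCat.overCat U ⥤ᵇ 𝒳)
    (α : H ⟶ BasedFunctor.comp (Stk.sieveIncl R) G) : Cone H where
  pt := G.obj (top U)
  hpt := G.w_obj (top U)
  q w := α.toNatTrans.app w ≫ G.map (toTop w.obj)
  hq w := by
    rw [Functor.map_comp, map_app, map_map]
    simp [Stk.sieveIncl]
    rfl
  nat {w' w} m := by
    have e : (m.hom : w'.obj ⟶ w.obj) ≫ toTop w.obj = toTop w'.obj := Over.OverMorphism.ext (Over.w m.hom)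
    have n : H.map m ≫ α.toNatTrans.app w = α.toNatTrans.app w' ≫ G.map m.hom := α.toNatTrans.naturality m
    rw [reassoc_of% n, ← Functor.map_comp, e]

include h𝒳

/-- morphisms between functors on a slice are determined at the terminal object -/
lemma ext_top {G G' : FibCat.overCat U ⥤ᵇ 𝒳} {β β' : G ⟶ G'}
    (h : β.toNatTrans.app (top U) = β'.toNatTrans.app (top U)) : β = β' := by
  ext z
  refine cancel h𝒳 (G'.map (toTop z)) (by rw [map_app, map_app]) ?_
  rw [← β.toNatTrans.naturality, ← β'.toNatTrans.naturality, h]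

theorem prestackFor_of_desc (hd : Desc R 𝒳) : Stk.IsPrestackFor R 𝒳 := by
  refine ⟨⟨fun {G G'} α => ?_⟩, ⟨fun {G G'} β β' e => ?_⟩⟩
  · let H := (Stk.resSieve R 𝒳).obj G
    obtain ⟨φ, ⟨hφ, hc⟩, -⟩ := hd H (coneOf H G (𝟙 H)) (coneOf H G' α)
    have hx : ∀ z : Over U, ∃! χ : G.obj z ⟶ G'.obj z,
        𝒳.p.map χ = eqToHom ((G.w_obj z).trans (G'.w_obj z).symm) ∧
          χ ≫ G'.map (toTop z) = G.map (toTop z) ≫ φ :=
      fun z => existsUnique_cart h𝒳 _ _ _ (by simp [map_map, hφ, coneOf])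
    choose χ hχ hu using hx
    let β : G.toFunctor ⟶ G'.toFunctor :=
      { app := χ
        naturality := fun z z' n => by
          refine cancel h𝒳 (G'.map (toTop z')) (by simp [map_map, (hχ z).1, (hχ z').1]) ?_
          have hm : n ≫ toTop z' = toTop z := Over.OverMorphism.ext (Over.w n)
          rw [Category.assoc, Category.assoc, (hχ z').2, ← Functor.map_comp_assoc, ← Functor.map_comp, hm,
            (hχ z).2] }
    refine ⟨BasedNatTrans.mk β fun z => IsHomLift.of_fac' 𝒳.p _ _ (G.w_obj z) (G'.w_obj z)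
      ((hχ z).1.trans (by simp)), ?_⟩
    apply BasedNatTrans.homCategory.ext
    ext w
    show χ w.obj = α.toNatTrans.app w
    refine (hu w.obj (α.toNatTrans.app w) ⟨map_app α w, ?_⟩).symm
    have := hc w
    exact this.symm.trans (congrArg (· ≫ φ) (Category.id_comp _))
  · apply ext_top h𝒳
    let H := (Stk.resSieve R 𝒳).obj G
    have hβ : ∀ (γ : G ⟶ G') (w), (coneOf H G (𝟙 H)).q w ≫ γ.toNatTrans.app (top U) =
        (coneOf H G' ((Stk.resSieve R 𝒳).map γ)).q w := fun γ w => by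
      show (𝟙 (G.obj w.obj) ≫ G.map (toTop w.obj)) ≫ γ.toNatTrans.app (top U) =
        γ.toNatTrans.app w.obj ≫ G'.map (toTop w.obj)
      rw [Category.id_comp]
      exact γ.toNatTrans.naturality (toTop w.obj)
    obtain ⟨φ, -, hu⟩ := hd H (coneOf H G (𝟙 H)) (coneOf H G' ((Stk.resSieve R 𝒳).map β))
    rw [hu _ ⟨map_app β _, hβ β⟩, hu _ ⟨map_app β' _, fun w => (hβ β' w).trans (by rw [← e])⟩]

theorem isStackFor_of_cones (hd : Desc R 𝒳) (he : ∀ H : Stk.sieveCat R ⥤ᵇ 𝒳, Nonempty (Cone H)) :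
    Stk.IsStackFor R 𝒳 := by
  obtain ⟨h₁, h₂⟩ := prestackFor_of_desc h𝒳 hd
  haveI := h₁
  haveI := h₂
  haveI : (Stk.resSieve R 𝒳).EssSurj := ⟨fun H => by
    obtain ⟨c⟩ := he H
    have hl : ∀ z : Over U, ∃ (y : 𝒳.obj) (φ : y ⟶ c.pt) (h : 𝒳.p.obj y = z.left),
        𝒳.p.map φ = eqToHom h ≫ z.hom ≫ eqToHom c.hpt.symm := fun z =>
      exists_lift h𝒳 (z.hom ≫ eqToHom c.hpt.symm)
    choose y ψ hy hψ using hl
    have hn : ∀ {z z' : Over U} (n : z ⟶ z'), ∃! χ : y z ⟶ y z',
        𝒳.p.map χ = eqToHom (hy z) ≫ n.left ≫ eqToHom (hy z').symm ∧ χ ≫ ψ z' = ψ z := fun {z z'} n =>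
      existsUnique_cart h𝒳 _ _ _ (by simp [hψ])
    choose χ hχ hu using fun z z' (n : z ⟶ z') => hn n
    let G : FibCat.overCat U ⥤ᵇ 𝒳 :=
      { toFunctor :=
          { obj := y
            map := fun {z z'} n => χ z z' n
            map_id := fun z => (hu z z (𝟙 z) (𝟙 _) ⟨by
              show 𝒳.p.map (𝟙 _) = eqToHom _ ≫ (𝟙 z.left) ≫ eqToHom _
              simp, Category.id_comp _⟩).symm
            map_comp := fun {a b d} n n' => (hu a d (n ≫ n') _ ⟨by simp [(hχ _ _ _).1],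
              by rw [Category.assoc, (hχ b d n').2, (hχ a b n).2]⟩).symm }
        w := CategoryTheory.Functor.ext hy fun z z' n => (hχ z z' n).1 }
    have hx : ∀ w : (Stk.sieveCat R).obj, ∃! χ : y w.obj ⟶ H.obj w,
        𝒳.p.map χ = eqToHom ((hy w.obj).trans (H.w_obj w).symm) ∧ χ ≫ c.q w = ψ w.obj :=
      fun w => existsUnique_cart h𝒳 _ _ _ (by simp [c.hq, hψ])
    choose θ hθ hθu using hx
    haveI : ∀ w, IsIso (θ w) := fun w => by
      haveI : IsIso (𝒳.p.map (θ w)) := by rw [(hθ w).1]; infer_instance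
      exact isIso_of_map h𝒳 _
    refine ⟨G, ⟨BasedNatIso.mkNatIso (NatIso.ofComponents (fun w => asIso (θ w)) (fun {w w'} m => ?_))
      (fun w => IsHomLift.of_fac' 𝒳.p _ _ (hy w.obj) (H.w_obj w) ((hθ w).1.trans (by simp)))⟩⟩
    show χ w.obj w'.obj m.hom ≫ θ w' = θ w ≫ H.map m
    refine cancel h𝒳 (c.q w') ?_ ?_
    · simp [(hθ w).1, (hθ w').1, (hχ _ _ _).1, map_map]
      rfl
    · rw [Category.assoc, Category.assoc, (hθ w').2, c.nat, (hθ w).2]
      exact (hχ _ _ _).2⟩
  exact { }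

end Groth.Agent.AlgStLib.StackCrit

end
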