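import Groth.Agent.AlgStLib.SheafGlue
import Groth.Agent.AlgStLib.StackCrit
import Groth.Agent.AlgSpLib.FpqcRep
import Groth.Agent.FpqcDescent.Affine
import Groth.Agent.S1398
import Groth.Prelude.Def_AlgSt5
import Groth.Prelude.Def_AlgSt2

/-!
# Quotient categories with scheme torsors under affine groups are stacks
-/

set_option autoImplicit false
set_option backward.isDefEq.respectTransparency false
set_option backward.isDefEq.respectTransparency.types false
universe u

noncomputable section

namespace Groth.Agent.AlgStLib.Quot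

open CategoryTheory CategoryTheory.Limits MonoidalCategory CartesianMonoidalCategory MonObj GrpObj AlgebraicGeometry
open _root_.AlgSp Groth.Agent.FibCatRep

variable {S : Scheme.{u}} {G X : Over S} [GrpObj G] {aX : AlgGrp.Action G X}

/-! ### base change -/

variable {T : Over S} (A : AlgSt.QuotObj Scheme.fppfPrecoverage G aX) (f : T ⟶ A.base)

/-- the torsor pulled back -/
abbrev pullP : Over S := pullback A.π f

/-- the induced action -/
def pullAct : AlgGrp.Action G (pullP A f) where
  act := (IsPullback.of_hasPullback A.π f).lift ((G ◁ pullback.fst _ _) ≫ A.act.act)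
    (snd G _ ≫ pullback.snd _ _) (by
      rw [Category.assoc, A.cart.w, whiskerLeft_snd_assoc, Category.assoc, pullback.condition])
  one_act := by
    apply pullback.hom_ext
    · rw [Category.assoc, IsPullback.lift_fst, ← whisker_exchange_assoc, A.act.one_act, leftUnitor_naturality]
    · rw [Category.assoc, IsPullback.lift_snd, whiskerRight_snd_assoc, leftUnitor_hom]
  mul_act := by
    apply pullback.hom_ext
    · simp only [Category.assoc, IsPullback.lift_fst]
      rw [← whisker_exchange_assoc, A.act.mul_act, associator_naturality_right_assoc,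
        ← MonoidalCategory.whiskerLeft_comp_assoc, ← MonoidalCategory.whiskerLeft_comp_assoc, IsPullback.lift_fst]
    · simp only [Category.assoc, IsPullback.lift_snd, whiskerRight_snd_assoc, whiskerLeft_snd_assoc,
        associator_hom_snd_snd_assoc]

lemma isPullback_forget {P Q Y Z : Over S} {p : P ⟶ Q} {q : P ⟶ Y} {f : Q ⟶ Z} {g : Y ⟶ Z}
    (sq : IsPullback p q f g) : IsPullback p.left q.left f.left g.left :=
  sq.map (Over.forget S)

/-- the existence of local sections pulls back -/
lemma loc_of_isPullback {T T' : Over S} {f : T' ⟶ T} {P P' : Over S} {π : P ⟶ T}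
    {π' : P' ⟶ T'} {p : P' ⟶ P} (sq : IsPullback p π' π f)
    (h : NonAbH1.IsLocallyTrivialFor Scheme.fppfPrecoverage (Over.mk π.left : Over T.left)) :
    NonAbH1.IsLocallyTrivialFor Scheme.fppfPrecoverage (Over.mk π'.left : Over T'.left) := by
  obtain ⟨R, hR, hs⟩ := h
  refine ⟨_, Precoverage.pullbackArrows_mem (J := Scheme.fppfPrecoverage) f.left hR, fun W g hg => ?_⟩
  cases hg with
  | mk Z i hi =>
    obtain ⟨s, hs'⟩ := hs i hi
    have hs'' : s ≫ π.left = i := hs'
    refine ⟨(isPullback_forget sq).lift (pullback.fst i f.left ≫ s) (pullback.snd i f.left) ?_,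
      (isPullback_forget sq).lift_snd _ _ _⟩
    rw [Category.assoc, hs'', pullback.condition]

/-- the base change of an object -/
def pullObj : AlgSt.QuotObj Scheme.fppfPrecoverage G aX where
  base := T
  P := pullP A f
  act := pullAct A f
  π := pullback.snd _ _
  cart := by
    have sq := IsPullback.of_hasPullback A.π f
    have h₁ : IsPullback ((pullAct A f).act ≫ pullback.fst _ _) (snd G (pullP A f)) A.π
        (pullback.fst A.π f ≫ A.π) := by
      have := (AlgSt.isPullback_whiskerLeft (G := G) (pullback.fst A.π f)).paste_horiz A.cart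
      rw [show (pullAct A f).act ≫ pullback.fst _ _ = _ from sq.lift_fst _ _ _]
      exact this
    rw [sq.w] at h₁
    exact IsPullback.of_right h₁ (sq.lift_snd _ _ _) sq
  loc := loc_of_isPullback (IsPullback.of_hasPullback A.π f) A.loc
  φ := pullback.fst _ _ ≫ A.φ
  eqv := by
    rw [← Category.assoc, show (pullAct A f).act ≫ pullback.fst _ _ = _ from IsPullback.lift_fst _ _ _ _,
      Category.assoc, A.eqv, MonoidalCategory.whiskerLeft_comp, Category.assoc]

/-- the projection of a base change -/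
def pullHom : pullObj A f ⟶ A where
  base := f
  top := pullback.fst _ _
  eqv := IsPullback.lift_fst _ _ _ _
  cart := IsPullback.of_hasPullback _ _
  wφ := rfl

theorem isFibGrpd (G : Over S) [GrpObj G] (aX : AlgGrp.Action G X) :
    FibCat.IsFibGrpd (AlgSt.QuotSt Scheme.fppfPrecoverage G aX).p := by
  refine Groth.Agent.FibCatRep.isFibGrpd_mk (fun {A V} f => ⟨pullObj A f, pullHom A f, rfl, ?_⟩)
    (fun {A'' A' A} φ ψ g h => ?_)
  · exact (Category.id_comp f).symm
  have hg : g ≫ φ.base = ψ.base := h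
  let t : A''.P ⟶ A'.P := φ.cart.lift ψ.top (A''.π ≫ g) (by rw [Category.assoc, hg, ψ.cart.w])
  have t₁ : t ≫ φ.top = ψ.top := φ.cart.lift_fst _ _ _
  have t₂ : t ≫ A'.π = A''.π ≫ g := φ.cart.lift_snd _ _ _
  have te : A''.act.act ≫ t = (G ◁ t) ≫ A'.act.act := φ.cart.hom_ext
    (by rw [Category.assoc, Category.assoc, t₁, φ.eqv, ← MonoidalCategory.whiskerLeft_comp_assoc, t₁, ψ.eqv])
    (by rw [Category.assoc, Category.assoc, t₂, reassoc_of% A''.cart.w, A'.cart.w, whiskerLeft_snd_assoc, t₂])
  have tc : IsPullback t A''.π A'.π g := IsPullback.of_right (by rw [t₁, hg]; exact ψ.cart) t₂ φ.cart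
  let χ : A'' ⟶ A' := ⟨g, t, te, tc, by rw [← φ.wφ, ← Category.assoc, t₁, ψ.wφ]⟩
  refine ⟨χ, ⟨rfl, AlgSt.QuotObj.hom_ext hg t₁⟩, fun χ' hχ => ?_⟩
  obtain ⟨hb', hc'⟩ := hχ
  refine AlgSt.QuotObj.hom_ext hb' (φ.cart.hom_ext ?_ ?_)
  · exact (congrArg AlgSt.QuotObj.Hom.top hc').trans t₁.symm
  · rw [χ'.cart.w, tc.w]
    exact congrArg _ hb'

/-- torsors inherit fpqc local properties of the group -/
theorem prop_π (Q : MorphismProperty Scheme.{u}) [Q.IsStableUnderBaseChange] [IsZariskiLocalAtTarget Q]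
    [Q.DescendsAlong (@Surjective ⊓ @Flat ⊓ @QuasiCompact)] (hG : Q G.hom)
    (A : AlgSt.QuotObj Scheme.fppfPrecoverage G aX) : Q A.π.left := by
  obtain ⟨R, hR, hs⟩ := A.loc
  refine Groth.Agent.FpqcDescent.of_fpqcPrecoverage Q A.π.left
    (Scheme.fppfPrecoverage_le_fpqcPrecoverage _ hR) fun W i hi => ?_
  obtain ⟨s, hs'⟩ := hs i hi
  have hs'' : s ≫ A.π.left = i := hs'
  let T₁ : Over S := Over.mk (i ≫ A.base.hom)
  let m : T₁ ⟶ A.base := Over.homMk i rfl
  let σ : T₁ ⟶ (pullObj A m).P := pullback.lift (Over.homMk s (by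
    show s ≫ A.P.hom = i ≫ A.base.hom
    rw [← hs'', Category.assoc, Over.w A.π])) (𝟙 _) (by
    rw [Category.id_comp]; exact Over.OverMorphism.ext hs'')
  have sq := (AlgSt.isPullback_whiskerLeft (G := G) σ).paste_horiz (pullObj A m).cart
  rw [show σ ≫ (pullObj A m).π = 𝟙 _ from pullback.lift_snd _ _ _] at sq
  haveI : IsIso ((G ◁ σ) ≫ (pullObj A m).act.act) := sq.isIso_fst_of_isIso
  have h₁ : Q (snd G T₁).left := by
    show Q (pullback.snd G.hom T₁.hom)
    exact Q.pullback_snd _ _ hG
  have h₂ : Q (pullObj A m).π.left := by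
    have e : (snd G T₁).left = ((G ◁ σ) ≫ (pullObj A m).act.act).left ≫ (pullObj A m).π.left := by
      rw [← Over.comp_left, sq.w, Category.comp_id]
    rw [e] at h₁
    haveI : IsIso ((G ◁ σ) ≫ (pullObj A m).act.act).left :=
      Functor.map_isIso (Over.forget S) ((G ◁ σ) ≫ (pullObj A m).act.act)
    exact (Q.cancel_left_of_respectsIso _ _).1 h₁
  have sqs : IsPullback (pullHom A m).top.left (pullObj A m).π.left A.π.left i :=
    isPullback_forget (pullHom A m).cart
  exact (Q.arrow_mk_iso_iff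
    (Arrow.isoMk sqs.isoPullback (Iso.refl _) (sqs.isoPullback_hom_snd.trans (Category.comp_id _).symm))).1 h₂

/-- torsors under affine groups are affine over their base -/
theorem isAffineHom_π [IsAffineHom G.hom] (A : AlgSt.QuotObj Scheme.fppfPrecoverage G aX) :
    IsAffineHom A.π.left :=
  prop_π @IsAffineHom ‹IsAffineHom G.hom› A

lemma indQA_of_affine {P Q : Scheme.{u}} (q : P ⟶ Q) (h : IsAffineHom q) : MoreMor.IsIndQuasiAffineHom q := by
  refine (Groth.Agent.S1398.result q).2 ⟨inferInstance, fun V hV => ?_⟩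
  have : IsAffine (q ⁻¹ᵁ V : Scheme.{u}) := hV.preimage q
  infer_instance

/-- a sheaf over a scheme which is affine over it locally is representable -/
theorem exists_scheme_of_affine_locally {U : Over S} {R : Sieve U} (hR : R ∈ AlgSp.J S U) {Z : Sp S}
    (π : Z ⟶ (yon S).obj U)
    (h : ∀ w : SheafGlue.Idx R, ∃ (V : Over S) (v : V ⟶ w.obj.left) (z : (yon S).obj V ⟶ Z),
      IsPullback z ((yon S).map v) π ((yon S).map w.obj.hom) ∧ IsAffineHom v.left) :
    ∃ (W : Over S) (w : W ⟶ U) (i : (yon S).obj W ≅ Z), i.hom ≫ π = (yon S).map w := by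
  have hR' := (GrothendieckTopology.mem_over_iff (J := Scheme.fppfTopology) (Y := U) R).1 hR
  obtain ⟨R₀, hR₀, hle⟩ := (Precoverage.mem_toGrothendieck_iff_of_isStableUnderComposition
    (J := Scheme.fppfPrecoverage)).1 hR'
  obtain ⟨I, C, f, rfl⟩ := R₀.exists_eq_ofArrows
  obtain ⟨hsurj, hprop⟩ := (Scheme.ofArrows_mem_precoverage_iff _).1 hR₀
  choose i hi using hsurj
  let Ai : U.left → Scheme.{u} := fun x => C (i x)
  let fA : ∀ x, Ai x ⟶ S := fun x => f (i x) ≫ U.hom
  let c : Over.mk (Sigma.desc fA) ⟶ U := Over.homMk (Sigma.desc fun x => f (i x))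
    (by refine Sigma.hom_ext _ _ fun x => ?_; exact (Sigma.ι_desc_assoc _ _ _).trans (Sigma.ι_desc fA x).symm)
  have hι : ∀ x, Sigma.ι Ai x ≫ c.left = f (i x) := fun x => Sigma.ι_desc _ _
  have : Flat c.left := (IsZariskiLocalAtSource.iff_of_openCover (P := @Flat) (sigmaOpenCover Ai)).2
    fun x => by rw [show (sigmaOpenCover Ai).f x = Sigma.ι Ai x from rfl, hι]; exact (hprop (i x)).1
  have : LocallyOfFinitePresentation c.left :=
    (IsZariskiLocalAtSource.iff_of_openCover (P := @LocallyOfFinitePresentation) (sigmaOpenCover Ai)).2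
      fun x => by rw [show (sigmaOpenCover Ai).f x = Sigma.ι Ai x from rfl, hι]; exact (hprop (i x)).2
  have : Surjective c.left := ⟨fun x => by
    obtain ⟨y, hy⟩ := hi x
    exact ⟨Sigma.ι Ai x y, (congr($(hι x) y)).trans hy⟩⟩
  have sq' := IsPullback.of_hasPullback π ((yon S).map c)
  obtain ⟨V', v', z', hz', e', hQ'⟩ := Groth.Agent.AlgSpLib.exists_rep_sigma @IsAffineHom fA
    (pullback.snd π ((yon S).map c)) (fun x => by
      let m : Over.mk (fA x) ⟶ U := Over.homMk (f (i x)) rfl
      obtain ⟨V, v, z, sqk, hv⟩ := h (SheafGlue.idx m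
        ((Sieve.overEquiv_iff (Y := U) R (f (i x))).1 (hle _ _ ⟨i x⟩)))
      have hm : Groth.Agent.AlgSpLib.sigmaInj fA x ≫ c = m := Over.OverMorphism.ext (hι x)
      refine ⟨V, v, sq'.lift z ((yon S).map (v ≫ Groth.Agent.AlgSpLib.sigmaInj fA x)) ?_, ?_, hv⟩
      · rw [← Functor.map_comp, Category.assoc, hm, Functor.map_comp]
        exact sqk.w
      · refine IsPullback.of_right ?_ (by rw [sq'.lift_snd, Functor.map_comp]) sq'
        rw [sq'.lift_fst, ← Functor.map_comp, hm]
        exact sqk)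
  have sqV : IsPullback (z' ≫ pullback.fst π ((yon S).map c)) ((yon S).map v') π ((yon S).map c) := by
    simpa using (IsPullback.of_horiz_isIso
      (show CommSq z' ((yon S).map v') _ (𝟙 _) from ⟨by rw [Category.comp_id, e']⟩)).paste_horiz sq'
  obtain ⟨W, w, iW, -, hiw, -⟩ := Groth.Agent.AlgSpLib.exists_rep_of_indQA sqV (indQA_of_affine _ hQ')
  exact ⟨W, w, iW, hiw⟩

/-! ### descent data -/

variable {U : Over S} {R : Sieve U}
  (H : Stk.sieveCat R ⥤ᵇ AlgSt.QuotSt Scheme.fppfPrecoverage G aX)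

/-- the member torsor -/
abbrev mem (w : SheafGlue.Idx R) : AlgSt.QuotObj Scheme.fppfPrecoverage G aX := H.obj w

/-- the identification of the base of a member -/
abbrev memEq (w : SheafGlue.Idx R) : (mem H w).base ⟶ w.obj.left := eqToHom (H.w_obj w)

/-- the structure map of a member -/
abbrev memτ (w : SheafGlue.Idx R) : (mem H w).P ⟶ w.obj.left := (mem H w).π ≫ memEq H w

/-- a transition map -/
abbrev memMap {w' w : SheafGlue.Idx R} (m : w' ⟶ w) : mem H w' ⟶ mem H w := H.map m

lemma memMap_base {w' w : SheafGlue.Idx R} (m : w' ⟶ w) :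
    (memMap H m).base ≫ memEq H w = memEq H w' ≫ m.hom.left := by
  have h : (memMap H m).base = memEq H w' ≫ m.hom.left ≫ eqToHom (H.w_obj w).symm := map_map H m
  rw [h]
  simp [memEq]

lemma memMap_sq {w' w : SheafGlue.Idx R} (m : w' ⟶ w) :
    IsPullback (memMap H m).top (memτ H w') (memτ H w) m.hom.left :=
  (memMap H m).cart.paste_vert (IsPullback.of_vert_isIso ⟨memMap_base H m⟩)

variable {H}

/-- the structure map of a cone -/
abbrev coneτ (c : StackCrit.Cone H) : c.pt.P ⟶ U := c.pt.π ≫ eqToHom c.hpt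

/-- the map of a cone -/
abbrev coneq (c : StackCrit.Cone H) (w : SheafGlue.Idx R) : mem H w ⟶ c.pt := c.q w

lemma coneq_base (c : StackCrit.Cone H) (w : SheafGlue.Idx R) :
    (coneq c w).base ≫ eqToHom c.hpt = memEq H w ≫ w.obj.hom := by
  have h : (coneq c w).base = memEq H w ≫ w.obj.hom ≫ eqToHom c.hpt.symm := c.hq w
  rw [h]
  simp

lemma cone_sq (c : StackCrit.Cone H) (w : SheafGlue.Idx R) :
    IsPullback (coneq c w).top (memτ H w) (coneτ c) w.obj.hom :=
  (coneq c w).cart.paste_vert (IsPullback.of_vert_isIso ⟨coneq_base c w⟩)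

lemma coneq_nat (c : StackCrit.Cone H) {w' w : SheafGlue.Idx R} (m : w' ⟶ w) :
    (memMap H m).top ≫ (coneq c w).top = (coneq c w').top :=
  congrArg AlgSt.QuotObj.Hom.top (c.nat m)

/-- Uniqueness and existence of maps out of a scheme over `U` glued from pieces. -/
lemma desc (hR : R ∈ AlgSp.J S U) {P : Over S} {p : P ⟶ U} {D : SheafGlue.Idx R → Over S}
    {τ : ∀ w, D w ⟶ w.obj.left} {q : ∀ w, D w ⟶ P} (hq : ∀ w, IsPullback (q w) (τ w) p w.obj.hom)
    {Y : Over S} (α : ∀ w, D w ⟶ Y)
    (hα : ∀ (w' w : SheafGlue.Idx R) (m : w' ⟶ w) (d : D w' ⟶ D w), d ≫ q w = q w' →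
      d ≫ τ w = τ w' ≫ m.hom.left → d ≫ α w = α w') :
    ∃! a : P ⟶ Y, ∀ w, q w ≫ a = α w := by
  obtain ⟨b, hb, hu⟩ := SheafGlue.existsUnique_desc hR (fun w => (hq w).map (yon S))
    (fun w => (yon S).map (α w)) (fun w' w m d h₁ h₂ => by
      obtain ⟨d, rfl⟩ := (yon S).map_surjective d
      rw [← Functor.map_comp] at h₁ h₂ ⊢
      rw [← Functor.map_comp] at h₂
      exact congrArg _ (hα w' w m d ((yon S).map_injective h₁) ((yon S).map_injective h₂)))
  obtain ⟨a, rfl⟩ := (yon S).map_surjective b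
  refine ⟨a, fun w => (yon S).map_injective (by rw [Functor.map_comp]; exact hb w), fun a' ha' => ?_⟩
  exact (yon S).map_injective (hu _ fun w => by rw [← Functor.map_comp, ha'])

lemma desc_ext (hR : R ∈ AlgSp.J S U) {P : Over S} {p : P ⟶ U} {D : SheafGlue.Idx R → Over S}
    {τ : ∀ w, D w ⟶ w.obj.left} {q : ∀ w, D w ⟶ P} (hq : ∀ w, IsPullback (q w) (τ w) p w.obj.hom)
    {Y : Over S} {a b : P ⟶ Y} (h : ∀ w, q w ≫ a = q w ≫ b) : a = b :=
  (desc hR hq (fun w => q w ≫ a) (fun w' w m d h₁ _ => by rw [← Category.assoc, h₁])).unique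
    (fun _ => rfl) (fun w => (h w).symm)

variable (hR : R ∈ AlgSp.J S U)
include hR

lemma existsUnique_top (c c' : StackCrit.Cone H) :
    ∃! t : c.pt.P ⟶ c'.pt.P, ∀ w, (coneq c w).top ≫ t = (coneq c' w).top :=
  desc hR (cone_sq c) (fun w => (coneq c' w).top) fun w' w m d h₁ h₂ => by
    have : d = (memMap H m).top :=
      (cone_sq c w).hom_ext (h₁.trans (coneq_nat c m).symm) (h₂.trans (memMap_sq H m).w.symm)
    rw [this, coneq_nat]

theorem existsUnique_hom (c c' : StackCrit.Cone H) :
    ∃! φ : c.pt ⟶ c'.pt, (AlgSt.QuotSt Scheme.fppfPrecoverage G aX).p.map φ = eqToHom (c.hpt.trans c'.hpt.symm) ∧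
      ∀ w, c.q w ≫ φ = c'.q w := by
  obtain ⟨t, ht, htu⟩ := existsUnique_top hR c c'
  obtain ⟨t', ht', -⟩ := existsUnique_top hR c' c
  haveI : IsIso t := ⟨t', desc_ext hR (cone_sq c) fun w => by rw [← Category.assoc, ht, ht', Category.comp_id],
    desc_ext hR (cone_sq c') fun w => by rw [← Category.assoc, ht', ht, Category.comp_id]⟩
  have hτ₀ : t ≫ coneτ c' = coneτ c := desc_ext hR (cone_sq c) fun w => by
    rw [← Category.assoc, ht, (cone_sq c w).w]
    exact (cone_sq c' w).w
  have hτ : t ≫ c'.pt.π = c.pt.π ≫ eqToHom (c.hpt.trans c'.hpt.symm) := by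
    have h := hτ₀ =≫ eqToHom c'.hpt.symm
    simp only [coneτ, Category.assoc, eqToHom_trans, eqToHom_refl, Category.comp_id] at h
    exact h
  have heqv : c.pt.act.act ≫ t = (G ◁ t) ≫ c'.pt.act.act :=
    desc_ext hR (fun w => (AlgSt.isPullback_whiskerLeft (G := G) (coneq c w).top).paste_vert (cone_sq c w))
      fun w => by
        rw [← reassoc_of% (coneq c w).eqv, ht, (coneq c' w).eqv, ← MonoidalCategory.whiskerLeft_comp_assoc, ht]
  have hφ : t ≫ c'.pt.φ = c.pt.φ := desc_ext hR (cone_sq c) fun w => by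
    rw [reassoc_of% (ht w), (coneq c w).wφ, (coneq c' w).wφ]
  refine ⟨⟨eqToHom (c.hpt.trans c'.hpt.symm), t, heqv, IsPullback.of_horiz_isIso ⟨hτ⟩, hφ⟩,
    ⟨rfl, fun w => AlgSt.QuotObj.hom_ext ?_ (ht w)⟩, fun ψ hψ => AlgSt.QuotObj.hom_ext hψ.1 ?_⟩
  · show (coneq c w).base ≫ eqToHom (c.hpt.trans c'.hpt.symm) = (coneq c' w).base
    rw [show (coneq c w).base = memEq H w ≫ w.obj.hom ≫ eqToHom c.hpt.symm from c.hq w,
      show (coneq c' w).base = memEq H w ≫ w.obj.hom ≫ eqToHom c'.hpt.symm from c'.hq w]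
    simp
  · exact htu _ fun w => congrArg AlgSt.QuotObj.Hom.top (hψ.2 w)

omit hR in
lemma loc_glued (hR : R ∈ AlgSp.J S U) {P : Over S} (π : P ⟶ U) (q : ∀ w, (mem H w).P ⟶ P)
    (hq : ∀ w, q w ≫ π = memτ H w ≫ w.obj.hom) :
    NonAbH1.IsLocallyTrivialFor Scheme.fppfPrecoverage (Over.mk π.left : Over U.left) := by
  have hR' := (GrothendieckTopology.mem_over_iff (J := Scheme.fppfTopology) (Y := U) R).1 hR
  obtain ⟨R₀, hR₀, hle⟩ := (Precoverage.mem_toGrothendieck_iff_of_isStableUnderComposition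
    (J := Scheme.fppfPrecoverage)).1 hR'
  obtain ⟨I, Z, f, rfl⟩ := R₀.exists_eq_ofArrows
  let w : I → SheafGlue.Idx R := fun i => SheafGlue.idx (Over.homMk (f i) rfl : Over.mk (f i ≫ U.hom) ⟶ U)
    ((Sieve.overEquiv_iff (Y := U) R (f i)).1 (hle _ _ ⟨i⟩))
  have key : ∀ i, ∃ R₁ ∈ Scheme.fppfPrecoverage (Z i), ∀ ⦃Z' : Scheme.{u}⦄ (g : Z' ⟶ Z i), R₁ g →
      ∃ s : Z' ⟶ P.left, s ≫ π.left = g ≫ f i := by
    intro i
    have ew : (mem H (w i)).base = Over.mk (f i ≫ U.hom) := H.w_obj (w i)
    let e : Z i ⟶ (mem H (w i)).base.left := (eqToHom ew.symm).left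
    have hee : e ≫ (memEq H (w i)).left = 𝟙 (Z i) := by
      show (eqToHom ew.symm).left ≫ (eqToHom (H.w_obj (w i))).left = _
      rw [← Over.comp_left, eqToHom_trans]
      rfl
    obtain ⟨R₁, hR₁, hs₁⟩ := (mem H (w i)).loc
    refine ⟨_, Precoverage.pullbackArrows_mem (J := Scheme.fppfPrecoverage) e hR₁, fun Z' g hg => ?_⟩
    cases hg with
    | mk W i' hi' =>
      obtain ⟨s, hs⟩ := hs₁ i' hi'
      have hs'' : s ≫ (mem H (w i)).π.left = i' := hs
      refine ⟨pullback.fst i' e ≫ s ≫ (q (w i)).left, ?_⟩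
      have h₂ : (q (w i)).left ≫ π.left = (mem H (w i)).π.left ≫ (memEq H (w i)).left ≫ f i := by
        rw [← Over.comp_left, hq]
        exact Category.assoc _ _ _
      rw [Category.assoc, Category.assoc, h₂, reassoc_of% hs'', pullback.condition_assoc, reassoc_of% hee]
  choose R₁ hR₁ hs using key
  choose J W g hR₁' using fun i => (R₁ i).exists_eq_ofArrows
  refine ⟨_, Precoverage.comp_mem_coverings f hR₀ g (fun i => hR₁' i ▸ hR₁ i), ?_⟩
  rintro Z' k ⟨⟨i, j⟩⟩
  exact hs i (g i j) (by rw [hR₁' i]; exact ⟨j⟩)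

variable (H) in
omit hR in
/-- the diagram of the total sheaves -/
def datum : SheafGlue.Datum R where
  D := H.toFunctor ⋙
    { obj := fun A : AlgSt.QuotObj Scheme.fppfPrecoverage G aX => (yon S).obj A.P
      map := fun f => (yon S).map f.top
      map_id := fun A => (yon S).map_id A.P
      map_comp := fun f g => (yon S).map_comp f.top g.top }
  τ w := (yon S).map (memτ H w)
  cart m := (memMap_sq H m).map (yon S)

variable (H) in
theorem exists_cone [IsAffineHom G.hom] : Nonempty (StackCrit.Cone H) := by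
  obtain ⟨Z, π', q', qnat', qsq'⟩ := SheafGlue.exists_glue (datum H) hR
  obtain ⟨P, π, i, hi⟩ := exists_scheme_of_affine_locally hR π' fun w => by
    refine ⟨(mem H w).P, memτ H w, q' w, qsq' w, ?_⟩
    haveI : IsAffineHom (mem H w).π.left := isAffineHom_π _
    haveI : IsIso (memEq H w).left := Functor.map_isIso (Over.forget S) _
    show IsAffineHom ((mem H w).π.left ≫ (memEq H w).left)
    infer_instance
  have hq₀ : ∀ w, ∃ q : (mem H w).P ⟶ P, (yon S).map q = q' w ≫ i.inv := fun w => (yon S).map_surjective _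
  choose q hq using hq₀
  have sq : ∀ w, IsPullback (q w) (memτ H w) π w.obj.hom := fun w => by
    refine IsPullback.of_map_of_faithful (yon S) ?_
    rw [hq, ← hi]
    exact (qsq' w).of_iso (Iso.refl _) i.symm (Iso.refl _) (Iso.refl _) (by simp) (by simp; rfl) (by simp) (by simp)
  have qnat : ∀ {w' w : SheafGlue.Idx R} (m : w' ⟶ w), (memMap H m).top ≫ q w = q w' := fun {w' w} m =>
    (yon S).map_injective (by
      rw [Functor.map_comp, hq, hq, ← Category.assoc]
      exact congrArg (· ≫ i.inv) (qnat' m))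
  have sqK : ∀ (K : Over S) (w : SheafGlue.Idx R), IsPullback (K ◁ q w) (snd K _ ≫ memτ H w)
      (snd K P ≫ π) w.obj.hom := fun K w => (AlgSt.isPullback_whiskerLeft (q w)).paste_vert (sq w)
  obtain ⟨a, ha, -⟩ := desc hR (sqK G) (fun w => (mem H w).act.act ≫ q w) fun w' w m d h₁ h₂ => by
    have hd : d = G ◁ (memMap H m).top := (sqK G w).hom_ext
      (h₁.trans (by rw [← MonoidalCategory.whiskerLeft_comp, qnat])) (h₂.trans (by
        rw [whiskerLeft_snd_assoc, (memMap_sq H m).w, Category.assoc]))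
    rw [hd, ← reassoc_of% (memMap H m).eqv, qnat]
  let act : AlgGrp.Action G P :=
    { act := a
      one_act := desc_ext hR (sqK _) fun w => by
        rw [whisker_exchange_assoc, ha, reassoc_of% (mem H w).act.one_act, leftUnitor_naturality]
      mul_act := desc_ext hR (sqK _) fun w => by
        rw [whisker_exchange_assoc, ha, reassoc_of% (mem H w).act.mul_act, associator_naturality_right_assoc,
          ← MonoidalCategory.whiskerLeft_comp_assoc, ha, MonoidalCategory.whiskerLeft_comp_assoc, ha] }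
  have haπ : a ≫ π = snd G P ≫ π := desc_ext hR (sqK G) fun w => by
    rw [reassoc_of% (ha w), (sq w).w, whiskerLeft_snd_assoc, (sq w).w, memτ, Category.assoc,
      reassoc_of% (mem H w).cart.w]
  have hc : IsPullback a (snd G P) π π := by
    refine IsPullback.of_map_of_faithful (yon S) ?_
    refine SheafGlue.isPullback_local hR (by rw [← Functor.map_comp, ← Functor.map_comp, haπ])
      (fun w => (sq w).map (yon S)) (qM := fun w => (yon S).map (G ◁ q w))
      (fw := fun w => (yon S).map (mem H w).act.act) (gw := fun w => (yon S).map (snd G _))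
      (fun w => by rw [← Functor.map_comp, ← Functor.map_comp]; exact (sqK G w).map (yon S))
      (fun w => ((mem H w).cart.of_iso (Iso.refl _) (Iso.refl _) (Iso.refl _) (eqToIso (H.w_obj w))
        (by simp) (by simp) (by simp [memτ]) (by simp [memτ])).map (yon S))
      (fun w => by rw [← Functor.map_comp, ← Functor.map_comp, ha])
      (fun w => by rw [← Functor.map_comp, ← Functor.map_comp, whiskerLeft_snd])
  obtain ⟨φ, hφ, -⟩ := desc hR sq (fun w => (mem H w).φ) fun w' w m d h₁ h₂ => by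
    have hd : d = (memMap H m).top := (sq w).hom_ext (h₁.trans (qnat m).symm) (h₂.trans (memMap_sq H m).w.symm)
    rw [hd, (memMap H m).wφ]
  let A : AlgSt.QuotObj Scheme.fppfPrecoverage G aX :=
    { base := U, P := P, act := act, π := π, cart := hc, loc := loc_glued hR π q (fun w => (sq w).w), φ := φ
      eqv := desc_ext hR (sqK G) fun w => by
        rw [reassoc_of% (ha w), hφ, (mem H w).eqv, ← MonoidalCategory.whiskerLeft_comp_assoc, hφ] }
  exact ⟨{ pt := A, hpt := rfl
           q := fun w =>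
            { base := memEq H w ≫ w.obj.hom
              top := q w
              eqv := (ha w).symm
              cart := IsPullback.of_bot (h₂₁ := memEq H w ≫ w.obj.hom) (v₂₁ := memEq H w) (v₂₂ := 𝟙 U)
                (h₃₁ := w.obj.hom) (by rw [Category.comp_id]; exact sq w) (by rw [(sq w).w, Category.assoc])
                (IsPullback.of_vert_isIso ⟨Category.comp_id _⟩)
              wφ := hφ w }
           hq := fun w => (congrArg (memEq H w ≫ ·) (Category.comp_id w.obj.hom)).symm
           nat := fun {w' w} m => AlgSt.QuotObj.hom_ext (by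
             show (memMap H m).base ≫ memEq H w ≫ w.obj.hom = memEq H w' ≫ w'.obj.hom
             rw [← Category.assoc, memMap_base, Category.assoc]
             exact congrArg (memEq H w' ≫ ·) (Over.w m.hom)) (qnat m) }⟩

omit hR in
/-- quotient categories with scheme torsors under affine groups are stacks -/
theorem isStack (G : Over S) [GrpObj G] [IsAffineHom G.hom] (aX : AlgGrp.Action G X) :
    Stk.IsStack (AlgSp.J S) (AlgSt.QuotSt Scheme.fppfPrecoverage G aX) :=
  ⟨isFibGrpd G aX, fun _ _ hR => StackCrit.isStackFor_of_cones (isFibGrpd G aX)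
    (fun _ c c' => existsUnique_hom hR c c') (fun H => exists_cone H hR)⟩

end Groth.Agent.AlgStLib.Quot

end
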