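import Groth.Prelude.Def_AlgSt
import Groth.Prelude.Def_AlgSp
import Mathlib.CategoryTheory.Limits.Types.Pullbacks
import Mathlib.CategoryTheory.Limits.Preserves.Finite

/-!
# Gluing sheaves given on a covering sieve

A cartesian diagram of sheaves over the members of a covering sieve `R` of `U` has a glued sheaf
over `h_U`, which is its colimit.
-/

set_option autoImplicit false
set_option backward.isDefEq.respectTransparency false
set_option backward.isDefEq.respectTransparency.types false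
universe u

noncomputable section

namespace Groth.Agent.AlgStLib.SheafGlue

open CategoryTheory CategoryTheory.Limits AlgebraicGeometry Opposite
open _root_.AlgSp

variable {S : Scheme.{u}}

/-- sections -/
abbrev Sec (F : Sp S) (V : Over S) : Type (u + 1) := F.obj.obj (op V)

/-- restriction of sections -/
abbrev res (F : Sp S) {V V' : Over S} (g : V' ⟶ V) (x : Sec F V) : Sec F V' := F.obj.map g.op x

/-- action of a morphism of sheaves on sections -/
abbrev app {F F' : Sp S} (φ : F ⟶ F') {V : Over S} (x : Sec F V) : Sec F' V := φ.hom.app (op V) x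

lemma res_comp (F : Sp S) {V V' V'' : Over S} (g' : V'' ⟶ V') (g : V' ⟶ V) (x : Sec F V) :
    res F g' (res F g x) = res F (g' ≫ g) x := by simp [res]

lemma res_id (F : Sp S) {V : Over S} (x : Sec F V) : res F (𝟙 V) x = x := by simp [res]

lemma app_res {F F' : Sp S} (φ : F ⟶ F') {V V' : Over S} (g : V' ⟶ V) (x : Sec F V) :
    app φ (res F g x) = res F' g (app φ x) :=
  NatTrans.naturality_apply φ.hom g.op x

lemma hom_ext' {F F' : Sp S} {φ ψ : F ⟶ F'} (h : ∀ (V : Over S) (x : Sec F V), app φ x = app ψ x) : φ = ψ := by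
  ext V x
  exact h V.unop x

lemma sec_ext (F : Sp S) {W : Over S} (T : Sieve W) (hT : T ∈ AlgSp.J S W) {a b : Sec F W}
    (h : ∀ ⦃V : Over S⦄ (k : V ⟶ W), T k → res F k a = res F k b) : a = b :=
  ((((isSheaf_iff_isSheaf_of_type _ _).1 F.property) T hT).isSeparatedFor).ext h

lemma exists_amalgamation (F : Sp S) {W : Over S} (T : Sieve W) (hT : T ∈ AlgSp.J S W)
    (x : ∀ ⦃V : Over S⦄ (k : V ⟶ W), T k → Sec F V)
    (hx : ∀ ⦃V V' : Over S⦄ (l : V' ⟶ V) (k : V ⟶ W) (hk : T k),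
      res F l (x k hk) = x (l ≫ k) (T.downward_closed hk l)) :
    ∃ a : Sec F W, ∀ ⦃V : Over S⦄ (k : V ⟶ W) (hk : T k), res F k a = x k hk := by
  obtain ⟨a, ha, -⟩ := ((isSheaf_iff_isSheaf_of_type _ _).1 F.property) T hT (fun V k hk => x k hk)
    ((Presieve.compatible_iff_sieveCompatible _).2 fun Y Z k l hk => (hx l k hk).symm)
  exact ⟨a, ha⟩

lemma pb_sec {P X Y Z : Sp S} {p : P ⟶ X} {q : P ⟶ Y} {f : X ⟶ Z} {g : Y ⟶ Z} (sq : IsPullback p q f g)
    (V : Over S) :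
    (∀ a b : Sec P V, app p a = app p b → app q a = app q b → a = b) ∧
    (∀ (x : Sec X V) (y : Sec Y V), app f x = app g y → ∃ a : Sec P V, app p a = x ∧ app q a = y) := by
  have h := (Types.isPullback_iff _ _ _ _).1
    (sq.map (sheafToPresheaf (AlgSp.J S) (Type (u + 1)) ⋙ (evaluation _ _).obj (op V)))
  exact ⟨fun a b h₁ h₂ => h.2.1 a b ⟨h₁, h₂⟩, fun x y e => h.2.2 x y e⟩

lemma isPullback_of_sec {P X Y Z : Sp S} {p : P ⟶ X} {q : P ⟶ Y} {f : X ⟶ Z} {g : Y ⟶ Z}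
    (w : p ≫ f = q ≫ g) (h₁ : ∀ (V : Over S) (a b : Sec P V), app p a = app p b → app q a = app q b → a = b)
    (h₂ : ∀ (V : Over S) (x : Sec X V) (y : Sec Y V), app f x = app g y →
      ∃ a : Sec P V, app p a = x ∧ app q a = y) : IsPullback p q f g := by
  refine IsPullback.of_map (sheafToPresheaf (AlgSp.J S) (Type (u + 1))) w ?_
  rw [IsPullback.iff_app]
  intro V
  refine (Types.isPullback_iff _ _ _ _).2 ⟨?_, fun a b hh => h₁ V.unop a b hh.1 hh.2, fun x y e => h₂ V.unop x y e⟩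
  exact congrArg (fun t => t.hom.app V) w

variable {U : Over S} (R : Sieve U)

/-- the members of the sieve -/
abbrev Idx := (Stk.sieveCat R).obj

variable {R}

/-- the member given by an arrow in the sieve -/
abbrev idx {V : Over S} (f : V ⟶ U) (hf : R f) : Idx R := ⟨Over.mk f, hf⟩

variable (R)

/-- A cartesian diagram of sheaves over the members of a sieve. -/
structure Datum where
  D : Idx R ⥤ Sp S
  τ : ∀ w : Idx R, D.obj w ⟶ (yon S).obj w.obj.left
  cart : ∀ {w' w : Idx R} (m : w' ⟶ w), IsPullback (D.map m) (τ w') (τ w) ((yon S).map m.hom.left)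

variable {R} (𝒟 : Datum R)

/-- the arrow under a section -/
abbrev Datum.arr {w : Idx R} {V : Over S} (y : Sec (𝒟.D.obj w) V) : V ⟶ w.obj.left := (app (𝒟.τ w) y).down

lemma Datum.arr_res {w : Idx R} {V V' : Over S} (g : V' ⟶ V) (y : Sec (𝒟.D.obj w) V) :
    𝒟.arr (res _ g y) = g ≫ 𝒟.arr y := congrArg ULift.down (app_res (𝒟.τ w) g y)

lemma Datum.arr_map {w' w : Idx R} (m : w' ⟶ w) {V : Over S} (y : Sec (𝒟.D.obj w') V) :
    𝒟.arr (app (𝒟.D.map m) y) = 𝒟.arr y ≫ m.hom.left :=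
  congrArg ULift.down (congrArg (fun t => app t y) (𝒟.cart m).w :)

lemma Datum.app_map_comp {w'' w' w : Idx R} (m' : w'' ⟶ w') (m : w' ⟶ w) {V : Over S}
    (y : Sec (𝒟.D.obj w'') V) : app (𝒟.D.map m) (app (𝒟.D.map m') y) = app (𝒟.D.map (m' ≫ m)) y := by
  rw [𝒟.D.map_comp]; rfl

lemma Datum.lift_ext {w' w : Idx R} (m : w' ⟶ w) {V : Over S} {a b : Sec (𝒟.D.obj w') V}
    (h₁ : app (𝒟.D.map m) a = app (𝒟.D.map m) b) (h₂ : 𝒟.arr a = 𝒟.arr b) : a = b :=
  (pb_sec (𝒟.cart m) V).1 a b h₁ (ULift.ext _ _ h₂)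

lemma Datum.exists_lift {w' w : Idx R} (m : w' ⟶ w) {V : Over S} (y : Sec (𝒟.D.obj w) V)
    (a : V ⟶ w'.obj.left) (h : a ≫ m.hom.left = 𝒟.arr y) :
    ∃ z : Sec (𝒟.D.obj w') V, app (𝒟.D.map m) z = y ∧ 𝒟.arr z = a := by
  obtain ⟨z, h₁, h₂⟩ := (pb_sec (𝒟.cart m) V).2 y ⟨a⟩ (ULift.ext _ _ h.symm)
  exact ⟨z, h₁, congrArg ULift.down h₂⟩

/-- A section of the glued sheaf over `W`. -/
@[ext]
structure GSec (W : Over S) where
  v : W ⟶ U
  x : ∀ (w : Idx R) (g : w.obj.left ⟶ W), g ≫ v = w.obj.hom → Sec (𝒟.D.obj w) w.obj.left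
  arr_x : ∀ w g h, 𝒟.arr (x w g h) = 𝟙 w.obj.left
  compat : ∀ {w' w : Idx R} (m : w' ⟶ w) (g : w.obj.left ⟶ W) (h : g ≫ v = w.obj.hom)
    (h' : (m.hom.left ≫ g) ≫ v = w'.obj.hom),
    app (𝒟.D.map m) (x w' (m.hom.left ≫ g) h') = res _ m.hom.left (x w g h)

namespace GSec

variable {𝒟}

lemma x_congr {W : Over S} (s : GSec 𝒟 W) (w : Idx R) {g g' : w.obj.left ⟶ W} (e : g = g')
    (h : g ≫ s.v = w.obj.hom) : s.x w g h = s.x w g' (e ▸ h) := by subst e; rfl

lemma x_congr' {W : Over S} {s t : GSec 𝒟 W} (e : s = t) (w : Idx R) {g g' : w.obj.left ⟶ W} (eg : g = g')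
    (h : g ≫ s.v = w.obj.hom) (h' : g' ≫ t.v = w.obj.hom) : s.x w g h = t.x w g' h' := by subst e eg; rfl

lemma ext' {W : Over S} {s t : GSec 𝒟 W} (hv : s.v = t.v)
    (hx : ∀ w g (h : g ≫ s.v = w.obj.hom), s.x w g h = t.x w g (hv ▸ h)) : s = t := by
  obtain ⟨v, x, a, c⟩ := s
  obtain ⟨v', x', a', c'⟩ := t
  obtain rfl : v = v' := hv
  congr 1
  funext w g h
  exact hx w g h

/-- restriction -/
def pull {W W' : Over S} (h : W' ⟶ W) (s : GSec 𝒟 W) : GSec 𝒟 W' where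
  v := h ≫ s.v
  x w g e := s.x w (g ≫ h) ((Category.assoc _ _ _).trans e)
  arr_x w g e := s.arr_x _ _ _
  compat {w' w} m g e e' := by
    refine Eq.trans ?_ (s.compat m (g ≫ h) ((Category.assoc _ _ _).trans e) ?_)
    · exact congrArg _ (s.x_congr w' (Category.assoc _ _ _) _)
    · rw [← e']; simp only [Category.assoc]

end GSec

/-- the presheaf of glued sections -/
def gluedPsh : (Over S)ᵒᵖ ⥤ Type (u + 1) where
  obj W := GSec 𝒟 W.unop
  map h := TypeCat.ofHom fun s => s.pull h.unop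
  map_id W := by
    ext s : 3
    refine GSec.ext' (Category.id_comp _) fun w g h => ?_
    exact s.x_congr w (Category.comp_id g) _
  map_comp {W W' W''} f f' := by
    ext s : 3
    refine GSec.ext' (Category.assoc _ _ _) fun w g h => ?_
    exact s.x_congr w (Category.assoc g f'.unop f.unop).symm _

/-- the member `k ≫ w → w` -/
abbrev liftIdx (w : Idx R) {V : Over S} (k : V ⟶ w.obj.left) : Idx R :=
  idx (k ≫ w.obj.hom) (R.downward_closed w.property k)

/-- its map to `w` -/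
abbrev liftMap (w : Idx R) {V : Over S} (k : V ⟶ w.obj.left) : liftIdx w k ⟶ w :=
  ObjectProperty.homMk (Over.homMk k)

section amalg

variable {W : Over S} {T : Sieve W} (hT : T ∈ AlgSp.J S W)
  (x : ∀ ⦃V : Over S⦄ (k : V ⟶ W), T k → GSec 𝒟 V)
  (hx : ∀ ⦃V V' : Over S⦄ (l : V' ⟶ V) (k : V ⟶ W) (hk : T k),
    x (l ≫ k) (T.downward_closed hk l) = GSec.pull l (x k hk))
include hT hx

lemma exists_v : ∃ v : W ⟶ U, ∀ ⦃V : Over S⦄ (k : V ⟶ W) (hk : T k), k ≫ v = (x k hk).v := by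
  obtain ⟨v, hv⟩ := exists_amalgamation ((yon S).obj U) T hT (fun V k hk => ⟨(x k hk).v⟩)
    (fun V V' l k hk => congrArg (fun s : GSec 𝒟 V' => (⟨s.v⟩ : Sec ((yon S).obj U) V')) (hx l k hk).symm)
  exact ⟨v.down, fun V k hk => congrArg ULift.down (hv k hk)⟩

omit hT in
lemma x_congrArg {V : Over S} {k k' : V ⟶ W} (e : k = k') (h : T k) (h' : T k') : x k h = x k' h' := by
  subst e; rfl

variable {v : W ⟶ U} (hv : ∀ ⦃V : Over S⦄ (k : V ⟶ W) (hk : T k), k ≫ v = (x k hk).v)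
include hv

omit hT hx in
lemma locCond (w : Idx R) (g : w.obj.left ⟶ W) (h : g ≫ v = w.obj.hom) {V : Over S} (k : V ⟶ w.obj.left)
    (hk : T (k ≫ g)) : 𝟙 V ≫ (x (k ≫ g) hk).v = k ≫ w.obj.hom := by
  rw [Category.id_comp, ← hv _ hk, Category.assoc, h]

/-- the local value -/
def locVal (w : Idx R) (g : w.obj.left ⟶ W) (h : g ≫ v = w.obj.hom) {V : Over S} (k : V ⟶ w.obj.left)
    (hk : T (k ≫ g)) : Sec (𝒟.D.obj w) V :=
  app (𝒟.D.map (liftMap w k)) ((x (k ≫ g) hk).x (liftIdx w k) (𝟙 V) (locCond 𝒟 x hv w g h k hk))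

lemma exists_y (w : Idx R) (g : w.obj.left ⟶ W) (h : g ≫ v = w.obj.hom) :
    ∃ y : Sec (𝒟.D.obj w) w.obj.left, ∀ ⦃V : Over S⦄ (k : V ⟶ w.obj.left) (hk : T (k ≫ g)),
      res _ k y = locVal 𝒟 x hv w g h k hk := by
  obtain ⟨y, hy⟩ := exists_amalgamation (𝒟.D.obj w) (T.pullback g) ((AlgSp.J S).pullback_stable g hT)
    (fun V k hk => app (𝒟.D.map (liftMap w k))
      ((x (k ≫ g) hk).x (liftIdx w k) (𝟙 V) (locCond 𝒟 x hv w g h k hk))) (fun V V' l k hk => by
    let m : liftIdx w (l ≫ k) ⟶ liftIdx w k := ObjectProperty.homMk (Over.homMk l (Category.assoc _ _ _).symm)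
    have hm : m ≫ liftMap w k = liftMap w (l ≫ k) := ObjectProperty.hom_ext _ (Over.OverMorphism.ext rfl)
    have e1 : (l ≫ 𝟙 V) ≫ (x (k ≫ g) hk).v = (l ≫ k) ≫ w.obj.hom := by
      rw [Category.comp_id, Category.assoc, ← locCond 𝒟 x hv w g h k hk, Category.id_comp]
    have hc := (x (k ≫ g) hk).compat m (𝟙 V) (locCond 𝒟 x hv w g h k hk) e1
    refine ((app_res (𝒟.D.map (liftMap w k)) l _).symm.trans (congrArg (app _) hc.symm)).trans
      ((𝒟.app_map_comp m (liftMap w k) _).trans ?_)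
    rw [hm]
    congr 1
    have hlk : T ((l ≫ k) ≫ g) := by rw [Category.assoc]; exact T.downward_closed hk l
    have e3 : x ((l ≫ k) ≫ g) hlk = GSec.pull l (x (k ≫ g) hk) :=
      (x_congrArg 𝒟 x hx (Category.assoc l k g) _ _).trans (hx l (k ≫ g) hk)
    refine Eq.symm ((GSec.x_congr' e3 _ rfl _ ?_).trans ((x (k ≫ g) hk).x_congr _ ?_ _))
    · show 𝟙 V' ≫ l ≫ (x (k ≫ g) hk).v = (l ≫ k) ≫ w.obj.hom
      rw [Category.id_comp, ← hv _ hk]; simp [h]
    · show 𝟙 V' ≫ l = l ≫ 𝟙 V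
      simp)
  exact ⟨y, fun V k hk => hy k hk⟩

variable {y : ∀ (w : Idx R) (g : w.obj.left ⟶ W), g ≫ v = w.obj.hom → Sec (𝒟.D.obj w) w.obj.left}
  (hy : ∀ w g (h : g ≫ v = w.obj.hom) ⦃V : Over S⦄ (k : V ⟶ w.obj.left) (hk : T (k ≫ g)),
    res _ k (y w g h) = locVal 𝒟 x hv w g h k hk)
include hy

lemma arr_y (w : Idx R) (g : w.obj.left ⟶ W) (h : g ≫ v = w.obj.hom) : 𝒟.arr (y w g h) = 𝟙 w.obj.left := by
  refine congrArg ULift.down (sec_ext ((yon S).obj w.obj.left) (T.pullback g)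
    ((AlgSp.J S).pullback_stable g hT) (a := (⟨𝒟.arr (y w g h)⟩ : Sec ((yon S).obj w.obj.left) _))
    (b := ⟨𝟙 _⟩) fun V k hk => ULift.ext _ _ ?_)
  show k ≫ 𝒟.arr (y w g h) = k ≫ 𝟙 _
  rw [← 𝒟.arr_res, hy w g h k hk, locVal, 𝒟.arr_map]
  exact (congrArg (· ≫ _) ((x (k ≫ g) hk).arr_x _ _ _)).trans ((Category.id_comp _).trans (Category.comp_id k).symm)

set_option maxHeartbeats 400000 in
lemma compat_y {w' w : Idx R} (m : w' ⟶ w) (g : w.obj.left ⟶ W) (h : g ≫ v = w.obj.hom)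
    (h' : (m.hom.left ≫ g) ≫ v = w'.obj.hom) :
    app (𝒟.D.map m) (y w' (m.hom.left ≫ g) h') = res _ m.hom.left (y w g h) := by
  refine sec_ext (𝒟.D.obj w) (T.pullback (m.hom.left ≫ g)) ((AlgSp.J S).pullback_stable _ hT) fun V k hk => ?_
  have hk₂ : T ((k ≫ m.hom.left) ≫ g) := by rw [Category.assoc]; exact hk
  have E₁ := locCond 𝒟 x hv w' (m.hom.left ≫ g) h' k hk
  have E₂ := locCond 𝒟 x hv w g h (k ≫ m.hom.left) hk₂
  rw [res_comp, hy w g h (k ≫ m.hom.left) hk₂, ← app_res, hy w' _ h' k hk, locVal, locVal, 𝒟.app_map_comp]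
  let θ : liftIdx w' k ⟶ liftIdx w (k ≫ m.hom.left) := ObjectProperty.homMk (Over.homMk (𝟙 V) (by
    show 𝟙 V ≫ (k ≫ m.hom.left) ≫ w.obj.hom = k ≫ w'.obj.hom
    rw [Category.id_comp, Category.assoc, Over.w m.hom]))
  have hθ : θ ≫ liftMap w (k ≫ m.hom.left) = liftMap w' k ≫ m :=
    ObjectProperty.hom_ext _ (Over.OverMorphism.ext (Category.id_comp _))
  have ex : x ((k ≫ m.hom.left) ≫ g) hk₂ = x (k ≫ m.hom.left ≫ g) hk :=
    x_congrArg 𝒟 x hx (Category.assoc _ _ _) _ _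
  have E₂' : (𝟙 V ≫ 𝟙 V) ≫ (x ((k ≫ m.hom.left) ≫ g) hk₂).v = k ≫ w'.obj.hom := by
    rw [Category.id_comp, ex]; exact E₁
  have hc := (x ((k ≫ m.hom.left) ≫ g) hk₂).compat θ (𝟙 V) E₂ E₂'
  rw [← hθ, ← 𝒟.app_map_comp]
  refine congrArg (app (𝒟.D.map (liftMap w (k ≫ m.hom.left)))) ?_
  have e := GSec.x_congr' (𝒟 := 𝒟) (s := x (k ≫ m.hom.left ≫ g) hk) (t := x ((k ≫ m.hom.left) ≫ g) hk₂) ex.symm
    (liftIdx w' k) (g := 𝟙 V) (g' := θ.hom.left ≫ 𝟙 V) (Category.id_comp (𝟙 V)).symm E₁ E₂'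
  rw [e]
  exact hc.trans (res_id _ _)

/-- the amalgamated section -/
def amalg : GSec 𝒟 W where
  v := v
  x := y
  arr_x := arr_y 𝒟 hT x hx hv hy
  compat := compat_y 𝒟 hT x hx hv hy

lemma pull_amalg {V : Over S} (k : V ⟶ W) (hk : T k) : GSec.pull k (amalg 𝒟 hT x hx hv hy) = x k hk := by
  refine GSec.ext' (hv k hk) fun w g h => ?_
  show y w (g ≫ k) _ = _
  have h₁ : (g ≫ k) ≫ v = w.obj.hom := (Category.assoc _ _ _).trans h
  have hk₁ : T (𝟙 w.obj.left ≫ g ≫ k) := by rw [Category.id_comp]; exact T.downward_closed hk g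
  have := hy w (g ≫ k) h₁ (𝟙 _) hk₁
  rw [res_id] at this
  rw [this, locVal]
  have ex : x (𝟙 w.obj.left ≫ g ≫ k) hk₁ = GSec.pull g (x k hk) :=
    (x_congrArg 𝒟 x hx (Category.id_comp _) _ (T.downward_closed hk g)).trans (hx g k hk)
  have hgv : g ≫ (x k hk).v = w.obj.hom := by rw [← hv k hk]; exact h
  have E' : (𝟙 w.obj.left ≫ g) ≫ (x k hk).v = 𝟙 w.obj.left ≫ w.obj.hom := by
    rw [Category.assoc, hgv]
  refine (congrArg (app _) (GSec.x_congr' ex _ rfl (locCond 𝒟 x hv w (g ≫ k) h₁ (𝟙 _) hk₁)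
    ((Category.assoc _ _ _).symm.trans E'))).trans ?_
  exact ((x k hk).compat (liftMap w (𝟙 _)) g hgv E').trans (res_id _ _)

lemma eq_amalg (t : GSec 𝒟 W) (ht : ∀ ⦃V : Over S⦄ (k : V ⟶ W) (hk : T k), GSec.pull k t = x k hk) :
    t = amalg 𝒟 hT x hx hv hy := by
  have hv₂ : t.v = v := congrArg ULift.down (sec_ext ((yon S).obj U) T hT (a := (⟨t.v⟩ : Sec ((yon S).obj U) W))
    (b := ⟨v⟩) fun V k hk => ULift.ext _ _ ((congrArg GSec.v (ht k hk)).trans (hv k hk).symm))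
  refine GSec.ext' hv₂ fun w g h => ?_
  show _ = y w g _
  refine sec_ext (𝒟.D.obj w) (T.pullback g) ((AlgSp.J S).pullback_stable _ hT) fun V k hk => ?_
  rw [hy w g _ k hk, locVal]
  have E' : (k ≫ g) ≫ t.v = k ≫ w.obj.hom := by rw [Category.assoc, h]
  refine ((t.compat (liftMap w k) g h E').symm).trans (congrArg (app _) ?_)
  have E'' : 𝟙 V ≫ (GSec.pull (k ≫ g) t).v = k ≫ w.obj.hom := (Category.id_comp _).trans E'
  exact (GSec.x_congr' (s := t) (t := t) rfl (liftIdx w k) (Category.id_comp (k ≫ g)).symm E'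
      ((Category.assoc _ _ _).trans E'')).trans
    (GSec.x_congr' (s := GSec.pull (k ≫ g) t) (ht (k ≫ g) hk) (liftIdx w k) rfl E'' (locCond 𝒟 x hv w g (hv₂ ▸ h) k hk))

end amalg

theorem isSheaf_gluedPsh (hR : R ∈ AlgSp.J S U) : Presheaf.IsSheaf (AlgSp.J S) (gluedPsh 𝒟) := by
  refine (isSheaf_iff_isSheaf_of_type _ _).2 fun W T hT x hx => ?_
  have hxs : ∀ ⦃V V' : Over S⦄ (l : V' ⟶ V) (k : V ⟶ W) (hk : T k),
      x (l ≫ k) (T.downward_closed hk l) = GSec.pull l (x k hk) := fun V V' l k hk =>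
    (Presieve.compatible_iff_sieveCompatible _).1 hx k l hk
  obtain ⟨v, hv⟩ := exists_v 𝒟 hT x hxs
  choose y hy using exists_y 𝒟 hT x hxs hv
  exact ⟨amalg 𝒟 hT x hxs hv hy, fun V k hk => pull_amalg 𝒟 hT x hxs hv hy k hk,
    fun t ht => eq_amalg 𝒟 hT x hxs hv hy t fun V k hk => ht k hk⟩

/-- the glued sheaf -/
def glued (hR : R ∈ AlgSp.J S U) : Sp S := ⟨gluedPsh 𝒟, isSheaf_gluedPsh 𝒟 hR⟩

variable (hR : R ∈ AlgSp.J S U)

/-- the structure map of the glued sheaf -/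
def gluedπ : glued 𝒟 hR ⟶ (yon S).obj U :=
  ⟨{ app := fun W => TypeCat.ofHom fun s : GSec 𝒟 W.unop => (ULift.up.{u + 1} s.v : Sec ((yon S).obj U) W.unop)
     naturality := fun W W' f => by ext s; rfl }⟩

lemma exists_qx (w : Idx R) {W : Over S} (z : Sec (𝒟.D.obj w) W) (w' : Idx R) (g : w'.obj.left ⟶ W)
    (e : g ≫ 𝒟.arr z ≫ w.obj.hom = w'.obj.hom) :
    ∃ a : Sec (𝒟.D.obj w') w'.obj.left,
      app (𝒟.D.map (ObjectProperty.homMk (Over.homMk (g ≫ 𝒟.arr z) ((Category.assoc _ _ _).trans e)) : w' ⟶ w)) a =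
        res _ g z ∧ 𝒟.arr a = 𝟙 w'.obj.left :=
  𝒟.exists_lift _ (res _ g z) (𝟙 _) ((Category.id_comp _).trans (𝒟.arr_res g z).symm)

/-- the section of the glued sheaf defined by a section over a member -/
def qSec (w : Idx R) {W : Over S} (z : Sec (𝒟.D.obj w) W) : GSec 𝒟 W where
  v := 𝒟.arr z ≫ w.obj.hom
  x w' g e := (exists_qx 𝒟 w z w' g e).choose
  arr_x w' g e := (exists_qx 𝒟 w z w' g e).choose_spec.2
  compat {w'' w'} m g e e' := by
    let m₁ : w' ⟶ w := ObjectProperty.homMk (Over.homMk (g ≫ 𝒟.arr z) ((Category.assoc _ _ _).trans e))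
    refine 𝒟.lift_ext m₁ ?_ ?_
    · have hm : m ≫ m₁ = ObjectProperty.homMk (Over.homMk ((m.hom.left ≫ g) ≫ 𝒟.arr z)
          ((Category.assoc _ _ _).trans e')) :=
        ObjectProperty.hom_ext _ (Over.OverMorphism.ext (Category.assoc _ _ _).symm)
      rw [𝒟.app_map_comp, hm, (exists_qx 𝒟 w z w'' _ e').choose_spec.1, app_res,
        (exists_qx 𝒟 w z w' g e).choose_spec.1, res_comp]
    · rw [𝒟.arr_map, 𝒟.arr_res, (exists_qx 𝒟 w z w'' _ e').choose_spec.2,
        (exists_qx 𝒟 w z w' g e).choose_spec.2]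
      exact (Category.id_comp _).trans (Category.comp_id _).symm

lemma qSec_unique (w : Idx R) {W : Over S} (z : Sec (𝒟.D.obj w) W) (s : GSec 𝒟 W)
    (hv : s.v = 𝒟.arr z ≫ w.obj.hom)
    (h : ∀ (w' : Idx R) (g : w'.obj.left ⟶ W) (e : g ≫ s.v = w'.obj.hom) (m : w' ⟶ w),
      m.hom.left = g ≫ 𝒟.arr z → app (𝒟.D.map m) (s.x w' g e) = res _ g z) : qSec 𝒟 w z = s := by
  refine GSec.ext' hv.symm fun w' g e => 𝒟.lift_ext
    (ObjectProperty.homMk (Over.homMk (g ≫ 𝒟.arr z) ((Category.assoc _ _ _).trans e))) ?_ ?_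
  · exact (exists_qx 𝒟 w z w' g e).choose_spec.1.trans (h w' g _ _ rfl).symm
  · exact (exists_qx 𝒟 w z w' g e).choose_spec.2.trans (s.arr_x _ _ _).symm

/-- the map from a member to the glued sheaf -/
def gluedq (w : Idx R) : 𝒟.D.obj w ⟶ glued 𝒟 hR :=
  ⟨{ app := fun W => TypeCat.ofHom fun z => qSec 𝒟 w (W := W.unop) z
     naturality := fun W W' f => by
      ext z
      show qSec 𝒟 w (res _ f.unop z) = GSec.pull f.unop (qSec 𝒟 w z)
      refine qSec_unique 𝒟 w _ _ ?_ fun w' g e m hm => ?_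
      · show f.unop ≫ 𝒟.arr z ≫ w.obj.hom = _
        rw [𝒟.arr_res, Category.assoc]
      · show app (𝒟.D.map m) ((qSec 𝒟 w z).x w' (g ≫ f.unop) ((Category.assoc _ _ _).trans e)) =
          res _ g (res _ f.unop z)
        have e' : (g ≫ f.unop) ≫ 𝒟.arr z ≫ w.obj.hom = w'.obj.hom := (Category.assoc _ _ _).trans e
        have hm' : m = ObjectProperty.homMk (Over.homMk ((g ≫ f.unop) ≫ 𝒟.arr z)
            ((Category.assoc _ _ _).trans e')) :=
          ObjectProperty.hom_ext _ (Over.OverMorphism.ext (by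
            show m.hom.left = _
            refine hm.trans ?_
            show g ≫ _ = (g ≫ f.unop) ≫ 𝒟.arr z
            rw [𝒟.arr_res, Category.assoc]))
        subst hm'
        exact ((exists_qx 𝒟 w z w' _ e').choose_spec.1).trans (res_comp _ _ _ _).symm }⟩

lemma gluedq_nat {w' w : Idx R} (m : w' ⟶ w) : 𝒟.D.map m ≫ gluedq 𝒟 hR w = gluedq 𝒟 hR w' := by
  refine hom_ext' fun W z => ?_
  show qSec 𝒟 w (app (𝒟.D.map m) z) = qSec 𝒟 w' z
  refine qSec_unique 𝒟 w _ _ ?_ fun w'' g e m'' hm'' => ?_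
  · show 𝒟.arr z ≫ w'.obj.hom = _
    rw [𝒟.arr_map, Category.assoc, Over.w m.hom]
  · let m₁ : w'' ⟶ w' := ObjectProperty.homMk (Over.homMk (g ≫ 𝒟.arr z) ((Category.assoc _ _ _).trans e))
    have hm : m₁ ≫ m = m'' := ObjectProperty.hom_ext _ (Over.OverMorphism.ext (by
      show (g ≫ 𝒟.arr z) ≫ m.hom.left = m''.hom.left
      rw [hm'', 𝒟.arr_map, Category.assoc]))
    rw [← hm, ← 𝒟.app_map_comp, ← app_res]
    exact congrArg (app _) (exists_qx 𝒟 w' z w'' g e).choose_spec.1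

lemma isPullback_gluedq (w : Idx R) :
    IsPullback (gluedq 𝒟 hR w) (𝒟.τ w) (gluedπ 𝒟 hR) ((yon S).map w.obj.hom) := by
  refine isPullback_of_sec (hom_ext' fun W z => rfl) (fun W a b h₁ h₂ => ?_) fun W s y hy => ?_
  · have ha : 𝒟.arr a = 𝒟.arr b := congrArg ULift.down h₂
    let w₀ := liftIdx w (𝒟.arr a)
    have e₁ : 𝟙 W ≫ 𝒟.arr a ≫ w.obj.hom = w₀.obj.hom := Category.id_comp _
    have e₂ : 𝟙 W ≫ 𝒟.arr b ≫ w.obj.hom = w₀.obj.hom := by rw [← ha]; exact Category.id_comp _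
    have hx := GSec.x_congr' (show qSec 𝒟 w a = qSec 𝒟 w b from h₁) w₀ (g := 𝟙 W) rfl e₁ e₂
    let m₁ : w₀ ⟶ w := ObjectProperty.homMk (Over.homMk (𝟙 W ≫ 𝒟.arr a) ((Category.assoc _ _ _).trans e₁))
    let m₂ : w₀ ⟶ w := ObjectProperty.homMk (Over.homMk (𝟙 W ≫ 𝒟.arr b) ((Category.assoc _ _ _).trans e₂))
    have hm : m₁ = m₂ := ObjectProperty.hom_ext _ (Over.OverMorphism.ext (congrArg (𝟙 W ≫ ·) ha))
    calc a = res _ (𝟙 W) a := (res_id _ _).symm
      _ = app (𝒟.D.map m₁) ((qSec 𝒟 w a).x w₀ (𝟙 W) e₁) := (exists_qx 𝒟 w a w₀ (𝟙 W) e₁).choose_spec.1.symm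
      _ = app (𝒟.D.map m₂) ((qSec 𝒟 w b).x w₀ (𝟙 W) e₂) := by rw [hm, hx]
      _ = res _ (𝟙 W) b := (exists_qx 𝒟 w b w₀ (𝟙 W) e₂).choose_spec.1
      _ = b := res_id _ _
  · have hv : GSec.v (𝒟 := 𝒟) s = y.down ≫ w.obj.hom := congrArg ULift.down hy
    let w₀ := liftIdx w y.down
    have e₀ : 𝟙 W ≫ GSec.v (𝒟 := 𝒟) s = w₀.obj.hom := by rw [Category.id_comp, hv]; rfl
    let z : Sec (𝒟.D.obj w) W := app (𝒟.D.map (liftMap w y.down)) (GSec.x (𝒟 := 𝒟) s w₀ (𝟙 W) e₀)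
    have hz : 𝒟.arr z = y.down := by
      rw [𝒟.arr_map]
      exact (congrArg (· ≫ _) (GSec.arr_x (𝒟 := 𝒟) s w₀ (𝟙 W) e₀)).trans (Category.id_comp _)
    refine ⟨z, qSec_unique 𝒟 w z s (hv.trans (congrArg (· ≫ _) hz.symm)) fun w' g e m hm => ?_,
      ULift.ext _ _ hz⟩
    have hg : g ≫ y.down ≫ w.obj.hom = w'.obj.hom := by rw [← hv]; exact e
    let m' : w' ⟶ w₀ := ObjectProperty.homMk (Over.homMk g hg)
    have hm' : m' ≫ liftMap w y.down = m :=
      ObjectProperty.hom_ext _ (Over.OverMorphism.ext (by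
        show g ≫ y.down = m.hom.left
        rw [hm, hz]))
    have e₃ : (g ≫ 𝟙 W) ≫ GSec.v (𝒟 := 𝒟) s = w'.obj.hom := by rw [Category.comp_id]; exact e
    have hx := GSec.x_congr' (𝒟 := 𝒟) (s := s) (t := s) rfl w' (g := g) (g' := g ≫ 𝟙 W)
      (Category.comp_id g).symm e e₃
    rw [← hm', ← 𝒟.app_map_comp, hx, ← app_res]
    exact congrArg (app _) (GSec.compat (𝒟 := 𝒟) s m' (𝟙 W) e₀ e₃)

include hR in
theorem exists_glue : ∃ (P : Sp S) (π : P ⟶ (yon S).obj U) (q : ∀ w : Idx R, 𝒟.D.obj w ⟶ P),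
    (∀ {w' w : Idx R} (m : w' ⟶ w), 𝒟.D.map m ≫ q w = q w') ∧
      ∀ w, IsPullback (q w) (𝒟.τ w) π ((yon S).map w.obj.hom) :=
  ⟨glued 𝒟 hR, gluedπ 𝒟 hR, gluedq 𝒟 hR, gluedq_nat 𝒟 hR, isPullback_gluedq 𝒟 hR⟩

/-- a sheaf over `h_U` is the colimit of its base changes along a covering sieve -/
theorem existsUnique_desc (hR : R ∈ AlgSp.J S U) {E : Sp S} {π : E ⟶ (yon S).obj U} {D : Idx R → Sp S}
    {τ : ∀ w, D w ⟶ (yon S).obj w.obj.left} {q : ∀ w, D w ⟶ E}
    (hq : ∀ w, IsPullback (q w) (τ w) π ((yon S).map w.obj.hom)) {Z : Sp S} (α : ∀ w, D w ⟶ Z)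
    (hα : ∀ (w' w : Idx R) (m : w' ⟶ w) (d : D w' ⟶ D w), d ≫ q w = q w' →
      d ≫ τ w = τ w' ≫ (yon S).map m.hom.left → d ≫ α w = α w') :
    ∃! a : E ⟶ Z, ∀ w, q w ≫ a = α w := by
  have hT : ∀ {W : Over S} (x : Sec E W), R.pullback (app π x).down ∈ AlgSp.J S W := fun x =>
    (AlgSp.J S).pullback_stable _ hR
  have lift : ∀ {W : Over S} (x : Sec E W) {V : Over S} (k : V ⟶ W) (hk : R (k ≫ (app π x).down)),
      ∃ d : Sec (D (idx _ hk)) V, app (q _) d = res E k x ∧ app (τ _) d = ⟨𝟙 V⟩ := fun x V k hk =>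
    (pb_sec (hq (idx _ hk)) V).2 (res E k x) ⟨𝟙 V⟩ ((app_res π k x).trans
      (ULift.ext _ _ (Category.id_comp (k ≫ (app π x).down)).symm))
  choose d hd₁ hd₂ using @lift
  -- independence of the chosen member
  have key : ∀ {W : Over S} (x : Sec E W) {V : Over S} (k : V ⟶ W) (hk : R (k ≫ (app π x).down))
      (w : Idx R) (e : Sec (D w) V), app (q w) e = res E k x → app (α w) e = app (α _) (d x k hk) := by
    intro W x V k hk w e he
    let a : V ⟶ w.obj.left := (app (τ w) e).down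
    have ha : a ≫ w.obj.hom = k ≫ (app π x).down := by
      have h := congrArg (fun t => app t e) (hq w).w
      exact ((congrArg ULift.down h).symm.trans (congrArg (fun t => (app π t).down) he)).trans
        (congrArg ULift.down (app_res π k x))
    let m : idx _ hk ⟶ w := ObjectProperty.homMk (Over.homMk a ha)
    let dm : D (idx _ hk) ⟶ D w := (hq w).lift (q _) (τ _ ≫ (yon S).map a) (by
      rw [(hq _).w, Category.assoc, ← Functor.map_comp, ha]; rfl)
    have hm₁ : dm ≫ q w = q (idx _ hk) := (hq w).lift_fst _ _ _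
    have hm₂ : dm ≫ τ w = τ _ ≫ (yon S).map a := (hq w).lift_snd _ _ _
    have he' : app dm (d x k hk) = e := (pb_sec (hq w) V).1 _ _
      (((congrArg (fun t => app t (d x k hk)) hm₁)).trans ((hd₁ x k hk).trans he.symm))
      ((congrArg (fun t => app t (d x k hk)) hm₂).trans (ULift.ext _ _ (by
        show (app (τ _) (d x k hk)).down ≫ a = a
        rw [hd₂]; exact Category.id_comp a)))
    rw [← he']
    exact congrArg (fun t => app t (d x k hk)) (hα _ w m dm hm₁ hm₂)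
  have glue : ∀ {W : Over S} (x : Sec E W), ∃ z : Sec Z W, ∀ ⦃V : Over S⦄ (k : V ⟶ W)
      (hk : (R.pullback (app π x).down) k), res Z k z = app (α _) (d x k hk) := fun {W} x =>
    exists_amalgamation Z (R.pullback (app π x).down) (hT x) (fun V k hk => app (α _) (d x k hk))
      (fun V V' l k hk => by
        rw [← app_res]
        exact key x (l ≫ k) ((R.pullback (app π x).down).downward_closed hk l) (idx _ hk) (res _ l (d x k hk))
          (by rw [app_res, hd₁, res_comp]))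
  choose z hz using @glue
  refine ⟨⟨{ app := fun W => TypeCat.ofHom fun x => z (W := W.unop) x, naturality := fun W W' f => ?_ }⟩,
    fun w => hom_ext' fun V e => ?_, fun a ha => hom_ext' fun W x => ?_⟩
  · ext x
    show z (res E f.unop x) = res Z f.unop (z x)
    refine sec_ext Z _ (hT (res E f.unop x)) fun V k hk => ?_
    have hk' : (R.pullback (app π x).down) (k ≫ f.unop) := by
      have h := congrArg ULift.down (app_res π f.unop x)
      show R ((k ≫ f.unop) ≫ _)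
      rw [Category.assoc]
      have hk0 : R (k ≫ (app π (res E f.unop x)).down) := hk
      rw [h] at hk0
      exact hk0
    rw [hz _ k hk, res_comp, hz x _ hk']
    exact key x (k ≫ f.unop) hk' _ _ (by rw [hd₁, res_comp])
  · show z (app (q w) e) = app (α w) e
    refine sec_ext Z (R.pullback (app π (app (q w) e)).down) (hT _) fun V' k hk => ?_
    rw [hz _ k hk, ← app_res]
    exact (key (app (q w) e) k hk w (res _ k e) (app_res _ _ _)).symm
  · show app a x = z x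
    refine sec_ext Z _ (hT x) fun V k hk => ?_
    rw [hz x k hk, ← app_res, ← hd₁ x k hk]
    exact congrArg (fun t => app t (d x k hk)) (ha _)

/-- maps out of `h_U` are determined on a covering sieve -/
theorem yon_ext (hR : R ∈ AlgSp.J S U) {Z : Sp S} {a b : (yon S).obj U ⟶ Z}
    (h : ∀ w : Idx R, (yon S).map w.obj.hom ≫ a = (yon S).map w.obj.hom ≫ b) : a = b :=
  (existsUnique_desc hR (π := 𝟙 _) (D := fun w => (yon S).obj w.obj.left) (τ := fun _ => 𝟙 _)
    (q := fun w : Idx R => (yon S).map w.obj.hom) (fun _ => IsPullback.of_vert_isIso ⟨by simp⟩)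
    (fun w => (yon S).map w.obj.hom ≫ a) (fun w' w m d hd _ => by rw [← Category.assoc, hd])).unique
    (fun _ => rfl) (fun w => (h w).symm)

/-- maps out of a covering sieve glue to maps out of `h_U` -/
theorem yon_desc (hR : R ∈ AlgSp.J S U) {Z : Sp S} (α : ∀ w : Idx R, (yon S).obj w.obj.left ⟶ Z)
    (hα : ∀ {w' w : Idx R} (m : w' ⟶ w), (yon S).map m.hom.left ≫ α w = α w') :
    ∃ a : (yon S).obj U ⟶ Z, ∀ w, (yon S).map w.obj.hom ≫ a = α w :=
  (existsUnique_desc hR (π := 𝟙 _) (D := fun w => (yon S).obj w.obj.left) (τ := fun _ => 𝟙 _)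
    (q := fun w : Idx R => (yon S).map w.obj.hom) (fun _ => IsPullback.of_vert_isIso ⟨by simp⟩) α
    (fun w' w m d _ hd => by
      have e : d = (yon S).map m.hom.left := by simpa using hd
      rw [e]; exact hα m)).exists

/-- a square over `h_U` is cartesian when it is so over the members of a covering sieve -/
theorem isPullback_local (hR : R ∈ AlgSp.J S U) {M P : Sp S} {f g : M ⟶ P} {π : P ⟶ (yon S).obj U}
    (hfg : f ≫ π = g ≫ π) {DM DP : Idx R → Sp S} {qM : ∀ w, DM w ⟶ M} {qP : ∀ w, DP w ⟶ P}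
    {τP : ∀ w, DP w ⟶ (yon S).obj w.obj.left} {fw gw : ∀ w, DM w ⟶ DP w}
    (sP : ∀ w, IsPullback (qP w) (τP w) π ((yon S).map w.obj.hom))
    (sM : ∀ w, IsPullback (qM w) (gw w ≫ τP w) (g ≫ π) ((yon S).map w.obj.hom))
    (sw : ∀ w, IsPullback (fw w) (gw w) (τP w) (τP w))
    (hf : ∀ w, qM w ≫ f = fw w ≫ qP w) (hg : ∀ w, qM w ≫ g = gw w ≫ qP w) :
    IsPullback f g π π := by
  -- simple transitivity over the members of the sieve
  have loc : ∀ (W : Over S) (x y : Sec P W), app π x = app π y → R (app π x).down →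
      ∃! m : Sec M W, app f m = x ∧ app g m = y := by
    intro W x y hxy hW
    let w : Idx R := idx (app π x).down hW
    have hw : app π x = app ((yon S).map w.obj.hom) (⟨𝟙 W⟩ : Sec ((yon S).obj w.obj.left) W) :=
      ULift.ext _ _ (Category.id_comp (app π x).down).symm
    obtain ⟨x', hx', hxτ⟩ := (pb_sec (sP w) W).2 x ⟨𝟙 W⟩ hw
    obtain ⟨y', hy', hyτ⟩ := (pb_sec (sP w) W).2 y ⟨𝟙 W⟩ (hxy.symm.trans hw)
    obtain ⟨e, he₁, he₂⟩ := (pb_sec (sw w) W).2 x' y' (hxτ.trans hyτ.symm)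
    have ef : app f (app (qM w) e) = x :=
      (congrArg (fun t => app t e) (hf w)).trans ((congrArg (app (qP w)) he₁).trans hx')
    have eg : app g (app (qM w) e) = y :=
      (congrArg (fun t => app t e) (hg w)).trans ((congrArg (app (qP w)) he₂).trans hy')
    refine ⟨app (qM w) e, ⟨ef, eg⟩, fun m hm => ?_⟩
    obtain ⟨e', he', heτ⟩ := (pb_sec (sM w) W).2 m ⟨𝟙 W⟩
      ((congrArg (app π) hm.2).trans (hxy.symm.trans hw))
    have hl : app (gw w) e' = y' := (pb_sec (sP w) W).1 _ _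
      ((congrArg (fun t => app t e') (hg w)).symm.trans ((congrArg (app g) he').trans (hm.2.trans hy'.symm)))
      (heτ.trans hyτ.symm)
    have hr : app (fw w) e' = x' := (pb_sec (sP w) W).1 _ _
      ((congrArg (fun t => app t e') (hf w)).symm.trans ((congrArg (app f) he').trans (hm.1.trans hx'.symm)))
      (((congrArg (fun t => app t e') (sw w).w).trans heτ).trans hxτ.symm)
    have : e' = e := (pb_sec (sw w) W).1 _ _ (hr.trans he₁.symm) (hl.trans he₂.symm)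
    rw [← he', this]
  have hR' : ∀ {W : Over S} (x : Sec P W) {V : Over S} (k : V ⟶ W), R.pullback (app π x).down k →
      R (app π (res P k x)).down := fun x V k hk => by rw [app_res]; exact hk
  refine isPullback_of_sec hfg (fun W a b h₁ h₂ => ?_) fun W x y hxy => ?_
  · refine sec_ext M (R.pullback (app π (app f a)).down) ((AlgSp.J S).pullback_stable _ hR) fun V k hk => ?_
    exact (loc V (res P k (app f a)) (res P k (app g a))
      ((app_res π k _).trans ((congrArg (res _ k) (congrArg (fun t => app t a) hfg)).trans (app_res π k _).symm))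
      (hR' _ k hk)).unique ⟨app_res f k a, app_res g k a⟩
      ⟨by rw [app_res, ← h₁], by rw [app_res, ← h₂]⟩
  · have hm : ∀ ⦃V : Over S⦄ (k : V ⟶ W), R.pullback (app π x).down k →
        ∃! m : Sec M V, app f m = res P k x ∧ app g m = res P k y := fun V k hk =>
      loc V _ _ ((app_res π k x).trans ((congrArg (res _ k) hxy).trans (app_res π k y).symm)) (hR' x k hk)
    obtain ⟨m, hm'⟩ := exists_amalgamation M (R.pullback (app π x).down) ((AlgSp.J S).pullback_stable _ hR)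
      (fun V k hk => (hm k hk).choose) (fun V V' l k hk => by
        refine (hm (l ≫ k) ((R.pullback _).downward_closed hk l)).choose_spec.2 _ ⟨?_, ?_⟩
        · rw [app_res, (hm k hk).choose_spec.1.1, res_comp]
        · rw [app_res, (hm k hk).choose_spec.1.2, res_comp])
    refine ⟨m, ?_, ?_⟩
    · refine sec_ext P _ ((AlgSp.J S).pullback_stable (app π x).down hR) fun V k hk => ?_
      rw [← app_res, hm' k hk, (hm k hk).choose_spec.1.1]
    · refine sec_ext P _ ((AlgSp.J S).pullback_stable (app π x).down hR) fun V k hk => ?_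
      rw [← app_res, hm' k hk, (hm k hk).choose_spec.1.2]

end Groth.Agent.AlgStLib.SheafGlue

end
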