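import Mathlib.AlgebraicGeometry.Sites.Fpqc
import Mathlib.CategoryTheory.Sites.SubcanonicalOver
import Groth.Agent.AlgStLib.SheafGlue
import Groth.Agent.AlgStLib.StackCrit
import Groth.Agent.FibCatRep.Cart
import Groth.Agent.FpqcDescent.Affine
import Groth.Agent.SchDescent.IndQAEff
import Groth.Agent.S1398
import Groth.Prelude.Def_AlgSt5
import Groth.Prelude.Def_AlgSt2

/-!
# Quotient categories with scheme torsors under affine groups are stacks for the fpqc topology
-/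

set_option autoImplicit false
set_option backward.isDefEq.respectTransparency false
set_option backward.isDefEq.respectTransparency.types false
set_option linter.style.haveILetI false
universe u

noncomputable section

namespace Groth.Agent.AlgStLib.QuotFpqc

open CategoryTheory CategoryTheory.Limits MonoidalCategory CartesianMonoidalCategory MonObj GrpObj AlgebraicGeometry
open Groth.Agent.FibCatRep

variable {S : Scheme.{u}} {G X : Over S} [GrpObj G] {aX : AlgGrp.Action G X}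

lemma isPullback_forget {P Q Y Z : Over S} {p : P ⟶ Q} {q : P ⟶ Y} {f : Q ⟶ Z} {g : Y ⟶ Z}
    (sq : IsPullback p q f g) : IsPullback p.left q.left f.left g.left :=
  sq.map (Over.forget S)

/-! ### base change -/

section base

variable {T : Over S} (A : AlgSt.QuotObj Scheme.fpqcPrecoverage G aX) (f : T ⟶ A.base)

/-- the torsor pulled back -/
abbrev pullP : Over S := pullback A.π f

/-- the induced action -/
def pullAct : AlgGrp.Action G (pullP A f) where
  act := (IsPullback.of_hasPullback A.π f).lift ((G ◁ pullback.fst _ _) ≫ A.act.act)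
    (snd G _ ≫ pullback.snd _ _) (by
      rw [Category.assoc, A.cart.w, whiskerLeft_snd_assoc, Category.assoc, pullback.condition])
  one_act := by
    apply pullback.hom_ext
    · rw [Category.assoc, IsPullback.lift_fst, ← whisker_exchange_assoc, A.act.one_act, leftUnitor_naturality]
    · rw [Category.assoc, IsPullback.lift_snd, whiskerRight_snd_assoc, leftUnitor_hom]
  mul_act := by
    apply pullback.hom_ext
    · simp only [Category.assoc, IsPullback.lift_fst]
      rw [← whisker_exchange_assoc, A.act.mul_act, associator_naturality_right_assoc,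
        ← MonoidalCategory.whiskerLeft_comp_assoc, ← MonoidalCategory.whiskerLeft_comp_assoc, IsPullback.lift_fst]
    · simp only [Category.assoc, IsPullback.lift_snd, whiskerRight_snd_assoc, whiskerLeft_snd_assoc,
        associator_hom_snd_snd_assoc]

lemma loc_of_isPullback {T T' : Over S} {f : T' ⟶ T} {P P' : Over S} {π : P ⟶ T}
    {π' : P' ⟶ T'} {p : P' ⟶ P} (sq : IsPullback p π' π f)
    (h : NonAbH1.IsLocallyTrivialFor Scheme.fpqcPrecoverage (Over.mk π.left : Over T.left)) :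
    NonAbH1.IsLocallyTrivialFor Scheme.fpqcPrecoverage (Over.mk π'.left : Over T'.left) := by
  obtain ⟨R, hR, hs⟩ := h
  refine ⟨_, Precoverage.pullbackArrows_mem (J := Scheme.fpqcPrecoverage) f.left hR, fun W g hg => ?_⟩
  cases hg with
  | mk Z i hi =>
    obtain ⟨s, hs'⟩ := hs i hi
    have hs'' : s ≫ π.left = i := hs'
    refine ⟨(isPullback_forget sq).lift (pullback.fst i f.left ≫ s) (pullback.snd i f.left) ?_,
      (isPullback_forget sq).lift_snd _ _ _⟩
    rw [Category.assoc, hs'', pullback.condition]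

/-- the base change of an object -/
def pullObj : AlgSt.QuotObj Scheme.fpqcPrecoverage G aX where
  base := T
  P := pullP A f
  act := pullAct A f
  π := pullback.snd _ _
  cart := by
    have sq := IsPullback.of_hasPullback A.π f
    have h₁ : IsPullback ((pullAct A f).act ≫ pullback.fst _ _) (snd G (pullP A f)) A.π
        (pullback.fst A.π f ≫ A.π) := by
      have := (AlgSt.isPullback_whiskerLeft (G := G) (pullback.fst A.π f)).paste_horiz A.cart
      rw [show (pullAct A f).act ≫ pullback.fst _ _ = _ from sq.lift_fst _ _ _]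
      exact this
    rw [sq.w] at h₁
    exact IsPullback.of_right h₁ (sq.lift_snd _ _ _) sq
  loc := loc_of_isPullback (IsPullback.of_hasPullback A.π f) A.loc
  φ := pullback.fst _ _ ≫ A.φ
  eqv := by
    rw [← Category.assoc, show (pullAct A f).act ≫ pullback.fst _ _ = _ from IsPullback.lift_fst _ _ _ _,
      Category.assoc, A.eqv, MonoidalCategory.whiskerLeft_comp, Category.assoc]

/-- the projection of a base change -/
def pullHom : pullObj A f ⟶ A where
  base := f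
  top := pullback.fst _ _
  eqv := IsPullback.lift_fst _ _ _ _
  cart := IsPullback.of_hasPullback _ _
  wφ := rfl

end base

theorem isFibGrpd (G : Over S) [GrpObj G] (aX : AlgGrp.Action G X) :
    FibCat.IsFibGrpd (AlgSt.QuotSt Scheme.fpqcPrecoverage G aX).p := by
  refine Groth.Agent.FibCatRep.isFibGrpd_mk (fun {A V} f => ⟨pullObj A f, pullHom A f, rfl, ?_⟩)
    (fun {A'' A' A} φ ψ g h => ?_)
  · exact (Category.id_comp f).symm
  have hg : g ≫ φ.base = ψ.base := h
  let t : A''.P ⟶ A'.P := φ.cart.lift ψ.top (A''.π ≫ g) (by rw [Category.assoc, hg, ψ.cart.w])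
  have t₁ : t ≫ φ.top = ψ.top := φ.cart.lift_fst _ _ _
  have t₂ : t ≫ A'.π = A''.π ≫ g := φ.cart.lift_snd _ _ _
  have te : A''.act.act ≫ t = (G ◁ t) ≫ A'.act.act := φ.cart.hom_ext
    (by rw [Category.assoc, Category.assoc, t₁, φ.eqv, ← MonoidalCategory.whiskerLeft_comp_assoc, t₁, ψ.eqv])
    (by rw [Category.assoc, Category.assoc, t₂, reassoc_of% A''.cart.w, A'.cart.w, whiskerLeft_snd_assoc, t₂])
  have tc : IsPullback t A''.π A'.π g := IsPullback.of_right (by rw [t₁, hg]; exact ψ.cart) t₂ φ.cart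
  let χ : A'' ⟶ A' := ⟨g, t, te, tc, by rw [← φ.wφ, ← Category.assoc, t₁, ψ.wφ]⟩
  refine ⟨χ, ⟨rfl, AlgSt.QuotObj.hom_ext hg t₁⟩, fun χ' hχ => ?_⟩
  obtain ⟨hb', hc'⟩ := hχ
  refine AlgSt.QuotObj.hom_ext hb' (φ.cart.hom_ext ?_ ?_)
  · exact (congrArg AlgSt.QuotObj.Hom.top hc').trans t₁.symm
  · rw [χ'.cart.w, tc.w]
    exact congrArg _ hb'

/-- torsors under affine groups are affine over their base -/
theorem isAffineHom_π [IsAffineHom G.hom] (A : AlgSt.QuotObj Scheme.fpqcPrecoverage G aX) :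
    IsAffineHom A.π.left := by
  obtain ⟨R, hR, hs⟩ := A.loc
  refine Groth.Agent.FpqcDescent.of_fpqcPrecoverage @IsAffineHom A.π.left hR fun W i hi => ?_
  obtain ⟨s, hs'⟩ := hs i hi
  have hs'' : s ≫ A.π.left = i := hs'
  let T₁ : Over S := Over.mk (i ≫ A.base.hom)
  let m : T₁ ⟶ A.base := Over.homMk i rfl
  let σ : T₁ ⟶ (pullObj A m).P := pullback.lift (Over.homMk s (by
    show s ≫ A.P.hom = i ≫ A.base.hom
    rw [← hs'', Category.assoc, Over.w A.π])) (𝟙 _) (by
    rw [Category.id_comp]; exact Over.OverMorphism.ext hs'')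
  have sq := (AlgSt.isPullback_whiskerLeft (G := G) σ).paste_horiz (pullObj A m).cart
  rw [show σ ≫ (pullObj A m).π = 𝟙 _ from pullback.lift_snd _ _ _] at sq
  haveI : IsIso ((G ◁ σ) ≫ (pullObj A m).act.act) := sq.isIso_fst_of_isIso
  have h₁ : IsAffineHom (snd G T₁).left := by
    show IsAffineHom (pullback.snd G.hom T₁.hom)
    exact MorphismProperty.pullback_snd (P := @IsAffineHom) _ _ inferInstance
  have h₂ : IsAffineHom (pullObj A m).π.left := by
    have e : (snd G T₁).left = ((G ◁ σ) ≫ (pullObj A m).act.act).left ≫ (pullObj A m).π.left := by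
      rw [← Over.comp_left, sq.w, Category.comp_id]
    rw [e] at h₁
    haveI : IsIso ((G ◁ σ) ≫ (pullObj A m).act.act).left :=
      Functor.map_isIso (Over.forget S) ((G ◁ σ) ≫ (pullObj A m).act.act)
    exact (MorphismProperty.cancel_left_of_respectsIso @IsAffineHom _ _).1 h₁
  have sqs : IsPullback (pullHom A m).top.left (pullObj A m).π.left A.π.left i :=
    isPullback_forget (pullHom A m).cart
  exact (MorphismProperty.arrow_mk_iso_iff @IsAffineHom
    (Arrow.isoMk sqs.isoPullback (Iso.refl _) (sqs.isoPullback_hom_snd.trans (Category.comp_id _).symm))).1 h₂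

/-! ### descent of morphisms -/

variable {U : Over S} {R : Sieve U}

/-- the arrows into the base change of a sieve, at the level of total spaces -/
lemma desc (hR : R ∈ QuotSh.J Scheme.fpqcPrecoverage S U) {P : Over S} {p : P ⟶ U} {D : SheafGlue.Idx R → Over S}
    {τ : ∀ w, D w ⟶ w.obj.left} {q : ∀ w, D w ⟶ P} (hq : ∀ w, IsPullback (q w) (τ w) p w.obj.hom)
    {Y : Over S} (α : ∀ w, D w ⟶ Y)
    (hα : ∀ (w' w : SheafGlue.Idx R) (m : w' ⟶ w) (d : D w' ⟶ D w), d ≫ q w = q w' →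
      d ≫ τ w = τ w' ≫ m.hom.left → d ≫ α w = α w') :
    ∃! a : P ⟶ Y, ∀ w, q w ≫ a = α w := by
  haveI : (QuotSh.J Scheme.fpqcPrecoverage S).Subcanonical :=
    inferInstanceAs (Scheme.fpqcTopology.over S).Subcanonical
  have hsh := (GrothendieckTopology.Subcanonical.isSheaf_of_isRepresentable
    (J := QuotSh.J Scheme.fpqcPrecoverage S) (CategoryTheory.yoneda.obj Y)) (R.pullback p)
    ((QuotSh.J Scheme.fpqcPrecoverage S).pullback_stable p hR)
  let e : ∀ ⦃V : Over S⦄ (k : V ⟶ P) (hk : R (k ≫ p)), V ⟶ D (SheafGlue.idx (k ≫ p) hk) := fun V k hk =>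
    (hq (SheafGlue.idx (k ≫ p) hk)).lift k (𝟙 V) (Category.id_comp (k ≫ p)).symm
  have he₁ : ∀ ⦃V : Over S⦄ (k : V ⟶ P) (hk : R (k ≫ p)), e k hk ≫ q _ = k := fun V k hk =>
    (hq (SheafGlue.idx (k ≫ p) hk)).lift_fst _ _ _
  have he₂ : ∀ ⦃V : Over S⦄ (k : V ⟶ P) (hk : R (k ≫ p)), e k hk ≫ τ _ = 𝟙 V := fun V k hk =>
    (hq (SheafGlue.idx (k ≫ p) hk)).lift_snd _ _ _
  -- the value at any member
  have key : ∀ ⦃V : Over S⦄ (k : V ⟶ P) (hk : R (k ≫ p)) (w : SheafGlue.Idx R) (b : V ⟶ D w),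
      b ≫ q w = k → b ≫ α w = e k hk ≫ α _ := by
    intro V k hk w b hb
    have hw : (b ≫ τ w) ≫ w.obj.hom = k ≫ p := by rw [Category.assoc, ← (hq w).w, reassoc_of% hb]
    let m : SheafGlue.idx (k ≫ p) hk ⟶ w := ObjectProperty.homMk (Over.homMk (b ≫ τ w) hw)
    let d : D (SheafGlue.idx (k ≫ p) hk) ⟶ D w := (hq w).lift (q _) (τ _ ≫ b ≫ τ w) (by
      rw [(hq (SheafGlue.idx (k ≫ p) hk)).w, Category.assoc, hw]; rfl)
    have hd₁ : d ≫ q w = q _ := (hq w).lift_fst _ _ _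
    have hd₂ : d ≫ τ w = τ _ ≫ b ≫ τ w := (hq w).lift_snd _ _ _
    have hb' : e k hk ≫ d = b := (hq w).hom_ext (by rw [Category.assoc, hd₁, he₁, hb])
      (by rw [Category.assoc, hd₂, reassoc_of% (he₂ k hk)])
    rw [← hb', Category.assoc, hα _ w m d hd₁ hd₂]
  let x : Presieve.FamilyOfElements (CategoryTheory.yoneda.obj Y) (R.pullback p).arrows := fun V k hk => e k hk ≫ α _
  have hx : x.Compatible := by
    rw [Presieve.compatible_iff_sieveCompatible]
    intro V V' k l hk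
    show e (l ≫ k) _ ≫ α _ = l ≫ e k hk ≫ α _
    rw [← key (l ≫ k) ((R.pullback p).downward_closed hk l) (SheafGlue.idx (k ≫ p) hk) (l ≫ e k hk)
      (by rw [Category.assoc, he₁]), Category.assoc]
  obtain ⟨a, ha, hu⟩ := hsh x hx
  have hR' : ∀ w : SheafGlue.Idx R, R (q w ≫ p) := fun w => by
    rw [(hq w).w]; exact R.downward_closed w.property _
  refine ⟨a, fun w => ?_, fun a' ha' => hu a' fun V k hk => ?_⟩
  · refine (ha (q w) (hR' w)).trans ?_
    show e (q w) (hR' w) ≫ α _ = α w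
    rw [← key (q w) (hR' w) w (𝟙 _) (Category.id_comp _), Category.id_comp]
  · show k ≫ a' = e k hk ≫ α _
    calc k ≫ a' = (e k hk ≫ q _) ≫ a' := by rw [he₁]
      _ = e k hk ≫ α _ := by rw [Category.assoc, ha']

lemma desc_ext (hR : R ∈ QuotSh.J Scheme.fpqcPrecoverage S U) {P : Over S} {p : P ⟶ U}
    {D : SheafGlue.Idx R → Over S}
    {τ : ∀ w, D w ⟶ w.obj.left} {q : ∀ w, D w ⟶ P} (hq : ∀ w, IsPullback (q w) (τ w) p w.obj.hom)
    {Y : Over S} {a b : P ⟶ Y} (h : ∀ w, q w ≫ a = q w ≫ b) : a = b :=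
  (desc hR hq (fun w => q w ≫ a) (fun w' w m d h₁ _ => by rw [← Category.assoc, h₁])).unique
    (fun _ => rfl) (fun w => (h w).symm)

/-! ### descent data -/

variable (H : Stk.sieveCat R ⥤ᵇ AlgSt.QuotSt Scheme.fpqcPrecoverage G aX)

/-- the member torsor -/
abbrev mem (w : SheafGlue.Idx R) : AlgSt.QuotObj Scheme.fpqcPrecoverage G aX := H.obj w

/-- the identification of the base of a member -/
abbrev memEq (w : SheafGlue.Idx R) : (mem H w).base ⟶ w.obj.left := eqToHom (H.w_obj w)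

/-- the structure map of a member -/
abbrev memτ (w : SheafGlue.Idx R) : (mem H w).P ⟶ w.obj.left := (mem H w).π ≫ memEq H w

/-- a transition map -/
abbrev memMap {w' w : SheafGlue.Idx R} (m : w' ⟶ w) : mem H w' ⟶ mem H w := H.map m

lemma memMap_base {w' w : SheafGlue.Idx R} (m : w' ⟶ w) :
    (memMap H m).base ≫ memEq H w = memEq H w' ≫ m.hom.left := by
  have h : (memMap H m).base = memEq H w' ≫ m.hom.left ≫ eqToHom (H.w_obj w).symm := map_map H m
  rw [h]
  simp [memEq]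

lemma memMap_sq {w' w : SheafGlue.Idx R} (m : w' ⟶ w) :
    IsPullback (memMap H m).top (memτ H w') (memτ H w) m.hom.left :=
  (memMap H m).cart.paste_vert (IsPullback.of_vert_isIso ⟨memMap_base H m⟩)

lemma memMap_comp {w'' w' w : SheafGlue.Idx R} (n : w'' ⟶ w') (m : w' ⟶ w) :
    (memMap H (n ≫ m)).top = (memMap H n).top ≫ (memMap H m).top :=
  congrArg AlgSt.QuotObj.Hom.top (H.toFunctor.map_comp n m)

lemma memMap_id (w : SheafGlue.Idx R) : (memMap H (𝟙 w)).top = 𝟙 (mem H w).P :=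
  congrArg AlgSt.QuotObj.Hom.top (H.toFunctor.map_id w)

variable {H}

/-- the structure map of a cone -/
abbrev coneτ (c : StackCrit.Cone H) : c.pt.P ⟶ U := c.pt.π ≫ eqToHom c.hpt

/-- the map of a cone -/
abbrev coneq (c : StackCrit.Cone H) (w : SheafGlue.Idx R) : mem H w ⟶ c.pt := c.q w

lemma coneq_base (c : StackCrit.Cone H) (w : SheafGlue.Idx R) :
    (coneq c w).base ≫ eqToHom c.hpt = memEq H w ≫ w.obj.hom := by
  have h : (coneq c w).base = memEq H w ≫ w.obj.hom ≫ eqToHom c.hpt.symm := c.hq w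
  rw [h]
  simp

lemma cone_sq (c : StackCrit.Cone H) (w : SheafGlue.Idx R) :
    IsPullback (coneq c w).top (memτ H w) (coneτ c) w.obj.hom :=
  (coneq c w).cart.paste_vert (IsPullback.of_vert_isIso ⟨coneq_base c w⟩)

lemma coneq_nat (c : StackCrit.Cone H) {w' w : SheafGlue.Idx R} (m : w' ⟶ w) :
    (memMap H m).top ≫ (coneq c w).top = (coneq c w').top :=
  congrArg AlgSt.QuotObj.Hom.top (c.nat m)

variable (hR : R ∈ QuotSh.J Scheme.fpqcPrecoverage S U)
include hR

lemma existsUnique_top (c c' : StackCrit.Cone H) :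
    ∃! t : c.pt.P ⟶ c'.pt.P, ∀ w, (coneq c w).top ≫ t = (coneq c' w).top :=
  desc hR (cone_sq c) (fun w => (coneq c' w).top) fun w' w m d h₁ h₂ => by
    have : d = (memMap H m).top :=
      (cone_sq c w).hom_ext (h₁.trans (coneq_nat c m).symm) (h₂.trans (memMap_sq H m).w.symm)
    rw [this, coneq_nat]

theorem existsUnique_hom (c c' : StackCrit.Cone H) :
    ∃! φ : c.pt ⟶ c'.pt, (AlgSt.QuotSt Scheme.fpqcPrecoverage G aX).p.map φ = eqToHom (c.hpt.trans c'.hpt.symm) ∧
      ∀ w, c.q w ≫ φ = c'.q w := by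
  obtain ⟨t, ht, htu⟩ := existsUnique_top hR c c'
  obtain ⟨t', ht', -⟩ := existsUnique_top hR c' c
  haveI : IsIso t := ⟨t', desc_ext hR (cone_sq c) fun w => by rw [← Category.assoc, ht, ht', Category.comp_id],
    desc_ext hR (cone_sq c') fun w => by rw [← Category.assoc, ht', ht, Category.comp_id]⟩
  have hτ₀ : t ≫ coneτ c' = coneτ c := desc_ext hR (cone_sq c) fun w => by
    rw [← Category.assoc, ht, (cone_sq c w).w]
    exact (cone_sq c' w).w
  have hτ : t ≫ c'.pt.π = c.pt.π ≫ eqToHom (c.hpt.trans c'.hpt.symm) := by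
    have h := hτ₀ =≫ eqToHom c'.hpt.symm
    simp only [coneτ, Category.assoc, eqToHom_trans, eqToHom_refl, Category.comp_id] at h
    exact h
  have heqv : c.pt.act.act ≫ t = (G ◁ t) ≫ c'.pt.act.act :=
    desc_ext hR (fun w => (AlgSt.isPullback_whiskerLeft (G := G) (coneq c w).top).paste_vert (cone_sq c w))
      fun w => by
        rw [← reassoc_of% (coneq c w).eqv, ht, (coneq c' w).eqv, ← MonoidalCategory.whiskerLeft_comp_assoc, ht]
  have hφ : t ≫ c'.pt.φ = c.pt.φ := desc_ext hR (cone_sq c) fun w => by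
    rw [reassoc_of% (ht w), (coneq c w).wφ, (coneq c' w).wφ]
  refine ⟨⟨eqToHom (c.hpt.trans c'.hpt.symm), t, heqv, IsPullback.of_horiz_isIso ⟨hτ⟩, hφ⟩,
    ⟨rfl, fun w => AlgSt.QuotObj.hom_ext ?_ (ht w)⟩, fun ψ hψ => AlgSt.QuotObj.hom_ext hψ.1 ?_⟩
  · show (coneq c w).base ≫ eqToHom (c.hpt.trans c'.hpt.symm) = (coneq c' w).base
    rw [show (coneq c w).base = memEq H w ≫ w.obj.hom ≫ eqToHom c.hpt.symm from c.hq w,
      show (coneq c' w).base = memEq H w ≫ w.obj.hom ≫ eqToHom c'.hpt.symm from c'.hq w]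
    simp
  · exact htu _ fun w => congrArg AlgSt.QuotObj.Hom.top (hψ.2 w)

omit hR

/-! ### transport of points between members -/

section tr

variable (H)

lemma lift_cond (w : SheafGlue.Idx R) {T : Over S} (t : T ⟶ (mem H w).P) :
    t ≫ memτ H w = 𝟙 T ≫ (SheafGlue.liftMap w (t ≫ memτ H w)).hom.left :=
  (Category.id_comp _).symm

/-- transport a point of a member to another member -/
def tr (w w' : SheafGlue.Idx R) {T : Over S} (t : T ⟶ (mem H w).P) (a : T ⟶ w'.obj.left)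
    (h : a ≫ w'.obj.hom = (t ≫ memτ H w) ≫ w.obj.hom) : T ⟶ (mem H w').P :=
  (memMap_sq H (SheafGlue.liftMap w (t ≫ memτ H w))).lift t (𝟙 T) (lift_cond H w t) ≫
    (memMap H (ObjectProperty.homMk (Over.homMk a h) : SheafGlue.liftIdx w (t ≫ memτ H w) ⟶ w')).top

lemma tr_τ (w w' : SheafGlue.Idx R) {T : Over S} (t : T ⟶ (mem H w).P) (a : T ⟶ w'.obj.left)
    (h : a ≫ w'.obj.hom = (t ≫ memτ H w) ≫ w.obj.hom) : tr H w w' t a h ≫ memτ H w' = a := by
  rw [tr, Category.assoc, (memMap_sq H _).w, IsPullback.lift_snd_assoc]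
  exact Category.id_comp _

/-- transport is characterised by any common refinement -/
lemma tr_char {w w' : SheafGlue.Idx R} {T : Over S} {t : T ⟶ (mem H w).P} {a : T ⟶ w'.obj.left}
    (h : a ≫ w'.obj.hom = (t ≫ memτ H w) ≫ w.obj.hom) {w'' : SheafGlue.Idx R} (m : w'' ⟶ w) (m' : w'' ⟶ w')
    (s : T ⟶ (mem H w'').P) (hs : s ≫ (memMap H m).top = t) (hs' : (s ≫ memτ H w'') ≫ m'.hom.left = a) :
    tr H w w' t a h = s ≫ (memMap H m').top := by
  have hsw : (s ≫ memτ H w'') ≫ m.hom.left = t ≫ memτ H w := by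
    rw [← hs]
    exact (Category.assoc _ _ _).trans ((congrArg (s ≫ ·) (memMap_sq H m).w.symm).trans (Category.assoc _ _ _).symm)
  let n : SheafGlue.liftIdx w (t ≫ memτ H w) ⟶ w'' := ObjectProperty.homMk (Over.homMk (s ≫ memτ H w'') (by
    show (s ≫ memτ H w'') ≫ w''.obj.hom = (t ≫ memτ H w) ≫ w.obj.hom
    rw [← Over.w m.hom, ← hsw]
    simp only [Category.assoc]))
  have hn : n ≫ m = SheafGlue.liftMap w (t ≫ memτ H w) :=
    ObjectProperty.hom_ext _ (Over.OverMorphism.ext hsw)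
  have hn' : n ≫ m' = (ObjectProperty.homMk (Over.homMk a h) : SheafGlue.liftIdx w (t ≫ memτ H w) ⟶ w') :=
    ObjectProperty.hom_ext _ (Over.OverMorphism.ext hs')
  have he : (memMap_sq H (SheafGlue.liftMap w (t ≫ memτ H w))).lift t (𝟙 T) (lift_cond H w t) ≫
      (memMap H n).top = s := by
    refine (memMap_sq H m).hom_ext ?_ ?_
    · rw [Category.assoc, ← memMap_comp, hn, IsPullback.lift_fst, hs]
    · rw [Category.assoc, (memMap_sq H n).w, IsPullback.lift_snd_assoc]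
      exact Category.id_comp _
  rw [tr, ← hn', memMap_comp, reassoc_of% he]

lemma tr_self (w : SheafGlue.Idx R) {T : Over S} (t : T ⟶ (mem H w).P) (a : T ⟶ w.obj.left)
    (ha : t ≫ memτ H w = a) (h : a ≫ w.obj.hom = (t ≫ memτ H w) ≫ w.obj.hom) : tr H w w t a h = t := by
  rw [tr_char H h (𝟙 w) (𝟙 w) t (by rw [memMap_id, Category.comp_id]) (by
    rw [← ha]; exact Category.comp_id _), memMap_id, Category.comp_id]

lemma tr_nat (w w' : SheafGlue.Idx R) {T T' : Over S} (g : T' ⟶ T) (t : T ⟶ (mem H w).P) (a : T ⟶ w'.obj.left)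
    (h : a ≫ w'.obj.hom = (t ≫ memτ H w) ≫ w.obj.hom) (t' : T' ⟶ (mem H w).P) (a' : T' ⟶ w'.obj.left)
    (ht : t' = g ≫ t) (ha : a' = g ≫ a) (h' : a' ≫ w'.obj.hom = (t' ≫ memτ H w) ≫ w.obj.hom) :
    tr H w w' t' a' h' = g ≫ tr H w w' t a h := by
  subst ht ha
  rw [tr_char H h' (SheafGlue.liftMap w (t ≫ memτ H w)) (ObjectProperty.homMk (Over.homMk a h))
    (g ≫ (memMap_sq H (SheafGlue.liftMap w (t ≫ memτ H w))).lift t (𝟙 T) (lift_cond H w t))
    (by rw [Category.assoc, IsPullback.lift_fst]) ((congrArg (· ≫ a) ((Category.assoc _ _ _).trans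
      ((congrArg (g ≫ ·) (IsPullback.lift_snd _ _ _ (lift_cond H w t))).trans (Category.comp_id g))))), Category.assoc]
  rfl

lemma tr_congr (w w' : SheafGlue.Idx R) {T : Over S} {t t' : T ⟶ (mem H w).P} {a a' : T ⟶ w'.obj.left}
    (ht : t' = t) (ha : a' = a) (h : a ≫ w'.obj.hom = (t ≫ memτ H w) ≫ w.obj.hom)
    (h' : a' ≫ w'.obj.hom = (t' ≫ memτ H w) ≫ w.obj.hom) : tr H w w' t' a' h' = tr H w w' t a h := by
  subst ht ha; rfl

lemma tr_map {w₁ w₂ : SheafGlue.Idx R} (m : w₁ ⟶ w₂) {T : Over S} (t : T ⟶ (mem H w₁).P)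
    (a : T ⟶ w₂.obj.left) (ha : (t ≫ memτ H w₁) ≫ m.hom.left = a)
    (h : a ≫ w₂.obj.hom = (t ≫ memτ H w₁) ≫ w₁.obj.hom) : tr H w₁ w₂ t a h = t ≫ (memMap H m).top :=
  tr_char H h (𝟙 w₁) m t (by rw [memMap_id, Category.comp_id]) ha

lemma tr_comp (w w' w'' : SheafGlue.Idx R) {T : Over S} (t : T ⟶ (mem H w).P) (a : T ⟶ w'.obj.left)
    (b : T ⟶ w''.obj.left) (h : a ≫ w'.obj.hom = (t ≫ memτ H w) ≫ w.obj.hom)
    (h' : b ≫ w''.obj.hom = (tr H w w' t a h ≫ memτ H w') ≫ w'.obj.hom)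
    (h'' : b ≫ w''.obj.hom = (t ≫ memτ H w) ≫ w.obj.hom) :
    tr H w' w'' (tr H w w' t a h) b h' = tr H w w'' t b h'' := by
  let w₀ := SheafGlue.liftIdx w (t ≫ memτ H w)
  let e := (memMap_sq H (SheafGlue.liftMap w (t ≫ memτ H w))).lift t (𝟙 T) (lift_cond H w t)
  let m'' : w₀ ⟶ w'' := ObjectProperty.homMk (Over.homMk b h'')
  have he : e ≫ memτ H w₀ = 𝟙 T := IsPullback.lift_snd _ _ _ _
  have hb : (e ≫ memτ H w₀) ≫ m''.hom.left = b := by rw [he]; exact Category.id_comp _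
  rw [tr_char H h' (ObjectProperty.homMk (Over.homMk a h) : w₀ ⟶ w') m'' e rfl hb,
    tr_char H h'' (SheafGlue.liftMap w (t ≫ memτ H w)) m'' e (IsPullback.lift_fst _ _ _ _) hb]

end tr

lemma exists_small (hR : R ∈ QuotSh.J Scheme.fpqcPrecoverage S U) :
    ∃ (κ : Type u) (Z : κ → Scheme.{u}) (f : ∀ i, Z i ⟶ U.left),
      Presieve.ofArrows Z f ∈ Scheme.fpqcPrecoverage U.left ∧
        ∀ i, R (Over.homMk (f i) rfl : Over.mk (f i ≫ U.hom) ⟶ U) := by
  have hR' := (GrothendieckTopology.mem_over_iff (J := Scheme.fpqcTopology) (Y := U) R).1 hR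
  obtain ⟨R₀, hR₀, hle⟩ := (Precoverage.mem_toGrothendieck_iff_of_isStableUnderComposition
    (J := Scheme.fpqcPrecoverage)).1 hR'
  obtain ⟨I, Z, f, rfl⟩ := R₀.exists_eq_ofArrows
  haveI : Precoverage.Small.{u} Scheme.fpqcPrecoverage.{u} :=
    inferInstanceAs (Precoverage.Small.{u} (Scheme.propQCPrecoverage @Flat))
  let E : Scheme.fpqcPrecoverage.ZeroHypercover U.left := { I₀ := I, X := Z, f := f, mem₀ := hR₀ }
  let E' := Precoverage.ZeroHypercover.restrictIndexOfSmall.{u} E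
  exact ⟨E'.I₀, E'.X, E'.f, E'.mem₀, fun i =>
    (Sieve.overEquiv_iff (Y := U) R (E'.f i)).1 (hle _ _ (Presieve.ofArrows.mk _))⟩

section glue

variable (H) {κ : Type u} {Z : κ → Scheme.{u}} (f : ∀ i, Z i ⟶ U.left)
  (hf : ∀ i, R (Over.homMk (f i) rfl : Over.mk (f i ≫ U.hom) ⟶ U))

/-- the member over a piece of the family -/
abbrev piece (i : κ) : SheafGlue.Idx R := SheafGlue.idx (Over.homMk (f i) rfl : Over.mk (f i ≫ U.hom) ⟶ U) (hf i)

variable {f hf}

/-- a point of a member from a morphism of schemes -/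
abbrev ptOf {w : SheafGlue.Idx R} {T : Scheme.{u}} (v : T ⟶ (mem H w).P.left) :
    (Over.mk (v ≫ (mem H w).P.hom) : Over S) ⟶ (mem H w).P :=
  Over.homMk v rfl

lemma arr_cond {i : κ} {T : Scheme.{u}} {x₀ : T ⟶ Z i} (v : T ⟶ (mem H (piece f hf i)).P.left)
    (hv : v ≫ (memτ H (piece f hf i)).left = x₀) :
    x₀ ≫ f i ≫ U.hom = v ≫ (mem H (piece f hf i)).P.hom := by
  have := Over.w (memτ H (piece f hf i))
  rw [← this, ← hv, Category.assoc]
  rfl

variable (f hf)

/-- transport at the level of schemes -/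
def trSch {i j : κ} {T : Scheme.{u}} (x₀ : T ⟶ Z i) (x₁ : T ⟶ Z j) (h : x₀ ≫ f i = x₁ ≫ f j)
    (v : T ⟶ (mem H (piece f hf i)).P.left) (hv : v ≫ (memτ H (piece f hf i)).left = x₀) :
    (Over.mk (v ≫ (mem H (piece f hf i)).P.hom) : Over S) ⟶ (mem H (piece f hf j)).P :=
  tr H (piece f hf i) (piece f hf j) (ptOf H v)
    (Over.homMk x₁ (by
      show x₁ ≫ f j ≫ U.hom = v ≫ _
      rw [← Category.assoc, ← h, Category.assoc]
      exact arr_cond H v hv))
    (Over.OverMorphism.ext (by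
      show x₁ ≫ f j = (v ≫ (memτ H (piece f hf i)).left) ≫ f i
      rw [hv, h]))

lemma trSch_τ {i j : κ} {T : Scheme.{u}} (x₀ : T ⟶ Z i) (x₁ : T ⟶ Z j) (h : x₀ ≫ f i = x₁ ≫ f j)
    (v : T ⟶ (mem H (piece f hf i)).P.left) (hv : v ≫ (memτ H (piece f hf i)).left = x₀) :
    (trSch H f hf x₀ x₁ h v hv).left ≫ (memτ H (piece f hf j)).left = x₁ :=
  congrArg CommaMorphism.left (tr_τ H _ _ _ _ _)

lemma trSch_congr {i j : κ} {T : Scheme.{u}} (x₀ : T ⟶ Z i) (x₁ : T ⟶ Z j) (h : x₀ ≫ f i = x₁ ≫ f j)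
    (v : T ⟶ (mem H (piece f hf i)).P.left) (hv : v ≫ (memτ H (piece f hf i)).left = x₀) {T' : Over S}
    (g : T'.left ⟶ T) (t' : T' ⟶ (mem H (piece f hf i)).P) (a' : T' ⟶ (piece f hf j).obj.left)
    (ht : t'.left = g ≫ v) (ha : a'.left = g ≫ x₁)
    (h' : a' ≫ (piece f hf j).obj.hom = (t' ≫ memτ H (piece f hf i)) ≫ (piece f hf i).obj.hom) :
    (tr H _ _ t' a' h').left = g ≫ (trSch H f hf x₀ x₁ h v hv).left := by
  have hg : g ≫ v ≫ (mem H (piece f hf i)).P.hom = T'.hom := by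
    rw [← Category.assoc, ← ht]; exact Over.w t'
  let g' : T' ⟶ Over.mk (v ≫ (mem H (piece f hf i)).P.hom) := Over.homMk g hg
  show _ = (g' ≫ trSch H f hf x₀ x₁ h v hv).left
  unfold trSch
  refine congrArg CommaMorphism.left (tr_nat H _ _ g' _ _ _ t' a' ?_ ?_ h')
  · exact Over.OverMorphism.ext ht
  · exact Over.OverMorphism.ext ha

lemma trSch_comp {i j k : κ} {T : Scheme.{u}} (x₀ : T ⟶ Z i) (x₁ : T ⟶ Z j) (x₂ : T ⟶ Z k)
    (h₀₁ : x₀ ≫ f i = x₁ ≫ f j) (h₁₂ : x₁ ≫ f j = x₂ ≫ f k)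
    (v : T ⟶ (mem H (piece f hf i)).P.left) (hv : v ≫ (memτ H (piece f hf i)).left = x₀)
    (hv' : (trSch H f hf x₀ x₁ h₀₁ v hv).left ≫ (memτ H (piece f hf j)).left = x₁) :
    (trSch H f hf x₁ x₂ h₁₂ (trSch H f hf x₀ x₁ h₀₁ v hv).left hv').left =
      (trSch H f hf x₀ x₂ (h₀₁.trans h₁₂) v hv).left := by
  let t₁ := trSch H f hf x₀ x₁ h₀₁ v hv
  let b : (Over.mk (v ≫ (mem H (piece f hf i)).P.hom) : Over S) ⟶ (piece f hf k).obj.left :=
    Over.homMk x₂ (by
      show x₂ ≫ f k ≫ U.hom = v ≫ _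
      rw [← Category.assoc, ← h₁₂, ← h₀₁, Category.assoc]
      exact arr_cond H v hv)
  have h' : b ≫ (piece f hf k).obj.hom = (t₁ ≫ memτ H (piece f hf j)) ≫ (piece f hf j).obj.hom :=
    Over.OverMorphism.ext (by
      show x₂ ≫ f k = (t₁.left ≫ (memτ H (piece f hf j)).left) ≫ f j
      rw [hv', h₁₂])
  have h'' : b ≫ (piece f hf k).obj.hom =
      (ptOf H v ≫ memτ H (piece f hf i)) ≫ (piece f hf i).obj.hom :=
    Over.OverMorphism.ext (by
      show x₂ ≫ f k = (v ≫ (memτ H (piece f hf i)).left) ≫ f i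
      rw [hv, h₀₁, h₁₂])
  have e := trSch_congr H f hf x₁ x₂ h₁₂ t₁.left hv' (𝟙 T) t₁ b (Category.id_comp _).symm
    (Category.id_comp _).symm h'
  exact (e.trans (Category.id_comp _)).symm.trans
    (congrArg CommaMorphism.left (tr_comp H _ _ _ _ _ _ _ h' h''))

lemma trSch_self {i : κ} {T : Scheme.{u}} (x : T ⟶ Z i) (v : T ⟶ (mem H (piece f hf i)).P.left)
    (hv : v ≫ (memτ H (piece f hf i)).left = x) : (trSch H f hf x x rfl v hv).left = v :=
  congrArg CommaMorphism.left (tr_self H _ _ _ (Over.OverMorphism.ext hv) _)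

lemma trSch_eq {i j : κ} {T : Scheme.{u}} (x₀ : T ⟶ Z i) (x₁ : T ⟶ Z j) (h : x₀ ≫ f i = x₁ ≫ f j)
    {v v' : T ⟶ (mem H (piece f hf i)).P.left} (e : v = v') (hv : v ≫ (memτ H (piece f hf i)).left = x₀) :
    (trSch H f hf x₀ x₁ h v hv).left = (trSch H f hf x₀ x₁ h v' (e ▸ hv)).left := by subst e; rfl

lemma trSch_nat {i j : κ} {T T' : Scheme.{u}} (g : T' ⟶ T) (x₀ : T ⟶ Z i) (x₁ : T ⟶ Z j)
    (h : x₀ ≫ f i = x₁ ≫ f j) (v : T ⟶ (mem H (piece f hf i)).P.left)
    (hv : v ≫ (memτ H (piece f hf i)).left = x₀) (y₀ : T' ⟶ Z i) (y₁ : T' ⟶ Z j) (hy₁ : g ≫ x₁ = y₁)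
    (h' : y₀ ≫ f i = y₁ ≫ f j) (v' : T' ⟶ (mem H (piece f hf i)).P.left) (hvv : v' = g ≫ v)
    (hv' : v' ≫ (memτ H (piece f hf i)).left = y₀) :
    (trSch H f hf y₀ y₁ h' v' hv').left = g ≫ (trSch H f hf x₀ x₁ h v hv).left :=
  trSch_congr H f hf x₀ x₁ h v hv (T' := Over.mk (v' ≫ (mem H (piece f hf i)).P.hom)) g _ _ hvv hy₁.symm _

/-- the descent datum of the members -/
def schDD : Desc.SchDDFam f where
  obj i := Over.mk (memτ H (piece f hf i)).left
  φ T i j x₀ x₁ h :=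
    { toFun := fun v => ⟨(trSch H f hf x₀ x₁ h v.1 v.2).left, trSch_τ H f hf x₀ x₁ h v.1 v.2⟩
      invFun := fun v => ⟨(trSch H f hf x₁ x₀ h.symm v.1 v.2).left, trSch_τ H f hf x₁ x₀ h.symm v.1 v.2⟩
      left_inv := fun v => Subtype.ext
        ((trSch_comp H f hf x₀ x₁ x₀ h h.symm v.1 v.2 (trSch_τ H f hf x₀ x₁ h v.1 v.2)).trans (trSch_self H f hf x₀ v.1 v.2))
      right_inv := fun v => Subtype.ext
        ((trSch_comp H f hf x₁ x₀ x₁ h.symm h v.1 v.2 (trSch_τ H f hf x₁ x₀ h.symm v.1 v.2)).trans (trSch_self H f hf x₁ v.1 v.2)) }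
  φ_natural T T' g i j x₀ x₁ h y₀ y₁ hy₀ hy₁ h' v v' hv' :=
    trSch_nat H f hf g x₀ x₁ h v.1 v.2 y₀ y₁ hy₁ h' v'.1 hv' v'.2
  φ_self T i x v := Subtype.ext (trSch_self H f hf x v.1 v.2)
  φ_comp T i j k x₀ x₁ x₂ h₀₁ h₁₂ v := Subtype.ext (trSch_comp H f hf x₀ x₁ x₂ h₀₁ h₁₂ v.1 v.2 (trSch_τ H f hf x₀ x₁ h₀₁ v.1 v.2))

end glue

/-! ### gluing -/

/-- The universal property of a pullback may be checked on coverings. -/
lemma isPullback_local {M P Q Y : Over S} {f : M ⟶ P} {g : M ⟶ Q} {u : P ⟶ Y} {v : Q ⟶ Y}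
    (w : f ≫ u = g ≫ v)
    (h : ∀ (T : Over S) (x : T ⟶ P) (y : T ⟶ Q), x ≫ u = y ≫ v →
      ∃ R' ∈ QuotSh.J Scheme.fpqcPrecoverage S T, ∀ (V : Over S) (k : V ⟶ T), R'.arrows k →
        ∃! s : V ⟶ M, s ≫ f = k ≫ x ∧ s ≫ g = k ≫ y) : IsPullback f g u v := by
  have sqT : ∀ (T : Over S) (R' : Sieve T) (w' : SheafGlue.Idx R'),
      IsPullback w'.obj.hom (𝟙 w'.obj.left) (𝟙 T) w'.obj.hom :=
    fun T R' w' => IsPullback.of_vert_isIso ⟨by simp⟩
  have hext : ∀ (T : Over S) (a b : T ⟶ M), a ≫ f = b ≫ f → a ≫ g = b ≫ g → a = b := by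
    intro T a b hf hg
    obtain ⟨R', hR', hu⟩ := h T (a ≫ f) (a ≫ g) (by rw [Category.assoc, Category.assoc, w])
    refine desc_ext hR' (sqT T R') fun w' => (hu _ w'.obj.hom w'.property).unique ?_ ?_
    · exact ⟨Category.assoc _ _ _, Category.assoc _ _ _⟩
    · exact ⟨by rw [Category.assoc, ← hf], by rw [Category.assoc, ← hg]⟩
  have hex : ∀ (T : Over S) (x : T ⟶ P) (y : T ⟶ Q), x ≫ u = y ≫ v → ∃ s, s ≫ f = x ∧ s ≫ g = y := by
    intro T x y hxy
    obtain ⟨R', hR', hu⟩ := h T x y hxy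
    obtain ⟨s, hs, -⟩ := desc hR' (sqT T R') (fun w' => (hu _ w'.obj.hom w'.property).choose)
      (fun w'' w' m d _ hd => by
        have hd' : d = m.hom.left := by simpa using hd
        obtain ⟨⟨h₁, h₂⟩, -⟩ := (hu _ w'.obj.hom w'.property).choose_spec
        refine (hu _ w''.obj.hom w''.property).choose_spec.2 _ ⟨?_, ?_⟩
        · rw [Category.assoc, h₁, hd', ← Category.assoc, Over.w m.hom]
        · rw [Category.assoc, h₂, hd', ← Category.assoc, Over.w m.hom])
    refine ⟨s, desc_ext hR' (sqT T R') fun w' => ?_, desc_ext hR' (sqT T R') fun w' => ?_⟩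
    · rw [reassoc_of% (hs w'), (hu _ w'.obj.hom w'.property).choose_spec.1.1]
    · rw [reassoc_of% (hs w'), (hu _ w'.obj.hom w'.property).choose_spec.1.2]
  choose l hl₁ hl₂ using hex
  exact ⟨⟨w⟩, ⟨PullbackCone.isLimitAux' _ fun c =>
    ⟨l _ c.fst c.snd c.condition, hl₁ _ _ _ c.condition, hl₂ _ _ _ c.condition,
      fun {m} h₁ h₂ => hext _ _ _ (h₁.trans (hl₁ _ _ _ c.condition).symm) (h₂.trans (hl₂ _ _ _ c.condition).symm)⟩⟩⟩

section cone

variable (H) {κ : Type u} {Z : κ → Scheme.{u}} (f : ∀ i, Z i ⟶ U.left)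
  (hf : ∀ i, R (Over.homMk (f i) rfl : Over.mk (f i ≫ U.hom) ⟶ U))

lemma exists_pieces (hcov : Presieve.ofArrows Z f ∈ Scheme.fpqcPrecoverage U.left) :
    ∃ R' ∈ QuotSh.J Scheme.fpqcPrecoverage S U, ∀ ⦃V : Over S⦄ (k : V ⟶ U), R'.arrows k →
      ∃ (i : κ) (a : V ⟶ (piece f hf i).obj.left), a ≫ (piece f hf i).obj.hom = k := by
  refine ⟨(Sieve.overEquiv U).symm (Sieve.generate (Presieve.ofArrows Z f)), ?_, fun V k hk => ?_⟩
  · exact GrothendieckTopology.overEquiv_symm_mem_over _ _ _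
      (Precoverage.generate_mem_toGrothendieck hcov)
  · obtain ⟨_, a, _, ⟨i⟩, ha⟩ := (Sieve.overEquiv_symm_iff (Sieve.generate (Presieve.ofArrows Z f)) k).1 hk
    refine ⟨i, Over.homMk a ?_, Over.OverMorphism.ext ha⟩
    show a ≫ f i ≫ U.hom = V.hom
    rw [← Category.assoc, ha, Over.w k]

include hf in
theorem exists_glued [IsAffineHom G.hom] (hcov : Presieve.ofArrows Z f ∈ Scheme.fpqcPrecoverage U.left) :
    ∃ (P : Over S) (p : P ⟶ U) (q : ∀ w : SheafGlue.Idx R, (mem H w).P ⟶ P),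
      (∀ {w' w : SheafGlue.Idx R} (m : w' ⟶ w), (memMap H m).top ≫ q w = q w') ∧
        ∀ w, IsPullback (q w) (memτ H w) p w.obj.hom := by
  obtain ⟨P₀, ⟨e⟩⟩ := SchDescent.effective_of_indQA f hcov (schDD H f hf) fun i => by
    haveI : IsAffineHom (mem H (piece f hf i)).π.left := isAffineHom_π _
    haveI : IsIso (memEq H (piece f hf i)).left := Functor.map_isIso (Over.forget S) _
    refine (Groth.Agent.S1398.result _).2 ⟨?_, fun V hV => ?_⟩
    · show QuasiCompact ((mem H (piece f hf i)).π.left ≫ (memEq H (piece f hf i)).left)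
      infer_instance
    · have : IsAffineHom (Over.mk (memτ H (piece f hf i)).left).hom :=
        inferInstanceAs (IsAffineHom ((mem H (piece f hf i)).π.left ≫ (memEq H (piece f hf i)).left))
      have : IsAffine (((schDD H f hf).obj i).hom ⁻¹ᵁ V : Scheme.{u}) :=
        hV.preimage (Over.mk (memτ H (piece f hf i)).left).hom
      infer_instance
  let P : Over S := Over.mk (P₀.hom ≫ U.hom)
  let p : P ⟶ U := Over.homMk P₀.hom rfl
  let el : ∀ i, (mem H (piece f hf i)).P.left ⟶ pullback (f i) P₀.hom := fun i => (e.inv.hom i).left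
  have hel : ∀ i, el i ≫ pullback.fst _ _ = (memτ H (piece f hf i)).left := fun i => Over.w (e.inv.hom i)
  have hiso : ∀ i, IsIso (el i) := fun i =>
    ⟨(e.hom.hom i).left,
      congrArg (fun k : schDD H f hf ⟶ schDD H f hf => (k.hom i).left) e.inv_hom_id,
      congrArg (fun k : (Desc.toDDFam f).obj P₀ ⟶ (Desc.toDDFam f).obj P₀ => (k.hom i).left) e.hom_inv_id⟩
  let g : ∀ i, (mem H (piece f hf i)).P ⟶ P := fun i => Over.homMk (el i ≫ pullback.snd _ _) (by
    show (el i ≫ pullback.snd _ _) ≫ P₀.hom ≫ U.hom = _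
    rw [Category.assoc, ← pullback.condition_assoc, reassoc_of% (hel i)]
    exact Over.w (memτ H (piece f hf i)))
  have sqg : ∀ i, IsPullback (g i).left (memτ H (piece f hf i)).left p.left (piece f hf i).obj.hom.left := fun i => by
    haveI := hiso i
    exact (IsPullback.of_iso_pullback ⟨by
      show (memτ H (piece f hf i)).left ≫ f i = (el i ≫ pullback.snd _ _) ≫ P₀.hom
      rw [Category.assoc, ← pullback.condition, reassoc_of% (hel i)]⟩ (asIso (el i)) (hel i) rfl).flip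
  have sqG : ∀ i, IsPullback (g i) (memτ H (piece f hf i)) p (piece f hf i).obj.hom := fun i =>
    IsPullback.of_map_of_faithful (Over.forget S) (sqg i)
  -- compatibility of the structure maps with transport
  have compat : ∀ {i j : κ} {T : Over S} (t : T ⟶ (mem H (piece f hf i)).P) (a : T ⟶ (piece f hf j).obj.left)
      (h : a ≫ (piece f hf j).obj.hom = (t ≫ memτ H (piece f hf i)) ≫ (piece f hf i).obj.hom),
      tr H _ _ t a h ≫ g j = t ≫ g i := by
    intro i j T t a h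
    have hh : (t.left ≫ (memτ H (piece f hf i)).left) ≫ f i = a.left ≫ f j :=
      congrArg CommaMorphism.left h.symm
    have e' := trSch_congr H f hf (t.left ≫ (memτ H (piece f hf i)).left) a.left hh t.left rfl (𝟙 T.left)
      t a (Category.id_comp _).symm (Category.id_comp _).symm h
    apply Over.OverMorphism.ext
    show (tr H _ _ t a h).left ≫ el j ≫ pullback.snd _ _ = t.left ≫ el i ≫ pullback.snd _ _
    refine (congrArg (· ≫ el j ≫ pullback.snd _ _) (e'.trans (Category.id_comp _))).trans ?_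
    have hc := e.inv.comm (t.left ≫ (memτ H (piece f hf i)).left) a.left hh ⟨t.left, rfl⟩
      ⟨t.left ≫ el i, (Category.assoc _ _ _).trans (congrArg (t.left ≫ ·) (hel i))⟩ rfl
    refine (Category.assoc _ _ _).symm.trans
      ((congrArg (· ≫ pullback.snd (f j) P₀.hom) hc.symm).trans ?_)
    exact (pullback.lift_snd _ _ _).trans (Category.assoc _ _ _)
  obtain ⟨R', hR', hfac⟩ := exists_pieces f hf hcov
  -- the value at a point lying over a piece
  have indep : ∀ (w : SheafGlue.Idx R) {T : Over S} (t : T ⟶ (mem H w).P) (i j : κ)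
      (a : T ⟶ (piece f hf i).obj.left) (b : T ⟶ (piece f hf j).obj.left)
      (ha : a ≫ (piece f hf i).obj.hom = (t ≫ memτ H w) ≫ w.obj.hom)
      (hb : b ≫ (piece f hf j).obj.hom = (t ≫ memτ H w) ≫ w.obj.hom),
      tr H _ _ t a ha ≫ g i = tr H _ _ t b hb ≫ g j := by
    intro w T t i j a b ha hb
    rw [← compat (tr H _ _ t a ha) b (by rw [tr_τ, hb, ha]), tr_comp H w (piece f hf i) (piece f hf j) t a b ha _ hb]
  have hV : ∀ (w : SheafGlue.Idx R) {T : Over S} (t : T ⟶ (mem H w).P), R'.arrows ((t ≫ memτ H w) ≫ w.obj.hom) →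
      ∃ z : T ⟶ P, ∀ (i : κ) (a : T ⟶ (piece f hf i).obj.left)
        (ha : a ≫ (piece f hf i).obj.hom = (t ≫ memτ H w) ≫ w.obj.hom), tr H _ _ t a ha ≫ g i = z := by
    intro w T t ht
    obtain ⟨i₀, a₀, ha₀⟩ := hfac _ ht
    exact ⟨tr H _ _ t a₀ ha₀ ≫ g i₀, fun i a ha => indep w t i i₀ a a₀ ha ha₀⟩
  choose V hV using @hV
  have V_congr : ∀ (w : SheafGlue.Idx R) {T : Over S} (t t' : T ⟶ (mem H w).P) (e : t = t') (ht) (ht'),
      V w t ht = V w t' ht' := by
    intro w T t t' e ht ht'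
    subst e; rfl
  have V_nat : ∀ (w : SheafGlue.Idx R) {T T' : Over S} (k : T' ⟶ T) (t : T ⟶ (mem H w).P) (ht) (ht'),
      V w (k ≫ t) ht' = k ≫ V w t ht := by
    intro w T T' k t ht ht'
    obtain ⟨i, a, ha⟩ := hfac _ ht
    have hka : (k ≫ a) ≫ (piece f hf i).obj.hom = ((k ≫ t) ≫ memτ H w) ≫ w.obj.hom := by
      simp only [Category.assoc] at ha ⊢
      rw [ha]
    rw [← hV w t ht i a ha, ← hV w (k ≫ t) ht' i (k ≫ a) hka,
      tr_nat H w _ k t a ha (k ≫ t) (k ≫ a) rfl rfl hka, Category.assoc]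
  have V_map : ∀ {w₁ w₂ : SheafGlue.Idx R} (m : w₁ ⟶ w₂) {T : Over S} (t : T ⟶ (mem H w₁).P) (ht) (ht'),
      V w₂ (t ≫ (memMap H m).top) ht' = V w₁ t ht := by
    intro w₁ w₂ m T t ht ht'
    obtain ⟨i, a, ha⟩ := hfac _ ht
    have hm : ((t ≫ (memMap H m).top) ≫ memτ H w₂) ≫ w₂.obj.hom = (t ≫ memτ H w₁) ≫ w₁.obj.hom := by
      rw [Category.assoc t, (memMap_sq H m).w, ← Over.w m.hom]
      simp only [Category.assoc]
    have hm' : ((t ≫ memτ H w₁) ≫ m.hom.left) ≫ w₂.obj.hom = (t ≫ memτ H w₁) ≫ w₁.obj.hom := by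
      rw [Category.assoc, Over.w m.hom]
    rw [← hV w₁ t ht i a ha, ← hV w₂ _ ht' i a (ha.trans hm.symm)]
    congr 1
    refine (tr_congr H _ _ (tr_map H m t _ rfl hm').symm rfl ?_ _).trans (tr_comp H _ _ _ t _ a hm' _ ha)
    rw [tr_τ, hm']; exact ha
  -- the glued maps
  have hq : ∀ w : SheafGlue.Idx R, ∃ q : (mem H w).P ⟶ P, ∀ (T : Over S) (t : T ⟶ (mem H w).P) (ht),
      t ≫ q = V w t ht := by
    intro w
    have hRw := (QuotSh.J Scheme.fpqcPrecoverage S).pullback_stable w.obj.hom hR'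
    let toR : SheafGlue.Idx (R'.pullback w.obj.hom) → SheafGlue.Idx R := fun w₁ =>
      SheafGlue.idx (w₁.obj.hom ≫ w.obj.hom) (R.downward_closed w.property _)
    let m₁ : ∀ w₁, toR w₁ ⟶ w := fun w₁ => ObjectProperty.homMk (Over.homMk w₁.obj.hom rfl)
    have hin : ∀ w₁, R'.arrows ((𝟙 (mem H (toR w₁)).P ≫ memτ H (toR w₁)) ≫ (toR w₁).obj.hom) := fun w₁ =>
      R'.downward_closed w₁.property _
    obtain ⟨q, hq, -⟩ := desc hRw (fun w₁ => memMap_sq H (m₁ w₁)) (fun w₁ => V (toR w₁) (𝟙 _) (hin w₁))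
      (fun w₂ w₁ m d hd₁ hd₂ => by
        let n : toR w₂ ⟶ toR w₁ := ObjectProperty.homMk (Over.homMk m.hom.left (by
          show m.hom.left ≫ w₁.obj.hom ≫ w.obj.hom = w₂.obj.hom ≫ w.obj.hom
          rw [← Category.assoc, Over.w m.hom]))
        have hn : n ≫ m₁ w₁ = m₁ w₂ := ObjectProperty.hom_ext _ (Over.OverMorphism.ext (Over.w m.hom))
        have hd : d = (memMap H n).top := (memMap_sq H (m₁ w₁)).hom_ext
          (hd₁.trans (by rw [← memMap_comp, hn])) (hd₂.trans (memMap_sq H n).w.symm)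
        have h1 : R'.arrows ((d ≫ memτ H (toR w₁)) ≫ (toR w₁).obj.hom) := by
          rw [Category.assoc]
          exact R'.downward_closed (R'.downward_closed w₁.property (memτ H (toR w₁))) d
        have h2 : R'.arrows (((d ≫ 𝟙 _) ≫ memτ H (toR w₁)) ≫ (toR w₁).obj.hom) := by
          rw [Category.comp_id]; exact h1
        rw [← V_nat (toR w₁) d (𝟙 _) (hin w₁) h2, V_congr (toR w₁) (d ≫ 𝟙 _) (𝟙 _ ≫ (memMap H n).top)
          (by rw [Category.comp_id, Category.id_comp, hd]) h2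
          (by rw [Category.id_comp, ← hd]; exact h1)]
        exact V_map n (𝟙 _) (hin w₂) _)
    refine ⟨q, fun T t ht => ?_⟩
    let w₁ : SheafGlue.Idx (R'.pullback w.obj.hom) := SheafGlue.idx (t ≫ memτ H w) ht
    let e₁ := (memMap_sq H (m₁ w₁)).lift t (𝟙 T) (Category.id_comp _).symm
    have he₁ : e₁ ≫ (memMap H (m₁ w₁)).top = t := IsPullback.lift_fst _ _ _ _
    have he₁' : R'.arrows (((e₁ ≫ 𝟙 _) ≫ memτ H (toR w₁)) ≫ (toR w₁).obj.hom) := by
      simp only [Category.assoc]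
      exact R'.downward_closed (hin w₁) e₁ |> fun h => by simpa only [Category.assoc] using h
    calc t ≫ q = e₁ ≫ (memMap H (m₁ w₁)).top ≫ q := by rw [← Category.assoc, he₁]
      _ = e₁ ≫ V (toR w₁) (𝟙 _) (hin w₁) := by rw [hq]
      _ = V (toR w₁) (e₁ ≫ 𝟙 _) he₁' := (V_nat _ _ _ _ _).symm
      _ = V w ((e₁ ≫ 𝟙 _) ≫ (memMap H (m₁ w₁)).top) (by rw [Category.comp_id, he₁]; exact ht) :=
        (V_map _ _ _ _).symm
      _ = V w t ht := V_congr _ _ _ (by rw [Category.comp_id, he₁]) _ _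
  choose q hq using hq
  have hqi : ∀ (w : SheafGlue.Idx R) {T : Over S} (t : T ⟶ (mem H w).P) (i : κ)
      (a : T ⟶ (piece f hf i).obj.left)
      (ha : a ≫ (piece f hf i).obj.hom = (t ≫ memτ H w) ≫ w.obj.hom),
      R'.arrows ((t ≫ memτ H w) ≫ w.obj.hom) → t ≫ q w = tr H _ _ t a ha ≫ g i :=
    fun w T t i a ha ht => (hq w T t ht).trans (hV w t ht i a ha).symm
  have hcover : ∀ w : SheafGlue.Idx R, ∀ {Y : Over S} (a b : (mem H w).P ⟶ Y),
      (∀ (T : Over S) (t : T ⟶ (mem H w).P), R'.arrows ((t ≫ memτ H w) ≫ w.obj.hom) → t ≫ a = t ≫ b) → a = b := by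
    intro w Y a b h
    refine desc_ext ((QuotSh.J Scheme.fpqcPrecoverage S).pullback_stable (memτ H w ≫ w.obj.hom) hR')
      (p := 𝟙 (mem H w).P) (q := fun w₁ => w₁.obj.hom) (τ := fun w₁ => 𝟙 w₁.obj.left)
      (fun w₁ => IsPullback.of_vert_isIso ⟨by simp⟩) fun w₁ => h _ _ ?_
    simp only [Category.assoc]; exact w₁.property
  refine ⟨P, p, q, fun {w' w} m => hcover w' _ _ fun T t ht => ?_, fun w => ?_⟩
  · have hm : ((t ≫ (memMap H m).top) ≫ memτ H w) ≫ w.obj.hom = (t ≫ memτ H w') ≫ w'.obj.hom := by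
      rw [Category.assoc t, (memMap_sq H m).w, ← Over.w m.hom]
      simp only [Category.assoc]
    rw [← Category.assoc, hq w _ (t ≫ (memMap H m).top) (by rw [hm]; exact ht), hq w' _ t ht]
    exact V_map m t ht _
  have hqp : q w ≫ p = memτ H w ≫ w.obj.hom := hcover w _ _ fun T t ht => by
    obtain ⟨i, a, ha⟩ := hfac _ ht
    rw [← Category.assoc, hqi w t i a ha ht, Category.assoc, (sqG i).w, ← Category.assoc, tr_τ, ha, Category.assoc]
  refine isPullback_local hqp fun T x y hxy => ⟨R'.pullback (x ≫ p),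
    (QuotSh.J Scheme.fpqcPrecoverage S).pullback_stable _ hR', fun T' k hk => ?_⟩
  obtain ⟨i, a, ha⟩ := hfac _ hk
  let sᵢ := (sqG i).lift (k ≫ x) a (by rw [Category.assoc, ha])
  have hsᵢ₁ : sᵢ ≫ g i = k ≫ x := IsPullback.lift_fst _ _ _ _
  have hsᵢ₂ : sᵢ ≫ memτ H (piece f hf i) = a := IsPullback.lift_snd _ _ _ _
  have hy : (k ≫ y) ≫ w.obj.hom = (sᵢ ≫ memτ H (piece f hf i)) ≫ (piece f hf i).obj.hom := by
    rw [hsᵢ₂, ha, Category.assoc, hxy]
  let s := tr H _ w sᵢ (k ≫ y) hy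
  have hs : s ≫ memτ H w = k ≫ y := tr_τ H _ _ _ _ _
  have hys : a ≫ (piece f hf i).obj.hom = (k ≫ y) ≫ w.obj.hom := by rw [ha, Category.assoc, hxy]
  have hts : R'.arrows ((s ≫ memτ H w) ≫ w.obj.hom) := by rw [hs, ← hys, ha]; exact hk
  refine ⟨s, ⟨?_, hs⟩, ?_⟩
  · rw [hqi w s i a (by rw [hs, hys]) hts,
      tr_comp H _ _ _ sᵢ (k ≫ y) a hy _ (by rw [hsᵢ₂]), tr_self H _ sᵢ a hsᵢ₂, hsᵢ₁]
  · intro s' hs'
    obtain ⟨h₁, h₂⟩ := hs'
    have hts' : R'.arrows ((s' ≫ memτ H w) ≫ w.obj.hom) := by rw [h₂, ← hys, ha]; exact hk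
    have e₁ : tr H w _ s' a (by rw [h₂, hys]) = sᵢ := (sqG i).hom_ext
      (by rw [hsᵢ₁, ← h₁, hqi w s' i a (by rw [h₂, hys]) hts'])
      (by rw [hsᵢ₂, tr_τ])
    rw [← tr_self H w s' (k ≫ y) h₂ (by rw [h₂]),
      ← tr_comp H w (piece f hf i) w s' a (k ≫ y) (by rw [h₂, hys]) (by rw [tr_τ, hys]) (by rw [h₂])]
    exact tr_congr H _ _ e₁.symm rfl _ _ |>.symm

include hf in
lemma loc_glued (hcov : Presieve.ofArrows Z f ∈ Scheme.fpqcPrecoverage U.left) {P : Over S} (π : P ⟶ U)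
    (q : ∀ w, (mem H w).P ⟶ P) (hq : ∀ w, q w ≫ π = memτ H w ≫ w.obj.hom) :
    NonAbH1.IsLocallyTrivialFor Scheme.fpqcPrecoverage (Over.mk π.left : Over U.left) := by
  have key : ∀ i, ∃ R₁ ∈ Scheme.fpqcPrecoverage (Z i), ∀ ⦃Z' : Scheme.{u}⦄ (g : Z' ⟶ Z i), R₁ g →
      ∃ s : Z' ⟶ P.left, s ≫ π.left = g ≫ f i := by
    intro i
    have ew : (mem H (piece f hf i)).base = Over.mk (f i ≫ U.hom) := H.w_obj (piece f hf i)
    let e : Z i ⟶ (mem H (piece f hf i)).base.left := (eqToHom ew.symm).left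
    have hee : e ≫ (memEq H (piece f hf i)).left = 𝟙 (Z i) := by
      show (eqToHom ew.symm).left ≫ (eqToHom (H.w_obj (piece f hf i))).left = _
      rw [← Over.comp_left, eqToHom_trans]
      rfl
    obtain ⟨R₁, hR₁, hs₁⟩ := (mem H (piece f hf i)).loc
    refine ⟨_, Precoverage.pullbackArrows_mem (J := Scheme.fpqcPrecoverage) e hR₁, fun Z' g hg => ?_⟩
    cases hg with
    | mk W i' hi' =>
      obtain ⟨s, hs⟩ := hs₁ i' hi'
      have hs'' : s ≫ (mem H (piece f hf i)).π.left = i' := hs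
      refine ⟨pullback.fst i' e ≫ s ≫ (q (piece f hf i)).left, ?_⟩
      have h₂ : (q (piece f hf i)).left ≫ π.left =
          (mem H (piece f hf i)).π.left ≫ (memEq H (piece f hf i)).left ≫ f i := by
        rw [← Over.comp_left, hq]
        exact Category.assoc _ _ _
      rw [Category.assoc, Category.assoc, h₂, reassoc_of% hs'', pullback.condition_assoc, reassoc_of% hee]
  choose R₁ hR₁ hs using key
  choose J W g hR₁' using fun i => (R₁ i).exists_eq_ofArrows
  refine ⟨_, Precoverage.comp_mem_coverings f hcov g (fun i => hR₁' i ▸ hR₁ i), ?_⟩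
  rintro Z' k ⟨⟨i, j⟩⟩
  exact hs i (g i j) (by rw [hR₁' i]; exact ⟨j⟩)

end cone

variable (H) in
theorem exists_cone [IsAffineHom G.hom] (hR : R ∈ QuotSh.J Scheme.fpqcPrecoverage S U) :
    Nonempty (StackCrit.Cone H) := by
  obtain ⟨κ, Z, f, hcov, hf⟩ := exists_small hR
  obtain ⟨P, π, q, qnat, sq⟩ := exists_glued H f hf hcov
  have sqK : ∀ (K : Over S) (w : SheafGlue.Idx R), IsPullback (K ◁ q w) (snd K _ ≫ memτ H w)
      (snd K P ≫ π) w.obj.hom := fun K w => (AlgSt.isPullback_whiskerLeft (q w)).paste_vert (sq w)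
  obtain ⟨a, ha, -⟩ := desc hR (sqK G) (fun w => (mem H w).act.act ≫ q w) fun w' w m d h₁ h₂ => by
    have hd : d = G ◁ (memMap H m).top := (sqK G w).hom_ext
      (h₁.trans (by rw [← MonoidalCategory.whiskerLeft_comp, qnat])) (h₂.trans (by
        rw [whiskerLeft_snd_assoc, (memMap_sq H m).w, Category.assoc]))
    rw [hd, ← reassoc_of% (memMap H m).eqv, qnat]
  let act : AlgGrp.Action G P :=
    { act := a
      one_act := desc_ext hR (sqK _) fun w => by
        rw [whisker_exchange_assoc, ha, reassoc_of% (mem H w).act.one_act, leftUnitor_naturality]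
      mul_act := desc_ext hR (sqK _) fun w => by
        rw [whisker_exchange_assoc, ha, reassoc_of% (mem H w).act.mul_act, associator_naturality_right_assoc,
          ← MonoidalCategory.whiskerLeft_comp_assoc, ha, MonoidalCategory.whiskerLeft_comp_assoc, ha] }
  have haπ : a ≫ π = snd G P ≫ π := desc_ext hR (sqK G) fun w => by
    rw [reassoc_of% (ha w), (sq w).w, whiskerLeft_snd_assoc, (sq w).w, memτ, Category.assoc,
      reassoc_of% (mem H w).cart.w]
  have hc : IsPullback a (snd G P) π π := by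
    refine isPullback_local haπ fun T x y hxy => ⟨R.pullback (x ≫ π),
      (QuotSh.J Scheme.fpqcPrecoverage S).pullback_stable _ hR, fun T' k hk => ?_⟩
    let w : SheafGlue.Idx R := SheafGlue.idx (k ≫ x ≫ π) hk
    let x' := (sq w).lift (k ≫ x) (𝟙 T') (by rw [Category.assoc]; exact (Category.id_comp _).symm)
    let y' := (sq w).lift (k ≫ y) (𝟙 T') (by rw [Category.assoc, ← hxy]; exact (Category.id_comp _).symm)
    have hc' : IsPullback (mem H w).act.act (snd G _) (memτ H w) (memτ H w) :=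
      (mem H w).cart.of_iso (Iso.refl _) (Iso.refl _) (Iso.refl _) (eqToIso (H.w_obj w))
        (by simp) (by simp) (by simp [memτ]) (by simp [memτ])
    have hx'y' : x' ≫ memτ H w = y' ≫ memτ H w :=
      (IsPullback.lift_snd _ _ _ _).trans (IsPullback.lift_snd _ _ _ _).symm
    refine ⟨hc'.lift x' y' hx'y' ≫ (G ◁ q w), ⟨?_, ?_⟩, fun s hs => ?_⟩
    · rw [Category.assoc, ha, hc'.lift_fst_assoc, IsPullback.lift_fst]
    · rw [Category.assoc, whiskerLeft_snd, hc'.lift_snd_assoc, IsPullback.lift_fst]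
    · obtain ⟨h₁, h₂⟩ := hs
      let s' := (sqK G w).lift s (𝟙 T') (by
        rw [reassoc_of% h₂, Category.id_comp, ← hxy]
        rfl)
      have hs₁ : s' ≫ (G ◁ q w) = s := IsPullback.lift_fst _ _ _ _
      have hs₂ : s' ≫ snd G _ ≫ memτ H w = 𝟙 T' := IsPullback.lift_snd _ _ _ _
      have e₁ : s' = hc'.lift x' y' hx'y' := by
        refine hc'.hom_ext ?_ ?_
        · rw [hc'.lift_fst]
          refine (sq w).hom_ext ?_ ?_
          · rw [IsPullback.lift_fst, Category.assoc, ← ha, ← Category.assoc, hs₁, h₁]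
          · rw [IsPullback.lift_snd, Category.assoc, hc'.w, hs₂]
        · rw [hc'.lift_snd]
          refine (sq w).hom_ext ?_ ?_
          · rw [IsPullback.lift_fst, Category.assoc, ← whiskerLeft_snd, ← Category.assoc, hs₁, h₂]
          · rw [IsPullback.lift_snd, Category.assoc, hs₂]
      rw [← hs₁, e₁]
  obtain ⟨φ, hφ, -⟩ := desc hR sq (fun w => (mem H w).φ) fun w' w m d h₁ h₂ => by
    have hd : d = (memMap H m).top := (sq w).hom_ext (h₁.trans (qnat m).symm) (h₂.trans (memMap_sq H m).w.symm)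
    rw [hd, (memMap H m).wφ]
  let A : AlgSt.QuotObj Scheme.fpqcPrecoverage G aX :=
    { base := U, P := P, act := act, π := π, cart := hc, loc := loc_glued H f hf hcov π q (fun w => (sq w).w), φ := φ
      eqv := desc_ext hR (sqK G) fun w => by
        rw [reassoc_of% (ha w), hφ, (mem H w).eqv, ← MonoidalCategory.whiskerLeft_comp_assoc, hφ] }
  exact ⟨{ pt := A, hpt := rfl
           q := fun w =>
            { base := memEq H w ≫ w.obj.hom
              top := q w
              eqv := (ha w).symm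
              cart := IsPullback.of_bot (h₂₁ := memEq H w ≫ w.obj.hom) (v₂₁ := memEq H w) (v₂₂ := 𝟙 U)
                (h₃₁ := w.obj.hom) (by rw [Category.comp_id]; exact sq w) (by rw [(sq w).w, Category.assoc])
                (IsPullback.of_vert_isIso ⟨Category.comp_id _⟩)
              wφ := hφ w }
           hq := fun w => (congrArg (memEq H w ≫ ·) (Category.comp_id w.obj.hom)).symm
           nat := fun {w' w} m => AlgSt.QuotObj.hom_ext (by
             show (memMap H m).base ≫ memEq H w ≫ w.obj.hom = memEq H w' ≫ w'.obj.hom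
             rw [← Category.assoc, memMap_base, Category.assoc]
             exact congrArg (memEq H w' ≫ ·) (Over.w m.hom)) (qnat m) }⟩

/-- quotient categories with scheme torsors under affine groups are stacks for the fpqc topology -/
theorem isStack (G : Over S) [GrpObj G] [IsAffineHom G.hom] (aX : AlgGrp.Action G X) :
    Stk.IsStack (QuotSh.J Scheme.fpqcPrecoverage S) (AlgSt.QuotSt Scheme.fpqcPrecoverage G aX) :=
  ⟨isFibGrpd G aX, fun _ _ hR => StackCrit.isStackFor_of_cones (isFibGrpd G aX)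
    (fun _ c c' => existsUnique_hom hR c c') (fun H => exists_cone H hR)⟩

end Groth.Agent.AlgStLib.QuotFpqc

end
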