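import Groth.Agent.AlgStLib.LocQResults
import Groth.Agent.ConsEngine.Core
import Groth.Agent.Hensel.HenselizationNoeth

/-!
# Properties of schemes read smooth locally
-/

set_option autoImplicit false
set_option backward.isDefEq.respectTransparency false
set_option backward.isDefEq.respectTransparency.types false
set_option linter.style.haveILetI false
universe u

noncomputable section

namespace Groth.Agent.AlgStLib

open CategoryTheory CategoryTheory.Limits AlgebraicGeometry Opposite Groth.Agent.FibCatRep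
  Groth.Agent.FibCat2Misc Groth.Agent.AlgSpLib Groth.Agent.StkBasic
open _root_.AlgSp _root_.AlgSt

variable {S : Scheme.{u}} {𝒳 𝒴 : AlgSt.Cat S}

/-- two charts are compared by a scheme smooth over both -/
theorem exists_common_chart (h𝒳 : FibCat.IsFibGrpd 𝒳.p) {U U' : Over S}
    {x : AlgSt.ofSp (spOf U).obj ⥤ᵇ 𝒳} {x' : AlgSt.ofSp (spOf U').obj ⥤ᵇ 𝒳}
    (hx : RepByAlgSpWith (LocP @Smooth) x) (hxs : RepByAlgSpWith AlgSp.IsSurjectiveMor x)
    (hx' : RepByAlgSpWith (LocP @Smooth) x') :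
    ∃ (W : Over S) (a : W ⟶ U') (b : W ⟶ U), Smooth a.left ∧ Surjective a.left ∧ Smooth b.left := by
  obtain ⟨T, p, e, he, hp, hps⟩ := exists_model_space cls_smooth.bc cls_smooth.loc (isFibGrpd_ofSpace _) h𝒳 hx
    (spOf U') x'
  let q : T ⟶ spOf U := ObjectProperty.homMk (ObjectProperty.homMk (mapOf (BasedFunctor.comp e (FibCat.fpSnd x' x))))
  have hq : LocP @Smooth q.hom := prop_prjMap cls_smooth.bc cls_smooth.loc hx'
    (e := BasedFunctor.comp e (swapFun x' x)) (isEquivOver_comp he (isEquivOver_swapFun x' x)) q rfl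
  have hsu : AlgSp.IsSurjectiveMor p.hom := prop_prjMap cls_surjective.bc cls_surjective.loc hxs he p hp
  obtain ⟨W, d, hde, hds⟩ := T.property.atlas
  have hd : LocP @Smooth d := EtSmLocalST.smooth_of_etale T.property (isEtaleMor_of_repWith' hde)
  obtain ⟨a, ha⟩ := exists_map_eq (d ≫ p.hom)
  obtain ⟨b, hb⟩ := exists_map_eq (d ≫ q.hom)
  have hW := IsAlgSpace.yon_obj (S := S) W
  refine ⟨W, a, b, (locP_yon_iff etST_smooth a).1 ?_,
    (repWith_yon_iff _).1 (repWith_surjective_of_isSurjectiveMor (AlgSp.representable_yon_map _) ?_),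
    (locP_yon_iff etST_smooth b).1 ?_⟩
  · rw [ha]
    exact cls_smooth.comp hW T.property (IsAlgSpace.yon_obj U') d _ hd hps
  · rw [ha]
    exact cls_surjective.comp hW T.property (IsAlgSpace.yon_obj U') d _ (isSurjectiveMor_of_repWith hds) hsu
  · rw [hb]
    exact cls_smooth.comp hW T.property (IsAlgSpace.yon_obj U) d _ hd hq

theorem smoothLocally_of_chart (h𝒳 : FibCat.IsFibGrpd 𝒳.p) {P : Scheme.{u} → Prop}
    (hup : ∀ ⦃W U : Scheme.{u}⦄ (b : W ⟶ U), Smooth b → P U → P W)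
    (hdown : ∀ ⦃W U : Scheme.{u}⦄ (a : W ⟶ U), Smooth a → Surjective a → P W → P U)
    {U : Over S} {x : AlgSt.ofSp (spOf U).obj ⥤ᵇ 𝒳}
    (hx : RepByAlgSpWith (LocP @Smooth) x) (hxs : RepByAlgSpWith AlgSp.IsSurjectiveMor x) (hU : P U.left) :
    AlgSt.SmoothLocally P 𝒳 := fun U' x' hx' => by
  obtain ⟨W, a, b, h₁, h₂, h₃⟩ := exists_common_chart h𝒳 hx hxs ((repWith_overCat_iff _ U' x').1 hx')
  exact hdown a.left h₁ h₂ (hup b.left h₃ hU)

theorem smoothLocally_iff_exists (h𝒳 : IsAlgStack Scheme.fppfPrecoverage 𝒳) (P : Scheme.{u} → Prop)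
    (hP : ∀ (U : Scheme.{u}) (R : Presieve U), R ∈ Scheme.precoverage @Smooth U →
      (P U ↔ ∀ ⦃V : Scheme.{u}⦄ (g : V ⟶ U), R g → P V)) :
    AlgSt.SmoothLocally P 𝒳 ↔
      ∃ (U : Over S) (x : FibCat.overCat U ⥤ᵇ 𝒳),
        RepByAlgSpWith (LocP @Smooth) x ∧ RepByAlgSpWith AlgSp.IsSurjectiveMor x ∧ P U.left := by
  constructor
  · intro h
    obtain ⟨U, x, h₁, h₂⟩ := h𝒳.atlas
    exact ⟨U, x, h₁, h₂, h U x h₁⟩
  · rintro ⟨U, x, h₁, h₂, hU⟩
    refine smoothLocally_of_chart h𝒳.isStack.1 ?_ ?_ ((repWith_overCat_iff _ U x).1 h₁)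
      ((repWith_overCat_iff _ U x).1 h₂) hU
    · intro W U b hb hU
      let f : ∀ i : ULift.{u} Bool, cond i.down W U ⟶ U := fun i => match i with | ⟨true⟩ => b | ⟨false⟩ => 𝟙 U
      have hR : Presieve.ofArrows (fun i : ULift.{u} Bool => cond i.down W U) f ∈ Scheme.precoverage @Smooth U :=
        (Scheme.ofArrows_mem_precoverage_iff (P := @Smooth)).2 ⟨fun x => ⟨⟨false⟩, x, rfl⟩,
          fun i => match i with | ⟨true⟩ => hb | ⟨false⟩ => show Smooth (𝟙 U) from inferInstance⟩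
      exact (hP U _ hR).1 hU (f ⟨true⟩) (Presieve.ofArrows.mk (⟨true⟩ : ULift.{u} Bool))
    · intro W U a ha hs hW
      refine (hP U (Presieve.singleton a) ((Scheme.singleton_mem_precoverage_iff (P := @Smooth) a).2 ⟨hs.surj, ha⟩)).2 ?_
      rintro V g ⟨⟩
      exact hW

theorem isLocallyNoetherian_of_smooth_surjective {W U : Scheme.{u}} (a : W ⟶ U) [Smooth a] [Surjective a]
    [IsLocallyNoetherian W] : IsLocallyNoetherian U := by
  refine ⟨fun V => ?_⟩
  haveI : IsAffine (V.1 : Scheme) := V.2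
  haveI : CompactSpace ↥(V.1 : Scheme) := inferInstance
  let g := a ∣_ V.1
  haveI : Smooth g := IsZariskiLocalAtTarget.restrict ‹Smooth a› _
  haveI : Surjective g := MorphismProperty.of_isPullback (P := @Surjective) (isPullback_morphismRestrict a V.1).flip inferInstance
  let 𝒰 := (a ⁻¹ᵁ V.1 : Scheme).affineCover
  let I : 𝒰.I₀ → Set ↥(V.1 : Scheme) := fun i => g '' Set.range (𝒰.f i)
  obtain ⟨t, ht⟩ := isCompact_univ.elim_finite_subcover I
    (fun i => g.isOpenMap _ (𝒰.f i).isOpenEmbedding.isOpen_range) (fun y _ => by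
      obtain ⟨x, rfl⟩ := g.surjective y
      exact Set.mem_iUnion.mpr ⟨_, x, 𝒰.covers x, rfl⟩)
  let Z : t → Scheme.{u} := fun j => 𝒰.X j.1
  haveI : IsLocallyNoetherian (a ⁻¹ᵁ V.1 : Scheme) := isLocallyNoetherian_of_isOpenImmersion (a ⁻¹ᵁ V.1).ι
  haveI : ∀ j, IsLocallyNoetherian (Z j) := fun j => isLocallyNoetherian_of_isOpenImmersion (𝒰.f j.1)
  haveI : IsLocallyNoetherian (∐ Z) := by
    refine (isLocallyNoetherian_iff_openCover (sigmaOpenCover Z)).2 fun j => ?_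
    change IsLocallyNoetherian (Z j)
    infer_instance
  let q : ∐ Z ⟶ (a ⁻¹ᵁ V.1 : Scheme) := Sigma.desc fun j => 𝒰.f j.1
  haveI : Flat q := by
    rw [IsZariskiLocalAtSource.iff_of_openCover (P := @Flat) (sigmaOpenCover Z)]
    intro j
    change Flat (Sigma.ι Z j ≫ q)
    rw [Sigma.ι_desc]
    infer_instance
  haveI : Surjective (q ≫ g) := ⟨fun y => by
    obtain ⟨i, hi⟩ := Set.mem_iUnion.mp (ht (Set.mem_univ y))
    obtain ⟨hit, x, ⟨w, rfl⟩, rfl⟩ := Set.mem_iUnion.mp hi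
    refine ⟨Sigma.ι Z ⟨i, hit⟩ w, ?_⟩
    rw [← Scheme.Hom.comp_apply, Sigma.ι_desc_assoc]
    rfl⟩
  have hff : (q ≫ g).appTop.hom.FaithfullyFlat :=
    (Flat.flat_and_surjective_iff_faithfullyFlat_of_isAffine (q ≫ g)).1 ⟨inferInstance, inferInstance⟩
  algebraize [(q ≫ g).appTop.hom]
  haveI : IsNoetherianRing Γ(∐ Z, ⊤) := IsLocallyNoetherian.component_noetherian ⟨⊤, isAffineOpen_top _⟩
  haveI := Groth.Agent.Hensel.isNoetherianRing_of_faithfullyFlat (R := Γ((V.1 : Scheme), ⊤)) (S := Γ(∐ Z, ⊤))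
  exact isNoetherianRing_of_ringEquiv _ V.1.topIso.commRingCatIsoToRingEquiv

theorem smoothLocally_noetherian_of_lft (h𝒳 : IsAlgStack Scheme.fppfPrecoverage 𝒳)
    (h𝒴 : IsAlgStack Scheme.fppfPrecoverage 𝒴) (f : 𝒳 ⥤ᵇ 𝒴) (hf : LocQ (LocP @LocallyOfFiniteType) f)
    (h : AlgSt.SmoothLocally (fun T => IsLocallyNoetherian T) 𝒴) :
    AlgSt.SmoothLocally (fun T => IsLocallyNoetherian T) 𝒳 := by
  obtain ⟨V, y, hy, hy'⟩ := exists_atlas_sp h𝒴
  obtain ⟨U, a, ⟨c⟩⟩ := exists_good h𝒳 h𝒴 f y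
  haveI : IsLocallyNoetherian V.left :=
    h V (BasedFunctor.comp (ofOverCat V) y) ((repWith_ofOverCat_iff _ y).2 hy)
  haveI := (locP_yon_iff etST_lft a).1 ((c.locQ_iff st_lft h𝒳.isStack.1 h𝒴.isStack.1 hy hy').1 hf)
  exact smoothLocally_of_chart h𝒳.isStack.1
    (fun _ _ b hb hU => by haveI := hb; haveI := hU; exact LocallyOfFiniteType.isLocallyNoetherian b)
    (fun _ _ a ha hs hW => by haveI := ha; haveI := hs; haveI := hW; exact isLocallyNoetherian_of_smooth_surjective a)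
    (c.repWith_x cls_smooth h𝒳.isStack.1 h𝒴.isStack.1 c.smooth hy)
    (c.repWith_x cls_surjective h𝒳.isStack.1 h𝒴.isStack.1 c.surj hy')
    (LocallyOfFiniteType.isLocallyNoetherian a.left)

theorem locQ_lfp_of_lft_noetherian (h𝒳 : IsAlgStack Scheme.fppfPrecoverage 𝒳)
    (h𝒴 : IsAlgStack Scheme.fppfPrecoverage 𝒴) (f : 𝒳 ⥤ᵇ 𝒴)
    (h : AlgSt.SmoothLocally (fun T => IsLocallyNoetherian T) 𝒴) (hf : LocQ (LocP @LocallyOfFiniteType) f) :
    LocQ (LocP @LocallyOfFinitePresentation) f := by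
  obtain ⟨V, y, hy, hy'⟩ := exists_atlas_sp h𝒴
  obtain ⟨U, a, ⟨c⟩⟩ := exists_good h𝒳 h𝒴 f y
  haveI : IsLocallyNoetherian V.left :=
    h V (BasedFunctor.comp (ofOverCat V) y) ((repWith_ofOverCat_iff _ y).2 hy)
  haveI := (locP_yon_iff etST_lft a).1 ((c.locQ_iff st_lft h𝒳.isStack.1 h𝒴.isStack.1 hy hy').1 hf)
  exact (c.locQ_iff st_lfp h𝒳.isStack.1 h𝒴.isStack.1 hy hy').2
    ((locP_yon_iff etST_lfp a).2 (ConsEngine.lfp_of_lft a.left))

end Groth.Agent.AlgStLib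

end
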