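import Groth.Agent.AlgStLib.Misc1

/-!
# Algebraic and Deligne-Mumford stacks for other topologies: atlases, base changes
-/

set_option autoImplicit false
set_option backward.isDefEq.respectTransparency false
set_option backward.isDefEq.respectTransparency.types false
set_option linter.style.haveILetI false
universe u

noncomputable section

namespace Groth.Agent.AlgStLib

open CategoryTheory CategoryTheory.Limits AlgebraicGeometry Opposite Groth.Agent.FibCatRep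
  Groth.Agent.FibCat2Misc Groth.Agent.AlgSpLib Groth.Agent.StkBasic
open _root_.AlgSp _root_.AlgSt

variable {S : Scheme.{u}} {𝒳 𝒴 𝒵 : AlgSt.Cat S}

theorem cls_etale : Cls (AlgSp.IsEtaleMor (S := S)) :=
  ⟨fun _ _ _ _ hX₁ hY₁ hX₂ hY₂ _ _ _ _ sq hh => (isEtaleMor_iff_locP hY₂).2
      (locP_baseChange etST_etale hX₁ hY₁ hX₂ hY₂ sq ((isEtaleMor_iff_locP hY₁).1 hh)),
    fun _ _ _ hX hY hZ _ _ ha hb => (isEtaleMor_iff_locP hZ).2
      ((cls_locP etST_etale (isLocalOnBase_locP etST_etale)).comp hX hY hZ _ _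
        ((isEtaleMor_iff_locP hY).1 ha) ((isEtaleMor_iff_locP hZ).1 hb)),
    isLocalOnBase_fppf isLocalOnBase_isEtaleMor⟩

/-- classes with surjective charts on every algebraic space -/
def HasCharts (Q : MorphismProperty (Sp S)) : Prop :=
  ∀ ⦃P : PSp S⦄, IsAlgSpaceP P → ∃ (W : Over S) (π : (pyon S).obj W ⟶ P),
    RepByAlgSpWith Q (Stk.ofPshMap π) ∧ RepByAlgSpWith AlgSp.IsSurjectiveMor (Stk.ofPshMap π)

theorem hasCharts_smooth : HasCharts (LocP (S := S) @Smooth) := fun _ hP =>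
  let ⟨W, π, _, h₁, h₂⟩ := exists_chart_atlas hP
  ⟨W, π, h₁, h₂⟩

theorem hasCharts_etale : HasCharts (AlgSp.IsEtaleMor (S := S)) := fun _ hP =>
  let ⟨W, π, h₁, _, h₂⟩ := exists_chart_atlas hP
  ⟨W, π, h₁, h₂⟩

variable {Q : MorphismProperty (Sp S)}

theorem hasAtlas_of_space' (hQ : Cls Q) (hch : HasCharts Q) {𝒰 : AlgSt.Cat S}
    (hU : RepByAlgSp 𝒰) {x : 𝒰 ⥤ᵇ 𝒳} (h₁ : RepByAlgSpWith Q x)
    (h₂ : RepByAlgSpWith AlgSp.IsSurjectiveMor x) : HasAtlas Q 𝒳 := by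
  obtain ⟨F, e, he⟩ := hU
  obtain ⟨W, π, hs, hsu⟩ := hch ((isAlgSpaceP_obj_iff _).2 F.property)
  exact hasAtlas_of_point
    (repWith_comp (isFibGrpd_ofSpace _) (isFibGrpd_ofSpace _) hQ.bc hQ.comp hQ.loc hs
      (repWith_comp_of_isEquiv he h₁))
    (repWith_comp (isFibGrpd_ofSpace _) (isFibGrpd_ofSpace _) cls_surjective.bc cls_surjective.comp
      cls_surjective.loc hsu (repWith_comp_of_isEquiv he h₂))

/-- atlases of fibre products -/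
theorem hasAtlas_fp (hQ' : Cls Q) (hch : HasCharts Q) (h𝒵 : FibCat.IsFibGrpd 𝒵.p)
    (d𝒵 : RepByAlgSp1 (FibCat.diag (FibCat.toSelf 𝒵))) (h𝒳 : FibCat.IsFibGrpd 𝒳.p)
    (h𝒴 : FibCat.IsFibGrpd 𝒴.p) (hx : HasAtlas Q 𝒳) (hy : HasAtlas Q 𝒴)
    (f : 𝒳 ⥤ᵇ 𝒵) (g : 𝒴 ⥤ᵇ 𝒵) : HasAtlas Q (FibCat.fp f g) := by
  obtain ⟨U, x, x₁, x₂⟩ := exists_atlas hx
  obtain ⟨V, y, y₁, y₂⟩ := exists_atlas hy
  have hsp : RepByAlgSp (FibCat.fp (BasedFunctor.comp x f) (BasedFunctor.comp y g)) :=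
    repByAlgSp_fp (isFibGrpd_ofSpace _) h𝒵 (repByAlgSp1_point h𝒵 d𝒵 (isAlgSpaceP_yon V) _) _
      (repByAlgSp_of_model isEquivOver_id (isAlgSpaceP_yon U))
  have h₀ := isFibGrpd_fp (isFibGrpd_ofSpace ((pyon S).obj U)) (isFibGrpd_ofSpace ((pyon S).obj V)) h𝒵
    (BasedFunctor.comp x f) (BasedFunctor.comp y g)
  have h₁ := isFibGrpd_fp h𝒳 (isFibGrpd_ofSpace ((pyon S).obj V)) h𝒵 f (BasedFunctor.comp y g)
  have two : ∀ (Q : MorphismProperty (Sp S)), Cls Q → RepByAlgSpWith Q x → RepByAlgSpWith Q y →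
      RepByAlgSpWith Q (BasedFunctor.comp (prodFst f (BasedFunctor.comp y g) x) (prodSnd f g y)) := by
    intro Q hQ hx hy
    refine repWith_comp h₀ h₁ hQ.bc hQ.comp hQ.loc ?_ ?_
    · exact (repWith_iff_of_equiv Q (prodFst f (BasedFunctor.comp y g) x)
        (FibCat.fpFst (FibCat.fpSnd (BasedFunctor.comp y g) f) x)
        (BasedFunctor.comp (assocFun (BasedFunctor.comp y g) f x) (swapFun (BasedFunctor.comp y g) (BasedFunctor.comp x f)))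
        (swapFun (BasedFunctor.comp y g) f)
        (isEquivOver_comp (isEquivOver_assocFun _ f x) (isEquivOver_swapFun _ _)) (isEquivOver_swapFun _ _)
        (fpExt (FibCat.fpIso (FibCat.fpSnd (BasedFunctor.comp y g) f) x) (Iso.refl _) fun w => by
          let i : (BasedFunctor.comp y g).obj w.obj.fst.obj.fst ≅ f.obj w.obj.fst.obj.snd := w.obj.fst.obj.iso
          let k : w.obj.fst.obj.snd ≅ x.obj w.obj.snd := w.obj.iso
          show f.map k.hom ≫ (i ≪≫ f.toFunctor.mapIso k).inv = i.inv ≫ (BasedFunctor.comp y g).map (𝟙 _)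
          simp only [CategoryTheory.Functor.map_id]
          simp only [Iso.trans_inv, Functor.mapIso_inv]
          rw [← Category.assoc, ← Functor.map_comp, Iso.hom_inv_id, CategoryTheory.Functor.map_id]
          exact (Category.id_comp _).trans (Category.comp_id _).symm)).2
        (repWith_fpFst Q x (FibCat.fpSnd (BasedFunctor.comp y g) f) hx)
    · exact (repWith_iff_of_equiv Q (prodSnd f g y) (FibCat.fpFst (FibCat.fpSnd f g) y) (assocFun f g y)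
        (BasedFunctor.id _) (isEquivOver_assocFun f g y) isEquivOver_id
        (fpExt (Iso.refl _) (FibCat.fpIso (FibCat.fpSnd f g) y) fun w => by
          show f.map (𝟙 _) ≫ ((w.obj.fst.obj.iso.hom) ≫ g.map w.obj.iso.hom) =
            w.obj.fst.obj.iso.hom ≫ g.map w.obj.iso.hom
          simp only [CategoryTheory.Functor.map_id]
          exact Category.id_comp _)).2 (repWith_fpFst Q y (FibCat.fpSnd f g) hy)
  exact hasAtlas_of_space' hQ' hch hsp (two _ hQ' x₁ y₁) (two _ cls_surjective x₂ y₂)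

theorem isAlgStack_fp_of (K : Precoverage Scheme.{u}) (h𝒳 : IsAlgStack K 𝒳) (h𝒴 : IsAlgStack K 𝒴)
    (h𝒵 : IsAlgStack K 𝒵) (f : 𝒳 ⥤ᵇ 𝒵) (g : 𝒴 ⥤ᵇ 𝒵) : IsAlgStack K (FibCat.fp f g) :=
  ⟨FibCat2Misc.isStack_fp h𝒳.isStack h𝒴.isStack (isPrestack_of_isStack h𝒵.isStack) f g,
    repByAlgSp1_diag_fp h𝒳.isStack.1 h𝒴.isStack.1 h𝒵.isStack.1 h𝒳.diag h𝒴.diag h𝒵.diag f g,
    hasAtlas_fp cls_smooth hasCharts_smooth h𝒵.isStack.1 h𝒵.diag h𝒳.isStack.1 h𝒴.isStack.1 h𝒳.atlas h𝒴.atlas f g⟩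

/-- representability of diagonals from base changes to schemes -/
theorem repByAlgSp1_diag_of_fpFst {f : 𝒳 ⥤ᵇ 𝒴}
    (h : ∀ (U : Over S) (g : FibCat.overCat U ⥤ᵇ 𝒴), RepByAlgSp1 (FibCat.diag (FibCat.fpFst g f))) :
    RepByAlgSp1 (FibCat.diag f) := fun U P => by
  let g := BasedFunctor.comp (BasedFunctor.comp P (FibCat.fpFst f f)) f
  have h' : RepByAlgSp1 (FibCat.fpFst (bcSelf f g) (FibCat.diag f)) :=
    repByAlgSp1_of_with ((repWith_iff_of_equiv ⊤ (FibCat.fpFst (bcSelf f g) (FibCat.diag f))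
      (FibCat.diag (FibCat.fpFst g f)) (bcDiag f g) (BasedFunctor.id _) (isEquivOver_bcDiag f g) isEquivOver_id
      (Iso.refl _)).2 (repByAlgSpWith_top_iff.2 (h U g)))
  let l₁ : FibCat.overCat U ⥤ᵇ FibCat.fp g f :=
    FibCat.fpLift (BasedFunctor.id _) (BasedFunctor.comp P (FibCat.fpFst f f)) (Iso.refl _)
  let l₂ : FibCat.overCat U ⥤ᵇ FibCat.fp g f :=
    FibCat.fpLift (BasedFunctor.id _) (BasedFunctor.comp P (FibCat.fpSnd f f))
      ((Stk.restr P 𝒴).mapIso (FibCat.fpIso f f))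
  let s : FibCat.overCat U ⥤ᵇ FibCat.fp (FibCat.fpFst g f) (FibCat.fpFst g f) :=
    FibCat.fpLift l₁ l₂ (Iso.refl _)
  have i : BasedFunctor.comp s (bcSelf f g) ≅ P := fpExt (Iso.refl _) (Iso.refl _) fun a => by
    let q : f.obj (P.obj a).obj.fst ≅ f.obj (P.obj a).obj.snd := (P.obj a).obj.iso
    show f.map (𝟙 _) ≫ q.hom = ((𝟙 _ : f.obj (P.obj a).obj.fst ⟶ _) ≫ g.map (𝟙 _) ≫ q.hom) ≫ f.map (𝟙 _)
    simp [g]
    exact (Category.id_comp _).symm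
  exact (repByAlgSp_iff_of_equiv (isEquivOver_comp (isEquivOver_pasteFun s (bcSelf f g) (FibCat.diag f))
    (isEquivOver_fp_change (FibCat.diag f) i))).1 (h' U s)

/-- the diagonal over the base from that of a functor -/
theorem repByAlgSp1_diag_toSelf (h𝒳 : FibCat.IsFibGrpd 𝒳.p) (h𝒴 : FibCat.IsFibGrpd 𝒴.p) (f : 𝒳 ⥤ᵇ 𝒴)
    (hf : RepByAlgSp1 (FibCat.diag f)) (d : RepByAlgSp1 (FibCat.diag (FibCat.toSelf 𝒴))) :
    RepByAlgSp1 (FibCat.diag (FibCat.toSelf 𝒳)) := by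
  rw [← comp_toSelf f]
  exact repByAlgSp1_of_with (repWith_diag_comp h𝒳 h𝒴 cls_top _ _ (repByAlgSpWith_top_iff.2 hf)
    (repByAlgSpWith_top_iff.2 d))

theorem hasAtlas_of_baseChanges (hQ : Cls Q) (h𝒳 : FibCat.IsFibGrpd 𝒳.p) (h𝒴 : FibCat.IsFibGrpd 𝒴.p)
    (f : 𝒳 ⥤ᵇ 𝒴) (hy : HasAtlas Q 𝒴)
    (hf : ∀ (U : Over S) (g : FibCat.overCat U ⥤ᵇ 𝒴), HasAtlas Q (FibCat.fp g f)) : HasAtlas Q 𝒳 := by
  obtain ⟨V, y, y₁, y₂⟩ := hy
  obtain ⟨W, w, w₁, w₂⟩ := hf V y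
  have g₀ := isFibGrpd_overCat (C := Over S) W
  have g₁ := isFibGrpd_fp (isFibGrpd_overCat (C := Over S) V) h𝒳 h𝒴 y f
  exact ⟨W, BasedFunctor.comp w (FibCat.fpSnd y f),
    repWith_comp g₀ g₁ hQ.bc hQ.comp hQ.loc w₁ (repWith_fpSnd Q y f y₁),
    repWith_comp g₀ g₁ cls_surjective.bc cls_surjective.comp cls_surjective.loc w₂ (repWith_fpSnd _ y f y₂)⟩

theorem isAlgStack_of_baseChanges (K : Precoverage Scheme.{u}) (h𝒳 : Stk.IsStack (QuotSh.J K S) 𝒳)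
    (h𝒴 : IsAlgStack K 𝒴) (f : 𝒳 ⥤ᵇ 𝒴)
    (hf : ∀ (U : Over S) (g : FibCat.overCat U ⥤ᵇ 𝒴), IsAlgStack K (FibCat.fp g f)) : IsAlgStack K 𝒳 :=
  ⟨h𝒳, repByAlgSp1_diag_toSelf h𝒳.1 h𝒴.isStack.1 f (repByAlgSp1_diag_of_fpFst fun U g =>
      repByAlgSp1_diag (hf U g).isStack.1 (isFibGrpd_overCat U) (hf U g).diag (isAlgStack_overCat U).diag _)
      h𝒴.diag,
    hasAtlas_of_baseChanges cls_smooth h𝒳.1 h𝒴.isStack.1 f h𝒴.atlas fun U g => (hf U g).atlas⟩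

end Groth.Agent.AlgStLib

end

namespace Groth.Agent.AlgStLib

open CategoryTheory CategoryTheory.Limits AlgebraicGeometry Opposite Groth.Agent.FibCatRep
  Groth.Agent.FibCat2Misc Groth.Agent.AlgSpLib Groth.Agent.StkBasic
open _root_.AlgSp _root_.AlgSt

variable {S : Scheme.{u}} {𝒳 𝒴 : AlgSt.Cat S}

theorem faithful_diag (f : 𝒳 ⥤ᵇ 𝒴) : (FibCat.diag f).toFunctor.Faithful :=
  ⟨fun h => congrArg (fun m => m.hom.fst) h⟩

/-- diagonals are representable when those of the base change to a covering space are -/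
theorem repByAlgSp1_diag_of_cover_base (h𝒳 : Stk.IsStack (Jf S) 𝒳)
    (h𝒴 : IsAlgStack Scheme.fppfPrecoverage 𝒴) (f : 𝒳 ⥤ᵇ 𝒴) {Z : AlgSp.Space S}
    {z : AlgSt.ofSp Z.obj ⥤ᵇ 𝒴} (hz₁ : RepByAlgSpWith (LocP @Smooth) z)
    (hz₂ : RepByAlgSpWith AlgSp.IsSurjectiveMor z)
    (h : RepByAlgSp1 (FibCat.diag (FibCat.fpFst z f))) : RepByAlgSp1 (FibCat.diag f) := by
  rw [← repByAlgSpWith_top_iff, repWith_iff]
  intro U P
  haveI := faithful_diag f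
  let g := BasedFunctor.comp (BasedFunctor.comp P (FibCat.fpFst f f)) f
  have hG : RepByAlgSp (FibCat.fp g z) := repByAlgSp_fp_yon (repByAlgSp1_of_with hz₁) U g
  let c := FibCat.fpFst g z
  have h' : RepByAlgSp1 (FibCat.fpFst (bcSelf f z) (FibCat.diag f)) :=
    repByAlgSp1_of_with ((repWith_iff_of_equiv ⊤ (FibCat.fpFst (bcSelf f z) (FibCat.diag f))
      (FibCat.diag (FibCat.fpFst z f)) (bcDiag f z) (BasedFunctor.id _) (isEquivOver_bcDiag f z) isEquivOver_id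
      (Iso.refl _)).2 (repByAlgSpWith_top_iff.2 h))
  let j := (FibCat.fpIso g z).symm
  let k := (Stk.restr (BasedFunctor.comp c P) 𝒴).mapIso (FibCat.fpIso f f)
  let l₁ : FibCat.fp g z ⥤ᵇ FibCat.fp z f :=
    FibCat.fpLift (FibCat.fpSnd g z) (BasedFunctor.comp c (BasedFunctor.comp P (FibCat.fpFst f f))) j
  let l₂ : FibCat.fp g z ⥤ᵇ FibCat.fp z f :=
    FibCat.fpLift (FibCat.fpSnd g z) (BasedFunctor.comp c (BasedFunctor.comp P (FibCat.fpSnd f f))) (j ≪≫ k)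
  let s : FibCat.fp g z ⥤ᵇ FibCat.fp (FibCat.fpFst z f) (FibCat.fpFst z f) := FibCat.fpLift l₁ l₂ (Iso.refl _)
  have i : BasedFunctor.comp s (bcSelf f z) ≅ BasedFunctor.comp c P :=
    fpExt (Iso.refl _) (Iso.refl _) fun a => by
      let p : z.obj a.obj.snd ≅ g.obj a.obj.fst := a.obj.iso.symm
      let q : f.obj (P.obj (c.obj a)).obj.fst ≅ f.obj (P.obj (c.obj a)).obj.snd := (P.obj (c.obj a)).obj.iso
      show f.map (𝟙 _) ≫ q.hom = (p.inv ≫ z.map (𝟙 _) ≫ p.hom ≫ q.hom) ≫ f.map (𝟙 _)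
      simp only [CategoryTheory.Functor.map_id]
      erw [Category.id_comp, Category.comp_id, Category.id_comp, Iso.inv_hom_id_assoc]
  have hfp := isFibGrpd_fp h𝒳.1 h𝒳.1 h𝒴.isStack.1 f f
  have hz := isFibGrpd_fp (isFibGrpd_ofSpace Z.obj.obj) h𝒳.1 h𝒴.isStack.1 z f
  have hW := isFibGrpd_fp hz hz (isFibGrpd_ofSpace Z.obj.obj) (FibCat.fpFst z f) (FibCat.fpFst z f)
  have hsrc : RepByAlgSp (FibCat.fp (BasedFunctor.comp c P) (FibCat.diag f)) :=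
    (repByAlgSp_iff_of_equiv (isEquivOver_comp (isEquivOver_pasteFun s (bcSelf f z) (FibCat.diag f))
      (isEquivOver_fp_change (FibCat.diag f) i))).1
      (repByAlgSp_fp (isFibGrpd_fp hW h𝒳.1 hfp (bcSelf f z) (FibCat.diag f)) hW h' s hG)
  have hst : Stk.IsStack (Jf S) (FibCat.fp P (FibCat.diag f)) :=
    FibCat2Misc.isStack_fp (isStack_ofSheaf ((yon S).obj U).property) h𝒳
      (isPrestack_of_isStack (FibCat2Misc.isStack_fp h𝒳 h𝒳 (isPrestack_of_isStack h𝒴.isStack) f f)) P (FibCat.diag f)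
  obtain ⟨F, e, he⟩ := repByAlgSp_of_setoid hst (isFibSetoid_fp h𝒳.1 hfp P) hsrc
    (repWith_prodFst P (FibCat.diag f) c (repWith_fpFst _ z g hz₁))
    (repWith_prodFst P (FibCat.diag f) c (repWith_fpFst _ z g hz₂))
  exact ⟨_, e, he, (good_top_iff _).2 ((isAlgSpaceP_obj_iff _).2 F.property)⟩

theorem isAlgStack_of_cover_base (h𝒳 : Stk.IsStack (Jf S) 𝒳) (h𝒴 : IsAlgStack Scheme.fppfPrecoverage 𝒴)
    (f : 𝒳 ⥤ᵇ 𝒴) {Z : AlgSp.Space S} {z : AlgSt.ofSp Z.obj ⥤ᵇ 𝒴} (hz₁ : RepByAlgSpWith (LocP @Smooth) z)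
    (hz₂ : RepByAlgSpWith AlgSp.IsSurjectiveMor z)
    (h : IsAlgStack Scheme.fppfPrecoverage (FibCat.fp z f)) : IsAlgStack Scheme.fppfPrecoverage 𝒳 := by
  refine ⟨h𝒳, repByAlgSp1_diag_toSelf h𝒳.1 h𝒴.isStack.1 f (repByAlgSp1_diag_of_cover_base h𝒳 h𝒴 f hz₁ hz₂
    (repByAlgSp1_diag_stack h (isAlgStack_ofSp Z) _)) h𝒴.diag, ?_⟩
  obtain ⟨W, w, w₁, w₂⟩ := h.atlas
  have g₀ := isFibGrpd_overCat (C := Over S) W
  exact ⟨W, BasedFunctor.comp w (FibCat.fpSnd z f),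
    repWith_comp g₀ h.isStack.1 cls_smooth.bc cls_smooth.comp cls_smooth.loc w₁ (repWith_fpSnd _ z f hz₁),
    repWith_comp g₀ h.isStack.1 cls_surjective.bc cls_surjective.comp cls_surjective.loc w₂ (repWith_fpSnd _ z f hz₂)⟩

end Groth.Agent.AlgStLib
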