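import Groth.Agent.AlgStLib.OpenSub
import Groth.Agent.AlgStLib.LocalSub
import Groth.Agent.AlgStLib.SmLocally
import Groth.Agent.AlgStLib.StacksEt
import Groth.Agent.AlgSpLib.Reduced
import Groth.Agent.FlatMor.ReducedDescent
import Groth.Agent.DvrDom.ClosedProper

/-!
# The reduced closed substack on a closed set of points
-/

set_option autoImplicit false
set_option backward.isDefEq.respectTransparency false
set_option backward.isDefEq.respectTransparency.types false
set_option linter.style.haveILetI false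
universe u

noncomputable section

namespace Groth.Agent.AlgStLib

open CategoryTheory CategoryTheory.Limits AlgebraicGeometry Opposite Groth.Agent.FibCatRep
  Groth.Agent.FibCat2Misc Groth.Agent.AlgSpLib Groth.Agent.StkBasic
open _root_.AlgSp _root_.AlgSt

variable {S : Scheme.{u}} {𝒳 : AlgSt.Cat S}

local notation "AS" => IsAlgStack Scheme.fppfPrecoverage

/-- a closed immersion through which a jointly surjective flat family factors is an isomorphism -/
theorem isIso_of_flat_family_factor {V U : Scheme.{u}} (ι : V ⟶ U) [IsClosedImmersion ι]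
    (h : ∀ t : ↥U, ∃ (W : Scheme.{u}) (g : W ⟶ V) (w : ↥W), Flat (g ≫ ι) ∧ (g ≫ ι) w = t) : IsIso ι := by
  haveI : Surjective ι := ⟨fun t => by
    obtain ⟨W, g, w, -, hw⟩ := h t
    exact ⟨g w, by rw [← Scheme.Hom.comp_apply]; exact hw⟩⟩
  haveI : ∀ x, IsIso (ι.stalkMap x) := fun x => by
    obtain ⟨W, g, w, hf, hw⟩ := h (ι x)
    rw [Scheme.Hom.comp_apply] at hw
    obtain rfl : g w = x := ι.isClosedEmbedding.injective hw
    have hinj : Function.Injective ((g ≫ ι).stalkMap w) := by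
      algebraize [((g ≫ ι).stalkMap w).hom]
      have : Module.FaithfullyFlat (U.presheaf.stalk ((g ≫ ι) w)) (W.presheaf.stalk w) :=
        @Module.FaithfullyFlat.of_flat_of_isLocalHom _ _ _ _ _ _ _
          (Flat.stalkMap (g ≫ ι) w) ((g ≫ ι).toLRSHom.prop w)
      exact ‹RingHom.FaithfullyFlat _›.injective
    rw [ConcreteCategory.isIso_iff_bijective]
    refine ⟨?_, ι.stalkMap_surjective _⟩
    rw [Scheme.Hom.stalkMap_comp] at hinj
    exact fun a b hab => hinj (congrArg (g.stalkMap w) hab)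
  haveI : IsOpenImmersion ι := IsOpenImmersion.of_isIso_stalkMap ι
    (ι.isClosedEmbedding.isEmbedding.toHomeomorphOfSurjective ι.surjective).isOpenEmbedding
  exact (isIso_iff_isOpenImmersion_and_surjective ι).2 ⟨inferInstance, inferInstance⟩

/-- factorisation through a closed subscheme is local in the flat topology -/
theorem exists_factor_of_flat_family {Z A K : Scheme.{u}} (ι : Z ⟶ A) [IsClosedImmersion ι] (β : K ⟶ A)
    (h : ∀ t : ↥K, ∃ (W : Scheme.{u}) (h : W ⟶ K) (w : ↥W) (g : W ⟶ Z), Flat h ∧ h w = t ∧ g ≫ ι = h ≫ β) :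
    ∃ g, g ≫ ι = β := by
  haveI : IsIso (pullback.snd ι β) := isIso_of_flat_family_factor _ fun t => by
    obtain ⟨W, k, w, g, hf, hw, hg⟩ := h t
    exact ⟨W, pullback.lift g k hg, w, by rw [pullback.lift_snd]; exact hf, by rw [pullback.lift_snd]; exact hw⟩
  exact ⟨inv (pullback.snd ι β) ≫ pullback.fst ι β, by rw [Category.assoc, pullback.condition, IsIso.inv_hom_id_assoc]⟩

/-- maps from reduced schemes into the range of a closed immersion factor -/
theorem exists_factor_of_range {Z A Y : Scheme.{u}} (ι : Z ⟶ A) [IsClosedImmersion ι] (g : Y ⟶ A) [IsReduced Y]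
    (h : ∀ y, g y ∈ Set.range ι) : ∃ k, k ≫ ι = g := by
  haveI : Surjective (pullback.snd ι g) := ⟨fun y => by
    have : y ∈ Set.range (pullback.snd ι g) := by
      rw [Scheme.Pullback.range_snd]
      exact h y
    exact this⟩
  haveI : IsIso (pullback.snd ι g) := isIso_of_isClosedImmersion_of_surjective _
  exact ⟨inv (pullback.snd ι g) ≫ pullback.fst ι g, by rw [Category.assoc, pullback.condition, IsIso.inv_hom_id_assoc]⟩

/-- the self fibre product of a chart, covered by a scheme with liftings -/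
theorem exists_self_chart {U : Over S} (x : FibCat.overCat U ⥤ᵇ 𝒳)
    (hx : RepByAlgSpWith (LocP @Smooth) x) :
    ∃ (W : Over S) (a : W ⟶ U) (b : W ⟶ U),
      Nonempty (BasedFunctor.comp (AlgSt.overMap b) x ≅ BasedFunctor.comp (AlgSt.overMap a) x) ∧
      Smooth b.left ∧
      ∀ (K : Over S) (α β : K ⟶ U),
        Nonempty (BasedFunctor.comp (AlgSt.overMap α) x ≅ BasedFunctor.comp (AlgSt.overMap β) x) →
        ∃ (K' : Over S) (h : K' ⟶ K) (g : K' ⟶ W), Etale h.left ∧ Surjective h.left ∧ g ≫ a = h ≫ α ∧ g ≫ b = h ≫ β := by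
  obtain ⟨F, e, he, hsm⟩ := hx U x
  obtain ⟨W, c, hce, hcs⟩ := F.property.atlas
  obtain ⟨k, hk, -, ⟨j⟩⟩ := isEquivOver_symm he
  let p₁ := BasedFunctor.comp e (FibCat.fpFst x x)
  let p₂ := BasedFunctor.comp e (FibCat.fpSnd x x)
  let C := BasedFunctor.comp (ofOverCat W) (Stk.ofPshMap c.hom)
  obtain ⟨b, hb, ⟨ib⟩⟩ := exists_map_of_chart c p₁
  obtain ⟨a, ha, ⟨ia⟩⟩ := exists_map_of_chart c p₂
  refine ⟨W, a, b, ⟨((post _ x).mapIso ib).symm ≪≫
      (Stk.restr (BasedFunctor.comp C e) 𝒳).mapIso (FibCat.fpIso x x) ≪≫ (post _ x).mapIso ia⟩,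
    hsm c (𝟙 _) b hce repWith_id' (by rw [Category.comp_id, hb]), ?_⟩
  rintro K α β ⟨i⟩
  let L : FibCat.overCat K ⥤ᵇ FibCat.fp x x := FibCat.fpLift (AlgSt.overMap β) (AlgSt.overMap α) i.symm
  let l : (yon S).obj K ⟶ F.obj :=
    ObjectProperty.homMk (mapOf (BasedFunctor.comp (BasedFunctor.comp (toOverCat K) L) k))
  have hl : ∀ {T : Over S} (Φ : FibCat.fp x x ⥤ᵇ FibCat.overCat T) (γ : K ⟶ T)
      (_ : BasedFunctor.comp L Φ ≅ AlgSt.overMap γ),
      l ≫ spMapOfOver (BasedFunctor.comp e Φ) = (yon S).map γ := by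
    intro T Φ γ iΦ
    refine ObjectProperty.hom_ext _ ?_
    show l.hom ≫ (spMapOfOver (BasedFunctor.comp e Φ)).hom = _
    rw [spMapOfOver_hom]
    refine (mapOf_comp _ _).symm.trans ((mapOf_congr ((post _ (BasedFunctor.comp Φ (ofOverCat T))).mapIso
      ((Stk.restr (BasedFunctor.comp (toOverCat K) L) _).mapIso j) ≪≫
      (post _ (ofOverCat T)).mapIso ((Stk.restr (toOverCat K) _).mapIso iΦ))).trans ?_)
    ext Z g
    exact ULift.ext _ _ (by
      show 𝟙 _ ≫ g.down ≫ γ = g.down ≫ γ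
      rw [Category.id_comp])
  obtain ⟨K', f₁, f₂, sqK, hsK⟩ := exists_repWith hcs l
  obtain ⟨g₁, hg₁⟩ := exists_map_eq f₁
  refine ⟨K', f₂, g₁, hce.2 l f₁ f₂ sqK, hsK, ?_, ?_⟩
  · exact (yon S).map_injective (by
      rw [Functor.map_comp, Functor.map_comp, ha, hg₁, sqK.w_assoc, hl (FibCat.fpSnd x x) α (Iso.refl _)])
  · exact (yon S).map_injective (by
      rw [Functor.map_comp, Functor.map_comp, hb, hg₁, sqK.w_assoc, hl (FibCat.fpFst x x) β (Iso.refl _)])

/-- a monic model of a full subcategory over a chart -/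
theorem exists_subModel {Q : 𝒳.obj → Prop} {U V : Over S} (y : FibCat.overCat U ⥤ᵇ 𝒳) (ι : V ⟶ U) [Mono ι.left]
    (hch : ∀ o : Over U, Q (y.obj o) ↔ ∃ g, g ≫ ι = o.hom)
    (hiso : ObjectProperty.IsClosedUnderIsomorphisms Q) :
    ∃ L : FibCat.overCat V ⥤ᵇ FibCat.fp y (AlgSt.subIncl 𝒳 Q), FibCat.IsEquivOver L ∧
      Nonempty (BasedFunctor.comp L (FibCat.fpFst y (AlgSt.subIncl 𝒳 Q)) ≅ AlgSt.overMap ι) := by
  have hQ : ∀ o : (FibCat.overCat V).obj, Q ((BasedFunctor.comp (AlgSt.overMap ι) y).obj o) :=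
    fun o => (hch _).2 ⟨o.hom, rfl⟩
  let L : FibCat.overCat V ⥤ᵇ FibCat.fp y (AlgSt.subIncl 𝒳 Q) :=
    FibCat.fpLift (AlgSt.overMap ι) (liftSub Q (BasedFunctor.comp (AlgSt.overMap ι) y) hQ) (Iso.refl _)
  haveI : L.toFunctor.Faithful := ⟨fun {a b} m m' h => by
    have := congrArg (fun t => t.hom.fst.left) h
    exact Over.OverMorphism.ext this⟩
  haveI : L.toFunctor.Full := ⟨fun {a b} n => by
    refine ⟨Over.homMk n.hom.fst.left ?_, ?_⟩
    · refine Over.OverMorphism.ext ((cancel_mono ι.left).1 ?_)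
      have w := congrArg CommaMorphism.left (Over.w n.hom.fst)
      simpa [L, AlgSt.overMap, FibCat.fpLift] using w
    · refine ObjectProperty.hom_ext _ (CategoricalPullback.hom_ext (Over.OverMorphism.ext rfl) ?_)
      refine ObjectProperty.hom_ext _ ?_
      have w : y.map n.hom.fst ≫ (L.obj b).obj.iso.hom = (L.obj a).obj.iso.hom ≫ n.hom.snd.hom := n.hom.w
      show y.map _ = n.hom.snd.hom
      simp [L, FibCat.fpLift] at w
      convert ((Category.comp_id _).symm.trans w).trans (Category.id_comp _) using 2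
      exact Over.OverMorphism.ext rfl⟩
  refine ⟨L, isEquivOver_of_fullyFaithful L fun η => ?_, ⟨Iso.refl _⟩⟩
  obtain ⟨g, hg⟩ := (hch η.obj.fst).1 (hiso.of_iso η.obj.iso.symm η.obj.snd.property)
  let ξ : (FibCat.overCat V).obj := Over.mk g
  let a : (AlgSt.overMap ι).obj ξ ≅ η.obj.fst := Over.isoMk (Iso.refl _) (by
    show 𝟙 _ ≫ η.obj.fst.hom = g ≫ ι
    rw [Category.id_comp, hg])
  let b : (liftSub Q (BasedFunctor.comp (AlgSt.overMap ι) y) hQ).obj ξ ≅ η.obj.snd :=
    ObjectProperty.isoMk _ (y.toFunctor.mapIso a ≪≫ η.obj.iso)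
  refine ⟨ξ, ObjectProperty.isoMk _ (CategoricalPullback.mkIso a b (by
    simp [L, b, liftSub, FibCat.fpLift, AlgSt.subIncl]
    exact (Category.id_comp _).symm)), rfl, ?_⟩
  show (FibCat.overCat U).p.map a.hom = _
  rfl

/-- existence of a reduced closed substack on a closed set of points -/
theorem exists_reduced_closedSubstack (h𝒳 : AS 𝒳) (T : Set (AlgSt.Points 𝒳)) (hT : IsClosed T) :
    ∃ Q : 𝒳.obj → Prop, AlgSt.IsClosedSubstack 𝒳 Q Scheme.fppfPrecoverage ∧
      Set.range (AlgSt.Points.map (AlgSt.subIncl 𝒳 Q)) = T ∧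
      AlgSt.SmoothLocally (fun X => IsReduced X) (AlgSt.fullSub 𝒳 Q) := by
  obtain ⟨A, x, hx, hxs⟩ := h𝒳.atlas
  have hG := h𝒳.isStack.1
  let C : TopologicalSpace.Closeds A.left :=
    ⟨AlgSt.Points.ofChart x ⁻¹' T, hT.preimage (continuous_ofChart h𝒳 x)⟩
  let I := Scheme.IdealSheafData.vanishingIdeal C
  haveI hred : IsReduced I.subscheme := Groth.Agent.DvrDom.isReduced_vanishingIdeal_subscheme C
  have hr : Set.range I.subschemeι = AlgSt.Points.ofChart x ⁻¹' T := by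
    rw [Scheme.IdealSheafData.range_subschemeι, Scheme.IdealSheafData.coe_support_vanishingIdeal]
    rfl
  let Z : Over S := Over.mk (I.subschemeι ≫ A.hom)
  let ι : Z ⟶ A := Over.homMk I.subschemeι
  haveI : IsReduced Z.left := hred
  haveI : IsClosedImmersion ι.left := inferInstanceAs (IsClosedImmersion I.subschemeι)
  have hfac : ∀ {K : Over S} (β : K ⟶ A), (∃ g, g ≫ ι.left = β.left) → ∃ g, g ≫ ι = β := fun {K} β ⟨g, hg⟩ => by
    refine ⟨Over.homMk g ?_, Over.OverMorphism.ext hg⟩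
    show g ≫ ι.left ≫ A.hom = K.hom
    rw [← Category.assoc, hg, Over.w]
  obtain ⟨W, a, b, ⟨i⟩, hb, hlift⟩ := exists_self_chart x hx
  have hsym : ∀ {K : Over S} (α β : K ⟶ A),
      Nonempty (BasedFunctor.comp (AlgSt.overMap α) x ≅ BasedFunctor.comp (AlgSt.overMap β) x) →
      (∃ g, g ≫ ι = β) → ∃ g, g ≫ ι = α := by
    rintro K α β hi ⟨g₀, hg₀⟩
    obtain ⟨K', h, g, he, hs, ha', hb'⟩ := hlift K α β hi
    haveI : Smooth (pullback.fst ι.left b.left) := MorphismProperty.pullback_fst _ _ hb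
    haveI : IsReduced (pullback ι.left b.left) := AlgSpLib.isReduced_of_smooth (pullback.fst ι.left b.left)
    obtain ⟨k, hk⟩ := exists_factor_of_range ι.left (pullback.snd ι.left b.left ≫ a.left) fun w => by
      refine hr.ge ?_
      rw [Scheme.Hom.comp_apply, Set.mem_preimage, ← ofChart_overMap, ← ofChart_congr i, ofChart_overMap,
        ← Scheme.Hom.comp_apply, ← pullback.condition, Scheme.Hom.comp_apply]
      exact hr.le ⟨pullback.fst ι.left b.left w, rfl⟩
    refine hfac α (exists_factor_of_flat_family ι.left α.left fun t => ?_)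
    obtain ⟨w, hw⟩ := h.left.surjective t
    let l := pullback.lift (f := ι.left) (g := b.left) (h.left ≫ g₀.left) g.left (by
      rw [Category.assoc, ← Over.comp_left, ← Over.comp_left, ← Over.comp_left, hg₀, hb'])
    refine ⟨K'.left, h.left, w, l ≫ k, inferInstance, hw, ?_⟩
    rw [Category.assoc, hk, pullback.lift_snd_assoc, ← Over.comp_left, ← Over.comp_left, ha']
  let Q : 𝒳.obj → Prop := fun a => ∀ o : Over A, (x.obj o ⟶ a) → ∃ g, g ≫ ι = o.hom
  have hdown : ∀ {a a' : 𝒳.obj}, (a' ⟶ a) → Q a → Q a' := fun m h o n => h o (n ≫ m)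
  have hiso : ObjectProperty.IsClosedUnderIsomorphisms Q := ⟨fun e h => hdown e.inv h⟩
  have hch : ∀ o : Over A, Q (x.obj o) ↔ ∃ g, g ≫ ι = o.hom := fun o => by
    refine ⟨fun h => h o (𝟙 _), fun ⟨g, hg⟩ o' m => ?_⟩
    let u : o'.left ⟶ o.left := eqToHom (x.w_obj o').symm ≫ 𝒳.p.map m ≫ eqToHom (x.w_obj o)
    let o₁ : Over A := (AlgSt.overMap (u ≫ o.hom)).obj (Over.mk (𝟙 _))
    let w : o₁ ⟶ o := Over.homMk u (by simp [o₁, AlgSt.overMap])
    let o₂ : Over A := (AlgSt.overMap o'.hom).obj (Over.mk (𝟙 _))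
    let w₂ : o₂ ⟶ o' := Over.homMk (𝟙 _) (by simp [o₂, AlgSt.overMap])
    obtain ⟨χ, ⟨hχ, -⟩, -⟩ := existsUnique_cart hG (x.map w) (x.map w₂ ≫ m)
      (eqToHom ((x.w_obj o₂).trans (x.w_obj o₁).symm)) (by
        rw [Functor.map_comp, map_map x w, map_map x w₂]
        show _ ≫ _ ≫ u ≫ _ = (_ ≫ 𝟙 o'.left ≫ _) ≫ _
        simp [u, eqToHom_map])
    refine hsym o'.hom (u ≫ o.hom) (nonempty_iso_of_top hG _ _ χ hχ) ⟨u ≫ g, by rw [Category.assoc, hg]⟩
  have hloc : ∀ (t : 𝒳.obj) (R : Sieve (𝒳.p.obj t)), R ∈ (QuotSh.J Scheme.fppfPrecoverage S) (𝒳.p.obj t) →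
      (∀ ⦃V : Over S⦄ (f : V ⟶ 𝒳.p.obj t), R f → ∀ (z : 𝒳.obj) (m : z ⟶ t) (h : 𝒳.p.obj z = V),
        𝒳.p.map m = eqToHom h ≫ f → Q z) → Q t := by
    intro t R hR h o m
    let e : o.left ⟶ 𝒳.p.obj t := eqToHom (x.w_obj o).symm ≫ 𝒳.p.map m
    obtain ⟨V, f, hf, hcov⟩ := exists_family_of_mem ((QuotSh.J Scheme.fppfPrecoverage S).pullback_stable e hR)
    refine hfac o.hom (exists_factor_of_flat_family ι.left o.hom.left fun s => ?_)
    obtain ⟨j, hj⟩ := hcov.2 (AlgSp.Points.ofScheme o.left s)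
    obtain ⟨z', hz'⟩ := hj
    obtain ⟨v, rfl⟩ : ∃ v, AlgSp.Points.ofScheme (V j) v = z' := ⟨_, AlgSp.Points.ofScheme_toScheme (V j) z'⟩
    have hz₂ : AlgSp.Points.ofScheme o.left ((f j).left v) = AlgSp.Points.ofScheme o.left s := by
      rw [← hz', ← ofScheme_map]
      rfl
    have hv := (AlgSp.Points.toScheme_ofScheme o.left ((f j).left v)).symm.trans
      ((congrArg (AlgSp.Points.toScheme o.left) hz₂).trans (AlgSp.Points.toScheme_ofScheme o.left s))
    have hflat : Flat (f j).left := (repWith_yon_iff _).1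
      ((locP_iff_repWith etST_flat (IsAlgSpace.yon_obj _) (AlgSp.representable_yon_map _)).1 (hcov.1 j).1)
    obtain ⟨z, μ, hz, hμ⟩ := exists_lift hG (x := t) (f j ≫ e)
    let o₁ : Over A := Over.mk (f j ≫ o.hom)
    let w : o₁ ⟶ o := Over.homMk (f j) rfl
    obtain ⟨χ, -, -⟩ := existsUnique_cart hG μ (x.map w ≫ m) (eqToHom ((x.w_obj o₁).trans hz.symm)) (by
      rw [Functor.map_comp, map_map x w, hμ]
      show _ = (_ ≫ f j ≫ _) ≫ _
      simp [e, o₁])
    obtain ⟨g, hg⟩ := h (f j ≫ e) (hf j) z μ hz hμ o₁ χ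
    exact ⟨(V j).left, (f j).left, v, g.left, hflat, hv, (congrArg CommaMorphism.left hg :)⟩
  have hS := isStack_fullSub h𝒳.isStack hdown hloc
  let j := AlgSt.subIncl 𝒳 Q
  let z : AlgSt.ofSp (spOf A).obj ⥤ᵇ 𝒳 := BasedFunctor.comp (AlgSt.toOverCat A) x
  have hz₁ : AlgSt.RepByAlgSpWith (LocP @Smooth) z := (repWith_overCat_iff _ A x).1 hx
  have hz₂ : AlgSt.RepByAlgSpWith AlgSp.IsSurjectiveMor z := (repWith_overCat_iff _ A x).1 hxs
  obtain ⟨L, hL, ⟨iL⟩⟩ := exists_subModel x ι hch hiso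
  obtain ⟨k, hk, -, ⟨l⟩⟩ := isEquivOver_symm (isEquivOver_slFun A x j)
  let e := BasedFunctor.comp (BasedFunctor.comp (AlgSt.toOverCat Z) L) k
  have he : FibCat.IsEquivOver e := isEquivOver_comp (isEquivOver_comp (isEquivOver_toOverCat Z) hL) hk
  have hA : AS (AlgSt.fullSub 𝒳 Q) := isAlgStack_of_cover_base hS h𝒳 j hz₁ hz₂
    (isAlgStack_of_equiv he (isAlgStack_ofSp (spOf Z)))
  have i₁ : BasedFunctor.comp (BasedFunctor.comp e (FibCat.fpFst z j)) (AlgSt.toOverCat A) ≅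
      BasedFunctor.comp (AlgSt.ofSpMap ((yon S).map ι)) (AlgSt.toOverCat A) :=
    (post _ (FibCat.fpFst x j)).mapIso ((Stk.restr (BasedFunctor.comp (AlgSt.toOverCat Z) L) _).mapIso l) ≪≫
      (Stk.restr (AlgSt.toOverCat Z) _).mapIso iL
  have i₂ : BasedFunctor.comp e (FibCat.fpFst z j) ≅ AlgSt.ofSpMap ((yon S).map ι) :=
    (post _ (AlgSt.ofOverCat A)).mapIso i₁
  have hci : AlgSt.IsClosedImm j := (repWith_iff_exists_model (bcStable_repWith @IsClosedImmersion)
    (isLocalOnBase_fppf (Groth.Agent.AlgSpLib.isLocalOnBase_repWith @IsClosedImmersion (fun _ _ r hr => by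
      have : IsClosedImmersion r := hr
      exact Groth.Agent.QA.IndQA.of_isImmersion r))) hA h𝒳 j (spOf A) z
    (repWith_mono hz₁ fun _ _ a _ ha => locP_mono (fun _ _ r hr => by haveI : Smooth r := hr; infer_instance) a ha)
    (repWith_mono hz₁ fun _ _ a _ ha => locP_mono (fun _ _ r hr => by haveI : Smooth r := hr; infer_instance) a ha)
    hz₂).2 ⟨spOf Z, ObjectProperty.homMk ((yon S).map ι), e, he, ⟨i₂⟩, (repWith_yon_iff _).2 ‹IsClosedImmersion ι.left›⟩
  refine ⟨Q, ⟨hiso, hA, hci⟩, Set.Subset.antisymm (range_map_subIncl_subset fun p hp => ?_) ?_, ?_⟩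
  · obtain ⟨s, hs⟩ := exists_point_of_surjective hG x hxs (AlgSt.Points.mk p)
    obtain ⟨r, m, n, -⟩ := (mk_eq_iff hG).1 hs
    let As : Over A := Over.mk (Over.homMk (A.left.fromSpecResidueField s) rfl :
      Over.mk (A.left.fromSpecResidueField s ≫ A.hom) ⟶ A)
    let β : 𝒳.p.obj r.obj ⟶ As.left := 𝒳.p.map m ≫ eqToHom (x.w_obj As)
    let o : Over A := Over.mk (β ≫ As.hom)
    let w : o ⟶ As := Over.homMk β rfl
    obtain ⟨χ, -, -⟩ := existsUnique_cart hG (show r.obj ⟶ x.obj As from m) (x.map w)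
      (eqToHom (x.w_obj o)) (by rw [map_map x w]; show _ = _ ≫ β ≫ _; simp [β])
    obtain ⟨g, hg⟩ := hp o (χ ≫ n)
    obtain ⟨κ⟩ := nonempty_pt r
    have h1 : s ∈ Set.range ι.left := ⟨g.left κ, by
      rw [← Scheme.Hom.comp_apply, show g.left ≫ ι.left = o.hom.left from congrArg CommaMorphism.left hg]
      show (β.left ≫ A.left.fromSpecResidueField s) κ = s
      rw [Scheme.Hom.comp_apply]
      exact Scheme.fromSpecResidueField_apply _ _⟩
    rw [← hs]
    exact hr.le h1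
  · intro p hp
    obtain ⟨s, rfl⟩ := exists_point_of_surjective hG x hxs p
    obtain ⟨v, hv⟩ := hr.ge hp
    rw [← hv, show AlgSt.Points.ofChart x (I.subschemeι v) = AlgSt.Points.ofChart (BasedFunctor.comp (AlgSt.overMap ι) x) v
      from (ofChart_overMap x ι v).symm]
    exact mk_mem_range_subIncl _ ((hch _).2 ⟨_, rfl⟩)
  · refine smoothLocally_of_chart hA.isStack.1 (fun W U b hb hU => ?_) (fun W U a ha hs hW => ?_)
      (U := Z) (x := BasedFunctor.comp e (FibCat.fpSnd z j)) ?_ ?_ ‹IsReduced Z.left›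
    · exact AlgSpLib.isReduced_of_smooth b
    · exact Groth.Agent.FlatMor.isReduced_of_flat_surjective a
    · exact repWith_congr _ (Iso.refl _) ((repWith_iff_of_equiv _ (FibCat.fpSnd z j) _ e (BasedFunctor.id _) he
        isEquivOver_id (Iso.refl _)).1 (repWith_fpSnd _ z j hz₁))
    · exact repWith_congr _ (Iso.refl _) ((repWith_iff_of_equiv _ (FibCat.fpSnd z j) _ e (BasedFunctor.id _) he
        isEquivOver_id (Iso.refl _)).1 (repWith_fpSnd _ z j hz₂))

end Groth.Agent.AlgStLib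

end
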