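import Groth.Agent.AlgStLib.OfPsh
import Groth.Agent.AlgSpLib.RepBySp
import Groth.Agent.FibCat2Misc.Rep
import Groth.Agent.S6409
import Groth.Prelude.Def_AlgSt2

/-!
# Functors representable by algebraic spaces: models

For `y : ofPsh A ⥤ᵇ 𝒴` a model of the fibre product `fp y f` is a presheaf `P` with an equivalence
`e : ofPsh P ⥤ᵇ fp y f`; its projection is `prjMap e : P ⟶ A`.  For `f` representable by algebraic spaces models exist,
and the projection is representable by algebraic spaces (with the same properties as `f`).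
-/

set_option autoImplicit false
set_option backward.isDefEq.respectTransparency false
set_option backward.isDefEq.respectTransparency.types false
set_option linter.style.haveILetI false
universe w v₄ u₄ v₃ u₃ v₂ u₂ u

noncomputable section

namespace Groth.Agent.AlgStLib

open CategoryTheory CategoryTheory.Limits AlgebraicGeometry Opposite Groth.Agent.FibCatRep
  Groth.Agent.FibCat2Misc Groth.Agent.AlgSpLib Groth.Agent.StkBasic
open _root_.AlgSp _root_.AlgSt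

variable {S : Scheme.{u}}

theorem isEquivOver_toOverCat (U : Over S) : FibCat.IsEquivOver (toOverCat U) := by
  haveI : (toOverCat U).toFunctor.Faithful :=
    ⟨fun {a b} m m' h => Stk.EltObj.hom_ext (congrArg CommaMorphism.left h)⟩
  haveI : (toOverCat U).toFunctor.Full :=
    ⟨fun {a b} m => ⟨⟨m.left, congrArg ULift.up (Over.w m)⟩, Over.OverMorphism.ext rfl⟩⟩
  exact isEquivOver_of_fullyFaithful _ fun η => ⟨⟨η.left, ⟨η.hom⟩⟩, Iso.refl _, rfl, rfl⟩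

section models

variable {𝒳 : BasedCategory.{v₂, u₂} (Over S)} {𝒴 : BasedCategory.{v₃, u₃} (Over S)} {f : 𝒳 ⥤ᵇ 𝒴}

/-- the projection of a model of a fibre product over a presheaf -/
abbrev prjMap {A P : PSp S} {y : Stk.ofPsh A ⥤ᵇ 𝒴} (e : Stk.ofPsh P ⥤ᵇ FibCat.fp y f) : P ⟶ A :=
  mapOf (BasedFunctor.comp e (FibCat.fpFst y f))

/-- a map of presheaves to a representable one is a map of algebraic spaces with property `Q` -/
def Good (Q : MorphismProperty (Sp S)) {P : PSp S} {U : Over S} (π : P ⟶ (pyon S).obj U) : Prop :=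
  ∃ h : Presheaf.IsSheaf (J S) P, IsAlgSpace (⟨P, h⟩ : Sp S) ∧
    Q (ObjectProperty.homMk π : (⟨P, h⟩ : Sp S) ⟶ (yon S).obj U)

lemma good_top_iff {P : PSp S} {U : Over S} (π : P ⟶ (pyon S).obj U) : Good ⊤ π ↔ IsAlgSpaceP P :=
  ⟨fun ⟨h, h', _⟩ => ⟨h, h'⟩, fun ⟨h, h'⟩ => ⟨h, h', trivial⟩⟩

theorem good_of_iso (Q : MorphismProperty (Sp S)) [Q.RespectsIso] {P P' : PSp S} {U : Over S}
    {π : P ⟶ (pyon S).obj U} {π' : P' ⟶ (pyon S).obj U} (i : P' ≅ P) (hi : i.hom ≫ π = π')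
    (h : Good Q π) : Good Q π' := by
  obtain ⟨h₁, h₂, h₃⟩ := h
  have h' : Presheaf.IsSheaf (J S) P' := (Presheaf.isSheaf_of_iso_iff i).2 h₁
  let j : (⟨P', h'⟩ : Sp S) ≅ ⟨P, h₁⟩ := (fullyFaithfulSheafToPresheaf (J S) _).preimageIso
    (X := (⟨P', h'⟩ : Sp S)) (Y := (⟨P, h₁⟩ : Sp S)) i
  refine ⟨h', IsAlgSpace.of_iso h₂ j.symm, ?_⟩
  have := (MorphismProperty.cancel_left_of_respectsIso Q j.hom _).2 h₃
  convert this using 1
  exact ObjectProperty.hom_ext _ hi.symm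

/-- two models are isomorphic compatibly -/
theorem exists_iso_of_models {𝒵 : BasedCategory.{v₄, u₄} (Over S)} {P P' : PSp S}
    {e : Stk.ofPsh P ⥤ᵇ 𝒵} {e' : Stk.ofPsh P' ⥤ᵇ 𝒵} (he : FibCat.IsEquivOver e)
    (he' : FibCat.IsEquivOver e') :
    ∃ i : P' ≅ P, ∀ {A : PSp S} (g : 𝒵 ⥤ᵇ Stk.ofPsh A),
      i.hom ≫ mapOf (BasedFunctor.comp e g) = mapOf (BasedFunctor.comp e' g) := by
  obtain ⟨k, hk, -, ⟨j⟩⟩ := isEquivOver_symm he
  haveI := isIso_mapOf (isEquivOver_comp he' hk)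
  refine ⟨asIso (mapOf (BasedFunctor.comp e' k)), fun g => ?_⟩
  rw [asIso_hom, ← mapOf_comp]
  exact mapOf_congr (show BasedFunctor.comp e' (BasedFunctor.comp (BasedFunctor.comp k e) g) ≅
    BasedFunctor.comp e' g from
      (Stk.restr e' _).mapIso ((post 𝒵 g).mapIso j))

theorem isAlgSpaceP_of_repByAlgSp {𝒵 : BasedCategory.{v₄, u₄} (Over S)} (h : RepByAlgSp 𝒵) {P : PSp S}
    {e : Stk.ofPsh P ⥤ᵇ 𝒵} (he : FibCat.IsEquivOver e) : IsAlgSpaceP P := by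
  obtain ⟨F, e', he'⟩ := h
  obtain ⟨i, -⟩ := exists_iso_of_models he' he
  exact IsAlgSpaceP.of_iso ((isAlgSpaceP_obj_iff _).2 F.property) i.symm

theorem repByAlgSp_of_model {𝒵 : BasedCategory.{v₄, u₄} (Over S)} {P : PSp S}
    {e : Stk.ofPsh P ⥤ᵇ 𝒵} (he : FibCat.IsEquivOver e) (h : IsAlgSpaceP P) : RepByAlgSp 𝒵 :=
  ⟨⟨⟨P, h.1⟩, h.2⟩, e, he⟩

theorem repByAlgSp_iff_of_equiv {F : 𝒳 ⥤ᵇ 𝒴} (hF : FibCat.IsEquivOver F) :
    RepByAlgSp 𝒳 ↔ RepByAlgSp 𝒴 := by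
  refine ⟨fun ⟨A, e, he⟩ => ⟨A, BasedFunctor.comp e F, isEquivOver_comp he hF⟩, fun ⟨A, e, he⟩ => ?_⟩
  obtain ⟨G, hG, -, -⟩ := isEquivOver_symm hF
  exact ⟨A, BasedFunctor.comp e G, isEquivOver_comp he hG⟩

/-- change of the functor out of the presheaf -/
theorem exists_model_change {A P : PSp S} {y y' : Stk.ofPsh A ⥤ᵇ 𝒴} (i : y ≅ y')
    {e : Stk.ofPsh P ⥤ᵇ FibCat.fp y f} (he : FibCat.IsEquivOver e) :
    ∃ e' : Stk.ofPsh P ⥤ᵇ FibCat.fp y' f, FibCat.IsEquivOver e' ∧ prjMap e' = prjMap e :=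
  ⟨_, isEquivOver_comp he (isEquivOver_fp_change f i), rfl⟩

/-- transfer between models over the slice and over the presheaf of a scheme -/
def slFun (U : Over S) (y : FibCat.overCat U ⥤ᵇ 𝒴) (f : 𝒳 ⥤ᵇ 𝒴) :
    FibCat.fp (𝒳 := Stk.ofPsh ((pyon S).obj U)) (BasedFunctor.comp (toOverCat U) y) f ⥤ᵇ FibCat.fp y f :=
  fpMap (BasedFunctor.comp (toOverCat U) y) f (toOverCat U) (BasedFunctor.id 𝒳) (BasedFunctor.id 𝒴)
    (Iso.refl _) (Iso.refl _)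

theorem isEquivOver_slFun (U : Over S) (y : FibCat.overCat U ⥤ᵇ 𝒴) (f : 𝒳 ⥤ᵇ 𝒴) :
    FibCat.IsEquivOver (slFun U y f) := by
  haveI : (BasedFunctor.id 𝒴).toFunctor.Full := inferInstanceAs (𝟭 𝒴.obj).Full
  haveI : (BasedFunctor.id 𝒴).toFunctor.Faithful := inferInstanceAs (𝟭 𝒴.obj).Faithful
  exact isEquivOver_fpMap _ _ _ _ _ _ _ (isEquivOver_toOverCat U) isEquivOver_id

lemma spMapOfOver_hom {F : Sp S} {U : Over S} (Φ : ofSp F ⥤ᵇ FibCat.overCat U) :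
    (spMapOfOver Φ).hom = mapOf (BasedFunctor.comp Φ (ofOverCat U)) := by
  ext T x
  apply ULift.ext
  rfl

lemma prjMap_slFun {U : Over S} {y : FibCat.overCat U ⥤ᵇ 𝒴} {F : Sp S}
    (e : ofSp F ⥤ᵇ FibCat.fp (𝒳 := Stk.ofPsh ((pyon S).obj U)) (BasedFunctor.comp (toOverCat U) y) f) :
    (spMapOfOver (BasedFunctor.comp (BasedFunctor.comp e (slFun U y f)) (FibCat.fpFst y f))).hom =
      prjMap e := by
  rw [spMapOfOver_hom]
  rfl

theorem repWith_iff (Q : MorphismProperty (Sp S)) [Q.RespectsIso] (f : 𝒳 ⥤ᵇ 𝒴) :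
    RepByAlgSpWith Q f ↔ ∀ (U : Over S) (y : Stk.ofPsh ((pyon S).obj U) ⥤ᵇ 𝒴),
      ∃ (P : PSp S) (e : Stk.ofPsh P ⥤ᵇ FibCat.fp y f), FibCat.IsEquivOver e ∧ Good Q (prjMap e) := by
  constructor
  · intro h U y
    let y₀ : FibCat.overCat U ⥤ᵇ 𝒴 := BasedFunctor.comp (ofOverCat U) y
    obtain ⟨F, e, he, hQ⟩ := h U y₀
    obtain ⟨k, hk, -, ⟨j⟩⟩ := isEquivOver_symm (isEquivOver_slFun U y₀ f)
    let e₁ := BasedFunctor.comp e k
    have i : BasedFunctor.comp (BasedFunctor.comp e₁ (slFun U y₀ f)) (FibCat.fpFst y₀ f) ≅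
        BasedFunctor.comp e (FibCat.fpFst y₀ f) :=
      (post _ (FibCat.fpFst y₀ f)).mapIso ((Stk.restr e _).mapIso j)
    have hg : Good Q (prjMap e₁) := ⟨F.obj.property, F.property, by
      convert hQ using 1
      refine ObjectProperty.hom_ext _ ?_
      exact (prjMap_slFun e₁).symm.trans ((spMapOfOver_hom _).trans ((mapOf_congr
        ((post _ (ofOverCat U)).mapIso i)).trans (spMapOfOver_hom _).symm))⟩
    obtain ⟨e₂, he₂, heq⟩ := exists_model_change (f := f) (show BasedFunctor.comp (toOverCat U) y₀ ≅ y from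
      (post _ y).mapIso (isoOfSec (BasedFunctor.comp (toOverCat U) (ofOverCat U))
        (BasedFunctor.id (Stk.ofPsh ((pyon S).obj U))) (fun a => rfl)))
      (e := e₁) (isEquivOver_comp he hk)
    exact ⟨F.obj.obj, e₂, he₂, heq ▸ hg⟩
  · intro h U y
    obtain ⟨P, e, he, h₁, h₂, h₃⟩ := h U (BasedFunctor.comp (toOverCat U) y)
    refine ⟨⟨⟨P, h₁⟩, h₂⟩, BasedFunctor.comp e (slFun U y f), isEquivOver_comp he (isEquivOver_slFun U y f), ?_⟩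
    convert h₃ using 1
    exact ObjectProperty.hom_ext _ (prjMap_slFun (F := (⟨P, h₁⟩ : Sp S)) e)

theorem repByAlgSpWith_top_iff : RepByAlgSpWith ⊤ f ↔ RepByAlgSp1 f :=
  ⟨fun h U y => let ⟨F, e, he, _⟩ := h U y; ⟨F, e, he⟩,
    fun h U y => let ⟨F, e, he⟩ := h U y; ⟨F, e, he, trivial⟩⟩

theorem repByAlgSp1_of_with {Q : MorphismProperty (Sp S)} (h : RepByAlgSpWith Q f) : RepByAlgSp1 f :=
  fun U y => let ⟨F, e, he, _⟩ := h U y; ⟨F, e, he⟩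

theorem repByAlgSp_fp_yon (hf : RepByAlgSp1 f) (U : Over S) (y : Stk.ofPsh ((pyon S).obj U) ⥤ᵇ 𝒴) :
    RepByAlgSp (FibCat.fp y f) := by
  obtain ⟨P, e, he, hg⟩ := (repWith_iff ⊤ f).1 (repByAlgSpWith_top_iff.2 hf) U y
  exact repByAlgSp_of_model he ((good_top_iff _).1 hg)

theorem good_of_model {Q : MorphismProperty (Sp S)} [Q.RespectsIso] (h : RepByAlgSpWith Q f)
    {U : Over S} {y : Stk.ofPsh ((pyon S).obj U) ⥤ᵇ 𝒴} {P : PSp S}
    {e : Stk.ofPsh P ⥤ᵇ FibCat.fp y f} (he : FibCat.IsEquivOver e) : Good Q (prjMap e) := by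
  obtain ⟨P', e', he', hg⟩ := (repWith_iff Q f).1 h U y
  obtain ⟨i, hi⟩ := exists_iso_of_models he' he
  exact good_of_iso Q i (hi (FibCat.fpFst y f)) hg

/-- base change of a model along a map of presheaves -/
theorem exists_model_baseChange {A B P P' : PSp S} {y : Stk.ofPsh A ⥤ᵇ 𝒴} (a : B ⟶ A)
    {e : Stk.ofPsh P ⥤ᵇ FibCat.fp y f} (he : FibCat.IsEquivOver e) {fst : P' ⟶ P} {snd : P' ⟶ B}
    (sq : IsPullback fst snd (prjMap e) a) :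
    ∃ e' : Stk.ofPsh P' ⥤ᵇ FibCat.fp (BasedFunctor.comp (Stk.ofPshMap a) y) f,
      FibCat.IsEquivOver e' ∧ prjMap e' = snd := by
  haveI : (BasedFunctor.id (Stk.ofPsh A)).toFunctor.Full := inferInstanceAs (𝟭 (Stk.EltObj A)).Full
  haveI : (BasedFunctor.id (Stk.ofPsh A)).toFunctor.Faithful := inferInstanceAs (𝟭 (Stk.EltObj A)).Faithful
  let e₁ := pbFun sq.flip.toCommSq
  let m := fpMap (F := Stk.ofPshMap a) (G := FibCat.fpFst y f) (Stk.ofPshMap a) (Stk.ofPshMap (prjMap e))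
    (BasedFunctor.id (Stk.ofPsh B)) e (BasedFunctor.id (Stk.ofPsh A)) (Iso.refl _)
    (mapOfIso (BasedFunctor.comp e (FibCat.fpFst y f)))
  refine ⟨BasedFunctor.comp (BasedFunctor.comp e₁ m) (pasteFun (Stk.ofPshMap a) y f),
    isEquivOver_comp (isEquivOver_comp (isEquivOver_pbFun sq.flip)
      (isEquivOver_fpMap _ _ _ _ _ _ _ isEquivOver_id he)) (isEquivOver_pasteFun _ _ _), ?_⟩
  ext T x
  exact secOf_ofPshMap snd ⟨T.unop, x⟩

end models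

variable {𝒳 𝒴 : AlgSt.Cat S} {f : 𝒳 ⥤ᵇ 𝒴}

/-- the standard point of a scheme -/
abbrev pt (U : Over S) : (Stk.ofPsh ((pyon S).obj U)).obj := ⟨U, ⟨𝟙 U⟩⟩

/-- objects of a category fibred in groupoids as functors out of schemes -/
theorem exists_point (h𝒴 : FibCat.IsFibGrpd 𝒴.p) (t : 𝒴.obj) :
    ∃ (y : Stk.ofPsh ((pyon S).obj (𝒴.p.obj t)) ⥤ᵇ 𝒴) (i : y.obj (pt _) ≅ t),
      𝒴.p.map i.hom = eqToHom (y.w_obj _) := by
  haveI := Groth.Agent.S6409.result h𝒴 (𝒴.p.obj t)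
  let x : 𝒴.p.Fiber (𝒴.p.obj t) := ⟨t, rfl⟩
  let i := (FibCat.evalAtId 𝒴 (𝒴.p.obj t)).objObjPreimageIso x
  exact ⟨BasedFunctor.comp (toOverCat _) ((FibCat.evalAtId 𝒴 (𝒴.p.obj t)).objPreimage x),
    Functor.Fiber.fiberInclusion.mapIso i, map_of_fiber i.hom⟩

/-- a morphism into a point is the image of a morphism of schemes -/
theorem exists_iso_pt (h𝒴 : FibCat.IsFibGrpd 𝒴.p) {U : Over S} {y : Stk.ofPsh ((pyon S).obj U) ⥤ᵇ 𝒴}
    {t : 𝒴.obj} (i : y.obj (pt U) ≅ t) {z : 𝒴.obj} (ψ : z ⟶ t) :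
    ∃ (a : (Stk.ofPsh ((pyon S).obj U)).obj) (m : a ⟶ pt U) (χ : y.obj a ≅ z)
      (h : 𝒴.p.obj (y.obj a) = 𝒴.p.obj z),
      𝒴.p.map χ.hom = eqToHom h ∧ χ.hom ≫ ψ = y.map m ≫ i.hom := by
  let g : 𝒴.p.obj z ⟶ U := 𝒴.p.map ψ ≫ 𝒴.p.map i.inv ≫ eqToHom (y.w_obj (pt U))
  let a : (Stk.ofPsh ((pyon S).obj U)).obj := ⟨𝒴.p.obj z, ⟨g⟩⟩
  let m : a ⟶ pt U := ⟨g, congrArg ULift.up (Category.comp_id g)⟩
  have hm : 𝒴.p.map (y.map m) = eqToHom (y.w_obj a) ≫ g ≫ eqToHom (y.w_obj (pt U)).symm := map_map y m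
  obtain ⟨χ, ⟨hχ, hχc⟩, -⟩ := existsUnique_cart h𝒴 ψ (y.map m ≫ i.hom) (eqToHom (y.w_obj a)) (by
    rw [Functor.map_comp, hm]
    simp [g, ← Functor.map_comp])
  haveI : IsIso (𝒴.p.map χ) := by rw [hχ]; infer_instance
  haveI := isIso_of_map h𝒴 χ
  exact ⟨a, m, asIso χ, y.w_obj a, hχ, hχc⟩

theorem faithful_of_rep (h𝒳 : FibCat.IsFibGrpd 𝒳.p) (h𝒴 : FibCat.IsFibGrpd 𝒴.p) (hf : RepByAlgSp1 f) :
    f.toFunctor.Faithful := by
  refine ⟨fun {x' x} φ φ' hφ => ?_⟩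
  obtain ⟨y, iy, hiy⟩ := exists_point h𝒴 (f.obj x)
  obtain ⟨a, m, χ, hχ', hχ, hχc⟩ := exists_iso_pt h𝒴 iy (f.map φ)
  let o : (FibCat.fp y f).obj := ⟨⟨pt _, x, iy⟩, fpProp_of_map y f _ (y.w_obj _) hiy⟩
  let o' : (FibCat.fp y f).obj := ⟨⟨a, x', χ⟩, fpProp_of_map y f _ hχ' hχ⟩
  let M : o' ⟶ o := ObjectProperty.homMk ⟨m, φ, hχc.symm⟩
  let M' : o' ⟶ o := ObjectProperty.homMk ⟨m, φ', hχc.symm.trans (by rw [hφ])⟩
  obtain ⟨F, e, he⟩ := repByAlgSp_fp_yon hf _ y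
  haveI := faithful_of_isFibSetoid (isFibSetoid_of_equiv he isFibSetoid_ofPsh)
  have : M = M' := (FibCat.fp y f).p.map_injective rfl
  exact congrArg (fun t => t.hom.snd) this

theorem exists_model (h𝒳 : FibCat.IsFibGrpd 𝒳.p) (h𝒴 : FibCat.IsFibGrpd 𝒴.p) (hf : RepByAlgSp1 f)
    {A : PSp S} (y : Stk.ofPsh A ⥤ᵇ 𝒴) :
    ∃ (P : PSp S) (e : Stk.ofPsh P ⥤ᵇ FibCat.fp y f), FibCat.IsEquivOver e := by
  haveI := faithful_of_rep h𝒳 h𝒴 hf
  refine exists_psh (isFibSetoid_iff.2 ⟨isFibGrpd_fp (Stk.isFibGrpd_ofPsh A) h𝒳 h𝒴 y f, ⟨fun {o o'} m m' h => ?_⟩⟩)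
  have h₁ : m.hom.fst = m'.hom.fst := Stk.EltObj.hom_ext h
  refine ObjectProperty.hom_ext _ (CategoricalPullback.hom_ext h₁ (f.toFunctor.map_injective ?_))
  rw [← cancel_epi o.obj.iso.hom, ← m.hom.w, ← m'.hom.w, h₁]

/-- the projection of a model is representable with the same properties -/
theorem repBySpWith_prjMap {Q : MorphismProperty (Sp S)} [Q.RespectsIso] (hf : RepByAlgSpWith Q f)
    {A P : PSp S} {y : Stk.ofPsh A ⥤ᵇ 𝒴} {e : Stk.ofPsh P ⥤ᵇ FibCat.fp y f}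
    (he : FibCat.IsEquivOver e) : RepBySpWith Q (prjMap e) := by
  intro U ξ P' fst snd sq
  obtain ⟨e', he', rfl⟩ := exists_model_baseChange ξ he sq
  exact good_of_model hf he'

theorem repBySp_prjMap (hf : RepByAlgSp1 f) {A P : PSp S} {y : Stk.ofPsh A ⥤ᵇ 𝒴}
    {e : Stk.ofPsh P ⥤ᵇ FibCat.fp y f} (he : FibCat.IsEquivOver e) : RepBySp (prjMap e) :=
  (repBySpWith_prjMap (Q := ⊤) (repByAlgSpWith_top_iff.2 hf) he).repBySp

/-- for `f` representable, fibre products over algebraic spaces are algebraic spaces -/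
theorem isAlgSpaceP_model (hf : RepByAlgSp1 f) {A P : PSp S} (hA : IsAlgSpaceP A)
    {y : Stk.ofPsh A ⥤ᵇ 𝒴} {e : Stk.ofPsh P ⥤ᵇ FibCat.fp y f} (he : FibCat.IsEquivOver e) :
    IsAlgSpaceP P :=
  isAlgSpaceP_of_repBySp (repBySp_prjMap hf he) hA

end Groth.Agent.AlgStLib

end
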