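import Groth.Agent.AlgStLib.MonoPoint
import Groth.Agent.AlgStLib.OpenSub
import Groth.Agent.GerbLib.Basic
import Groth.Prelude.Def_StGerb

/-!
# Residual gerbes: essential images of monomorphisms, field points, functoriality
-/

set_option autoImplicit false
set_option backward.isDefEq.respectTransparency false
set_option backward.isDefEq.respectTransparency.types false
set_option linter.style.haveILetI false
universe u

noncomputable section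

namespace Groth.Agent.AlgStLib

open CategoryTheory CategoryTheory.Limits AlgebraicGeometry Opposite Groth.Agent.FibCatRep
  Groth.Agent.FibCat2Misc Groth.Agent.AlgSpLib Groth.Agent.StkBasic
open _root_.AlgSp _root_.AlgSt

variable {S : Scheme.{u}} {𝒳 𝒴 𝒵 : AlgSt.Cat S}

theorem isMono_subIncl (h𝒳 : IsAlgStack Scheme.fppfPrecoverage 𝒳) {Q : 𝒳.obj → Prop}
    (hQ : IsAlgStack Scheme.fppfPrecoverage (AlgSt.fullSub 𝒳 Q)) : AlgSt.IsMono (AlgSt.subIncl 𝒳 Q) := by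
  haveI : (AlgSt.subIncl 𝒳 Q).toFunctor.Full := inferInstanceAs (ObjectProperty.ι Q).Full
  haveI : (AlgSt.subIncl 𝒳 Q).toFunctor.Faithful := inferInstanceAs (ObjectProperty.ι Q).Faithful
  exact isMono_of_fullyFaithful hQ h𝒳 _

/-- the residual gerbe as the essential image of a monomorphism -/
theorem exists_resGerbe_image (h𝒳 : IsAlgStack Scheme.fppfPrecoverage 𝒳) (x : AlgSt.Points 𝒳)
    (h𝒵 : IsAlgStack Scheme.fppfPrecoverage 𝒵) (hred : AlgSt.SmoothLocally (fun T => IsReduced T) 𝒵)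
    (hnoeth : AlgSt.SmoothLocally (fun T => IsLocallyNoetherian T) 𝒵) (hne : Nonempty (AlgSt.Points 𝒵))
    (hsub : Subsingleton (AlgSt.Points 𝒵)) (f : 𝒵 ⥤ᵇ 𝒳) (hf : AlgSt.IsMono f)
    (hfx : ∀ p : AlgSt.Points 𝒵, AlgSt.Points.map f p = x) :
    ∃ Q : 𝒳.obj → Prop, Gerb.IsResGerbe Scheme.fppfPrecoverage 𝒳 x Q ∧
      ∃ e : 𝒵 ⥤ᵇ AlgSt.fullSub 𝒳 Q, FibCat.IsEquivOver e ∧
        Nonempty (BasedFunctor.comp e (AlgSt.subIncl 𝒳 Q) ≅ f) := by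
  have h𝒳g := h𝒳.isStack.1
  have h𝒵g := h𝒵.isStack.1
  obtain ⟨hfull, hfaith⟩ := fullyFaithful_of_isMono h𝒵g h𝒳g hf
  haveI := hfull
  haveI := hfaith
  let Q : 𝒳.obj → Prop := fun ξ => ∃ z, Nonempty (f.obj z ≅ ξ)
  let e : 𝒵 ⥤ᵇ AlgSt.fullSub 𝒳 Q := liftSub Q f fun z => ⟨z, ⟨Iso.refl _⟩⟩
  haveI : e.toFunctor.Full := ⟨fun {a b} m => by
    obtain ⟨n, hn⟩ := f.toFunctor.map_surjective m.hom
    exact ⟨n, ObjectProperty.hom_ext _ hn⟩⟩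
  haveI : e.toFunctor.Faithful := ⟨fun {a b} m n h =>
    f.toFunctor.map_injective (congrArg (fun t => t.hom) h)⟩
  have he : FibCat.IsEquivOver e := isEquivOver_of_fullyFaithful e fun η => by
    obtain ⟨z, ⟨i⟩⟩ := η.property
    let g : 𝒳.p.obj η.obj ⟶ 𝒵.p.obj z := 𝒳.p.map i.inv ≫ eqToHom (f.w_obj z)
    obtain ⟨z', φ, hφ⟩ := GerbLib.lift_at h𝒵g rfl g
    haveI := hφ
    have hz' : 𝒵.p.obj z' = 𝒳.p.obj η.obj := IsHomLift.domain_eq 𝒵.p g φ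
    have hφ' : 𝒵.p.map φ = eqToHom hz' ≫ g := by simpa using IsHomLift.fac' 𝒵.p g φ
    haveI : IsIso (𝒵.p.map φ) := by rw [hφ']; infer_instance
    haveI := isIso_of_map h𝒵g φ
    let j : f.obj z' ≅ η.obj := f.toFunctor.mapIso (asIso φ) ≪≫ i
    refine ⟨z', ObjectProperty.isoMk _ j, (f.w_obj z').trans hz', ?_⟩
    show 𝒳.p.map (f.map φ ≫ i.hom) = _
    rw [Functor.map_comp, map_map, hφ']
    simp [g, ← Functor.map_comp]
  refine ⟨Q, ⟨⟨fun {a b} k hb => ?_⟩, isAlgStack_of_equiv he h𝒵, ?_, ?_, ?_, ?_, ?_⟩, e, he, ⟨Iso.refl _⟩⟩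
  · obtain ⟨z, ⟨i⟩⟩ := hb
    exact ⟨z, ⟨i ≪≫ k⟩⟩
  all_goals obtain ⟨k, hk, -, ⟨j⟩⟩ := isEquivOver_symm he
  · exact fun U u hu => hred U (BasedFunctor.comp u k) (repWith_comp_equiv_right hu hk)
  · exact fun U u hu => hnoeth U (BasedFunctor.comp u k) (repWith_comp_equiv_right hu hk)
  · exact hne.map (AlgSt.Points.map e)
  · exact ⟨fun a b => (bijective_map_of_equiv hk).1 (Subsingleton.elim _ _)⟩
  · intro q
    obtain ⟨p, rfl⟩ := (bijective_map_of_equiv he).2 q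
    rw [← map_comp_points]
    exact hfx p

/-- field points in the class of the point factor through the residual gerbe -/
theorem exists_factor_of_resGerbe (h𝒳 : IsAlgStack Scheme.fppfPrecoverage 𝒳) {x : AlgSt.Points 𝒳}
    {Q : 𝒳.obj → Prop} (hQ : Gerb.IsResGerbe Scheme.fppfPrecoverage 𝒳 x Q)
    {K : Type u} [Field K] {a : Spec (CommRingCat.of K) ⟶ S} (p : FibCat.overCat (Over.mk a) ⥤ᵇ 𝒳)
    (hp : ∀ t : ↥(Over.mk a).left, AlgSt.Points.ofChart p t = x) :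
    ∃ q : FibCat.overCat (Over.mk a) ⥤ᵇ AlgSt.fullSub 𝒳 Q,
      Nonempty (BasedFunctor.comp q (AlgSt.subIncl 𝒳 Q) ≅ p) := by
  obtain ⟨-, hA, -, -, ⟨w⟩, -, hw⟩ := hQ
  let Y := Over.mk a
  let p₀ : AlgSt.ofSp (spOf Y).obj ⥤ᵇ 𝒳 := BasedFunctor.comp (AlgSt.toOverCat Y) p
  obtain ⟨V, m, e, he, ⟨i⟩, hm⟩ := exists_model_of_repWith cls_mono.bc cls_mono.loc hA.isStack.1 h𝒳.isStack.1
    (isMono_subIncl h𝒳 hA) (spOf Y) p₀
  haveI : Mono m.hom := hm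
  obtain ⟨t⟩ : Nonempty ↥Y.left := inferInstanceAs (Nonempty (PrimeSpectrum K))
  have hq : AlgSt.Points.map p₀ (stPts _ (AlgSp.Points.ofScheme Y t)) =
      AlgSt.Points.map (AlgSt.subIncl 𝒳 Q) w := by
    rw [hw w, ← hp t]
    obtain ⟨k, hk, -, ⟨j⟩⟩ := isEquivOver_symm (isEquivOver_toOverCat Y)
    obtain ⟨q', hq'⟩ := exists_ofChart_id (U := Y) (AlgSt.Points.map (AlgSt.toOverCat Y) (stPts _ (AlgSp.Points.ofScheme Y t)))
    haveI : Subsingleton ↥Y.left := inferInstanceAs (Subsingleton (PrimeSpectrum K))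
    rw [map_comp_points, ← hq', map_ofChart, Subsingleton.elim q' t]
    rfl
  obtain ⟨r, -, -⟩ := exists_points_fp hA.isStack.1 h𝒳.isStack.1 (isFibGrpd_ofSpace _) (AlgSt.subIncl 𝒳 Q) p₀ _ w hq
  obtain ⟨r', rfl⟩ := (bijective_map_of_equiv he).2 r
  obtain ⟨v, rfl⟩ := (bijective_stPts _).2 r'
  haveI : IsIso m.hom := SpQS.isIso_of_mono_to_field a V.property m.hom v
  let ia : AlgSt.ofSp (spOf Y).obj ⥤ᵇ AlgSt.ofSp V.obj := Stk.ofPshMap (inv m.hom).hom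
  let z := BasedFunctor.comp ia e
  have k : BasedFunctor.comp z (FibCat.fpFst p₀ (AlgSt.subIncl 𝒳 Q)) ≅ BasedFunctor.id _ :=
    (Stk.restr ia _).mapIso i ≪≫ isoOfSec (BasedFunctor.comp ia (AlgSt.ofSpMap m.hom)) _ fun o => by
      rw [secOf_comp_ofPshMap, secOf_ofPshMap, secOf_id]
      show m.hom.hom.app _ ((inv m.hom).hom.app _ o.sec) = o.sec
      have hh : (inv m.hom).hom ≫ m.hom.hom = 𝟙 _ := congrArg (fun t => t.hom) (IsIso.inv_hom_id m.hom)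
      exact congrArg (fun t => t.app (op o.base) o.sec) hh
  let E : BasedFunctor.comp (BasedFunctor.comp z (FibCat.fpSnd p₀ (AlgSt.subIncl 𝒳 Q))) (AlgSt.subIncl 𝒳 Q) ≅ p₀ :=
    ((Stk.restr z _).mapIso (FibCat.fpIso p₀ _)).symm ≪≫ (post _ p₀).mapIso k
  obtain ⟨k', hk', -, ⟨j'⟩⟩ := isEquivOver_symm (isEquivOver_toOverCat Y)
  exact ⟨BasedFunctor.comp k' (BasedFunctor.comp z (FibCat.fpSnd p₀ (AlgSt.subIncl 𝒳 Q))),
    ⟨(Stk.restr k' _).mapIso E ≪≫ (post _ p).mapIso j'⟩⟩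

/-- functoriality of residual gerbes -/
theorem exists_map_resGerbe (h𝒳 : IsAlgStack Scheme.fppfPrecoverage 𝒳) (h𝒴 : IsAlgStack Scheme.fppfPrecoverage 𝒴)
    (f : 𝒳 ⥤ᵇ 𝒴) {x : AlgSt.Points 𝒳} {Q : 𝒳.obj → Prop} (hQ : Gerb.IsResGerbe Scheme.fppfPrecoverage 𝒳 x Q)
    {Q' : 𝒴.obj → Prop} (hQ' : Gerb.IsResGerbe Scheme.fppfPrecoverage 𝒴 (AlgSt.Points.map f x) Q') :
    ∃ g : AlgSt.fullSub 𝒳 Q ⥤ᵇ AlgSt.fullSub 𝒴 Q',
      Nonempty (BasedFunctor.comp g (AlgSt.subIncl 𝒴 Q') ≅ BasedFunctor.comp (AlgSt.subIncl 𝒳 Q) f) := by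
  obtain ⟨-, hA, hred, hnoeth, hne, hsub, hx⟩ := hQ
  obtain ⟨hcl, hB, -, -, ⟨w⟩, -, hw⟩ := hQ'
  haveI := hcl
  obtain ⟨k, _, a, z, hzp, hzs, hzf⟩ := exists_lfp_fieldPt hA hred hnoeth hne hsub
  let F := BasedFunctor.comp (AlgSt.subIncl 𝒳 Q) f
  let ι := AlgSt.subIncl 𝒴 Q'
  have hP := algFp h𝒴 hA hB F ι
  have hm : AlgSt.IsMono (FibCat.fpFst F ι) := repWith_fpFst _ ι F (isMono_subIncl h𝒴 hB)
  have hne' : Nonempty (AlgSt.Points (FibCat.fp F ι)) := by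
    obtain ⟨q⟩ := hne
    obtain ⟨r, -, -⟩ := exists_points_fp hB.isStack.1 h𝒴.isStack.1 hA.isStack.1 ι F q w
      (by rw [map_comp_points, hx q]; exact (hw w).symm)
    exact ⟨r⟩
  have he := isEquivOver_of_mono_fieldPt hP hA (FibCat.fpFst F ι) hm hne' z hzp hzs hzf
  obtain ⟨s, -, -, ⟨j⟩⟩ := isEquivOver_symm he
  let i : BasedFunctor.comp (BasedFunctor.comp s (FibCat.fpSnd F ι)) ι ≅ F :=
    ((Stk.restr s _).mapIso (FibCat.fpIso F ι)).symm ≪≫ (post _ F).mapIso j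
  have h : ∀ ξ, Q' (F.obj ξ) := fun ξ => ObjectProperty.prop_of_iso Q'
    (((BasedNatTrans.forgetful _ _).mapIso i).app ξ) ((BasedFunctor.comp s (FibCat.fpSnd F ι)).obj ξ).property
  exact ⟨liftSub Q' F h, ⟨Iso.refl _⟩⟩

end Groth.Agent.AlgStLib

end
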