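import Groth.Agent.AlgStLib.ResGerbe
import Groth.Agent.AlgStLib.DiagProps
import Groth.Agent.AlgStLib.LocQCalc
import Groth.Agent.AlgStLib.Generic
import Groth.Agent.AlgSpLib.FpqcLocP
import Groth.Agent.GrpdSplit.Pieces
import Groth.Agent.AlgStLib.QC2

/-!
# Maps of residual gerbes which are equivalences

A map of algebraic stacks with one point is fully faithful when its diagonal is an isomorphism over one field point:
the property descends along field extensions (fpqc coverings of algebraic spaces).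
-/

set_option autoImplicit false
set_option backward.isDefEq.respectTransparency false
set_option backward.isDefEq.respectTransparency.types false
set_option linter.style.haveILetI false
universe u

noncomputable section

namespace Groth.Agent.AlgStLib.ResIso

open CategoryTheory CategoryTheory.Limits AlgebraicGeometry Opposite Groth.Agent.FibCatRep
  Groth.Agent.FibCat2Misc Groth.Agent.AlgSpLib Groth.Agent.StkBasic Groth.Agent.AlgStLib
open _root_.AlgSp _root_.AlgSt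

variable {S : Scheme.{u}} {𝒳 𝒴 𝒵 𝒯 𝒜 ℬ : AlgSt.Cat S}

abbrev Iso' (S : Scheme.{u}) : MorphismProperty (Sp S) := MorphismProperty.isomorphisms (Sp S)

/-- faithfully flat quasi-compact maps of schemes -/
abbrev Ffqc : MorphismProperty Scheme.{u} := @Surjective ⊓ @Flat ⊓ @QuasiCompact

theorem isFpqcCover_of_repWith {A B : Sp S} (hB : IsAlgSpace B) {f : A ⟶ B} (hf : RepWith Ffqc f) :
    IsFpqcCover (fun _ : PUnit.{u + 1} => A) (fun _ => f) := by
  refine ⟨fun _ => (locP_iff_repWith etST_flat hB hf.1).2 (AlgSpLib.repWith_mono (fun _ _ _ h => h.1.2) hf), fun Z hZ ξ => ?_⟩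
  obtain ⟨W, z, w, sq, ⟨hs, hfl⟩, hq⟩ := exists_repWith hf ξ
  haveI := hs
  haveI := hfl
  haveI := hq
  haveI : CompactSpace ↥W.left := QuasiCompact.compactSpace_of_compactSpace w.left
  obtain ⟨t, ht⟩ := isCompact_univ.elim_finite_subcover (fun i => Set.range (W.left.affineCover.f i))
    (fun i => (W.left.affineCover.f i).isOpenEmbedding.isOpen_range) (fun x _ => by
      exact Set.mem_iUnion.2 ⟨_, W.left.affineCover.covers x⟩)
  let e := t.equivFin.symm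
  let V : Fin t.card → Over S := fun j => Over.mk (W.left.affineCover.f (e j).1 ≫ W.hom)
  let c : ∀ j, V j ⟶ W := fun j => Over.homMk (W.left.affineCover.f (e j).1) rfl
  refine ⟨t.card, V, fun j => c j ≫ w, fun j => inferInstanceAs (IsAffine (W.left.affineCover.X (e j).1)),
    fun j => inferInstanceAs (Flat (W.left.affineCover.f (e j).1 ≫ w.left)), fun x => ?_, fun j => ⟨PUnit.unit,
      (yon S).map (c j) ≫ z, by rw [Category.assoc, sq.w, Functor.map_comp, Category.assoc]⟩⟩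
  obtain ⟨y, rfl⟩ := w.left.surjective x
  obtain ⟨i, hi, z', hz'⟩ : ∃ i, i ∈ t ∧ ∃ z', W.left.affineCover.f i z' = y := by
    obtain ⟨i, hi⟩ := Set.mem_iUnion.1 (ht (Set.mem_univ y))
    obtain ⟨hit, z', hz'⟩ := Set.mem_iUnion.1 hi
    exact ⟨i, hit, z', hz'⟩
  refine ⟨e.symm ⟨i, hi⟩, ?_⟩
  have key : ∀ a : t, a.1 = i → w.left y ∈ Set.range (W.left.affineCover.f a.1 ≫ w.left) := by
    rintro ⟨a, ha⟩ h
    subst h
    exact ⟨z', by rw [Scheme.Hom.comp_apply, hz']⟩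
  exact key _ (by simp)

/-- isomorphic targets of base changes -/
theorem repWith_fpFst_congr {Q : MorphismProperty (Sp S)} {f : 𝒳 ⥤ᵇ 𝒴} {a a' : 𝒜 ⥤ᵇ 𝒴} (i : a ≅ a')
    (h : RepByAlgSpWith Q (FibCat.fpFst a' f)) : RepByAlgSpWith Q (FibCat.fpFst a f) :=
  (repWith_iff_of_equiv Q (FibCat.fpFst a' f) (FibCat.fpFst a f) _ (BasedFunctor.id _)
    (isEquivOver_fp_change f i) isEquivOver_id (Iso.refl _)).1 h

/-- base change of base changes -/
theorem repWith_fpFst_comp {Q : MorphismProperty (Sp S)} {f : 𝒳 ⥤ᵇ 𝒴} (a : 𝒜 ⥤ᵇ 𝒴) (W : ℬ ⥤ᵇ 𝒜)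
    (h : RepByAlgSpWith Q (FibCat.fpFst a f)) : RepByAlgSpWith Q (FibCat.fpFst (BasedFunctor.comp W a) f) :=
  (repWith_iff_of_equiv Q (FibCat.fpFst (BasedFunctor.comp W a) f) (FibCat.fpFst W (FibCat.fpFst a f))
    (pasteFun W a f) (BasedFunctor.id _) (isEquivOver_pasteFun W a f) isEquivOver_id (Iso.refl _)).2
    (repWith_fpFst Q (FibCat.fpFst a f) W h)

/-- invertibility of base changes descends along faithfully flat quasi-compact maps of spaces -/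
theorem repWith_iso_of_fpqc (h𝒳 : FibCat.IsFibGrpd 𝒳.p) (h𝒴 : FibCat.IsFibGrpd 𝒴.p) {f : 𝒳 ⥤ᵇ 𝒴}
    (hf : RepByAlgSp1 f) (a : 𝒜 ⥤ᵇ 𝒴) (W : ℬ ⥤ᵇ 𝒜) (hA : RepByAlgSp 𝒜) (hB : RepByAlgSp ℬ)
    (hW : RepByAlgSpWith (RepWith (S := S) Ffqc) W)
    (h : RepByAlgSpWith (Iso' S) (FibCat.fpFst (BasedFunctor.comp W a) f)) :
    RepByAlgSpWith (Iso' S) (FibCat.fpFst a f) := by
  obtain ⟨A, eA, heA⟩ := hA
  obtain ⟨B, eB, heB⟩ := hB
  obtain ⟨kA, hkA, -, ⟨jA⟩⟩ := isEquivOver_symm heA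
  let Φ := BasedFunctor.comp (BasedFunctor.comp eB W) kA
  let u : B.obj ⟶ A.obj := ObjectProperty.homMk (mapOf Φ)
  let iu : BasedFunctor.comp (Stk.ofPshMap u.hom) eA ≅ BasedFunctor.comp eB W :=
    (post _ eA).mapIso (mapOfIso Φ) ≪≫ (Stk.restr (BasedFunctor.comp eB W) _).mapIso jA
  have hu : RepWith Ffqc u := repWith_of_repBySpWith u ((repWith_ofPshMap_iff _ _).1
    ((repWith_iff_of_equiv _ W (Stk.ofPshMap u.hom) eB eA heB heA iu).1 hW))
  let y := BasedFunctor.comp eA a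
  obtain ⟨V, m, e, he, ⟨ie⟩, -⟩ := exists_model_of_repWith cls_top.bc cls_top.loc h𝒳 h𝒴
    (repByAlgSpWith_top_iff.2 hf) A y
  have hm : m.hom.hom = prjMap e := ((mapOf_congr ie).trans (mapOf_ofPshMap _)).symm
  have sqS := IsPullback.of_hasPullback m.hom u
  have sq := sqS.map (sheafToPresheaf (AlgSp.J S) (Type (u + 1)))
  obtain ⟨e', he', hprj⟩ := exists_model_baseChange (f := f) u.hom he
    (P' := (pullback m.hom u).obj) (fst := (pullback.fst m.hom u).hom) (snd := (pullback.snd m.hom u).hom)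
    (by rw [← hm]; exact sq)
  obtain ⟨e'', he'', hprj'⟩ := exists_model_change (f := f)
    (show BasedFunctor.comp (Stk.ofPshMap u.hom) y ≅ BasedFunctor.comp eB (BasedFunctor.comp W a) from
      (post _ a).mapIso iu) he'
  haveI : (BasedFunctor.id 𝒴).toFunctor.Full := inferInstanceAs (𝟭 𝒴.obj).Full
  haveI : (BasedFunctor.id 𝒴).toFunctor.Faithful := inferInstanceAs (𝟭 𝒴.obj).Faithful
  let E := fpMap (F := BasedFunctor.comp W a) (G := f) (BasedFunctor.comp eB (BasedFunctor.comp W a)) f eB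
    (BasedFunctor.id 𝒳) (BasedFunctor.id 𝒴) (Iso.refl _) (Iso.refl _)
  have hE : FibCat.IsEquivOver E := isEquivOver_fpMap (F := BasedFunctor.comp W a) (G := f)
    (BasedFunctor.comp eB (BasedFunctor.comp W a)) f eB (BasedFunctor.id 𝒳) (BasedFunctor.id 𝒴) (Iso.refl _)
    (Iso.refl _) heB isEquivOver_id
  let V' : AlgSp.Space S :=
    ⟨pullback m.hom u, isAlgSpace_of_isPullback_space A.property V.property B.property sqS⟩
  let s : V' ⟶ B := ObjectProperty.homMk (pullback.snd m.hom u)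
  let is : BasedFunctor.comp (AlgSt.ofSpMap s.hom) eB ≅
      BasedFunctor.comp (BasedFunctor.comp e'' E) (FibCat.fpFst (BasedFunctor.comp W a) f) :=
    (post _ eB).mapIso (eqToIso (congrArg Stk.ofPshMap (show s.hom.hom = prjMap e'' from
      (hprj'.trans hprj).symm)) ≪≫ mapOfIso _)
  have hs : IsIso s.hom := prop_of_repWith cls_isIso.bc cls_isIso.loc s
    ((repWith_iff_of_equiv (Iso' S) (FibCat.fpFst (BasedFunctor.comp W a) f) (AlgSt.ofSpMap s.hom)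
      (BasedFunctor.comp e'' E) eB (isEquivOver_comp he'' hE) heB is).1 h)
  have hiso : IsIso m.hom := (isLocalOnBase_isomorphisms _ _ A.property (fun _ => B.property)
    (isFpqcCover_of_repWith A.property hu) m.hom V.property _ _ _ (fun _ => V'.property) (fun _ => sqS)).2
      fun _ => hs
  have hy : RepByAlgSpWith (Iso' S) (FibCat.fpFst y f) := repWith_fpFst_of_model cls_isIso.bc he ie hiso
  let EA := fpMap (F := a) (G := f) y f eA (BasedFunctor.id 𝒳) (BasedFunctor.id 𝒴) (Iso.refl _) (Iso.refl _)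
  exact (repWith_iff_of_equiv (Iso' S) (FibCat.fpFst a f) (FibCat.fpFst y f) EA eA
    (isEquivOver_fpMap (F := a) (G := f) y f eA (BasedFunctor.id 𝒳) (BasedFunctor.id 𝒴) (Iso.refl _) (Iso.refl _) heA isEquivOver_id) heA
    (Iso.refl _)).2 hy

/-- local lifts into self products -/
theorem lifts_cmpMap' {w : 𝒵 ⥤ᵇ 𝒳} (hw : Lifts w) (t : 𝒳 ⥤ᵇ 𝒯) : Lifts (cmpMap w w t) := by
  intro U y
  obtain ⟨V₁, h₁, a₁, b₁, c₁, z₁, ⟨i₁⟩⟩ := hw U (BasedFunctor.comp y (FibCat.fpFst t t))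
  obtain ⟨V, h₂, a₂, b₂, c₂, z₂, ⟨i₂⟩⟩ :=
    hw V₁ (BasedFunctor.comp (Stk.ofPshMap ((pyon S).map h₁)) (BasedFunctor.comp y (FibCat.fpSnd t t)))
  let g := Stk.ofPshMap ((pyon S).map (h₂ ≫ h₁))
  let g₁ := Stk.ofPshMap ((pyon S).map h₁)
  let g₂ := Stk.ofPshMap ((pyon S).map h₂)
  let c : BasedFunctor.comp g₂ g₁ ≅ g := isoOfSec _ _ fun a => by
    rw [secOf_comp_ofPshMap, secOf_ofPshMap, secOf_ofPshMap, Functor.map_comp]
    rfl
  let k₁ : BasedFunctor.comp (BasedFunctor.comp g₂ z₁) w ≅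
      BasedFunctor.comp g (BasedFunctor.comp y (FibCat.fpFst t t)) :=
    (Stk.restr g₂ 𝒳).mapIso i₁ ≪≫ (post _ (BasedFunctor.comp y (FibCat.fpFst t t))).mapIso c
  let k₂ : BasedFunctor.comp z₂ w ≅ BasedFunctor.comp g (BasedFunctor.comp y (FibCat.fpSnd t t)) :=
    i₂ ≪≫ (post _ (BasedFunctor.comp y (FibCat.fpSnd t t))).mapIso c
  let e : BasedFunctor.comp (BasedFunctor.comp g₂ z₁) (BasedFunctor.comp w t) ≅
      BasedFunctor.comp z₂ (BasedFunctor.comp w t) :=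
    (post _ t).mapIso k₁ ≪≫ (Stk.restr (BasedFunctor.comp g y) _).mapIso (FibCat.fpIso t t) ≪≫
      ((post _ t).mapIso k₂).symm
  have hfl : Flat (h₂ ≫ h₁).left := by rw [Over.comp_left]; infer_instance
  have hsu : Surjective (h₂ ≫ h₁).left := by rw [Over.comp_left]; infer_instance
  have hfp : LocallyOfFinitePresentation (h₂ ≫ h₁).left := by rw [Over.comp_left]; infer_instance
  refine ⟨V, h₂ ≫ h₁, hfl, hsu, hfp,
    FibCat.fpLift (BasedFunctor.comp g₂ z₁) z₂ e, ⟨fpExt k₁ k₂ fun a => ?_⟩⟩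
  let p : t.obj (w.obj (z₁.obj (g₂.obj a))) ≅ t.obj (y.obj (g.obj a)).obj.fst :=
    t.toFunctor.mapIso (((BasedNatTrans.forgetful _ _).mapIso k₁).app a)
  let q : t.obj (y.obj (g.obj a)).obj.fst ≅ t.obj (y.obj (g.obj a)).obj.snd := (y.obj (g.obj a)).obj.iso
  let r : t.obj (w.obj (z₂.obj a)) ≅ t.obj (y.obj (g.obj a)).obj.snd :=
    t.toFunctor.mapIso (((BasedNatTrans.forgetful _ _).mapIso k₂).app a)
  show p.hom ≫ q.hom = (𝟙 _ ≫ (p.hom ≫ q.hom ≫ r.inv) ≫ 𝟙 _) ≫ r.hom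
  simp

theorem isEquivOver_of_iso {F G : 𝒳 ⥤ᵇ 𝒴} (i : F ≅ G) (hG : FibCat.IsEquivOver G) : FibCat.IsEquivOver F := by
  obtain ⟨K, ⟨a⟩, ⟨b⟩⟩ := hG
  exact ⟨K, ⟨(post _ K).mapIso i ≪≫ a⟩, ⟨(Stk.restr K _).mapIso i ≪≫ b⟩⟩

/-- the diagonal of a functor is an equivalence exactly for fully faithful functors -/
theorem fullyFaithful_of_isEquivOver_diag (h𝒳 : FibCat.IsFibGrpd 𝒳.p) (h𝒴 : FibCat.IsFibGrpd 𝒴.p)
    {f : 𝒳 ⥤ᵇ 𝒴} (h : FibCat.IsEquivOver (FibCat.diag f)) : f.toFunctor.Full ∧ f.toFunctor.Faithful := by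
  haveI := (isEquivOver_data h).1
  refine ⟨⟨fun {x' x} ψ => ?_⟩, faithful_of_full_diag⟩
  let k : 𝒳.p.obj x' ⟶ 𝒳.p.obj x := eqToHom (f.w_obj x').symm ≫ 𝒴.p.map ψ ≫ eqToHom (f.w_obj x)
  obtain ⟨x₁, l, hl⟩ := GerbLib.lift_at h𝒳 rfl k
  haveI := hl
  have hx₁ : 𝒳.p.obj x₁ = 𝒳.p.obj x' := IsHomLift.domain_eq 𝒳.p k l
  have hlm : 𝒳.p.map l = eqToHom hx₁ ≫ k := by simpa using IsHomLift.fac' 𝒳.p k l
  obtain ⟨χ, ⟨hχ, hc⟩, -⟩ := existsUnique_cart h𝒴 (f.map l) ψ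
    (eqToHom ((f.w_obj x').trans (hx₁.symm.trans (f.w_obj x₁).symm))) (by
      rw [map_map, hlm]; simp [k])
  haveI : IsIso (𝒴.p.map χ) := by rw [hχ]; infer_instance
  haveI := isIso_of_map h𝒴 χ
  let o : (FibCat.fp f f).obj := ⟨⟨x', x₁, asIso χ⟩, fpProp_of_map f f _
    ((f.w_obj x').trans (hx₁.symm.trans (f.w_obj x₁).symm)) hχ⟩
  obtain ⟨z, i, -, -⟩ := (isEquivOver_data h).2 o
  let i₁ : z ≅ x' := (FibCat.fpFst f f).toFunctor.mapIso i
  let i₂ : z ≅ x₁ := (FibCat.fpSnd f f).toFunctor.mapIso i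
  have w : f.map i₁.hom ≫ χ = 𝟙 _ ≫ f.map i₂.hom := i.hom.hom.w
  refine ⟨i₁.inv ≫ i₂.hom ≫ l, ?_⟩
  rw [Category.id_comp] at w
  rw [Functor.map_comp, Functor.map_comp, ← reassoc_of% w, hc, ← Functor.map_comp_assoc, i₁.inv_hom_id,
    CategoryTheory.Functor.map_id, Category.id_comp]

section cmp

variable (g : 𝒳 ⥤ᵇ 𝒴)

/-- the comparison on self products -/
abbrev selfCmp (a : 𝒜 ⥤ᵇ 𝒳) :
    FibCat.fp a a ⥤ᵇ FibCat.fp (BasedFunctor.comp a g) (BasedFunctor.comp a g) :=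
  cmpSelf a g

theorem repWith_iso_of_isEquivOver {f : 𝒳 ⥤ᵇ 𝒴} (hf : FibCat.IsEquivOver f) : RepByAlgSpWith (Iso' S) f := by
  haveI := respectsIso_onSp (S := S) cls_isIso.bc
  refine (repWith_iff_of_equiv (Iso' S) (BasedFunctor.id 𝒴) f f (BasedFunctor.id _) hf isEquivOver_id
    (Iso.refl _)).1 (repWith_onSp_iff.1 ((repWith_iff _ _).2 fun U y => ?_))
  have hid : FibCat.IsEquivOver (FibCat.fpFst y (BasedFunctor.id 𝒴)) :=
    isEquivOver_comp (isEquivOver_swapFun y (BasedFunctor.id 𝒴)) (isEquivOver_fpSnd_id y)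
  obtain ⟨k, hk, -, ⟨jr⟩⟩ := isEquivOver_symm hid
  refine ⟨_, k, hk, ?_⟩
  have e : prjMap k = 𝟙 _ := (mapOf_congr (show BasedFunctor.comp k (FibCat.fpFst y (BasedFunctor.id 𝒴)) ≅
    BasedFunctor.id _ from jr)).trans mapOf_id
  rw [e]
  exact ⟨((yon S).obj U).property, IsAlgSpace.yon_obj U, fun _ _ => (inferInstance : IsIso (𝟙 ((yon S).obj U)))⟩

/-- the base change of the diagonal to the self product of a point -/
theorem repWith_cmp_iff {a : 𝒜 ⥤ᵇ 𝒳} {Q : MorphismProperty (Sp S)} :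
    RepByAlgSpWith Q (FibCat.fpFst (cmpMap a a g) (FibCat.diag g)) ↔ RepByAlgSpWith Q (selfCmp g a) :=
  repWith_iff_of_equiv Q (FibCat.fpFst (cmpMap a a g) (FibCat.diag g)) (selfCmp g a)
    (cmpDiag ((post _ g).mapIso (FibCat.fpIso a a)) (fun _ => rfl)) (BasedFunctor.id _)
    (isEquivOver_cmpDiag ((post _ g).mapIso (FibCat.fpIso a a)) (fun _ => rfl)) isEquivOver_id (Iso.refl _)

/-- the map on self products of a map of points -/
abbrev prodBoth (a : 𝒜 ⥤ᵇ 𝒳) (H : ℬ ⥤ᵇ 𝒜) :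
    FibCat.fp (BasedFunctor.comp (BasedFunctor.comp H a) g) (BasedFunctor.comp (BasedFunctor.comp H a) g) ⥤ᵇ
      FibCat.fp (BasedFunctor.comp a g) (BasedFunctor.comp a g) :=
  BasedFunctor.comp (prodFst (BasedFunctor.comp a g) (BasedFunctor.comp H (BasedFunctor.comp a g)) H)
    (prodSnd (BasedFunctor.comp a g) (BasedFunctor.comp a g) H)

def cmpBothIso (a : 𝒜 ⥤ᵇ 𝒳) (H : ℬ ⥤ᵇ 𝒜) :
    BasedFunctor.comp (prodBoth g a H) (cmpMap a a g) ≅
      cmpMap (BasedFunctor.comp H a) (BasedFunctor.comp H a) g :=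
  fpExt (Iso.refl _) (Iso.refl _) fun w => by
    show g.map (𝟙 _) ≫ _ = _ ≫ g.map (𝟙 _)
    simp
    rfl

end cmp

/-- a map between stacks with one point is fully faithful when this holds over one field point -/
theorem fullyFaithful_of_fieldPt (h𝒳 : IsAlgStack Scheme.fppfPrecoverage 𝒳)
    (h𝒴 : IsAlgStack Scheme.fppfPrecoverage 𝒴) (hred : AlgSt.SmoothLocally (fun T => IsReduced T) 𝒳)
    (hnoeth : AlgSt.SmoothLocally (fun T => IsLocallyNoetherian T) 𝒳) (hne : Nonempty (AlgSt.Points 𝒳))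
    (hsub : Subsingleton (AlgSt.Points 𝒳)) (g : 𝒳 ⥤ᵇ 𝒴) {k : Type u} [Field k]
    {b : Spec (CommRingCat.of k) ⟶ S} (p : FibCat.overCat (Over.mk b) ⥤ᵇ 𝒳)
    (hC : FibCat.IsEquivOver (selfCmp g p)) : g.toFunctor.Full ∧ g.toFunctor.Faithful := by
  obtain ⟨k₀, _, b₀, z, hz₁, hz₂, hz₃⟩ := exists_lfp_fieldPt h𝒳 hred hnoeth hne hsub
  obtain ⟨t₀⟩ : Nonempty ↥(Over.mk b₀).left := inferInstanceAs (Nonempty (PrimeSpectrum k₀))
  obtain ⟨t⟩ : Nonempty ↥(Over.mk b).left := inferInstanceAs (Nonempty (PrimeSpectrum k))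
  obtain ⟨K, α, β, s, ⟨i⟩, -, -⟩ :=
    exists_common_point h𝒳.isStack.1 (Subsingleton.elim (AlgSt.Points.ofChart z t₀) (AlgSt.Points.ofChart p t))
  let T : Over S := Over.mk (K.left.fromSpecResidueField s ≫ K.hom)
  let r : T ⟶ K := Over.homMk (K.left.fromSpecResidueField s) rfl
  let z₀ : ofSch (Over.mk b₀) ⥤ᵇ 𝒳 := BasedFunctor.comp (toOverCat _) z
  let H₀ : ofSch T ⥤ᵇ ofSch (Over.mk b₀) := ofSpMap ((yon S).map (r ≫ α))
  let H₁ : ofSch T ⥤ᵇ FibCat.overCat (Over.mk b) :=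
    BasedFunctor.comp (ofSpMap ((yon S).map (r ≫ β))) (toOverCat _)
  let i' : BasedFunctor.comp H₀ z₀ ≅ BasedFunctor.comp H₁ p :=
    (Stk.restr (BasedFunctor.comp (toOverCat T) (AlgSt.overMap r)) _).mapIso i
  -- the comparison over the common field point
  have hcK : RepByAlgSpWith (Iso' S)
      (FibCat.fpFst (cmpMap (BasedFunctor.comp H₁ p) (BasedFunctor.comp H₁ p) g) (FibCat.diag g)) :=
    repWith_fpFst_congr (cmpBothIso g p H₁).symm
      (repWith_fpFst_comp (cmpMap p p g) (prodBoth g p H₁) ((repWith_cmp_iff g).2 (repWith_iso_of_isEquivOver hC)))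
  let E : FibCat.fp (BasedFunctor.comp (BasedFunctor.comp H₀ z₀) g) (BasedFunctor.comp (BasedFunctor.comp H₀ z₀) g) ⥤ᵇ
      FibCat.fp (BasedFunctor.comp (BasedFunctor.comp H₁ p) g) (BasedFunctor.comp (BasedFunctor.comp H₁ p) g) :=
    FibCat.fpLift (FibCat.fpFst _ _) (FibCat.fpSnd _ _)
      ((Stk.restr (FibCat.fpFst _ _) _).mapIso ((post _ g).mapIso i').symm ≪≫ FibCat.fpIso _ _ ≪≫
        (Stk.restr (FibCat.fpSnd _ _) _).mapIso ((post _ g).mapIso i'))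
  have hcK₀ : RepByAlgSpWith (Iso' S)
      (FibCat.fpFst (cmpMap (BasedFunctor.comp H₀ z₀) (BasedFunctor.comp H₀ z₀) g) (FibCat.diag g)) :=
    repWith_fpFst_congr (fpExt ((Stk.restr (FibCat.fpFst _ _) _).mapIso i')
        ((Stk.restr (FibCat.fpSnd _ _) _).mapIso i') fun w => by
          let I := fun v => ((BasedNatTrans.forgetful _ _).mapIso i').app v
          show g.map (I w.obj.fst).hom ≫
              (𝟙 _ ≫ (g.map (I w.obj.fst).inv ≫ w.obj.iso.hom ≫ g.map (I w.obj.snd).hom) ≫ 𝟙 _) =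
            (𝟙 _ ≫ w.obj.iso.hom ≫ 𝟙 _) ≫ g.map (I w.obj.snd).hom
          simp : cmpMap (BasedFunctor.comp H₀ z₀) (BasedFunctor.comp H₀ z₀) g ≅
            BasedFunctor.comp E (cmpMap (BasedFunctor.comp H₁ p) (BasedFunctor.comp H₁ p) g))
      (repWith_fpFst_comp _ E hcK)
  -- descent to the point of finite presentation
  have hd := repByAlgSp1_diag_stack h𝒳 h𝒴 g
  have hH : RepByAlgSpWith (RepWith (S := S) Ffqc) H₀ := by
    have h' : Ffqc (r ≫ α).left := by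
      refine ⟨⟨GrpdSplit.surjective_of_field (L := K.left.residueField s) _,
        GrpdSplit.flat_of_field (L := K.left.residueField s) _⟩, ?_⟩
      haveI : IsAffine T.left := inferInstanceAs (IsAffine (Spec (K.left.residueField s)))
      haveI : IsAffine (Over.mk b₀).left := inferInstanceAs (IsAffine (Spec (CommRingCat.of k₀)))
      exact inferInstance
    refine (repWith_ofPshMap_iff _ _).2 (repBySpWith_of_bc (IsAlgSpace.yon_obj T) (IsAlgSpace.yon_obj _) _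
      fun U _ _ _ snd hW sq => repWith_baseChange sq ((repWith_yon_iff _).2 h'))
  have hzg : ∀ {W : Over S} (a : ofSch W ⥤ᵇ 𝒴), RepByAlgSp (FibCat.fp a a) := fun {W} a =>
    repByAlgSp_fp_yon (repByAlgSp1_point h𝒴.isStack.1 h𝒴.diag (isAlgSpaceP_yon W) a) W a
  have hP : RepByAlgSpWith (RepWith (S := S) Ffqc) (prodBoth g z₀ H₀) :=
    repWith_comp_rep
      (isFibGrpd_fp (isFibGrpd_ofSpace _) (isFibGrpd_ofSpace _) h𝒴.isStack.1 _ _)
      (isFibGrpd_fp (isFibGrpd_ofSpace _) (isFibGrpd_ofSpace _) h𝒴.isStack.1 _ _)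
      (repWith_prodFst _ _ _ hH) (repWith_prodSnd _ _ _ hH)
  have hc₀ : RepByAlgSpWith (Iso' S) (FibCat.fpFst (cmpMap z₀ z₀ g) (FibCat.diag g)) :=
    repWith_iso_of_fpqc h𝒳.isStack.1 (isFibGrpd_fp h𝒳.isStack.1 h𝒳.isStack.1 h𝒴.isStack.1 g g) hd _
      (prodBoth g z₀ H₀) (hzg _) (hzg _) hP (repWith_fpFst_congr (cmpBothIso g z₀ H₀) hcK₀)
  have hlift : Lifts (cmpMap z₀ z₀ g) := lifts_cmpMap' (lifts_of_fppf ((repWith_overCat_iff _ _ z).1 hz₃)
    ((repWith_overCat_iff _ _ z).1 hz₁) ((repWith_overCat_iff _ _ z).1 hz₂)) g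
  exact fullyFaithful_of_isEquivOver_diag h𝒳.isStack.1 h𝒴.isStack.1 (isEquivOver_of_repWith_isIso h𝒳
    (isFibGrpd_fp h𝒳.isStack.1 h𝒳.isStack.1 h𝒴.isStack.1 g g)
    (repWith_of_lifts cls_isIso.bc cls_isIso.loc hd hlift hc₀))

/-- the comparison of residual gerbes -/
theorem exists_equiv (h𝒳 : IsAlgStack Scheme.fppfPrecoverage 𝒳) (h𝒴 : IsAlgStack Scheme.fppfPrecoverage 𝒴)
    (f : 𝒳 ⥤ᵇ 𝒴) {x : AlgSt.Points 𝒳} {Q : 𝒳.obj → Prop}
    (hQ : Gerb.IsResGerbe Scheme.fppfPrecoverage 𝒳 x Q) {Q' : 𝒴.obj → Prop}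
    (hQ' : Gerb.IsResGerbe Scheme.fppfPrecoverage 𝒴 (AlgSt.Points.map f x) Q')
    {k : Type u} [Field k] {a : Spec (CommRingCat.of k) ⟶ S} (p : FibCat.overCat (Over.mk a) ⥤ᵇ 𝒳)
    (hp : ∀ t : ↥(Over.mk a).left, AlgSt.Points.ofChart p t = x)
    (e : BasedFunctor.comp (FibCat.fpFst p p) (BasedFunctor.comp p f) ≅
      BasedFunctor.comp (FibCat.fpSnd p p) (BasedFunctor.comp p f))
    (he : ∀ c, e.hom.toNatTrans.app c = f.map c.obj.iso.hom)
    (hiso : FibCat.IsEquivOver (FibCat.fpLift (FibCat.fpFst p p) (FibCat.fpSnd p p) e)) :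
    ∃ g : AlgSt.fullSub 𝒳 Q ⥤ᵇ AlgSt.fullSub 𝒴 Q',
      Nonempty (BasedFunctor.comp g (AlgSt.subIncl 𝒴 Q') ≅ BasedFunctor.comp (AlgSt.subIncl 𝒳 Q) f) ∧
      FibCat.IsEquivOver g := by
  obtain ⟨g, ⟨ig⟩⟩ := exists_map_resGerbe h𝒳 h𝒴 f hQ hQ'
  refine ⟨g, ⟨ig⟩, ?_⟩
  obtain ⟨p', ⟨ip⟩⟩ := exists_factor_of_resGerbe h𝒳 hQ p hp
  obtain ⟨-, hA, hred, hnoeth, hne, hsub, -⟩ := hQ
  obtain ⟨-, hB, hred', hnoeth', hne', hsub', -⟩ := hQ'
  haveI : (AlgSt.subIncl 𝒳 Q).toFunctor.Full := inferInstanceAs (ObjectProperty.ι Q).Full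
  haveI : (AlgSt.subIncl 𝒳 Q).toFunctor.Faithful := inferInstanceAs (ObjectProperty.ι Q).Faithful
  haveI : (AlgSt.subIncl 𝒴 Q').toFunctor.Full := inferInstanceAs (ObjectProperty.ι Q').Full
  haveI : (AlgSt.subIncl 𝒴 Q').toFunctor.Faithful := inferInstanceAs (ObjectProperty.ι Q').Faithful
  let i := AlgSt.subIncl 𝒳 Q
  let i' := AlgSt.subIncl 𝒴 Q'
  let α : BasedFunctor.comp p' i ≅ BasedFunctor.comp (BasedFunctor.id _) p := ip
  let E₁ := fpMap (F := p) (G := p) p' p' (BasedFunctor.id _) (BasedFunctor.id _) i α α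
  have hE₁ : FibCat.IsEquivOver E₁ :=
    isEquivOver_fpMap (F := p) (G := p) _ _ _ _ i α α isEquivOver_id isEquivOver_id
  let β : BasedFunctor.comp (BasedFunctor.comp p' g) i' ≅
      BasedFunctor.comp (BasedFunctor.id _) (BasedFunctor.comp p f) :=
    (Stk.restr p' _).mapIso ig ≪≫ (post _ f).mapIso ip
  let E₂ := fpMap (F := BasedFunctor.comp p f) (G := BasedFunctor.comp p f) (BasedFunctor.comp p' g)
    (BasedFunctor.comp p' g) (BasedFunctor.id _) (BasedFunctor.id _) i' β β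
  have hE₂ : FibCat.IsEquivOver E₂ :=
    isEquivOver_fpMap (F := BasedFunctor.comp p f) (G := BasedFunctor.comp p f) _ _ _ _ i' β β
      isEquivOver_id isEquivOver_id
  obtain ⟨k₂, hk₂, ⟨j₂⟩, ⟨j₂'⟩⟩ := isEquivOver_symm hE₂
  let C := selfCmp g p'
  let sqC : BasedFunctor.comp C E₂ ≅
      BasedFunctor.comp E₁ (FibCat.fpLift (FibCat.fpFst p p) (FibCat.fpSnd p p) e) :=
    fpExt (Iso.refl _) (Iso.refl _) fun w => by
      show f.map (p.map (𝟙 _)) ≫ e.hom.toNatTrans.app (E₁.obj w) = _ ≫ f.map (p.map (𝟙 _))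
      rw [he]
      simp only [CategoryTheory.Functor.map_id]
      rw [Category.id_comp, Category.comp_id]
      let m : p'.obj w.obj.fst ⟶ p'.obj w.obj.snd := w.obj.iso.hom
      have n : i'.map (g.map m) ≫ ig.hom.toNatTrans.app (p'.obj w.obj.snd) =
          ig.hom.toNatTrans.app (p'.obj w.obj.fst) ≫ f.map (i.map m) := ig.hom.toNatTrans.naturality m
      let I := fun v => ((BasedNatTrans.forgetful _ _).mapIso ip).app v
      let J := fun v => ((BasedNatTrans.forgetful _ _).mapIso ig).app (p'.obj v)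
      show f.map ((I w.obj.fst).inv ≫ i.map m ≫ (I w.obj.snd).hom) =
        (f.map (I w.obj.fst).inv ≫ (J w.obj.fst).inv) ≫ i'.map (g.map m) ≫
          ((J w.obj.snd).hom ≫ f.map (I w.obj.snd).hom)
      have n' : i'.map (g.map m) ≫ (J w.obj.snd).hom = (J w.obj.fst).hom ≫ f.map (i.map m) := n
      rw [reassoc_of% n', Category.assoc, Iso.inv_hom_id_assoc, Functor.map_comp, Functor.map_comp]
  have hC : FibCat.IsEquivOver C :=
    isEquivOver_of_iso (((Stk.restr C _).mapIso j₂).symm ≪≫ (post _ k₂).mapIso sqC)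
      (isEquivOver_comp (isEquivOver_comp hE₁ hiso) hk₂)
  obtain ⟨hfull, hfaith⟩ := fullyFaithful_of_fieldPt hA hB hred hnoeth hne hsub g p' hC
  haveI := hfull
  haveI := hfaith
  obtain ⟨k', _, a', z', z₁, z₂, z₃⟩ := exists_lfp_fieldPt hB hred' hnoeth' hne' hsub'
  exact isEquivOver_of_mono_fieldPt hA hB g (isMono_of_fullyFaithful hA hB g) hne z' z₁ z₂ z₃

end Groth.Agent.AlgStLib.ResIso

end
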