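import Groth.Agent.AlgStLib.Cancel
import Groth.Agent.AlgStLib.DiagProps
import Groth.Agent.AlgStLib.LocQResults
import Groth.Agent.AlgStLib.ResGerbeIso
import Groth.Agent.AlgStLib.MorphProps
import Groth.Agent.S9926
import Groth.Agent.S10279
import Groth.Agent.AlgSpLib.QCompact

/-!
# Separatedness descends along universally injective covers with universally closed diagonal
-/

set_option autoImplicit false
set_option backward.isDefEq.respectTransparency false
set_option backward.isDefEq.respectTransparency.types false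
set_option linter.style.haveILetI false
universe u

noncomputable section

namespace Groth.Agent.AlgStLib

open CategoryTheory CategoryTheory.Limits AlgebraicGeometry Groth.Agent.AlgSpLib Groth.Agent.StkBasic
  Groth.Agent.FibCat2Misc Groth.Agent.FibCatRep Groth.Agent.AlgStLib.ResIso
open _root_.AlgSp _root_.AlgSt

variable {S : Scheme.{u}} {𝒳 𝒴 𝒵 : AlgSt.Cat S}

/-- properness passes to the target of a universally closed surjection -/
theorem repWith_proper_of_comp_surjective (h𝒳 : FibCat.IsFibGrpd 𝒳.p) (h𝒴 : FibCat.IsFibGrpd 𝒴.p)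
    {f : 𝒳 ⥤ᵇ 𝒴} {g : 𝒴 ⥤ᵇ 𝒵} (hfs : RepByAlgSpWith AlgSp.IsSurjectiveMor f)
    (hfc : RepByAlgSpWith AlgSp.IsUnivClosedMor f) (hg : RepByAlgSpWith (LocP @LocallyOfFiniteType) g)
    (hfg : RepByAlgSpWith AlgSp.IsProperMor (BasedFunctor.comp f g)) : RepByAlgSpWith AlgSp.IsProperMor g := by
  haveI := respectsIso_onSp (cls_lft (S := S)).bc
  haveI := respectsIso_onSp (cls_proper (S := S)).bc
  haveI := respectsIso_onSp (bcStable_surjective (S := S))
  haveI := respectsIso_univClosed (S := S)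
  refine repWith_onSp_iff.1 ((repWith_iff _ g).2 fun U y => ?_)
  obtain ⟨G, eG, heG, hG₁, hG₂, hb⟩ := (repWith_iff _ g).1 (repWith_onSp_iff.2 hg) U y
  refine ⟨G, eG, heG, hG₁, hG₂, fun _ hU => ?_⟩
  let y₁ : Stk.ofPsh G ⥤ᵇ 𝒴 := BasedFunctor.comp eG (FibCat.fpSnd y g)
  obtain ⟨P, e, he⟩ := exists_model h𝒳 h𝒴 (repByAlgSp1_of_with hfs) y₁
  obtain ⟨hP₁, hP₂⟩ := isAlgSpaceP_model (repByAlgSp1_of_with hfs) ⟨hG₁, hG₂⟩ he
  haveI : (BasedFunctor.id 𝒴).toFunctor.Full := inferInstanceAs (𝟭 𝒴.obj).Full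
  haveI : (BasedFunctor.id 𝒴).toFunctor.Faithful := inferInstanceAs (𝟭 𝒴.obj).Faithful
  let m := fpMap (F := FibCat.fpSnd y g) (G := f) y₁ f eG (BasedFunctor.id 𝒳) (BasedFunctor.id 𝒴)
    (Iso.refl _) (Iso.refl _)
  let E := BasedFunctor.comp (BasedFunctor.comp e m) (assocFun y g f)
  have hE : FibCat.IsEquivOver E :=
    isEquivOver_comp (isEquivOver_comp he (isEquivOver_fpMap _ _ _ _ _ _ _ heG isEquivOver_id))
      (isEquivOver_assocFun y g f)
  let a : (⟨P, hP₁⟩ : Sp S) ⟶ ⟨G, hG₁⟩ := ObjectProperty.homMk (prjMap e)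
  let b : (⟨G, hG₁⟩ : Sp S) ⟶ (yon S).obj U := ObjectProperty.homMk (prjMap eG)
  obtain ⟨_, hE₂, hab⟩ := good_of_model (repWith_onSp_iff.2 hfg) hE
  have hab' : AlgSp.IsProperMor (a ≫ b) := by
    convert hab hP₂ hU using 1
    exact ObjectProperty.hom_ext _
      (mapOf_comp (BasedFunctor.comp e (FibCat.fpFst y₁ f)) (BasedFunctor.comp eG (FibCat.fpFst y g))).symm
  have has : AlgSp.IsSurjectiveMor a := of_repBySpWith cls_surjective.loc hP₂ hG₂ a fun V ξ P' fst snd sq => by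
    obtain ⟨h₁, h₂, h₃⟩ := repBySpWith_prjMap (repWith_onSp_iff.2 hfs) he ξ fst snd sq
    exact ⟨h₁, h₂, h₃ h₂ (IsAlgSpace.yon_obj V)⟩
  have hac : AlgSp.IsUnivClosedMor a := of_repBySpWith (isLocalOnBase_fppf isLocalOnBase_isUnivClosedMor) hP₂ hG₂ a
    (repBySpWith_prjMap hfc he)
  let X : AlgSp.Space S := ⟨⟨P, hP₁⟩, hP₂⟩
  let Y : AlgSp.Space S := ⟨⟨G, hG₁⟩, hG₂⟩
  let B : AlgSp.Space S := ⟨(yon S).obj U, hU⟩
  refine ⟨?_, ⟨hb hG₂ hU, ?_⟩, ?_⟩
  · exact (Groth.Agent.S9926.result (X := X) (Y := Y) (B := B) (ObjectProperty.homMk a) (ObjectProperty.homMk (a ≫ b))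
      (ObjectProperty.homMk b) rfl has hac).2 hab'.1
  · exact isQuasiCompactMor_of_surjective hG₂ hU a b has hab'.2.1.2
  · exact Groth.Agent.S10279.result (X := X) (Y := Y) (B := B) (ObjectProperty.homMk a) (ObjectProperty.homMk (a ≫ b))
      (ObjectProperty.homMk b) rfl hab'.2.2 has

/-- separatedness descends -/
theorem isSeparatedMor_of_comp_univInjective (h𝒳 : IsAlgStack Scheme.fppfPrecoverage 𝒳)
    (h𝒴 : IsAlgStack Scheme.fppfPrecoverage 𝒴) (h𝒵 : IsAlgStack Scheme.fppfPrecoverage 𝒵)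
    (f : 𝒳 ⥤ᵇ 𝒴) (g : 𝒴 ⥤ᵇ 𝒵) (hl : Lifts f)
    (hi : AlgSt.IsUnivInjective Scheme.fppfPrecoverage f)
    (hc : RepByAlgSpWith AlgSp.IsUnivClosedMor (FibCat.diag f))
    (hh : AlgSt.IsSeparatedMor (BasedFunctor.comp f g)) : AlgSt.IsSeparatedMor g := by
  have hgX := h𝒳.isStack.1
  have hgY := h𝒴.isStack.1
  have hgZ := h𝒵.isStack.1
  have hds : AlgSt.IsSurjective (FibCat.diag f) := fun p => by
    refine ⟨AlgSt.Points.map (FibCat.fpFst f f) p, hi 𝒳 h𝒳 f ?_⟩
    rw [← map_comp_points]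
    exact map_id_points _
  have hdsr : RepByAlgSpWith AlgSp.IsSurjectiveMor (FibCat.diag f) :=
    repWith_surjective_of_isSurjective hgX (isFibGrpd_fp hgX hgX hgY f f) (repByAlgSp1_of_with hc) hds
  have hp : RepByAlgSpWith AlgSp.IsProperMor (cmpSelf f g) :=
    repWith_proper_of_comp_surjective hgX (isFibGrpd_fp hgX hgX hgY f f) hdsr hc
      (repWith_cmpSelf f g (repWith_lft_diag h𝒴 h𝒵 g)) (repWith_congr _ (diagCmpIso f g).symm hh)
  let e : BasedFunctor.comp (FibCat.fpFst f f) (BasedFunctor.comp f g) ≅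
      BasedFunctor.comp (FibCat.fpSnd f f) (BasedFunctor.comp f g) := (post _ g).mapIso (FibCat.fpIso f f)
  refine repWith_of_lifts cls_proper.bc cls_proper.loc (repByAlgSp1_diag_stack h𝒴 h𝒵 g) (lifts_cmpMap' hl g) ?_
  exact (repWith_iff_of_equiv _ (FibCat.fpFst (cmpMap f f g) (FibCat.diag g))
    (cmpSelf f g) (cmpDiag e fun _ => rfl) (BasedFunctor.id _)
    (isEquivOver_cmpDiag e fun _ => rfl) isEquivOver_id (Iso.refl _)).2 hp

end Groth.Agent.AlgStLib

end
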