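import Groth.Agent.AlgStLib.RedSub
import Groth.Agent.AlgStLib.LocQCalc
import Groth.Agent.AlgStLib.LocQClasses

/-!
# The largest open substack on which a morphism is smooth
-/

set_option autoImplicit false
set_option backward.isDefEq.respectTransparency false
set_option backward.isDefEq.respectTransparency.types false
set_option linter.style.haveILetI false
universe u

noncomputable section

namespace Groth.Agent.AlgStLib

open CategoryTheory CategoryTheory.Limits AlgebraicGeometry Opposite Groth.Agent.FibCatRep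
  Groth.Agent.FibCat2Misc Groth.Agent.AlgSpLib Groth.Agent.StkBasic
open _root_.AlgSp _root_.AlgSt

variable {S : Scheme.{u}} {𝒳 𝒳' 𝒴 : AlgSt.Cat S} {f : 𝒳 ⥤ᵇ 𝒴} {V U : Over S}
  {y : AlgSt.ofSp (spOf V).obj ⥤ᵇ 𝒴} {h : U ⟶ V}

local notation "AS" => IsAlgStack Scheme.fppfPrecoverage

/-- the chart of the source given by a good chart -/
abbrev GoodChart.X (c : GoodChart f y h) : AlgSt.ofSp (spOf U).obj ⥤ᵇ 𝒳 :=
  BasedFunctor.comp c.L (FibCat.fpFst f y)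

/-- the same chart out of the slice -/
abbrev GoodChart.Xo (c : GoodChart f y h) : FibCat.overCat U ⥤ᵇ 𝒳 :=
  BasedFunctor.comp (AlgSt.ofOverCat U) c.X

theorem repWith_ofSpMap_comp {U' : Over S} (a : U' ⟶ U) :
    Nonempty (BasedFunctor.comp (AlgSt.ofSpMap (spMap a).hom) (AlgSt.ofSpMap (spMap h).hom) ≅
      AlgSt.ofSpMap (spMap (a ≫ h)).hom) :=
  ⟨isoOfSec _ _ fun z => ULift.ext _ _ (by
    show 𝟙 _ ≫ (z.sec.down ≫ a) ≫ h = 𝟙 _ ≫ z.sec.down ≫ a ≫ h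
    simp)⟩

/-- good charts compose -/
theorem GoodChart.comp (c : GoodChart f y h) (h𝒳' : FibCat.IsFibGrpd 𝒳'.p) (h𝒳 : FibCat.IsFibGrpd 𝒳.p)
    (h𝒴 : FibCat.IsFibGrpd 𝒴.p) {g : 𝒳' ⥤ᵇ 𝒳} {U' : Over S} {h' : U' ⟶ U} (c' : GoodChart g c.X h') :
    ∃ c'' : GoodChart (BasedFunctor.comp g f) y (h' ≫ h), Nonempty (c''.X ≅ c'.X) := by
  have g₁ : FibCat.IsFibGrpd (FibCat.fp f y).p := isFibGrpd_fp h𝒳 (isFibGrpd_ofSpace _) h𝒴 f y
  have g₂ : FibCat.IsFibGrpd (FibCat.fp g c.X).p := isFibGrpd_fp h𝒳' (isFibGrpd_ofSpace _) h𝒳 g c.X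
  let L := BasedFunctor.comp (BasedFunctor.comp c'.L (prodSnd g (FibCat.fpFst f y) c.L)) (pasteFun g f y)
  have hL : ∀ {Q : MorphismProperty (Sp S)}, Cls Q → RepByAlgSpWith Q c.L → RepByAlgSpWith Q c'.L →
      RepByAlgSpWith Q L := fun hQ hc hc' =>
    repWith_comp_equiv_right (repWith_comp (isFibGrpd_ofSpace _) g₂ hQ.bc hQ.comp hQ.loc hc'
      (repWith_prodSnd g (FibCat.fpFst f y) c.L hc)) (isEquivOver_pasteFun g f y)
  obtain ⟨k⟩ := repWith_ofSpMap_comp (h := h) h'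
  exact ⟨⟨L, hL cls_smooth c.smooth c'.smooth, hL cls_surjective c.surj c'.surj,
    (post _ (BasedFunctor.comp c.L (FibCat.fpSnd f y))).mapIso c'.iso ≪≫
      (Stk.restr (AlgSt.ofSpMap (spMap h').hom) _).mapIso c.iso ≪≫ k⟩, ⟨Iso.refl _⟩⟩

/-- membership of chart objects in the substack of an open set -/
theorem inSet_ofSp_iff (h𝒳 : FibCat.IsFibGrpd 𝒳.p) (O : Set (AlgSt.Points 𝒳))
    (x : AlgSt.ofSp (spOf U).obj ⥤ᵇ 𝒳) (o : Over U) :
    InSet O ((BasedFunctor.comp (AlgSt.ofOverCat U) x).obj o) ↔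
      ∀ t, AlgSt.Points.ofChart (BasedFunctor.comp (AlgSt.ofOverCat U) x) (o.hom.left t) ∈ O :=
  inSet_chart_iff h𝒳 O _ o

/-- the open subscheme of a chart cut by an open set of points -/
def preOpen (h𝒳 : AS 𝒳) (c : GoodChart f y h) {O : Set (AlgSt.Points 𝒳)} (hO : IsOpen O) : U.left.Opens :=
  ⟨AlgSt.Points.ofChart c.Xo ⁻¹' O, hO.preimage (continuous_ofChart h𝒳 c.Xo)⟩

set_option maxHeartbeats 1000000 in
/-- good charts of restrictions to open substacks -/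
theorem exists_goodChart_inSet (h𝒳 : AS 𝒳) (c : GoodChart f y h) {O : Set (AlgSt.Points 𝒳)} (hO : IsOpen O) :
    Nonempty (GoodChart (AlgSt.subIncl 𝒳 (InSet O)) c.X
      (Over.homMk (preOpen h𝒳 c hO).ι : Over.mk ((preOpen h𝒳 c hO).ι ≫ U.hom) ⟶ U)) := by
  let W := preOpen h𝒳 c hO
  let ι : Over.mk (W.ι ≫ U.hom) ⟶ U := Over.homMk W.ι
  haveI : Mono ι.left := inferInstanceAs (Mono W.ι)
  have hch : ∀ o : Over U, InSet O (c.Xo.obj o) ↔ ∃ g, g ≫ ι = o.hom := fun o => by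
    rw [inSet_chart_iff h𝒳.isStack.1 O c.Xo o]
    refine ⟨fun hin => ?_, fun ⟨g, hg⟩ t => ?_⟩
    · have hr : Set.range o.hom.left ⊆ Set.range W.ι := by
        rw [Scheme.Opens.range_ι]
        rintro _ ⟨t, rfl⟩
        exact hin t
      refine ⟨Over.homMk (IsOpenImmersion.lift W.ι o.hom.left hr) ?_, Over.OverMorphism.ext (IsOpenImmersion.lift_fac _ _ _)⟩
      show _ ≫ W.ι ≫ U.hom = o.left.hom
      rw [← Category.assoc, IsOpenImmersion.lift_fac, Over.w o.hom]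
    · rw [← hg]
      exact (g.left t).2
  obtain ⟨L, hL, ⟨iL⟩⟩ := exists_subModel c.Xo ι hch (inSet_closedUnderIso O)
  let j := AlgSt.subIncl 𝒳 (InSet O)
  obtain ⟨k, hk, -, ⟨l⟩⟩ := isEquivOver_symm (isEquivOver_slFun U c.Xo j)
  let e := BasedFunctor.comp (BasedFunctor.comp (AlgSt.toOverCat _) L) k
  have he : FibCat.IsEquivOver e := isEquivOver_comp (isEquivOver_comp (isEquivOver_toOverCat _) hL) hk
  have i₁ : BasedFunctor.comp (BasedFunctor.comp e (FibCat.fpFst c.X j)) (AlgSt.toOverCat U) ≅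
      BasedFunctor.comp (AlgSt.ofSpMap (spMap ι).hom) (AlgSt.toOverCat U) :=
    (post _ (FibCat.fpFst c.Xo j)).mapIso ((Stk.restr (BasedFunctor.comp (AlgSt.toOverCat _) L) _).mapIso l) ≪≫
      (Stk.restr (AlgSt.toOverCat _) _).mapIso iL
  let L' := BasedFunctor.comp e (swapFun c.X j)
  have hL' := isEquivOver_comp he (isEquivOver_swapFun c.X j)
  have hid : ∀ {Q : MorphismProperty (Sp S)}, RepByAlgSpWith Q (BasedFunctor.id (AlgSt.ofSp (spOf (Over.mk (W.ι ≫ U.hom))).obj)) →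
      RepByAlgSpWith Q L' := fun hQ => repWith_comp_equiv_right hQ hL'
  exact ⟨⟨L', hid (repWith_congr _ (Iso.refl _) (repWith_ofSpMap cls_smooth.bc (spMap (𝟙 _))
      ((locP_yon_iff etST_smooth _).2 (inferInstanceAs (Smooth (𝟙 _)))))),
    hid (repWith_congr _ (Iso.refl _) (repWith_ofSpMap cls_surjective.bc (spMap (𝟙 _))
      (fun z => ⟨z, by simp⟩))),
    (post _ (AlgSt.ofOverCat U)).mapIso i₁⟩⟩

theorem smooth_resLE' {X Y : Scheme.{u}} (k : X ⟶ Y) [Smooth k] (W : Y.Opens) (W' : X.Opens) (hle : W' ≤ k ⁻¹ᵁ W) :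
    Smooth (k.resLE W W' hle) := by
  haveI : Smooth (k ∣_ W) := IsZariskiLocalAtTarget.restrict ‹_› W
  show Smooth (X.homOfLE hle ≫ k ∣_ W)
  infer_instance

theorem smooth_yon_iff {U V : Over S} (h : U ⟶ V) : LocP @Smooth ((yon S).map h) ↔ Smooth h.left :=
  locP_yon_iff etST_smooth h

/-- smoothness on an open substack, read on a good chart -/
theorem locQ_smooth_inSet_iff (h𝒳 : AS 𝒳) (h𝒴 : AS 𝒴) (c : GoodChart f y h)
    (hy : RepByAlgSpWith (LocP @Smooth) y) (hy' : RepByAlgSpWith AlgSp.IsSurjectiveMor y)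
    {O : Set (AlgSt.Points 𝒳)} (hO : IsOpen O) :
    LocQ (LocP @Smooth) (BasedFunctor.comp (AlgSt.subIncl 𝒳 (InSet O)) f) ↔
      Smooth ((preOpen h𝒳 c hO).ι ≫ h.left) := by
  obtain ⟨c'⟩ := exists_goodChart_inSet h𝒳 c hO
  have hS := (isOpenSubstack_inSet h𝒳 hO).2.1.isStack.1
  obtain ⟨c'', -⟩ := c.comp hS h𝒳.isStack.1 h𝒴.isStack.1 c'
  rw [c''.locQ_iff st_smooth hS h𝒴.isStack.1 hy hy', smooth_yon_iff]
  rfl

/-- smoothness is local on the opens of the source -/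
theorem smooth_of_cover {U V : Scheme.{u}} (h : U ⟶ V) {κ : Type*} (W : κ → U.Opens) (W₀ : U.Opens)
    (hW : ∀ t ∈ W₀, ∃ i, t ∈ W i) (hs : ∀ i, Smooth ((W i).ι ≫ h)) : Smooth (W₀.ι ≫ h) := by
  choose idx hidx using hW
  let 𝒰 := (W₀ : Scheme.{u}).openCoverOfIsOpenCover (fun t : ↥(W₀ : Scheme.{u}) => W₀.ι ⁻¹ᵁ W (idx t.1 t.2))
    (TopologicalSpace.IsOpenCover.mk (top_le_iff.1 fun t _ => TopologicalSpace.Opens.mem_iSup.2 ⟨t, hidx t.1 t.2⟩))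
  rw [IsZariskiLocalAtSource.iff_of_openCover (P := @Smooth) 𝒰]
  intro t
  haveI := hs (idx t.1 t.2)
  show Smooth ((W₀.ι ⁻¹ᵁ W (idx t.1 t.2)).ι ≫ W₀.ι ≫ h)
  let k := IsOpenImmersion.lift (W (idx t.1 t.2)).ι ((W₀.ι ⁻¹ᵁ W (idx t.1 t.2)).ι ≫ W₀.ι) (by
    rintro _ ⟨s, rfl⟩
    rw [Scheme.Opens.range_ι]
    exact s.2)
  have hk : k ≫ (W (idx t.1 t.2)).ι = (W₀.ι ⁻¹ᵁ W (idx t.1 t.2)).ι ≫ W₀.ι := IsOpenImmersion.lift_fac _ _ _
  haveI : IsOpenImmersion k := by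
    have : IsOpenImmersion (k ≫ (W (idx t.1 t.2)).ι) := by rw [hk]; infer_instance
    exact IsOpenImmersion.of_comp k (W (idx t.1 t.2)).ι
  rw [← Category.assoc, ← hk, Category.assoc]
  infer_instance

/-- the points of smoothness -/
def smoothSet (f : 𝒳 ⥤ᵇ 𝒴) : Set (AlgSt.Points 𝒳) :=
  {p | ∃ O, IsOpen O ∧ LocQ (LocP @Smooth) (BasedFunctor.comp (AlgSt.subIncl 𝒳 (InSet O)) f) ∧ p ∈ O}

theorem isOpen_smoothSet (f : 𝒳 ⥤ᵇ 𝒴) : IsOpen (smoothSet f) := by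
  have : smoothSet f = ⋃₀ {O | IsOpen O ∧ LocQ (LocP @Smooth) (BasedFunctor.comp (AlgSt.subIncl 𝒳 (InSet O)) f)} := by
    ext p
    exact ⟨fun ⟨O, h₁, h₂, h₃⟩ => ⟨O, ⟨h₁, h₂⟩, h₃⟩, fun ⟨O, ⟨h₁, h₂⟩, h₃⟩ => ⟨O, h₁, h₂, h₃⟩⟩
  rw [this]
  exact isOpen_sUnion fun O hO => hO.1

theorem locQ_smooth_smoothSet (h𝒳 : AS 𝒳) (h𝒴 : AS 𝒴) (f : 𝒳 ⥤ᵇ 𝒴) :
    LocQ (LocP @Smooth) (BasedFunctor.comp (AlgSt.subIncl 𝒳 (InSet (smoothSet f))) f) := by
  obtain ⟨V, y, hy, hy'⟩ := exists_atlas_sp h𝒴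
  obtain ⟨U, h, ⟨c⟩⟩ := exists_good h𝒳 h𝒴 f y
  refine (locQ_smooth_inSet_iff h𝒳 h𝒴 c hy hy' (isOpen_smoothSet f)).2 (smooth_of_cover h.left
    (fun O : {O : Set (AlgSt.Points 𝒳) // IsOpen O ∧ LocQ (LocP @Smooth) (BasedFunctor.comp (AlgSt.subIncl 𝒳 (InSet O)) f)} =>
      preOpen h𝒳 c O.2.1) _ (fun t ht => ?_) fun O => (locQ_smooth_inSet_iff h𝒳 h𝒴 c hy hy' O.2.1).1 O.2.2)
  obtain ⟨O, h₁, h₂, h₃⟩ := ht
  exact ⟨⟨O, h₁, h₂⟩, h₃⟩

theorem range_subset_smoothSet (h𝒳 : AS 𝒳) {Q : 𝒳.obj → Prop} (hQ : AlgSt.IsOpenSubstack 𝒳 Q Scheme.fppfPrecoverage)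
    (hf : LocQ (LocP @Smooth) (BasedFunctor.comp (AlgSt.subIncl 𝒳 Q) f)) {a : 𝒳.obj} (ha : Q a) :
    InSet (smoothSet f) a := by
  obtain ⟨hO, hQ'⟩ := isOpen_range_and_eq_inSet h𝒳 hQ
  have hf' : LocQ (LocP @Smooth) (BasedFunctor.comp (AlgSt.subIncl 𝒳
      (InSet (Set.range (AlgSt.Points.map (AlgSt.subIncl 𝒳 Q))))) f) := by
    rw [hQ']; exact hf
  rw [← hQ'] at ha
  exact fun p hp => ⟨_, hO, hf', ha p hp⟩

/-- the preimage of a substack given by a set of points -/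
theorem inSet_comp (h𝒳' : FibCat.IsFibGrpd 𝒳'.p) (h𝒳 : FibCat.IsFibGrpd 𝒳.p) (g : 𝒳' ⥤ᵇ 𝒳)
    (O : Set (AlgSt.Points 𝒳)) (a : 𝒳'.obj) :
    InSet O (g.obj a) ↔ InSet (AlgSt.Points.map g ⁻¹' O) a := by
  refine ⟨fun h p ⟨m⟩ => h _ ⟨g.map m⟩, ?_⟩
  rintro h p ⟨m⟩
  obtain ⟨b, φ, hb, hφ⟩ := exists_lift h𝒳' (x := a) (𝒳.p.map m ≫ eqToHom (g.w_obj a))
  obtain ⟨χ, -, -⟩ := existsUnique_cart h𝒳 m (g.map φ) (eqToHom ((g.w_obj b).trans hb)) (by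
    rw [map_map g φ, hφ]; simp)
  let q : AlgSt.FPt 𝒳' := { K := p.K, str := p.str, obj := b, lies := hb.trans p.lies }
  have := h q ⟨φ⟩
  rw [Set.mem_preimage, AlgSt.Points.map_mk] at this
  rwa [mk_eq_of_hom (p := p) (q := q.map g) χ] at this

theorem injective_ofChart_id (U : Over S) :
    Function.Injective (AlgSt.Points.ofChart (BasedFunctor.id (FibCat.overCat U))) := by
  intro t s hts
  obtain ⟨K, α, β, k, ⟨i⟩, rfl, rfl⟩ := exists_common_point (isFibGrpd_overCat U) hts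
  let n : (AlgSt.overMap α).obj (Over.mk (𝟙 K)) ⟶ (AlgSt.overMap β).obj (Over.mk (𝟙 K)) := i.hom.toNatTrans.app (Over.mk (𝟙 K))
  have hn : n.left = 𝟙 K := (map_app i.hom (Over.mk (𝟙 K))).trans rfl
  have w := Over.w n
  rw [hn] at w
  have : β = α := by simpa [AlgSt.overMap] using w
  rw [this]

/-- the smooth locus pulls back along smooth morphisms -/
theorem preimage_smoothSet (h𝒳' : AS 𝒳') (h𝒳 : AS 𝒳) (h𝒴 : AS 𝒴) (g : 𝒳' ⥤ᵇ 𝒳)
    (hg : LocQ (LocP @Smooth) g) (f : 𝒳 ⥤ᵇ 𝒴) :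
    AlgSt.Points.map g ⁻¹' smoothSet f = smoothSet (BasedFunctor.comp g f) := by
  obtain ⟨V, y, hy, hy'⟩ := exists_atlas_sp h𝒴
  obtain ⟨U, h, ⟨c⟩⟩ := exists_good h𝒳 h𝒴 f y
  have hX := c.repWith_x cls_smooth h𝒳.isStack.1 h𝒴.isStack.1 c.smooth hy
  have hX' := c.repWith_x cls_surjective h𝒳.isStack.1 h𝒴.isStack.1 c.surj hy'
  have hXo : RepByAlgSpWith (LocP @Smooth) c.Xo := (repWith_overCat_iff _ U c.Xo).2 hX
  obtain ⟨U', k, ⟨c'⟩⟩ := exists_good h𝒳' h𝒳 g c.X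
  haveI : Smooth k.left := (smooth_yon_iff k).1 ((c'.locQ_iff st_smooth h𝒳'.isStack.1 h𝒳.isStack.1 hX hX').1 hg)
  obtain ⟨c'', ⟨i''⟩⟩ := c.comp h𝒳'.isStack.1 h𝒳.isStack.1 h𝒴.isStack.1 c'
  let j'' : c''.Xo ≅ c'.Xo := (Stk.restr (AlgSt.ofOverCat U') _).mapIso i''
  let ik : BasedFunctor.comp c'.Xo g ≅ BasedFunctor.comp (AlgSt.overMap k) c.Xo :=
    (Stk.restr (BasedFunctor.comp (AlgSt.ofOverCat U') c'.L) _).mapIso (FibCat.fpIso g c.X) ≪≫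
      (Stk.restr (AlgSt.ofOverCat U') _).mapIso ((post _ c.X).mapIso c'.iso)
  have hpt : ∀ v, AlgSt.Points.map g (AlgSt.Points.ofChart c''.Xo v) = AlgSt.Points.ofChart c.Xo (k.left v) := fun v => by
    rw [ofChart_congr j'', map_ofChart, ofChart_congr ik, ofChart_overMap]
  have hlift : ∀ (p : AlgSt.Points 𝒳') (u : ↥U.left), AlgSt.Points.map g p = AlgSt.Points.ofChart c.Xo u →
      ∃ v, AlgSt.Points.ofChart c''.Xo v = p ∧ k.left v = u := fun p u hp => by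
    obtain ⟨w, hw₁, hw₂⟩ := exists_points_fp (isFibGrpd_ofSpace _) h𝒳.isStack.1 h𝒳'.isStack.1 c.X g p
      (AlgSt.Points.ofChart (AlgSt.ofOverCat U) u) (hp.trans (map_ofChart (AlgSt.ofOverCat U) c.X u).symm)
    obtain ⟨v, rfl⟩ := exists_point_of_surjective (isFibGrpd_fp h𝒳'.isStack.1 (isFibGrpd_ofSpace _) h𝒳.isStack.1 g c.X)
      (BasedFunctor.comp (AlgSt.ofOverCat U') c'.L) ((repWith_overCat_iff _ _ _).2 c'.surj) w
    refine ⟨v, by rw [ofChart_congr j'']; exact hw₁, ?_⟩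
    rw [map_ofChart, ofChart_congr (show BasedFunctor.comp (BasedFunctor.comp (AlgSt.ofOverCat U') c'.L) (FibCat.fpSnd g c.X) ≅
      BasedFunctor.comp (AlgSt.overMap k) (AlgSt.ofOverCat U) from (Stk.restr (AlgSt.ofOverCat U') _).mapIso c'.iso),
      ofChart_overMap] at hw₂
    refine injective_ofChart_id U ((bijective_map_of_equiv (isEquivOver_ofOverCat U)).1 ?_)
    rw [map_ofChart, map_ofChart]
    exact hw₂
  let W'' := preOpen h𝒳' c'' (isOpen_smoothSet (BasedFunctor.comp g f))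
  have hsm'' : Smooth (W''.ι ≫ (k ≫ h).left) := (locQ_smooth_inSet_iff h𝒳' h𝒴 c'' hy hy' _).1
    (locQ_smooth_smoothSet h𝒳' h𝒴 (BasedFunctor.comp g f))
  refine Set.Subset.antisymm ?_ fun p hp => ?_
  · have hO : IsOpen (AlgSt.Points.map g ⁻¹' smoothSet f) := (isOpen_smoothSet f).preimage (continuous_map h𝒳 g)
    refine fun p hp => ⟨_, hO, (locQ_smooth_inSet_iff h𝒳' h𝒴 c'' hy hy' hO).2 ?_, hp⟩
    let W := preOpen h𝒳 c (isOpen_smoothSet f)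
    have hW : Smooth (W.ι ≫ h.left) := (locQ_smooth_inSet_iff h𝒳 h𝒴 c hy hy' _).1 (locQ_smooth_smoothSet h𝒳 h𝒴 f)
    let W' := preOpen h𝒳' c'' hO
    have hle : W' ≤ k.left ⁻¹ᵁ W := fun v hv => by
      show AlgSt.Points.ofChart c.Xo _ ∈ smoothSet f
      rw [← hpt]
      exact hv
    haveI := smooth_resLE' k.left W W' hle
    rw [Over.comp_left, ← Category.assoc, ← k.left.resLE_comp_ι hle, Category.assoc]
    infer_instance
  · let W₁ : Set ↥U.left := k.left '' W''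
    have hW₁ : IsOpen W₁ := k.left.isOpenMap _ W''.2
    have hO : IsOpen (AlgSt.Points.ofChart c.Xo '' W₁) := isOpenMap_ofChart h𝒳.isStack.1 c.Xo
      (repWith_mono hXo fun _ _ a _ ha => locP_mono (fun _ _ r hr => by haveI : Smooth r := hr; infer_instance) a ha)
      (repWith_mono hXo fun _ _ a _ ha => locP_mono (fun _ _ r hr => by haveI : Smooth r := hr; infer_instance) a ha) _ hW₁
    have hsat : ∀ u, AlgSt.Points.ofChart c.Xo u ∈ AlgSt.Points.ofChart c.Xo '' W₁ → u ∈ W₁ := by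
      rintro u ⟨_, ⟨v, hv, rfl⟩, e⟩
      obtain ⟨v', hv', rfl⟩ := hlift (AlgSt.Points.ofChart c''.Xo v) u ((hpt v).trans e)
      exact ⟨v', show AlgSt.Points.ofChart c''.Xo v' ∈ smoothSet _ from hv' ▸ hv, rfl⟩
    obtain ⟨u, hu⟩ := exists_point_of_surjective h𝒳.isStack.1 c.Xo ((repWith_overCat_iff _ U c.Xo).2 hX') (AlgSt.Points.map g p)
    obtain ⟨v, hv, hvu⟩ := hlift p u hu.symm
    refine ⟨_, hO, (locQ_smooth_inSet_iff h𝒳 h𝒴 c hy hy' hO).2 ?_, ⟨u, ⟨v, show AlgSt.Points.ofChart c''.Xo v ∈ smoothSet _ from hv ▸ hp, hvu⟩, hu⟩⟩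
    let W := preOpen h𝒳 c hO
    let W₂ : U'.left.Opens := W'' ⊓ k.left ⁻¹ᵁ W
    let l := k.left.resLE W W₂ inf_le_right
    haveI : Smooth l := smooth_resLE' _ _ _ _
    haveI : Surjective l := ⟨fun ⟨u, hu⟩ => by
      obtain ⟨v, hv, rfl⟩ := hsat u hu
      exact ⟨⟨v, hv, hu⟩, Subtype.ext (by
        show (l ≫ W.ι) ⟨v, hv, hu⟩ = k.left v
        rw [Scheme.Hom.resLE_comp_ι]
        rfl)⟩⟩
    suffices hh : Smooth (l ≫ W.ι ≫ h.left) from FppfSource.smooth l _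
    rw [← Category.assoc, Scheme.Hom.resLE_comp_ι, Category.assoc]
    rw [show W₂.ι = U'.left.homOfLE inf_le_left ≫ W''.ι from (Scheme.homOfLE_ι _ _).symm, Category.assoc]
    haveI := hsm''
    infer_instance

end Groth.Agent.AlgStLib

end
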