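import Groth.Agent.AlgStLib.SmLocus
import Groth.Agent.SmDesc.Scheme

/-!
# The smooth locus and flat base change
-/

set_option autoImplicit false
set_option backward.isDefEq.respectTransparency false
set_option backward.isDefEq.respectTransparency.types false
set_option linter.style.haveILetI false
universe u

noncomputable section

namespace Groth.Agent.AlgStLib

open CategoryTheory CategoryTheory.Limits AlgebraicGeometry Opposite Groth.Agent.FibCatRep
  Groth.Agent.FibCat2Misc Groth.Agent.AlgSpLib Groth.Agent.StkBasic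
open _root_.AlgSp _root_.AlgSt

variable {S : Scheme.{u}} {𝒳 𝒴 𝒴' : AlgSt.Cat S} {f : 𝒳 ⥤ᵇ 𝒴} {V U : Over S}
  {y : AlgSt.ofSp (spOf V).obj ⥤ᵇ 𝒴} {h : U ⟶ V}

local notation "AS" => IsAlgStack Scheme.fppfPrecoverage

set_option maxHeartbeats 1000000 in
/-- base change of a good chart -/
theorem GoodChart.baseChange (c : GoodChart f y h) (h𝒳 : FibCat.IsFibGrpd 𝒳.p) (h𝒴 : FibCat.IsFibGrpd 𝒴.p)
    (b : 𝒴' ⥤ᵇ 𝒴) {V' : Over S} {y' : AlgSt.ofSp (spOf V').obj ⥤ᵇ 𝒴'} {k : V' ⟶ V}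
    (α : BasedFunctor.comp (AlgSt.ofSpMap (spMap k).hom) y ≅ BasedFunctor.comp y' b)
    {U' : Over S} {k' : U' ⟶ U} {h' : U' ⟶ V'} (sq : IsPullback h' k' k h) :
    ∃ c' : GoodChart (FibCat.fpFst b f) y' h',
      Nonempty (BasedFunctor.comp c'.X (FibCat.fpSnd b f) ≅ BasedFunctor.comp (AlgSt.ofSpMap (spMap k').hom) c.X) := by
  haveI : (BasedFunctor.id (AlgSt.ofSp (spOf V).obj)).toFunctor.Full := inferInstanceAs (𝟭 _).Full
  haveI : (BasedFunctor.id (AlgSt.ofSp (spOf V).obj)).toFunctor.Faithful := inferInstanceAs (𝟭 _).Faithful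
  haveI : (BasedFunctor.id 𝒴).toFunctor.Full := inferInstanceAs (𝟭 _).Full
  haveI : (BasedFunctor.id 𝒴).toFunctor.Faithful := inferInstanceAs (𝟭 _).Faithful
  let K := AlgSt.ofSpMap (spMap k).hom
  let H := AlgSt.ofSpMap (spMap h).hom
  have sqP : IsPullback ((yon S).map h').hom ((yon S).map k').hom ((yon S).map k).hom ((yon S).map h).hom :=
    (sq.map (yon S)).map (sheafToPresheaf (J S) (Type (u + 1)))
  let e := pbFun sqP.toCommSq
  have he : FibCat.IsEquivOver e := isEquivOver_pbFun sqP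
  let e₁ := fpMap (F := K) (G := BasedFunctor.comp c.L (FibCat.fpSnd f y)) K H
    (BasedFunctor.id _) (BasedFunctor.id _) (BasedFunctor.id _) (Iso.refl _) c.iso.symm
  have he₁ : FibCat.IsEquivOver e₁ := isEquivOver_fpMap _ _ _ _ _ _ _ isEquivOver_id isEquivOver_id
  let p := prodSnd K (FibCat.fpSnd f y) c.L
  obtain ⟨q, hq, -, ⟨jq⟩⟩ := isEquivOver_symm (isEquivOver_pasteFun y' b f)
  let E := BasedFunctor.comp (BasedFunctor.comp (BasedFunctor.comp (BasedFunctor.comp (BasedFunctor.comp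
    (swapFun K (FibCat.fpSnd f y)) (assocFun f y K)) (swapFun f (BasedFunctor.comp K y)))
    (fpMap (F := BasedFunctor.comp y' b) (G := f) (BasedFunctor.comp K y) f
      (BasedFunctor.id _) (BasedFunctor.id _) (BasedFunctor.id _) α (Iso.refl _))) q) (swapFun y' (FibCat.fpFst b f))
  have hE : FibCat.IsEquivOver E :=
    isEquivOver_comp (isEquivOver_comp (isEquivOver_comp (isEquivOver_comp (isEquivOver_comp
      (isEquivOver_swapFun _ _) (isEquivOver_assocFun _ _ _)) (isEquivOver_swapFun _ _))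
      (isEquivOver_fpMap _ _ _ _ _ _ _ isEquivOver_id isEquivOver_id)) hq) (isEquivOver_swapFun _ _)
  have hee := isEquivOver_comp he he₁
  let pre := BasedFunctor.comp (BasedFunctor.comp e e₁) p
  let L := BasedFunctor.comp pre E
  have hL : ∀ {Q : MorphismProperty (Sp S)}, RepByAlgSpWith Q c.L → RepByAlgSpWith Q L := fun hQ =>
    repWith_comp_equiv_right (repWith_comp_of_isEquiv hee (repWith_prodSnd K (FibCat.fpSnd f y) c.L hQ)) hE
  let pre' := BasedFunctor.comp (BasedFunctor.comp (BasedFunctor.comp (BasedFunctor.comp pre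
    (swapFun K (FibCat.fpSnd f y))) (assocFun f y K)) (swapFun f (BasedFunctor.comp K y)))
    (fpMap (F := BasedFunctor.comp y' b) (G := f) (BasedFunctor.comp K y) f
      (BasedFunctor.id _) (BasedFunctor.id _) (BasedFunctor.id _) α (Iso.refl _))
  refine ⟨⟨L, hL c.smooth, hL c.surj,
    (Stk.restr pre' _).mapIso ((post _ (FibCat.fpFst (BasedFunctor.comp y' b) f)).mapIso jq)⟩, ⟨?_⟩⟩
  exact (Stk.restr pre' _).mapIso ((post _ (FibCat.fpSnd (BasedFunctor.comp y' b) f)).mapIso jq)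

/-- open subsets of charts on which a chart map is smooth give points of smoothness -/
theorem image_subset_smoothSet (h𝒳 : AS 𝒳) (h𝒴 : AS 𝒴) (c : GoodChart f y h)
    (hy : RepByAlgSpWith (LocP @Smooth) y) {W : U.left.Opens} (hW : Smooth (W.ι ≫ h.left)) :
    AlgSt.Points.ofChart c.Xo '' W ⊆ smoothSet f := by
  have hX := c.repWith_x cls_smooth h𝒳.isStack.1 h𝒴.isStack.1 c.smooth hy
  have hXo : RepByAlgSpWith (LocP @Smooth) c.Xo := (repWith_overCat_iff _ U c.Xo).2 hX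
  let O := AlgSt.Points.ofChart c.Xo '' W
  have hO : IsOpen O := isOpenMap_ofChart h𝒳.isStack.1 c.Xo
    (repWith_mono hXo fun _ _ a _ ha => locP_mono (fun _ _ r hr => by haveI : Smooth r := hr; infer_instance) a ha)
    (repWith_mono hXo fun _ _ a _ ha => locP_mono (fun _ _ r hr => by haveI : Smooth r := hr; infer_instance) a ha) _ W.2
  obtain ⟨hiso, hA, -⟩ := isOpenSubstack_inSet h𝒳 hO
  let U₁ : Over S := Over.mk (W.ι ≫ U.hom)
  let j : U₁ ⟶ U := Over.homMk W.ι
  let x₀ := BasedFunctor.comp (AlgSt.ofSpMap (spMap j).hom) c.X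
  have hx₀ : ∀ a, InSet O (x₀.obj a) := fun a => by
    refine (inSet_chart_iff h𝒳.isStack.1 O c.Xo (Over.mk (a.sec.down ≫ j))).2 fun t => ⟨_, ?_, rfl⟩
    exact (a.sec.down.left t).2
  let x' := liftSub (InSet O) x₀ hx₀
  have hx' : RepByAlgSpWith (LocP @Smooth) x' := repWith_of_comp_ff (i := AlgSt.subIncl 𝒳 (InSet O)) _
    (repWith_comp (isFibGrpd_ofSpace _) (isFibGrpd_ofSpace _) cls_smooth.bc cls_smooth.comp cls_smooth.loc
      (repWith_ofSpMap cls_smooth.bc (spMap j) ((smooth_yon_iff j).2 (inferInstanceAs (Smooth W.ι)))) hX)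
  have hs : RepByAlgSpWith AlgSp.IsSurjectiveMor x' := by
    refine repWith_surjective_of_isSurjective (isFibGrpd_ofSpace _) hA.isStack.1 (repByAlgSp1_of_with hx') fun p => ?_
    obtain ⟨t, ht, e⟩ : AlgSt.Points.map (AlgSt.subIncl 𝒳 (InSet O)) p ∈ O := (range_subIncl_inSet O).le ⟨p, rfl⟩
    refine ⟨AlgSt.Points.ofChart (AlgSt.ofOverCat U₁) ⟨t, ht⟩, injective_map_subIncl h𝒳.isStack.1 (fun m h => h.of_hom m) ?_⟩
    rw [← e, map_ofChart, map_ofChart, ofChart_congr (show BasedFunctor.comp (BasedFunctor.comp (AlgSt.ofOverCat U₁) x')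
      (AlgSt.subIncl 𝒳 (InSet O)) ≅ BasedFunctor.comp (AlgSt.overMap j) c.Xo from Iso.refl _), ofChart_overMap]
    rfl
  obtain ⟨k⟩ := repWith_ofSpMap_comp (h := h) j
  have hl : LocQ (LocP @Smooth) (BasedFunctor.comp (AlgSt.subIncl 𝒳 (InSet O)) f) :=
    locQ_of_spSq st_smooth hA.isStack.1 h𝒴.isStack.1 ⟨spOf U₁, spOf V, x', y, spMap (j ≫ h),
      (Stk.restr (BasedFunctor.comp (AlgSt.ofSpMap (spMap j).hom) c.L) _).mapIso (FibCat.fpIso f y) ≪≫
        (post _ y).mapIso ((Stk.restr (AlgSt.ofSpMap (spMap j).hom) _).mapIso c.iso ≪≫ k),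
      hx', hs, hy, (smooth_yon_iff (j ≫ h)).2 (by rw [Over.comp_left]; exact hW)⟩
  exact fun p hp => ⟨O, hO, hl, hp⟩

theorem smooth_opensRange {T U V : Scheme.{u}} (j : T ⟶ U) [IsOpenImmersion j] (h : U ⟶ V) (hs : Smooth (j ≫ h)) :
    Smooth (j.opensRange.ι ≫ h) := by
  haveI := hs
  rw [← Scheme.Hom.isoOpensRange_inv_comp j, Category.assoc]
  infer_instance

set_option maxHeartbeats 1000000 in
/-- the smooth locus commutes with flat base change -/
theorem preimage_smoothSet_fp (h𝒳 : AS 𝒳) (h𝒴 : AS 𝒴) (h𝒴' : AS 𝒴') (f : 𝒳 ⥤ᵇ 𝒴) (b : 𝒴' ⥤ᵇ 𝒴)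
    (hb : LocQ (LocP @Flat) b)
    (hfp : LocQ (LocP @LocallyOfFinitePresentation) b ∨ LocQ (LocP @LocallyOfFinitePresentation) f) :
    AlgSt.Points.map (FibCat.fpSnd b f) ⁻¹' smoothSet f = smoothSet (FibCat.fpFst b f) := by
  obtain ⟨V, y, hy, hy'⟩ := exists_atlas_sp h𝒴
  obtain ⟨U, h, ⟨c⟩⟩ := exists_good h𝒳 h𝒴 f y
  obtain ⟨V', k, ⟨cy⟩⟩ := exists_good h𝒴' h𝒴 b y
  haveI : Flat k.left := (locP_yon_iff etST_flat k).1 ((cy.locQ_iff st_flat h𝒴'.isStack.1 h𝒴.isStack.1 hy hy').1 hb)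
  let y₁ := cy.X
  have hy₁ : RepByAlgSpWith (LocP @Smooth) y₁ := cy.repWith_x cls_smooth h𝒴'.isStack.1 h𝒴.isStack.1 cy.smooth hy
  have hy₁' : RepByAlgSpWith AlgSp.IsSurjectiveMor y₁ := cy.repWith_x cls_surjective h𝒴'.isStack.1 h𝒴.isStack.1 cy.surj hy'
  let U' : Over S := Over.mk (pullback.fst k.left h.left ≫ V'.hom)
  let h' : U' ⟶ V' := Over.homMk (pullback.fst k.left h.left)
  let k' : U' ⟶ U := Over.homMk (pullback.snd k.left h.left) (by
    show pullback.snd k.left h.left ≫ U.hom = pullback.fst k.left h.left ≫ V'.hom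
    rw [← Over.w h, ← Over.w k, pullback.condition_assoc])
  have sqL : IsPullback h'.left k'.left k.left h.left := IsPullback.of_hasPullback _ _
  have sq : IsPullback h' k' k h := IsPullback.of_map (Over.forget S) (Over.OverMorphism.ext pullback.condition) sqL
  haveI : Flat k'.left := MorphismProperty.of_isPullback sqL (inferInstanceAs (Flat k.left))
  obtain ⟨c', ⟨iX⟩⟩ := c.baseChange (V' := V') (y' := cy.X) (k := k) h𝒳.isStack.1 h𝒴.isStack.1 b
    ((Stk.restr cy.L _).mapIso (FibCat.fpIso b y) ≪≫ (post _ y).mapIso cy.iso).symm sq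
  have hfp' : AS (FibCat.fp b f) := isAlgStack_fp_of _ h𝒴' h𝒳 h𝒴 b f
  have hpt : ∀ v, AlgSt.Points.map (FibCat.fpSnd b f) (AlgSt.Points.ofChart c'.Xo v) =
      AlgSt.Points.ofChart c.Xo (k'.left v) := fun v => by
    rw [map_ofChart, ofChart_congr (show BasedFunctor.comp c'.Xo (FibCat.fpSnd b f) ≅
      BasedFunctor.comp (AlgSt.overMap k') c.Xo from (Stk.restr (AlgSt.ofOverCat U') _).mapIso iX), ofChart_overMap]
  refine Set.Subset.antisymm ?_ fun p hp => ?_
  · have hO : IsOpen (AlgSt.Points.map (FibCat.fpSnd b f) ⁻¹' smoothSet f) :=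
      (isOpen_smoothSet f).preimage (continuous_map h𝒳 _)
    refine fun p hp => ⟨_, hO, (locQ_smooth_inSet_iff hfp' h𝒴' c' hy₁ hy₁' hO).2 ?_, hp⟩
    let W := preOpen h𝒳 c (isOpen_smoothSet f)
    have hW : Smooth (W.ι ≫ h.left) := (locQ_smooth_inSet_iff h𝒳 h𝒴 c hy hy' _).1 (locQ_smooth_smoothSet h𝒳 h𝒴 f)
    have e : preOpen hfp' c' hO = k'.left ⁻¹ᵁ W := by
      ext v
      show AlgSt.Points.map (FibCat.fpSnd b f) (AlgSt.Points.ofChart c'.Xo v) ∈ smoothSet f ↔
        AlgSt.Points.ofChart c.Xo (k'.left v) ∈ smoothSet f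
      rw [hpt]
    rw [e]
    exact MorphismProperty.of_isPullback (P := @Smooth) ((isPullback_morphismRestrict k'.left W).paste_vert sqL.flip) hW
  · let W'' := preOpen hfp' c' (isOpen_smoothSet (FibCat.fpFst b f))
    have hsm : Smooth (W''.ι ≫ h'.left) :=
      (locQ_smooth_inSet_iff hfp' h𝒴' c' hy₁ hy₁' _).1 (locQ_smooth_smoothSet hfp' h𝒴' (FibCat.fpFst b f))
    obtain ⟨W₁, hsub, hl⟩ : ∃ W₁ : U.left.Opens, W'' ≤ k'.left ⁻¹ᵁ W₁ ∧ LocallyOfFinitePresentation (W₁.ι ≫ h.left) := by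
      rcases hfp with hbp | hfp
      · haveI : LocallyOfFinitePresentation k.left :=
          (locP_yon_iff etST_lfp k).1 ((cy.locQ_iff st_lfp h𝒴'.isStack.1 h𝒴.isStack.1 hy hy').1 hbp)
        haveI : LocallyOfFinitePresentation k'.left :=
          MorphismProperty.of_isPullback sqL (inferInstanceAs (LocallyOfFinitePresentation k.left))
        let W₁ : U.left.Opens := ⟨k'.left '' W'',
          (inferInstance : UniversallyOpen k'.left).universally_isOpenMap _ _ _ (IsPullback.id_vert k'.left) _ W''.2⟩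
        have hle : W'' ≤ k'.left ⁻¹ᵁ W₁ := fun v hv => ⟨v, hv, rfl⟩
        refine ⟨W₁, hle, ?_⟩
        let l := k'.left.resLE W₁ W'' hle
        haveI : Flat (k'.left ∣_ W₁) := IsZariskiLocalAtTarget.restrict (inferInstanceAs (Flat k'.left)) W₁
        haveI : LocallyOfFinitePresentation (k'.left ∣_ W₁) :=
          IsZariskiLocalAtTarget.restrict (inferInstanceAs (LocallyOfFinitePresentation k'.left)) W₁
        haveI : Flat l := inferInstanceAs (Flat (U'.left.homOfLE hle ≫ k'.left ∣_ W₁))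
        haveI : LocallyOfFinitePresentation l :=
          inferInstanceAs (LocallyOfFinitePresentation (U'.left.homOfLE hle ≫ k'.left ∣_ W₁))
        haveI : Surjective l := ⟨fun ⟨u, v, hv, huv⟩ => ⟨⟨v, hv⟩, Subtype.ext (by
          show (l ≫ W₁.ι) ⟨v, hv⟩ = u
          rw [Scheme.Hom.resLE_comp_ι]
          exact huv)⟩⟩
        suffices hh : LocallyOfFinitePresentation (l ≫ W₁.ι ≫ h.left) from FppfSource.lfp l _
        rw [← Category.assoc, Scheme.Hom.resLE_comp_ι, Category.assoc, ← sqL.w, ← Category.assoc]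
        infer_instance
      · haveI : LocallyOfFinitePresentation h.left :=
          (locP_yon_iff etST_lfp h).1 ((c.locQ_iff st_lfp h𝒳.isStack.1 h𝒴.isStack.1 hy hy').1 hfp)
        exact ⟨⊤, fun _ _ => trivial, inferInstance⟩
    haveI := hl
    let W₂ : U'.left.Opens := k'.left ⁻¹ᵁ W₁
    have sq₁ : IsPullback (k'.left ∣_ W₁) (W₂.ι ≫ h'.left) (W₁.ι ≫ h.left) k.left :=
      (isPullback_morphismRestrict k'.left W₁).paste_vert sqL.flip
    haveI : LocallyOfFinitePresentation (W₂.ι ≫ h'.left) := MorphismProperty.of_isPullback sq₁ hl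
    let T := (W₁.ι ≫ h.left).smoothLocus
    let j := T.ι ≫ W₁.ι
    haveI : Smooth (j ≫ h.left) := by
      rw [Category.assoc]
      exact SmDesc.smooth_smoothLocus _
    have hrng := image_subset_smoothSet h𝒳 h𝒴 c hy (smooth_opensRange j h.left ‹_›)
    obtain ⟨v, rfl⟩ := exists_point_of_surjective hfp'.isStack.1 c'.Xo ((repWith_overCat_iff _ U' c'.Xo).2
      (c'.repWith_x cls_surjective hfp'.isStack.1 h𝒴'.isStack.1 c'.surj hy₁')) p
    rw [Set.mem_preimage, hpt]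
    refine hrng ⟨_, ?_, rfl⟩
    let W₃ : (W₂ : Scheme).Opens := W₂.ι ⁻¹ᵁ W''
    haveI : Smooth (W₃.ι ≫ W₂.ι ≫ h'.left) := by
      let l₃ := IsOpenImmersion.lift W''.ι (W₃.ι ≫ W₂.ι) (by
        rintro _ ⟨s, rfl⟩
        rw [Scheme.Opens.range_ι]
        exact s.2)
      haveI : IsOpenImmersion l₃ := by
        have : IsOpenImmersion (l₃ ≫ W''.ι) := by rw [IsOpenImmersion.lift_fac]; infer_instance
        exact IsOpenImmersion.of_comp l₃ W''.ι
      haveI := hsm
      have hl₃ : l₃ ≫ W''.ι = W₃.ι ≫ W₂.ι := IsOpenImmersion.lift_fac _ _ _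
      rw [← Category.assoc, ← hl₃, Category.assoc]
      infer_instance
    have hx : (⟨v, hsub hp⟩ : ↥W₂) ∈ (W₂.ι ≫ h'.left).smoothLocus :=
      SmDesc.mem_smoothLocus_of_smooth_ι (W₂.ι ≫ h'.left) (U := W₃) (x := ⟨v, hsub hp⟩) hp
    exact ⟨⟨_, SmDesc.mem_smoothLocus_of_isPullback sq₁ hx⟩, by
      show ((k'.left ∣_ W₁) ⟨v, hsub hp⟩).1 = k'.left v
      exact morphismRestrict_base_coe _ _ _⟩

end Groth.Agent.AlgStLib

end
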