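import Groth.Agent.AlgStLib.SpQuotProps
import Groth.Agent.AlgStLib.FppfSection
import Groth.Agent.AlgStLib.DiagProps
import Groth.Agent.S10138

/-!
# The diagonal of a classifying stack of sheaf torsors
-/

set_option autoImplicit false
set_option backward.isDefEq.respectTransparency false
set_option backward.isDefEq.respectTransparency.types false
set_option linter.style.haveILetI false
universe v₄ u₄ v₃ u₃ v₂ u₂ u

noncomputable section

namespace Groth.Agent.AlgStLib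

open CategoryTheory CategoryTheory.Limits AlgebraicGeometry Opposite Groth.Agent.FibCatRep
  Groth.Agent.FibCat2Misc Groth.Agent.AlgSpLib Groth.Agent.StkBasic
open _root_.AlgSp _root_.AlgSt

variable {S : Scheme.{u}} {𝒳 : BasedCategory.{v₂, u₂} (Over S)} {𝒴 : BasedCategory.{v₃, u₃} (Over S)}
  {𝒵 : BasedCategory.{v₄, u₄} (Over S)}

/-- points of the target lift fppf locally -/
def LiftsP (w : 𝒵 ⥤ᵇ 𝒴) : Prop :=
  ∀ (U : Over S) (y : Stk.ofPsh ((pyon S).obj U) ⥤ᵇ 𝒴), ∃ (V : Over S) (h : V ⟶ U),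
    Flat h.left ∧ Surjective h.left ∧ LocallyOfFinitePresentation h.left ∧
      ∃ z : Stk.ofPsh ((pyon S).obj V) ⥤ᵇ 𝒵,
        Nonempty (BasedFunctor.comp z w ≅ BasedFunctor.comp (Stk.ofPshMap ((pyon S).map h)) y)

/-- descent of properties local on the base -/
theorem repWith_of_liftsP {Q : MorphismProperty (Sp S)} (hb : BCStable Q)
    (hl : IsLocalOnBase (IsFppfCover (S := S)) Q) {f : 𝒳 ⥤ᵇ 𝒴} (hf : RepByAlgSp1 f) {w : 𝒵 ⥤ᵇ 𝒴}
    (hw : LiftsP w) (h : RepByAlgSpWith Q (FibCat.fpFst w f)) : RepByAlgSpWith Q f := by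
  haveI := respectsIso_onSp hb
  refine repWith_onSp_iff.1 ((repWith_iff _ f).2 fun U y => ?_)
  obtain ⟨F, e, he⟩ := repByAlgSp_fp_yon hf U y
  refine ⟨_, e, he, F.obj.property, F.property, fun _ _ => ?_⟩
  obtain ⟨V, g, g₁, g₂, g₃, z, ⟨i⟩⟩ := hw U y
  let π : F.obj ⟶ (yon S).obj U := ObjectProperty.homMk (prjMap e)
  let s : (yon S).obj V ⟶ (yon S).obj U := (yon S).map g
  have sqS := IsPullback.of_hasPullback π s
  have sq := sqS.map (sheafToPresheaf (J S) (Type (u + 1)))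
  obtain ⟨e', he', hprj⟩ := exists_model_baseChange (f := f) ((pyon S).map g) he
    (P' := (pullback π s).obj) (fst := (pullback.fst π s).hom) (snd := (pullback.snd π s).hom) sq
  obtain ⟨e'', he'', hprj'⟩ := exists_model_change (f := f) i.symm he'
  obtain ⟨k, hk, -, ⟨j⟩⟩ := isEquivOver_symm (isEquivOver_pasteFun z w f)
  have he₃ := isEquivOver_comp he'' hk
  obtain ⟨_, hW, hq⟩ := good_of_model (repWith_onSp_iff.2 h) (f := FibCat.fpFst w f) he₃
  have hsnd : prjMap (BasedFunctor.comp e'' k) = prjMap e'' :=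
    mapOf_congr ((post _ (FibCat.fpFst (BasedFunctor.comp z w) f)).mapIso ((Stk.restr e'' _).mapIso j))
  refine (hl _ _ (IsAlgSpace.yon_obj U) (fun _ => IsAlgSpace.yon_obj V) (isFppfCover_singleton g g₁ g₂ g₃) π
    F.property _ _ _ (fun _ => isAlgSpace_of_isPullback_space (IsAlgSpace.yon_obj U) F.property
      (IsAlgSpace.yon_obj V) sqS) (fun _ => sqS)).2 fun _ => ?_
  convert hq hW (IsAlgSpace.yon_obj V) using 1
  exact ObjectProperty.hom_ext _ (hprj.symm.trans (hprj'.symm.trans hsnd.symm))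

/-- pairs of points lift -/
theorem lifts_cmpMapP {w : 𝒵 ⥤ᵇ 𝒳} (hw : LiftsP w) : LiftsP (cmpMap w w (FibCat.toSelf 𝒳)) := by
  intro U y
  let t := FibCat.toSelf 𝒳
  obtain ⟨V₁, h₁, a₁, b₁, c₁, z₁, ⟨i₁⟩⟩ := hw U (BasedFunctor.comp y (FibCat.fpFst t t))
  obtain ⟨V, h₂, a₂, b₂, c₂, z₂, ⟨i₂⟩⟩ :=
    hw V₁ (BasedFunctor.comp (Stk.ofPshMap ((pyon S).map h₁)) (BasedFunctor.comp y (FibCat.fpSnd t t)))
  let g := Stk.ofPshMap ((pyon S).map (h₂ ≫ h₁))
  let g₁ := Stk.ofPshMap ((pyon S).map h₁)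
  let g₂ := Stk.ofPshMap ((pyon S).map h₂)
  let c : BasedFunctor.comp g₂ g₁ ≅ g := isoOfSec _ _ fun a => by
    rw [secOf_comp_ofPshMap, secOf_ofPshMap, secOf_ofPshMap, Functor.map_comp]
    rfl
  let k₁ : BasedFunctor.comp (BasedFunctor.comp g₂ z₁) w ≅
      BasedFunctor.comp g (BasedFunctor.comp y (FibCat.fpFst t t)) :=
    (Stk.restr g₂ 𝒳).mapIso i₁ ≪≫ (post _ (BasedFunctor.comp y (FibCat.fpFst t t))).mapIso c
  let k₂ : BasedFunctor.comp z₂ w ≅ BasedFunctor.comp g (BasedFunctor.comp y (FibCat.fpSnd t t)) :=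
    i₂ ≪≫ (post _ (BasedFunctor.comp y (FibCat.fpSnd t t))).mapIso c
  let e : BasedFunctor.comp (BasedFunctor.comp g₂ z₁) (BasedFunctor.comp w t) ≅
      BasedFunctor.comp z₂ (BasedFunctor.comp w t) :=
    (post _ t).mapIso k₁ ≪≫ (Stk.restr (BasedFunctor.comp g y) _).mapIso (FibCat.fpIso t t) ≪≫
      ((post _ t).mapIso k₂).symm
  have hfl : Flat (h₂ ≫ h₁).left := by rw [Over.comp_left]; infer_instance
  have hsu : Surjective (h₂ ≫ h₁).left := by rw [Over.comp_left]; infer_instance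
  have hfp : LocallyOfFinitePresentation (h₂ ≫ h₁).left := by rw [Over.comp_left]; infer_instance
  refine ⟨V, h₂ ≫ h₁, hfl, hsu, hfp,
    FibCat.fpLift (BasedFunctor.comp g₂ z₁) z₂ e, ⟨fpExt k₁ k₂ fun a => ?_⟩⟩
  let p : 𝒳.p.obj (w.obj (z₁.obj (g₂.obj a))) ≅ 𝒳.p.obj (y.obj (g.obj a)).obj.fst :=
    𝒳.p.mapIso (((BasedNatTrans.forgetful _ _).mapIso k₁).app a)
  let q : 𝒳.p.obj (y.obj (g.obj a)).obj.fst ≅ 𝒳.p.obj (y.obj (g.obj a)).obj.snd := (y.obj (g.obj a)).obj.iso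
  let r : 𝒳.p.obj (w.obj (z₂.obj a)) ≅ 𝒳.p.obj (y.obj (g.obj a)).obj.snd :=
    𝒳.p.mapIso (((BasedNatTrans.forgetful _ _).mapIso k₂).app a)
  show p.hom ≫ q.hom = (𝟙 _ ≫ (p.hom ≫ q.hom ≫ r.inv) ≫ 𝟙 _) ≫ r.hom
  simp

theorem isSheaf_of_modelP {P : PSp S} {e : Stk.ofPsh P ⥤ᵇ 𝒵} (he : FibCat.IsEquivOver e)
    (h : Stk.IsStack (Jf S) 𝒵) : Presheaf.IsSheaf (Jf S) P := by
  obtain ⟨k, hk, -, -⟩ := isEquivOver_symm he
  exact (isSheaf_iff_isSheaf_of_type _ _).2 ((isStack_ofPsh_iff _).1 (isStack_of_equiv hk _ h))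

theorem isFibSetoid_fpP {A : PSp S} (h𝒳 : FibCat.IsFibGrpd 𝒳.p) (h𝒴 : FibCat.IsFibGrpd 𝒴.p) {f : 𝒳 ⥤ᵇ 𝒴}
    [f.toFunctor.Faithful] (y : Stk.ofPsh A ⥤ᵇ 𝒴) : FibCat.IsFibSetoid (FibCat.fp y f).p := by
  refine isFibSetoid_iff.2 ⟨isFibGrpd_fp (Stk.isFibGrpd_ofPsh A) h𝒳 h𝒴 y f, ⟨fun {o o'} m m' h => ?_⟩⟩
  have h₁ : m.hom.fst = m'.hom.fst := Stk.EltObj.hom_ext h
  refine ObjectProperty.hom_ext _ (CategoricalPullback.hom_ext h₁ (f.toFunctor.map_injective ?_))
  rw [← cancel_epi o.obj.iso.hom, ← m.hom.w, ← m'.hom.w, h₁]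

/-- the fibres of the base changes of a functor have few isomorphism classes -/
def FewClasses (f : 𝒳 ⥤ᵇ 𝒴) : Prop :=
  ∀ (U : Over S) (y : Stk.ofPsh ((pyon S).obj U) ⥤ᵇ 𝒴) (T : Over S),
    ∃ (α : Type (u + 1)) (k : {o : (FibCat.fp y f).obj // (FibCat.fp y f).p.obj o = T} → α),
      ∀ o o', k o = k o' → ∃ e : o.1 ≅ o'.1, (FibCat.fp y f).p.map e.hom = eqToHom (o.2.trans o'.2.symm)

/-- a presheaf with small values has a model in the universe of the site -/
theorem exists_small_psh {P : (Over S)ᵒᵖ ⥤ Type u₄} (hP : ∀ T, Small.{u + 1} (P.obj T))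
    {e : Stk.ofPsh P ⥤ᵇ 𝒵} (he : FibCat.IsEquivOver e) :
    ∃ (P' : PSp S) (e' : Stk.ofPsh P' ⥤ᵇ 𝒵), FibCat.IsEquivOver e' := by
  haveI := hP
  let P' : PSp S :=
    { obj := fun T => Shrink.{u + 1} (P.obj T)
      map := fun {T T'} g => ↾fun x => equivShrink _ (P.map g ((equivShrink _).symm x))
      map_id := fun T => by
        ext x
        simp
      map_comp := fun {T T' T''} g g' => by
        ext x
        simp }
  let j : Stk.ofPsh P' ⥤ᵇ Stk.ofPsh P :=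
    { toFunctor :=
        { obj := fun a => ⟨a.base, (equivShrink _).symm a.sec⟩
          map := fun {a b} m => ⟨m.hom, by
            rw [← m.map_sec]
            exact (Equiv.symm_apply_apply _ _).symm⟩
          map_id := fun a => Stk.EltObj.hom_ext rfl
          map_comp := fun _ _ => Stk.EltObj.hom_ext rfl }
      w := rfl }
  haveI : j.toFunctor.Faithful := ⟨fun {a b} m m' h => Stk.EltObj.hom_ext (congrArg (fun t => t.hom) h :)⟩
  haveI : j.toFunctor.Full := ⟨fun {a b} m => ⟨⟨m.hom, by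
    apply (equivShrink (P.obj (op a.base))).symm.injective
    exact (Equiv.symm_apply_apply _ _).trans m.map_sec⟩, Stk.EltObj.hom_ext rfl⟩⟩
  refine ⟨P', BasedFunctor.comp j e, isEquivOver_comp (isEquivOver_of_fullyFaithful j fun a => ?_) he⟩
  exact ⟨⟨a.base, equivShrink _ a.sec⟩, isoOfEq rfl (by simp [j]), rfl, by simp [j]⟩

/-- models of base changes with few isomorphism classes -/
theorem exists_model_of_few {f : 𝒳 ⥤ᵇ 𝒴} [f.toFunctor.Faithful] (h𝒳 : FibCat.IsFibGrpd 𝒳.p)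
    (h𝒴 : FibCat.IsFibGrpd 𝒴.p) (hf : FewClasses f) (U : Over S) (y : Stk.ofPsh ((pyon S).obj U) ⥤ᵇ 𝒴) :
    ∃ (P : PSp S) (e : Stk.ofPsh P ⥤ᵇ FibCat.fp y f), FibCat.IsEquivOver e := by
  obtain ⟨P, e, he⟩ := exists_psh (isFibSetoid_fpP h𝒳 h𝒴 (f := f) y)
  refine exists_small_psh (fun T => ?_) he
  obtain ⟨α, k, hk⟩ := hf U y T.unop
  haveI := (isEquivOver_data he).1
  refine small_of_injective (f := fun p : P.obj T => k ⟨e.obj ⟨T.unop, p⟩, e.w_obj _⟩) fun p p' h => ?_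
  obtain ⟨i, hi⟩ := hk _ _ h
  let m : (⟨T.unop, p⟩ : Stk.EltObj P) ⟶ ⟨T.unop, p'⟩ := e.toFunctor.preimage i.hom
  have hm : m.hom = 𝟙 _ := by
    have h₂ := map_map e m
    rw [show e.map m = i.hom from e.toFunctor.map_preimage _, hi] at h₂
    have h₃ : (Stk.ofPsh P).p.map m = eqToHom rfl := by
      rw [← cancel_epi (eqToHom (e.w_obj _)), ← cancel_mono (eqToHom (e.w_obj ⟨T.unop, p'⟩).symm),
        Category.assoc]
      refine h₂.symm.trans ?_
      simp
    exact h₃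
  have h₄ := m.map_sec
  rw [hm] at h₄
  simpa using h₄.symm

/-- faithful functors of stacks which become representable after an fppf cover are representable -/
theorem repByAlgSp1_of_lifts_faithful {f : 𝒳 ⥤ᵇ 𝒴} [f.toFunctor.Faithful] (h𝒳 : Stk.IsStack (Jf S) 𝒳)
    (h𝒴 : Stk.IsStack (Jf S) 𝒴) (hf : FewClasses f) {w : 𝒵 ⥤ᵇ 𝒴} (hw : LiftsP w)
    (h : RepByAlgSp1 (FibCat.fpFst w f)) : RepByAlgSp1 f := by
  rw [← repByAlgSpWith_top_iff, repWith_iff]
  intro U y
  obtain ⟨P, e, he⟩ := exists_model_of_few h𝒳.1 h𝒴.1 hf U y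
  let F : Sp S := ⟨P, isSheaf_of_modelP he
    (isStack_fp (isStack_ofSheaf ((yon S).obj U).property) h𝒳 (isPrestack_of_isStack h𝒴) y f)⟩
  obtain ⟨V, g, g₁, g₂, g₃, z, ⟨i⟩⟩ := hw U y
  let π : F ⟶ (yon S).obj U := ObjectProperty.homMk (prjMap e)
  let s : (yon S).obj V ⟶ (yon S).obj U := (yon S).map g
  have sqS := IsPullback.of_hasPullback π s
  have sq := sqS.map (sheafToPresheaf (J S) (Type (u + 1)))
  obtain ⟨e', he', -⟩ := exists_model_baseChange (f := f) ((pyon S).map g) he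
    (P' := (pullback π s).obj) (fst := (pullback.fst π s).hom) (snd := (pullback.snd π s).hom) sq
  obtain ⟨e'', he'', -⟩ := exists_model_change (f := f) i.symm he'
  obtain ⟨k, hk, -, -⟩ := isEquivOver_symm (isEquivOver_pasteFun z w f)
  obtain ⟨_, hW, -⟩ := good_of_model (Q := ⊤) (repByAlgSpWith_top_iff.2 h) (f := FibCat.fpFst w f)
    (isEquivOver_comp he'' hk)
  have hF : IsAlgSpace F := Groth.Agent.S10138.result S ⟨_, IsAlgSpace.yon_obj U⟩
    (fun _ : PUnit.{u + 1} => ⟨(yon S).obj V, IsAlgSpace.yon_obj V⟩) (fun _ => s)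
    (isFppfCover_singleton g g₁ g₂ g₃) F π fun _ P' fst snd sq' =>
      IsAlgSpace.of_iso hW (sqS.isoIsPullback _ _ sq')
  exact ⟨P, e, he, (good_top_iff _).2 ((isAlgSpaceP_obj_iff _).2 hF)⟩

/-- diagonals of functors are faithful -/
instance faithful_diag (f : 𝒳 ⥤ᵇ 𝒴) : (FibCat.diag f).toFunctor.Faithful :=
  ⟨fun {a b} m m' h => congrArg (fun t => t.hom.fst) h⟩

/-- the diagonal of a locally small category has few classes -/
theorem small_diag [LocallySmall.{u + 1} 𝒳.obj] (h𝒳 : Stk.IsStack (Jf S) 𝒳) :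
    FewClasses (FibCat.diag (FibCat.toSelf 𝒳)) := by
  intro U y T
  let t := FibCat.toSelf 𝒳
  let P₁ := FibCat.fpFst t t
  let P₂ := FibCat.fpSnd t t
  let c : (T ⟶ U) → (Stk.ofPsh ((pyon S).obj U)).obj := fun g => ⟨T, ⟨g⟩⟩
  let i : ∀ o : (FibCat.fp y (FibCat.diag t)).obj, y.obj o.obj.fst ≅ (FibCat.diag t).obj o.obj.snd :=
    fun o => o.obj.iso
  let φ : ∀ (o : (FibCat.fp y (FibCat.diag t)).obj) (g : T ⟶ U), (c g ≅ o.obj.fst) →
      (P₁.obj (y.obj (c g)) ⟶ P₂.obj (y.obj (c g))) := fun o g m =>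
    P₁.map (y.map m.hom) ≫ (show P₁.obj (y.obj o.obj.fst) ⟶ o.obj.snd from P₁.map (i o).hom) ≫
      (show o.obj.snd ⟶ P₂.obj (y.obj o.obj.fst) from P₂.map (i o).inv) ≫ P₂.map (y.map m.inv)
  have aux : ∀ (o o' : (FibCat.fp y (FibCat.diag t)).obj) (g g' : T ⟶ U) (m : c g ≅ o.obj.fst)
      (m' : c g' ≅ o'.obj.fst), (⟨g, equivShrink.{u + 1} _ (φ o g m)⟩ :
        Σ g : T ⟶ U, Shrink.{u + 1} (P₁.obj (y.obj (c g)) ⟶ P₂.obj (y.obj (c g)))) =
        ⟨g', equivShrink.{u + 1} _ (φ o' g' m')⟩ →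
      ∃ e : o ≅ o', e.hom.hom.fst.hom = m.inv.hom ≫ m'.hom.hom := by
    intro o o' g g' m m' h
    obtain ⟨rfl, h⟩ := Sigma.mk.inj_iff.1 h
    have hφ := (equivShrink.{u + 1} _).injective (eq_of_heq h)
    let a : P₁.obj (y.obj o.obj.fst) ≅ o.obj.snd := P₁.toFunctor.mapIso (i o)
    let b : P₂.obj (y.obj o.obj.fst) ≅ o.obj.snd := P₂.toFunctor.mapIso (i o)
    let a' : P₁.obj (y.obj o'.obj.fst) ≅ o'.obj.snd := P₁.toFunctor.mapIso (i o')
    let b' : P₂.obj (y.obj o'.obj.fst) ≅ o'.obj.snd := P₂.toFunctor.mapIso (i o')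
    let q₁ : P₁.obj (y.obj o.obj.fst) ≅ P₁.obj (y.obj o'.obj.fst) :=
      P₁.toFunctor.mapIso (y.toFunctor.mapIso (m.symm ≪≫ m'))
    let q₂ : P₂.obj (y.obj o.obj.fst) ≅ P₂.obj (y.obj o'.obj.fst) :=
      P₂.toFunctor.mapIso (y.toFunctor.mapIso (m.symm ≪≫ m'))
    have hh : a.hom ≫ b.inv ≫ q₂.hom = q₁.hom ≫ a'.hom ≫ b'.inv := by
      have := P₁.map (y.map m.inv) ≫= (hφ =≫ P₂.map (y.map m'.hom))
      simp only [φ, Category.assoc] at this
      simp only [← Functor.map_comp_assoc, ← Functor.map_comp, Iso.inv_hom_id, CategoryTheory.Functor.map_id,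
        Category.id_comp, Category.comp_id] at this
      simp only [a, b, a', b', q₁, q₂, Functor.mapIso_hom, Functor.mapIso_inv, Iso.trans_hom, Iso.symm_hom]
      simp only [Functor.map_comp, Category.assoc] at this ⊢
      exact this
    refine ⟨ObjectProperty.isoMk _ (CategoricalPullback.mkIso (m.symm ≪≫ m')
      (a.symm ≪≫ q₁ ≪≫ a') ?_), rfl⟩
    refine ObjectProperty.hom_ext _ (CategoricalPullback.hom_ext ?_ ?_)
    · show q₁.hom ≫ a'.hom = a.hom ≫ a.inv ≫ q₁.hom ≫ a'.hom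
      rw [Iso.hom_inv_id_assoc]
    · show q₂.hom ≫ b'.hom = b.hom ≫ a.inv ≫ q₁.hom ≫ a'.hom
      rw [← cancel_mono b'.inv, ← cancel_epi (a.hom ≫ b.inv)]
      simp [hh]
  have mk : ∀ o : {o : (FibCat.fp y (FibCat.diag t)).obj // (FibCat.fp y (FibCat.diag t)).p.obj o = T},
      ∃ (g : T ⟶ U) (m : c g ≅ o.1.obj.fst), m.hom.hom = eqToHom o.2.symm := fun o =>
    ⟨eqToHom o.2.symm ≫ o.1.obj.fst.sec.down, isoOfEq o.2.symm rfl, rfl⟩
  choose g m hm using mk
  refine ⟨Σ g : T ⟶ U, Shrink.{u + 1} (P₁.obj (y.obj (c g)) ⟶ P₂.obj (y.obj (c g))),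
    fun o => ⟨g o, equivShrink.{u + 1} _ (φ o.1 (g o) (m o))⟩, fun o o' h => ?_⟩
  obtain ⟨e, he⟩ := aux o.1 o'.1 _ _ (m o) (m o') h
  refine ⟨e, ?_⟩
  show e.hom.hom.fst.hom = _
  rw [he, hm]
  have hi : (m o).inv.hom = eqToHom o.2 := by
    have := congrArg (fun k => k.hom) (m o).hom_inv_id
    simp only [Stk.EltObj.comp_hom, hm] at this
    exact (cancel_epi (eqToHom o.2.symm)).1 (this.trans (Eq.trans (show (𝟙 (c (g o)) : c (g o) ⟶ c (g o)).hom = 𝟙 T from rfl) (by simp)))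
  rw [hi]
  exact eqToHom_trans _ _

lemma subsingleton_sec_base (T : Over S) : Subsingleton (((pyon S).obj (base S)).obj (op T)) :=
  ⟨fun a b => ULift.ext _ _ (Over.OverMorphism.ext (by
    have h₁ := Over.w a.down
    have h₂ := Over.w b.down
    simp only [base, Over.mk_hom, Category.comp_id] at h₁ h₂
    exact h₁.trans h₂.symm))⟩

/-- two objects over the same scheme of the category of the base are isomorphic -/
def baseIso {a b : Stk.EltObj ((pyon S).obj (base S))} (h : a.base = b.base) : a ≅ b :=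
  isoOfEq h ((subsingleton_sec_base a.base).elim _ _)

/-- any two functors to the category of the base are isomorphic -/
def toBaseIso (Φ Ψ : 𝒵 ⥤ᵇ Stk.ofPsh ((pyon S).obj (base S))) : Φ ≅ Ψ :=
  isoOfSec Φ Ψ fun _ => (subsingleton_sec_base _).elim _ _

theorem isEquivOver_lift_id {E : Stk.ofPsh ((pyon S).obj (base S)) ⥤ᵇ FibCat.selfOver (Over S)} :
    FibCat.IsEquivOver (FibCat.fpLift (BasedFunctor.id _) (BasedFunctor.id _) (Iso.refl (BasedFunctor.comp
      (BasedFunctor.id (Stk.ofPsh ((pyon S).obj (base S)))) E))) := by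
  let D := FibCat.fpLift (BasedFunctor.id _) (BasedFunctor.id _) (Iso.refl (BasedFunctor.comp
      (BasedFunctor.id (Stk.ofPsh ((pyon S).obj (base S)))) E))
  haveI : D.toFunctor.Faithful := ⟨fun {a b} m m' h => congrArg (fun t => t.hom.fst) h⟩
  haveI : D.toFunctor.Full := ⟨fun {a b} φ => ⟨φ.hom.fst, ObjectProperty.hom_ext _ (CategoricalPullback.hom_ext rfl
    (Stk.EltObj.hom_ext (by
      have h : (φ.hom.snd : a ⟶ b).hom = 𝟙 _ ≫ (φ.hom.fst : a ⟶ b).hom ≫ 𝟙 _ := map_snd φ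
      rw [Category.id_comp, Category.comp_id] at h
      exact h.symm)))⟩⟩
  refine isEquivOver_of_fullyFaithful D fun o => ?_
  obtain ⟨q', -⟩ := map_iso_hom o
  have q : o.obj.fst.base = o.obj.snd.base := (E.w_obj _).symm.trans (q'.trans (E.w_obj _))
  refine ⟨o.obj.fst, ObjectProperty.isoMk _ (CategoricalPullback.mkIso (Iso.refl _) (baseIso q) ?_), rfl, ?_⟩
  · show E.map (𝟙 _) ≫ o.obj.iso.hom = 𝟙 _ ≫ E.map (baseIso q).hom
    rw [CategoryTheory.Functor.map_id, Category.id_comp, Category.id_comp]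
    have h₁ : (o.obj.iso.hom : E.obj o.obj.fst ⟶ E.obj o.obj.snd) =
        eqToHom (show E.obj o.obj.fst = E.obj o.obj.snd from (E.w_obj _).trans (q.trans (E.w_obj _).symm)) := by
      obtain ⟨q', hq'⟩ := map_iso_hom o
      exact hq'.trans (by rfl)
    have h₂ := map_map E (baseIso q).hom
    rw [h₁]
    refine Eq.trans ?_ h₂.symm
    show _ = eqToHom _ ≫ eqToHom q ≫ eqToHom _
    simp
  · rfl

/-- fibre squares of a cover of the base give properties of the diagonal -/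
theorem repWith_diag_of_base_cover {Q : MorphismProperty (Sp S)} (hb : BCStable Q)
    (hl : IsLocalOnBase (IsFppfCover (S := S)) Q) (h𝒳 : Stk.IsStack (Jf S) 𝒳) [LocallySmall.{u + 1} 𝒳.obj]
    {x : Stk.ofPsh ((pyon S).obj (base S)) ⥤ᵇ 𝒳} (hw : LiftsP x) (hx : RepByAlgSpWith Q x) :
    RepByAlgSpWith Q (FibCat.diag (FibCat.toSelf 𝒳)) := by
  let t := FibCat.toSelf 𝒳
  let ε : BasedFunctor.comp (FibCat.fpFst x x) (BasedFunctor.comp x t) ≅
      BasedFunctor.comp (FibCat.fpSnd x x) (BasedFunctor.comp x t) := (post _ t).mapIso (FibCat.fpIso x x)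
  let C := FibCat.fpLift (FibCat.fpFst x x) (FibCat.fpSnd x x) ε
  let D := FibCat.fpLift (BasedFunctor.id _) (BasedFunctor.id _) (Iso.refl (BasedFunctor.comp
      (BasedFunctor.id (Stk.ofPsh ((pyon S).obj (base S)))) (BasedFunctor.comp x t)))
  have hC : RepByAlgSpWith Q C :=
    (repWith_iff_of_equiv Q C (FibCat.fpFst x x) (BasedFunctor.id _) D isEquivOver_id isEquivOver_lift_id
      (fpExt (Iso.refl _) (toBaseIso _ _) fun w => by
        obtain ⟨q, hq⟩ := map_iso_hom w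
        let E := BasedFunctor.comp x t
        let a : Stk.EltObj ((pyon S).obj (base S)) := w.obj.fst
        let b : Stk.EltObj ((pyon S).obj (base S)) := w.obj.snd
        let k := (toBaseIso (BasedFunctor.comp (FibCat.fpFst x x) (BasedFunctor.comp D
          (FibCat.fpSnd E E))) (BasedFunctor.comp C (FibCat.fpSnd E E))).hom.toNatTrans.app w
        have h₁ : k.hom = eqToHom ((base_eq _ w).trans (base_eq _ w).symm) := hom_app _ w
        have h₂ : E.map k = _ := map_map E k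
        obtain ⟨q₁, hq₁⟩ := map_iso_hom (C.obj w)
        obtain ⟨q₂, hq₂⟩ := map_iso_hom (D.obj a)
        have h₃ : E.map k = eqToHom (q₂.symm.trans q₁) := h₂.trans (by
          show eqToHom _ ≫ k.hom ≫ eqToHom _ = _
          rw [h₁]
          simp)
        show E.map (𝟙 a) ≫ _ = _ ≫ E.map k
        refine (congrArg (· ≫ _) (E.map_id a)).trans ((Category.id_comp _).trans (hq₁.trans ?_))
        exact ((congrArg₂ (fun u v => u ≫ v) hq₂ h₃).trans (eqToHom_trans _ _)).symm)).2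
      (repWith_fpFst Q x x hx)
  have hX : RepByAlgSpWith Q (FibCat.fpFst (cmpMap x x t) (FibCat.diag t)) :=
    (repWith_iff_of_equiv Q (FibCat.fpFst (cmpMap x x t) (FibCat.diag t)) C
      (cmpDiag ε (fun _ => rfl)) (BasedFunctor.id _) (isEquivOver_cmpDiag ε (fun _ => rfl)) isEquivOver_id
      (Iso.refl _)).2 hC
  exact repWith_of_liftsP hb hl (repByAlgSp1_of_lifts_faithful h𝒳
    (isStack_fp h𝒳 h𝒳 (isPrestack_of_isStack isAlgStack_selfOver) t t) (small_diag h𝒳) (lifts_cmpMapP hw)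
    (repByAlgSp1_of_with hX)) (lifts_cmpMapP hw) hX

namespace SpQuot

open MonoidalCategory

variable {B : Sp S} {G : Over B} [GrpObj G] {X : Over B} {aX : GAction G X}

/-- points of the quotient stack lift to the space after an fppf cover -/
theorem lifts_spQuotMap : LiftsP (AlgSt.spQuotMap Scheme.fppfPrecoverage G aX) := by
  intro U y
  let y₀ : FibCat.overCat U ⥤ᵇ AlgSt.SpQuotSt Scheme.fppfPrecoverage G aX :=
    BasedFunctor.comp (ofOverCat U) y
  let f := AlgSt.spQuotMap Scheme.fppfPrecoverage G aX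
  obtain ⟨V, g, l, g₁, g₂, g₃, hl⟩ := exists_fppf_section (torsor y₀).π.left (torsor y₀).loc
  let c : (torsor y₀).base ⟶ U := eqToHom (y₀.w_obj (StackCrit.top U))
  haveI : IsIso c.left := Functor.map_isIso (Over.forget S) c
  have hfl : Flat (g ≫ c).left := by rw [Over.comp_left]; infer_instance
  have hsu : Surjective (g ≫ c).left := by rw [Over.comp_left]; infer_instance
  have hfp : LocallyOfFinitePresentation (g ≫ c).left := by rw [Over.comp_left]; infer_instance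
  have hd : l ≫ torsorτ y₀ = (yon S).map (g ≫ c) := by
    rw [torsorτ, ← Category.assoc, hl, Category.comp_id, Functor.map_comp]
  let e := fibreFun y₀
  refine ⟨V, g ≫ c, hfl, hsu, hfp,
    BasedFunctor.comp (BasedFunctor.comp (Stk.ofPshMap l.hom) e) (FibCat.fpSnd y₀ f), ⟨?_⟩⟩
  let i₁ : BasedFunctor.comp (BasedFunctor.comp (Stk.ofPshMap l.hom) e)
      (BasedFunctor.comp (FibCat.fpFst y₀ f) (ofOverCat U)) ≅ Stk.ofPshMap ((pyon S).map (g ≫ c)) :=
    (Stk.restr (Stk.ofPshMap l.hom) _).mapIso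
      (mapOfIso (BasedFunctor.comp e (BasedFunctor.comp (FibCat.fpFst y₀ f) (ofOverCat U)))).symm ≪≫
      isoOfSec _ _ fun a => by
        have hm : mapOf (BasedFunctor.comp e (BasedFunctor.comp (FibCat.fpFst y₀ f) (ofOverCat U))) =
            (torsorτ y₀).hom :=
          (spMapOfOver_hom (BasedFunctor.comp e (FibCat.fpFst y₀ f))).symm.trans
            (congrArg (fun k => k.hom) (spMapOfOver_fibreFun y₀))
        rw [hm]
        show secOf (BasedFunctor.comp (Stk.ofPshMap l.hom) (Stk.ofPshMap (torsorτ y₀).hom)) a = _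
        rw [secOf_comp_ofPshMap, secOf_ofPshMap]
        refine Eq.trans ?_ (secOf_ofPshMap ((pyon S).map (g ≫ c)) a).symm
        exact congrArg (fun k => k.hom.app (op a.base) a.sec) hd
  exact (Stk.restr (BasedFunctor.comp (Stk.ofPshMap l.hom) e) _).mapIso (FibCat.fpIso y₀ f).symm ≪≫
    (post _ y).mapIso i₁

/-- the unit and the diagonal of a classifying stack of sheaf torsors -/
theorem repWith_diag_spBG {Q : MorphismProperty (Sp S)} [Q.IsStableUnderBaseChange]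
    (hl : IsLocalOnBase (IsFppfCover (S := S)) Q) (G : Over ((yon S).obj (base S))) [GrpObj G]
    (hG : IsAlgSpace G.left) (hQ : Q G.hom) :
    RepByAlgSpWith Q (FibCat.diag (FibCat.toSelf (AlgSt.SpBG Scheme.fppfPrecoverage G))) ∧
      RepByAlgSpWith Q (AlgSt.spQuotMap Scheme.fppfPrecoverage G (AlgSt.trivGAction G)) := by
  have hb : BCStable Q := fun _ _ _ _ _ _ _ _ _ _ _ _ sq h => MorphismProperty.of_isPullback sq h
  have hx := repWith_spQuotMap_of_group (aX := AlgSt.trivGAction G) hb hl (IsAlgSpace.yon_obj _) hG hQ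
  exact ⟨repWith_diag_of_base_cover hb hl (isStack G (AlgSt.trivGAction G))
    (x := AlgSt.spQuotMap Scheme.fppfPrecoverage G (AlgSt.trivGAction G)) lifts_spQuotMap hx, hx⟩

end SpQuot

end Groth.Agent.AlgStLib

end
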