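import Groth.Prelude.Def_AlgSt6
import Groth.Agent.FibCatRep.Basic
import Mathlib.AlgebraicGeometry.Sites.Fpqc

/-!
# Quotient categories with sheaf torsors are fibred in groupoids
-/

set_option autoImplicit false
set_option backward.isDefEq.respectTransparency false
set_option backward.isDefEq.respectTransparency.types false
universe u

noncomputable section

namespace Groth.Agent.AlgStLib.SpQuot

open CategoryTheory CategoryTheory.Limits MonoidalCategory CartesianMonoidalCategory MonObj GrpObj AlgebraicGeometry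
open _root_.AlgSp _root_.AlgSt

variable {S : Scheme.{u}} {B : Sp S} {G : Over B} [GrpObj G] {X : Over B} {aX : GAction G X}

/-- the forgetful functor preserves cartesian squares -/
lemma isPullback_left {P X' Y Z : Over B} {p : P ⟶ X'} {q : P ⟶ Y} {f : X' ⟶ Z} {g : Y ⟶ Z}
    (sq : IsPullback p q f g) : IsPullback p.left q.left f.left g.left :=
  sq.map (Over.forget B)

/-- the existence of local sections pulls back -/
lemma hasSecLoc_of_isPullback {T T' : Over S} {f : T' ⟶ T} {P P' : Sp S} {π : P ⟶ (yon S).obj T}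
    {π' : P' ⟶ (yon S).obj T'} {p : P' ⟶ P} (sq : IsPullback p π' π ((yon S).map f))
    (h : HasSecLoc Scheme.fppfPrecoverage π) : HasSecLoc Scheme.fppfPrecoverage π' := by
  obtain ⟨R, hR, hs⟩ := h
  refine ⟨_, Precoverage.pullbackArrows_mem (J := Scheme.fppfPrecoverage) f.left hR, fun W g hg => ?_⟩
  cases hg with
  | mk Z i hi =>
    obtain ⟨s, hs'⟩ := hs i hi
    let a : Over.mk (pullback.snd i f.left ≫ T'.hom) ⟶ Over.mk (i ≫ T.hom) :=
      Over.homMk (pullback.fst i f.left) (by
        show pullback.fst i f.left ≫ i ≫ T.hom = pullback.snd i f.left ≫ T'.hom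
        rw [pullback.condition_assoc, Over.w f])
    refine ⟨sq.lift ((yon S).map a ≫ s) ((yon S).map (Over.homMk (pullback.snd i f.left) rfl)) ?_, sq.lift_snd _ _ _⟩
    rw [Category.assoc, hs', ← Functor.map_comp, ← Functor.map_comp]
    exact congrArg _ (Over.OverMorphism.ext pullback.condition)

variable {T : Over S} (A : SpQuotObj Scheme.fppfPrecoverage G aX) (f : T ⟶ A.base)

/-- the base change of the structure morphism -/
abbrev pullP : Over B := pullback A.π (bHom (b := (yon S).map f ≫ A.b) f rfl)

/-- the induced action on a base change -/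
def pullAct : GAction G (pullP A f) where
  act := (IsPullback.of_hasPullback A.π (bHom (b := (yon S).map f ≫ A.b) f rfl)).lift
    ((G ◁ pullback.fst _ _) ≫ A.act.act) (snd G _ ≫ pullback.snd _ _) (by
      rw [Category.assoc, A.cart.w, whiskerLeft_snd_assoc, Category.assoc, pullback.condition])
  one_act := by
    apply pullback.hom_ext
    · rw [Category.assoc, IsPullback.lift_fst, ← whisker_exchange_assoc, A.act.one_act, leftUnitor_naturality]
    · rw [Category.assoc, IsPullback.lift_snd, whiskerRight_snd_assoc, leftUnitor_hom]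
  mul_act := by
    apply pullback.hom_ext
    · simp only [Category.assoc, IsPullback.lift_fst]
      rw [← whisker_exchange_assoc, A.act.mul_act, associator_naturality_right_assoc,
        ← MonoidalCategory.whiskerLeft_comp_assoc, ← MonoidalCategory.whiskerLeft_comp_assoc, IsPullback.lift_fst]
    · simp only [Category.assoc, IsPullback.lift_snd, whiskerRight_snd_assoc, whiskerLeft_snd_assoc,
        associator_hom_snd_snd_assoc]

/-- the base change of an object -/
def pullObj : SpQuotObj Scheme.fppfPrecoverage G aX where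
  base := T
  b := (yon S).map f ≫ A.b
  P := pullP A f
  act := pullAct A f
  π := pullback.snd _ _
  cart := by
    have sq := IsPullback.of_hasPullback A.π (bHom (b := (yon S).map f ≫ A.b) f rfl)
    have h₁ : IsPullback ((pullAct A f).act ≫ pullback.fst _ _) (snd G (pullP A f)) A.π
        (pullback.fst A.π (bHom (b := (yon S).map f ≫ A.b) f rfl) ≫ A.π) := by
      have := (isPullback_whiskerLeft' (G := G) (pullback.fst A.π
        (bHom (b := (yon S).map f ≫ A.b) f rfl))).paste_horiz A.cart
      rw [show (pullAct A f).act ≫ pullback.fst _ _ = _ from sq.lift_fst _ _ _]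
      exact this
    rw [sq.w] at h₁
    exact IsPullback.of_right h₁ (sq.lift_snd _ _ _) sq
  loc := hasSecLoc_of_isPullback
    (isPullback_left (IsPullback.of_hasPullback A.π (bHom (b := (yon S).map f ≫ A.b) f rfl))) A.loc
  φ := pullback.fst _ _ ≫ A.φ
  eqv := by
    rw [← Category.assoc, show (pullAct A f).act ≫ pullback.fst _ _ = _ from IsPullback.lift_fst _ _ _ _,
      Category.assoc, A.eqv, MonoidalCategory.whiskerLeft_comp, Category.assoc]

/-- the projection of a base change -/
def pullHom : pullObj A f ⟶ A where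
  base := f
  wb := rfl
  top := pullback.fst _ _
  eqv := IsPullback.lift_fst _ _ _ _
  cart := IsPullback.of_hasPullback _ _
  wφ := rfl

theorem isFibGrpd (G : Over B) [GrpObj G] (aX : GAction G X) :
    FibCat.IsFibGrpd (SpQuotSt Scheme.fppfPrecoverage G aX).p := by
  refine Groth.Agent.FibCatRep.isFibGrpd_mk (fun {A V} f => ⟨pullObj A f, pullHom A f, rfl, ?_⟩)
    (fun {A'' A' A} φ ψ g h => ?_)
  · exact (Category.id_comp f).symm
  have hg : g ≫ φ.base = ψ.base := h
  have wb : (yon S).map g ≫ A'.b = A''.b := by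
    rw [← φ.wb, ← Category.assoc, ← Functor.map_comp, hg]
    exact ψ.wb
  have hb : bHom g wb ≫ bHom φ.base φ.wb = bHom ψ.base ψ.wb :=
    Over.OverMorphism.ext (((yon S).map_comp g φ.base).symm.trans (congrArg _ hg))
  let t : A''.P ⟶ A'.P := φ.cart.lift ψ.top (A''.π ≫ bHom g wb) (by rw [Category.assoc, hb, ψ.cart.w])
  have t₁ : t ≫ φ.top = ψ.top := φ.cart.lift_fst _ _ _
  have t₂ : t ≫ A'.π = A''.π ≫ bHom g wb := φ.cart.lift_snd _ _ _
  have te : A''.act.act ≫ t = (G ◁ t) ≫ A'.act.act := φ.cart.hom_ext
    (by rw [Category.assoc, Category.assoc, t₁, φ.eqv, ← MonoidalCategory.whiskerLeft_comp_assoc, t₁, ψ.eqv])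
    (by rw [Category.assoc, Category.assoc, t₂, reassoc_of% A''.cart.w, A'.cart.w, whiskerLeft_snd_assoc, t₂])
  have tc : IsPullback t A''.π A'.π (bHom g wb) :=
    IsPullback.of_right (by rw [t₁, hb]; exact ψ.cart) t₂ φ.cart
  let χ : A'' ⟶ A' := ⟨g, wb, t, te, tc, by rw [← φ.wφ, ← Category.assoc, t₁, ψ.wφ]⟩
  refine ⟨χ, ⟨rfl, SpQuotObj.hom_ext hg t₁⟩, fun χ' hχ => ?_⟩
  obtain ⟨hb', hc'⟩ := hχ
  refine SpQuotObj.hom_ext hb' (φ.cart.hom_ext ?_ ?_)
  · exact (congrArg SpQuotObj.Hom.top hc').trans t₁.symm
  · rw [χ'.cart.w, tc.w]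
    exact congrArg _ (Over.OverMorphism.ext (congrArg (yon S).map hb'))

end Groth.Agent.AlgStLib.SpQuot

end
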