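import Groth.Agent.AlgStLib.Generic
import Groth.Agent.FibCat2Misc.Stack
import Groth.Agent.FibCat2Misc.PshStack
import Groth.Agent.FibCat2Misc.Grpd
import Groth.Agent.StkComp.FibreStack
import Groth.Agent.StkComp.Sites
import Groth.Agent.Bootstrap.EtSheafQuot

/-!
# Algebraic stacks: atlases, fibre products, representability criteria
-/

set_option autoImplicit false
set_option backward.isDefEq.respectTransparency false
set_option backward.isDefEq.respectTransparency.types false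
set_option linter.style.haveILetI false
universe u

noncomputable section

namespace Groth.Agent.AlgStLib

open CategoryTheory CategoryTheory.Limits AlgebraicGeometry Opposite Groth.Agent.FibCatRep
  Groth.Agent.FibCat2Misc Groth.Agent.AlgSpLib Groth.Agent.StkBasic
open _root_.AlgSp _root_.AlgSt

variable {S : Scheme.{u}} {𝒳 𝒴 𝒵 : AlgSt.Cat S}

abbrev Jf (S : Scheme.{u}) : GrothendieckTopology (Over S) := QuotSh.J Scheme.fppfPrecoverage S

/-! ### structure functors -/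

/-- the terminal object -/
abbrev base (S : Scheme.{u}) : Over S := Over.mk (𝟙 S)

theorem isEquivOver_toSelf_base :
    FibCat.IsEquivOver (FibCat.toSelf (Stk.ofPsh ((pyon S).obj (base S)))) := by
  haveI : (FibCat.toSelf (Stk.ofPsh ((pyon S).obj (base S)))).toFunctor.Faithful :=
    ⟨fun {a b} m m' h => Stk.EltObj.hom_ext h⟩
  haveI : (FibCat.toSelf (Stk.ofPsh ((pyon S).obj (base S)))).toFunctor.Full :=
    ⟨fun {a b} m => ⟨⟨m, ULift.ext _ _ (Over.OverMorphism.ext (by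
      have h₁ := Over.w a.sec.down
      have h₂ := Over.w (m ≫ b.sec.down)
      simp only [base, Over.mk_hom, Category.comp_id] at h₁ h₂
      exact h₂.trans h₁.symm))⟩, rfl⟩⟩
  exact isEquivOver_of_fullyFaithful _ fun η => ⟨⟨η, ⟨Over.homMk η.hom (Category.comp_id _)⟩⟩,
    Iso.refl _, rfl, rfl⟩

/-- structure functors of algebraic spaces are representable -/
theorem repByAlgSp1_toSelf {P : PSp S} (hP : IsAlgSpaceP P) : RepByAlgSp1 (FibCat.toSelf (Stk.ofPsh P)) := by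
  let t : P ⟶ (pyon S).obj (base S) :=
    { app := fun T => TypeCat.ofHom fun _ => ⟨Over.homMk T.unop.hom (Category.comp_id _)⟩
      naturality := fun {T T'} g => by
        ext x
        exact ULift.ext _ _ (Over.OverMorphism.ext (Over.w g.unop).symm) }
  exact (repByAlgSp1_iff_of_equiv (FibCat.toSelf (Stk.ofPsh P)) (Stk.ofPshMap t) (BasedFunctor.id _)
    (FibCat.toSelf (Stk.ofPsh ((pyon S).obj (base S)))) isEquivOver_id isEquivOver_toSelf_base
    (eqToIso (comp_toSelf (Stk.ofPshMap t)))).2 (repByAlgSp1_of_space hP (isAlgSpaceP_yon _) t)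

theorem isFibGrpd_ofSpace (P : PSp S) : FibCat.IsFibGrpd (Stk.ofPsh P).p := Stk.isFibGrpd_ofPsh P

/-- maps out of algebraic spaces into categories with representable diagonal are representable -/
theorem repByAlgSp1_point (h𝒳 : FibCat.IsFibGrpd 𝒳.p) (d : RepByAlgSp1 (FibCat.diag (FibCat.toSelf 𝒳)))
    {P : PSp S} (hP : IsAlgSpaceP P) (x : Stk.ofPsh P ⥤ᵇ 𝒳) : RepByAlgSp1 x :=
  repByAlgSp1_cancel (isFibGrpd_ofSpace P) h𝒳 isFibGrpd_selfOver x (FibCat.toSelf 𝒳)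
    (by rw [comp_toSelf]; exact repByAlgSp1_toSelf hP) d

theorem repWith_overCat_iff (Q : MorphismProperty (Sp S)) (U : Over S) (x : FibCat.overCat U ⥤ᵇ 𝒳) :
    RepByAlgSpWith Q x ↔ RepByAlgSpWith Q (BasedFunctor.comp (toOverCat U) x) :=
  repWith_iff_of_equiv Q x (BasedFunctor.comp (toOverCat U) x) (toOverCat U) (BasedFunctor.id 𝒳)
    (isEquivOver_toOverCat U) isEquivOver_id (Iso.refl _)

theorem repByAlgSp1_overCat_iff (U : Over S) (x : FibCat.overCat U ⥤ᵇ 𝒳) :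
    RepByAlgSp1 x ↔ RepByAlgSp1 (BasedFunctor.comp (toOverCat U) x) :=
  repByAlgSpWith_top_iff.symm.trans ((repWith_overCat_iff ⊤ U x).trans repByAlgSpWith_top_iff)

/-- functors between algebraic spaces are representable -/
theorem repByAlgSp1_of_repByAlgSp (h𝒳 : RepByAlgSp 𝒳) (h𝒴 : RepByAlgSp 𝒴) (f : 𝒳 ⥤ᵇ 𝒴) :
    RepByAlgSp1 f := by
  obtain ⟨A, eA, hA⟩ := h𝒳
  obtain ⟨B, eB, hB⟩ := h𝒴
  obtain ⟨k, hk, -, ⟨j⟩⟩ := isEquivOver_symm hB
  let Φ := BasedFunctor.comp (BasedFunctor.comp eA f) k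
  exact (repByAlgSp1_iff_of_equiv f (Stk.ofPshMap (mapOf Φ)) eA eB hA hB
    ((post _ eB).mapIso (mapOfIso Φ) ≪≫ (Stk.restr (BasedFunctor.comp eA f) _).mapIso j)).2
    (repByAlgSp1_of_space ((isAlgSpaceP_obj_iff _).2 A.property) ((isAlgSpaceP_obj_iff _).2 B.property) _)

/-- the diagonal is representable if all maps from schemes are -/
theorem repByAlgSp1_diag_of_points (h𝒳 : FibCat.IsFibGrpd 𝒳.p)
    (h : ∀ (U : Over S) (x : Stk.ofPsh ((pyon S).obj U) ⥤ᵇ 𝒳), RepByAlgSp1 x) :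
    RepByAlgSp1 (FibCat.diag (FibCat.toSelf 𝒳)) := by
  rw [← repByAlgSpWith_top_iff, repWith_iff]
  intro U H
  let t := FibCat.toSelf 𝒳
  let 𝒰 := Stk.ofPsh ((pyon S).obj U)
  let a : 𝒰 ⥤ᵇ 𝒳 := BasedFunctor.comp H (FibCat.fpFst t t)
  let b : 𝒰 ⥤ᵇ 𝒳 := BasedFunctor.comp H (FibCat.fpSnd t t)
  let ε : BasedFunctor.comp (FibCat.fpFst a b) (BasedFunctor.comp a t) ≅
      BasedFunctor.comp (FibCat.fpSnd a b) (BasedFunctor.comp b t) := (post _ t).mapIso (FibCat.fpIso a b)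
  have hU : RepByAlgSp 𝒰 := repByAlgSp_of_model isEquivOver_id (isAlgSpaceP_yon U)
  have hUU : RepByAlgSp (FibCat.fp (BasedFunctor.comp a t) (BasedFunctor.comp b t)) :=
    repByAlgSp_fp (isFibGrpd_ofSpace _) isFibGrpd_selfOver
      (by rw [comp_toSelf]; exact repByAlgSp1_toSelf (isAlgSpaceP_yon U)) _ hU
  have hab : RepByAlgSp (FibCat.fp a b) := repByAlgSp_fp (isFibGrpd_ofSpace _) h𝒳 (h U b) a hU
  let C := FibCat.fpLift (FibCat.fpFst a b) (FibCat.fpSnd a b) ε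
  have hC : RepByAlgSp1 C := repByAlgSp1_of_repByAlgSp hab hUU C
  have hB : RepByAlgSp1 (FibCat.fpFst (cmpMap a b t) (FibCat.diag t)) :=
    (repByAlgSp1_iff_of_equiv (FibCat.fpFst (cmpMap a b t) (FibCat.diag t)) C
      (cmpDiag ε (fun _ => rfl)) (BasedFunctor.id _) (isEquivOver_cmpDiag ε (fun _ => rfl)) isEquivOver_id
      (Iso.refl _)).2 hC
  let σ : 𝒰 ⥤ᵇ FibCat.fp (BasedFunctor.comp a t) (BasedFunctor.comp b t) :=
    FibCat.fpLift (BasedFunctor.id _) (BasedFunctor.id _) ((Stk.restr H _).mapIso (FibCat.fpIso t t))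
  let κ : BasedFunctor.comp σ (cmpMap a b t) ≅ H := fpExt (Iso.refl _) (Iso.refl _) fun w => by
    show 𝒳.p.map (𝟙 (a.obj w)) ≫ (H.obj w).obj.iso.hom =
      (𝟙 (𝒳.p.obj (a.obj w)) ≫ 𝟙 (𝒳.p.obj (a.obj w)) ≫ (H.obj w).obj.iso.hom ≫ 𝟙 (𝒳.p.obj (b.obj w))) ≫
        𝒳.p.map (𝟙 (b.obj w))
    simp
    exact (Category.comp_id _).symm
  haveI : (BasedFunctor.id (FibCat.fp t t)).toFunctor.Full := inferInstanceAs (𝟭 (FibCat.fp t t).obj).Full
  haveI : (BasedFunctor.id (FibCat.fp t t)).toFunctor.Faithful :=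
    inferInstanceAs (𝟭 (FibCat.fp t t).obj).Faithful
  obtain ⟨P, e, he⟩ := repByAlgSp_fp_yon hB U σ
  exact ⟨P.obj.obj, BasedFunctor.comp (BasedFunctor.comp e (pasteFun σ (cmpMap a b t) (FibCat.diag t)))
    (fpMap (BasedFunctor.comp σ (cmpMap a b t)) (FibCat.diag t) (BasedFunctor.id _) (BasedFunctor.id 𝒳)
      (BasedFunctor.id (FibCat.fp t t)) (F := H) κ (Iso.refl _)),
    isEquivOver_comp (isEquivOver_comp he (isEquivOver_pasteFun _ _ _)) (isEquivOver_fp_change _ κ),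
    (good_top_iff _).2 ((isAlgSpaceP_obj_iff _).2 P.property)⟩

/-! ### stacks and sheaves -/

theorem isStack_ofSheaf {P : PSp S} (h : Presheaf.IsSheaf (Jf S) P) : Stk.IsStack (Jf S) (Stk.ofPsh P) :=
  (isStack_ofPsh_iff _).2 ((isSheaf_iff_isSheaf_of_type _ _).1 h)

theorem isSheaf_of_model {P : PSp S} {e : Stk.ofPsh P ⥤ᵇ 𝒵} (he : FibCat.IsEquivOver e)
    (h : Stk.IsStack (Jf S) 𝒵) : Presheaf.IsSheaf (Jf S) P := by
  obtain ⟨k, hk, -, -⟩ := isEquivOver_symm he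
  exact (isSheaf_iff_isSheaf_of_type _ _).2 ((isStack_ofPsh_iff _).1 (isStack_of_equiv hk _ h))

theorem isStack_overCat (U : Over S) : Stk.IsStack (Jf S) (FibCat.overCat U) :=
  isStack_of_equiv (isEquivOver_toOverCat U) _ (isStack_ofSheaf ((yon S).obj U).property)

theorem isStack_of_repByAlgSp (h : RepByAlgSp 𝒵) : Stk.IsStack (Jf S) 𝒵 := by
  obtain ⟨F, e, he⟩ := h
  exact isStack_of_equiv he _ (isStack_ofSheaf F.obj.property)

theorem restrictedTopology_forget (J : GrothendieckTopology (Over S)) (U : Over S) :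
    (Over.forget U).restrictedTopology J = J.over U := by
  refine GrothendieckTopology.ext (funext fun z => Set.ext fun R => ?_)
  show R ∈ (Over.forget U).restrictedTopology J z ↔ R ∈ J.over U z
  rw [GrothendieckTopology.mem_over_iff, S12801.result (Over.forget U) (isFibGrpd_overCat U) J]
  exact Iff.rfl

/-- categories representable over a stack are stacks -/
theorem isStack_of_rep (h𝒳 : FibCat.IsFibGrpd 𝒳.p) (h𝒴 : Stk.IsStack (Jf S) 𝒴) {j : 𝒳 ⥤ᵇ 𝒴}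
    (hj : RepByAlgSp1 j) : Stk.IsStack (Jf S) 𝒳 := by
  haveI := faithful_of_rep h𝒳 h𝒴.1 hj
  refine StkComp.isStack_of_faithful j (Jf S) h𝒳 h𝒴 fun U y => ?_
  have h := StkComp.isStack_of_fibred (Jf S) (isStack_of_repByAlgSp (hj U y)) (isStack_overCat U)
    (FibCat.fpFst y j) (isFibGrpd_fpFst_slice h𝒳 h𝒴.1 j U y)
  erw [restrictedTopology_forget] at h
  exact h

/-! ### atlases -/

abbrev SmSurj (S : Scheme.{u}) : MorphismProperty (Sp S) := AlgSp.LocP @Smooth ⊓ AlgSp.IsSurjectiveMor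

theorem bcStable_smooth : BCStable (LocP (S := S) @Smooth) :=
  fun _ _ _ _ hX₁ hY₁ hX₂ hY₂ _ _ _ _ sq h => locP_baseChange etST_smooth hX₁ hY₁ hX₂ hY₂ sq h

theorem bcStable_surjective : BCStable (AlgSp.IsSurjectiveMor (S := S)) :=
  fun _ _ _ _ _ _ _ _ _ _ _ _ sq h => isSurjectiveMor_baseChange sq h

theorem cls_smooth : Cls (LocP (S := S) @Smooth) := cls_locP etST_smooth (isLocalOnBase_locP etST_smooth)

theorem cls_surjective : Cls (AlgSp.IsSurjectiveMor (S := S)) := by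
  refine ⟨bcStable_surjective, fun X Y Z _ _ _ a b ha hb z => ?_, ?_⟩
  · obtain ⟨y, rfl⟩ := hb z
    obtain ⟨x, rfl⟩ := ha y
    exact ⟨x, Points.map_comp a b x⟩
  · intro ι Y Yi g hY hYi hg X f hX Xi p q hXi sq
    refine ⟨fun hf i => isSurjectiveMor_baseChange (sq i) hf, fun h y => ?_⟩
    obtain ⟨i, yi, rfl⟩ := hg.2 y
    obtain ⟨xi, rfl⟩ := h i yi
    exact ⟨Points.map (q i) xi, by rw [← Points.map_comp, (sq i).w, Points.map_comp]⟩

/-- an atlas in presheaf form -/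
theorem exists_atlas {P : MorphismProperty (Sp S)} (h : HasAtlas P 𝒳) :
    ∃ (U : Over S) (x : Stk.ofPsh ((pyon S).obj U) ⥤ᵇ 𝒳),
      RepByAlgSpWith P x ∧ RepByAlgSpWith AlgSp.IsSurjectiveMor x := by
  obtain ⟨U, x, h₁, h₂⟩ := h
  exact ⟨U, _, (repWith_overCat_iff _ U x).1 h₁, (repWith_overCat_iff _ U x).1 h₂⟩

theorem hasAtlas_of_point {P : MorphismProperty (Sp S)} {U : Over S}
    {x : Stk.ofPsh ((pyon S).obj U) ⥤ᵇ 𝒳} (h₁ : RepByAlgSpWith P x)
    (h₂ : RepByAlgSpWith AlgSp.IsSurjectiveMor x) : HasAtlas P 𝒳 := by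
  let x₀ := BasedFunctor.comp (ofOverCat U) x
  have i : BasedFunctor.comp (toOverCat U) x₀ ≅ x := (post _ x).mapIso
    (isoOfSec (BasedFunctor.comp (toOverCat U) (ofOverCat U))
      (BasedFunctor.id (Stk.ofPsh ((pyon S).obj U))) (fun a => rfl))
  exact ⟨U, x₀, (repWith_overCat_iff _ U x₀).2 (repWith_congr _ i h₁),
    (repWith_overCat_iff _ U x₀).2 (repWith_congr _ i h₂)⟩

/-- charts of algebraic spaces as atlases -/
theorem exists_chart_atlas {P : PSp S} (hP : IsAlgSpaceP P) :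
    ∃ (W : Over S) (π : (pyon S).obj W ⟶ P), RepByAlgSpWith AlgSp.IsEtaleMor (Stk.ofPshMap π) ∧
      RepByAlgSpWith (LocP @Smooth) (Stk.ofPshMap π) ∧ RepByAlgSpWith AlgSp.IsSurjectiveMor (Stk.ofPshMap π) := by
  obtain ⟨hs, hA⟩ := hP
  obtain ⟨W, π, he, hsu⟩ := hA.2
  have hrep : RepByAlgSp1 (Stk.ofPshMap π.hom) := repByAlgSp1_of_space (isAlgSpaceP_yon W) ⟨hs, hA⟩ π.hom
  have key : ∀ (Q : MorphismProperty (Sp S)), (∀ ⦃F : Sp S⦄ ⦃T : Over S⦄ (a : F ⟶ (yon S).obj T),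
      RepWith @Etale a → RepWith @Surjective a → Q a) → RepByAlgSpWith Q (Stk.ofPshMap π.hom) := by
    intro Q hQ
    have h : RepByAlgSpWith (RepWith (S := S) (@Etale ⊓ @Surjective)) (Stk.ofPshMap π.hom) :=
      (repWith_ofPshMap_iff _ π.hom).2 (repBySpWith_repWith (IsAlgSpace.yon_obj W) hA π
        (repWith_inf_iff.2 ⟨he, hsu⟩))
    exact repWith_mono h fun F T a _ ha => hQ a (repWith_inf_iff.1 ha).1 (repWith_inf_iff.1 ha).2
  exact ⟨W, π.hom, key _ fun _ _ a he _ => isEtaleMor_of_repWith' he,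
    key _ fun _ T a he _ => (locP_iff_repWith etST_smooth (IsAlgSpace.yon_obj T) he.1).2
      (AlgSpLib.repWith_mono (fun _ _ r hr => by
        haveI : Etale r := hr
        infer_instance) he),
    key _ fun _ _ a _ hs => isSurjectiveMor_of_repWith hs⟩

/-- a stack covered by an algebraic space has an atlas from a scheme -/
theorem hasAtlas_of_space (h𝒳 : FibCat.IsFibGrpd 𝒳.p) {𝒰 : AlgSt.Cat S} (h𝒰 : FibCat.IsFibGrpd 𝒰.p)
    (hU : RepByAlgSp 𝒰) {x : 𝒰 ⥤ᵇ 𝒳} (h₁ : RepByAlgSpWith (LocP @Smooth) x)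
    (h₂ : RepByAlgSpWith AlgSp.IsSurjectiveMor x) : HasAtlas (LocP @Smooth) 𝒳 := by
  obtain ⟨F, e, he⟩ := hU
  have tr : ∀ Q : MorphismProperty (Sp S), RepByAlgSpWith Q x → RepByAlgSpWith Q (BasedFunctor.comp e x) :=
    fun Q h => (repWith_iff_of_equiv Q x (BasedFunctor.comp e x) e (BasedFunctor.id 𝒳) he isEquivOver_id
      (Iso.refl _)).1 h
  obtain ⟨W, π, -, hs, hsu⟩ := exists_chart_atlas ((isAlgSpaceP_obj_iff _).2 F.property)
  exact hasAtlas_of_point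
    (repWith_comp (isFibGrpd_ofSpace _) (isFibGrpd_ofSpace _) cls_smooth.bc cls_smooth.comp cls_smooth.loc
      hs (tr _ h₁))
    (repWith_comp (isFibGrpd_ofSpace _) (isFibGrpd_ofSpace _) cls_surjective.bc cls_surjective.comp
      cls_surjective.loc hsu (tr _ h₂))

/-- a stack in setoids with a smooth surjective atlas is an algebraic space -/
theorem repByAlgSp_of_setoid (hs : Stk.IsStack (Jf S) 𝒵) (hset : FibCat.IsFibSetoid 𝒵.p)
    {𝒰 : AlgSt.Cat S} (hU : RepByAlgSp 𝒰) {x : 𝒰 ⥤ᵇ 𝒵} (h₁ : RepByAlgSpWith (LocP @Smooth) x)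
    (h₂ : RepByAlgSpWith AlgSp.IsSurjectiveMor x) : RepByAlgSp 𝒵 := by
  obtain ⟨P, e, he⟩ := exists_psh hset
  obtain ⟨F, eF, heF⟩ := hU
  obtain ⟨k, hk, -, ⟨j⟩⟩ := isEquivOver_symm he
  let Φ := BasedFunctor.comp (BasedFunctor.comp eF x) k
  let i : BasedFunctor.comp (Stk.ofPshMap (mapOf Φ)) e ≅ BasedFunctor.comp eF x :=
    (post _ e).mapIso (mapOfIso Φ) ≪≫ (Stk.restr (BasedFunctor.comp eF x) _).mapIso j
  haveI := respectsIso_onSp (bcStable_smooth (S := S))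
  haveI := respectsIso_onSp (bcStable_surjective (S := S))
  have tr : ∀ (Q : MorphismProperty (Sp S)) [Q.RespectsIso], RepByAlgSpWith Q x →
      RepBySpWith Q (mapOf Φ) := fun Q _ h => (repWith_ofPshMap_iff Q _).1
    ((repWith_iff_of_equiv Q x (Stk.ofPshMap (mapOf Φ)) eF e heF he i).1 h)
  have t₁ := tr _ (repWith_onSp_iff.2 h₁)
  have t₂ := tr _ (repWith_onSp_iff.2 h₂)
  have hP : IsAlgSpaceP P := Bootstrap.isAlgSpaceP_of_smooth_cover
    (Bootstrap.isSheaf_jet ⟨P, isSheaf_of_model he hs⟩) F.property (mapOf Φ) fun U ξ P' fst snd sq => by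
      obtain ⟨a, b, c⟩ := t₁ ξ fst snd sq
      obtain ⟨a', b', c'⟩ := t₂ ξ fst snd sq
      exact ⟨a, b, c' b (IsAlgSpace.yon_obj _), c b (IsAlgSpace.yon_obj _)⟩
  exact repByAlgSp_of_model he hP

theorem isFibSetoid_fp {A : PSp S} (h𝒳 : FibCat.IsFibGrpd 𝒳.p) (h𝒴 : FibCat.IsFibGrpd 𝒴.p) {f : 𝒳 ⥤ᵇ 𝒴}
    [f.toFunctor.Faithful] (y : Stk.ofPsh A ⥤ᵇ 𝒴) : FibCat.IsFibSetoid (FibCat.fp y f).p := by
  refine isFibSetoid_iff.2 ⟨isFibGrpd_fp (Stk.isFibGrpd_ofPsh A) h𝒳 h𝒴 y f, ⟨fun {o o'} m m' h => ?_⟩⟩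
  have h₁ : m.hom.fst = m'.hom.fst := Stk.EltObj.hom_ext h
  refine ObjectProperty.hom_ext _ (CategoricalPullback.hom_ext h₁ (f.toFunctor.map_injective ?_))
  rw [← cancel_epi o.obj.iso.hom, ← m.hom.w, ← m'.hom.w, h₁]

/-- faithful functors of algebraic stacks are representable by algebraic spaces -/
theorem repByAlgSp1_of_faithful (h𝒳 : IsAlgStack Scheme.fppfPrecoverage 𝒳)
    (h𝒴 : IsAlgStack Scheme.fppfPrecoverage 𝒴) (f : 𝒳 ⥤ᵇ 𝒴) [f.toFunctor.Faithful] : RepByAlgSp1 f := by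
  rw [← repByAlgSpWith_top_iff, repWith_iff]
  intro U y
  obtain ⟨V, x, h₁, h₂⟩ := exists_atlas h𝒳.atlas
  have hxf : RepByAlgSp1 (BasedFunctor.comp x f) :=
    repByAlgSp1_point h𝒴.isStack.1 h𝒴.diag (isAlgSpaceP_yon V) _
  have hV : RepByAlgSp (FibCat.fp (FibCat.fpSnd y f) x) :=
    (repByAlgSp_iff_of_equiv (isEquivOver_assocFun y f x)).2 (repByAlgSp_fp_yon hxf U y)
  obtain ⟨F, e, he⟩ := repByAlgSp_of_setoid
    (isStack_fp (isStack_ofSheaf ((yon S).obj U).property) h𝒳.isStack (isPrestack_of_isStack h𝒴.isStack) y f)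
    (isFibSetoid_fp h𝒳.isStack.1 h𝒴.isStack.1 y) hV
    (repWith_fpFst _ x (FibCat.fpSnd y f) h₁) (repWith_fpFst _ x (FibCat.fpSnd y f) h₂)
  exact ⟨_, e, he, (good_top_iff _).2 ((isAlgSpaceP_obj_iff _).2 F.property)⟩

/-- fully faithful functors of algebraic stacks are monomorphisms -/
theorem isMono_of_fullyFaithful (h𝒳 : IsAlgStack Scheme.fppfPrecoverage 𝒳)
    (h𝒴 : IsAlgStack Scheme.fppfPrecoverage 𝒴) (f : 𝒳 ⥤ᵇ 𝒴) [f.toFunctor.Full] [f.toFunctor.Faithful] :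
    IsMono f := by
  refine (repWith_iff _ f).2 fun U y => ?_
  obtain ⟨F, e, he⟩ := repByAlgSp_fp_yon (repByAlgSp1_of_faithful h𝒳 h𝒴 f) U y
  haveI := (isEquivOver_data he).1
  haveI hf₁ : (FibCat.fpFst y f).toFunctor.Full := ⟨fun {o o'} n => by
    let k : f.obj o.obj.snd ⟶ f.obj o'.obj.snd := o.obj.iso.inv ≫ y.map n ≫ o'.obj.iso.hom
    exact ⟨ObjectProperty.homMk ⟨n, f.toFunctor.preimage k, by
      rw [Functor.map_preimage]; simp [k]⟩, rfl⟩⟩
  haveI hc : (BasedFunctor.comp e (FibCat.fpFst y f)).toFunctor.Full :=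
    inferInstanceAs (e.toFunctor ⋙ (FibCat.fpFst y f).toFunctor).Full
  haveI hπ : (Stk.ofPshMap (prjMap e)).toFunctor.Full :=
    @Functor.Full.of_iso _ _ _ _ (BasedFunctor.comp e (FibCat.fpFst y f)).toFunctor _ hc
      ((BasedNatTrans.forgetful _ _).mapIso (mapOfIso (BasedFunctor.comp e (FibCat.fpFst y f))).symm)
  haveI hm : Mono (prjMap e) := by
    have : ∀ T, Mono ((prjMap e).app T) := fun T => by
      rw [CategoryTheory.mono_iff_injective]
      intro s s' hss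
      let α : (⟨T.unop, s⟩ : Stk.EltObj F.obj.obj) = ⟨T.unop, s⟩ := rfl
      obtain ⟨n, hn⟩ := (Stk.ofPshMap (prjMap e)).toFunctor.map_surjective
        (X := (⟨T.unop, s⟩ : Stk.EltObj F.obj.obj)) (Y := ⟨T.unop, s'⟩)
        ⟨𝟙 T.unop, by erw [op_id, CategoryTheory.Functor.map_id]; exact hss.symm⟩
      have hh : n.hom = 𝟙 T.unop := congrArg Stk.EltObj.Hom.hom hn
      have := n.map_sec
      rw [hh, op_id, CategoryTheory.Functor.map_id] at this
      exact this.symm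
    exact NatTrans.mono_of_mono_app _
  refine ⟨_, e, he, F.obj.property, F.property, ?_⟩
  exact (sheafToPresheaf (J S) (Type (u + 1))).mono_of_mono_map
    (f := (ObjectProperty.homMk (prjMap e) : F.obj ⟶ (yon S).obj U)) hm

/-! ### algebraic stacks -/

theorem repByAlgSp1_diag_fp (h𝒳 : FibCat.IsFibGrpd 𝒳.p) (h𝒴 : FibCat.IsFibGrpd 𝒴.p)
    (h𝒵 : FibCat.IsFibGrpd 𝒵.p) (d𝒳 : RepByAlgSp1 (FibCat.diag (FibCat.toSelf 𝒳)))
    (d𝒴 : RepByAlgSp1 (FibCat.diag (FibCat.toSelf 𝒴)))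
    (d𝒵 : RepByAlgSp1 (FibCat.diag (FibCat.toSelf 𝒵))) (f : 𝒳 ⥤ᵇ 𝒵) (g : 𝒴 ⥤ᵇ 𝒵) :
    RepByAlgSp1 (FibCat.diag (FibCat.toSelf (FibCat.fp f g))) := by
  rw [← comp_toSelf (FibCat.fpFst f g)]
  exact repByAlgSp1_of_with (repWith_diag_comp (isFibGrpd_fp h𝒳 h𝒴 h𝒵 f g) h𝒳 cls_top _ _
    (repWith_diag_fpFst g f (repByAlgSpWith_top_iff.2 (repByAlgSp1_diag h𝒴 h𝒵 d𝒴 d𝒵 g)))
    (repByAlgSpWith_top_iff.2 d𝒳))

theorem isAlgStack_fp (h𝒵 : Stk.IsStack (Jf S) 𝒵) (d𝒵 : RepByAlgSp1 (FibCat.diag (FibCat.toSelf 𝒵)))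
    (h𝒳 : IsAlgStack Scheme.fppfPrecoverage 𝒳) (h𝒴 : IsAlgStack Scheme.fppfPrecoverage 𝒴)
    (f : 𝒳 ⥤ᵇ 𝒵) (g : 𝒴 ⥤ᵇ 𝒵) : IsAlgStack Scheme.fppfPrecoverage (FibCat.fp f g) := by
  refine ⟨isStack_fp h𝒳.isStack h𝒴.isStack (isPrestack_of_isStack h𝒵) f g,
    repByAlgSp1_diag_fp h𝒳.isStack.1 h𝒴.isStack.1 h𝒵.1 h𝒳.diag h𝒴.diag d𝒵 f g, ?_⟩
  obtain ⟨U, x, x₁, x₂⟩ := exists_atlas h𝒳.atlas
  obtain ⟨V, y, y₁, y₂⟩ := exists_atlas h𝒴.atlas
  have hsp : RepByAlgSp (FibCat.fp (BasedFunctor.comp x f) (BasedFunctor.comp y g)) :=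
    repByAlgSp_fp (isFibGrpd_ofSpace _) h𝒵.1 (repByAlgSp1_point h𝒵.1 d𝒵 (isAlgSpaceP_yon V) _) _
      (repByAlgSp_of_model isEquivOver_id (isAlgSpaceP_yon U))
  have h₀ := isFibGrpd_fp (isFibGrpd_ofSpace ((pyon S).obj U)) (isFibGrpd_ofSpace ((pyon S).obj V)) h𝒵.1
    (BasedFunctor.comp x f) (BasedFunctor.comp y g)
  have h₁ := isFibGrpd_fp h𝒳.isStack.1 (isFibGrpd_ofSpace ((pyon S).obj V)) h𝒵.1 f (BasedFunctor.comp y g)
  have two : ∀ (Q : MorphismProperty (Sp S)), Cls Q → RepByAlgSpWith Q x → RepByAlgSpWith Q y →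
      RepByAlgSpWith Q (BasedFunctor.comp (prodFst f (BasedFunctor.comp y g) x) (prodSnd f g y)) := by
    intro Q hQ hx hy
    refine repWith_comp h₀ h₁ hQ.bc hQ.comp hQ.loc ?_ ?_
    · exact (repWith_iff_of_equiv Q (prodFst f (BasedFunctor.comp y g) x)
        (FibCat.fpFst (FibCat.fpSnd (BasedFunctor.comp y g) f) x)
        (BasedFunctor.comp (assocFun (BasedFunctor.comp y g) f x) (swapFun (BasedFunctor.comp y g) (BasedFunctor.comp x f)))
        (swapFun (BasedFunctor.comp y g) f)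
        (isEquivOver_comp (isEquivOver_assocFun _ f x) (isEquivOver_swapFun _ _)) (isEquivOver_swapFun _ _)
        (fpExt (FibCat.fpIso (FibCat.fpSnd (BasedFunctor.comp y g) f) x) (Iso.refl _) fun w => by
          let i : (BasedFunctor.comp y g).obj w.obj.fst.obj.fst ≅ f.obj w.obj.fst.obj.snd := w.obj.fst.obj.iso
          let k : w.obj.fst.obj.snd ≅ x.obj w.obj.snd := w.obj.iso
          show f.map k.hom ≫ (i ≪≫ f.toFunctor.mapIso k).inv = i.inv ≫ (BasedFunctor.comp y g).map (𝟙 _)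
          simp only [CategoryTheory.Functor.map_id]
          simp only [Iso.trans_inv, Functor.mapIso_inv]
          rw [← Category.assoc, ← Functor.map_comp, Iso.hom_inv_id, CategoryTheory.Functor.map_id]
          exact (Category.id_comp _).trans (Category.comp_id _).symm)).2
        (repWith_fpFst Q x (FibCat.fpSnd (BasedFunctor.comp y g) f) hx)
    · exact (repWith_iff_of_equiv Q (prodSnd f g y) (FibCat.fpFst (FibCat.fpSnd f g) y) (assocFun f g y)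
        (BasedFunctor.id _) (isEquivOver_assocFun f g y) isEquivOver_id
        (fpExt (Iso.refl _) (FibCat.fpIso (FibCat.fpSnd f g) y) fun w => by
          show f.map (𝟙 _) ≫ ((w.obj.fst.obj.iso.hom) ≫ g.map w.obj.iso.hom) =
            w.obj.fst.obj.iso.hom ≫ g.map w.obj.iso.hom
          simp only [CategoryTheory.Functor.map_id]
          exact Category.id_comp _)).2 (repWith_fpFst Q y (FibCat.fpSnd f g) hy)
  exact hasAtlas_of_space (isFibGrpd_fp h𝒳.isStack.1 h𝒴.isStack.1 h𝒵.1 f g) h₀ hsp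
    (two _ cls_smooth x₁ y₁) (two _ cls_surjective x₂ y₂)

theorem isAlgStack_selfOver : Stk.IsStack (Jf S) (FibCat.selfOver (Over S)) :=
  isStack_of_equiv isEquivOver_toSelf_base _ (isStack_ofSheaf ((yon S).obj (base S)).property)

theorem repByAlgSp1_diag_selfOver : RepByAlgSp1 (FibCat.diag (FibCat.toSelf (FibCat.selfOver (Over S)))) := by
  refine repByAlgSp1_of_with ((repWith_diag_iff_of_equiv (FibCat.toSelf (FibCat.selfOver (Over S)))
    (FibCat.toSelf (Stk.ofPsh ((pyon S).obj (base S)))) (FibCat.toSelf (Stk.ofPsh ((pyon S).obj (base S))))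
    (BasedFunctor.id _) isEquivOver_toSelf_base isEquivOver_id
    (eqToIso (comp_toSelf _).symm)).2
    (repByAlgSpWith_top_iff.2 (repByAlgSp1_diag_of_rep (repByAlgSp1_toSelf (isAlgSpaceP_yon (base S))))))

/-- algebraic stacks are invariant under equivalences -/
theorem isAlgStack_of_equiv {e : 𝒳 ⥤ᵇ 𝒴} (he : FibCat.IsEquivOver e)
    (h : IsAlgStack Scheme.fppfPrecoverage 𝒳) : IsAlgStack Scheme.fppfPrecoverage 𝒴 := by
  refine ⟨isStack_of_equiv he _ h.isStack, repByAlgSp1_of_with ((repWith_diag_iff_of_equiv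
    (FibCat.toSelf 𝒴) (FibCat.toSelf 𝒳) e (BasedFunctor.id _) he isEquivOver_id
    (eqToIso (comp_toSelf e).symm)).2 (repByAlgSpWith_top_iff.2 h.diag)), ?_⟩
  obtain ⟨U, x, h₁, h₂⟩ := h.atlas
  exact ⟨U, BasedFunctor.comp x e,
    (repWith_iff_of_equiv _ (BasedFunctor.comp x e) x (BasedFunctor.id _) e isEquivOver_id he (Iso.refl _)).2 h₁,
    (repWith_iff_of_equiv _ (BasedFunctor.comp x e) x (BasedFunctor.id _) e isEquivOver_id he (Iso.refl _)).2 h₂⟩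

theorem hasAtlas_of_equiv {P : MorphismProperty (Sp S)} {e : 𝒳 ⥤ᵇ 𝒴} (he : FibCat.IsEquivOver e)
    (h : HasAtlas P 𝒳) : HasAtlas P 𝒴 := by
  obtain ⟨U, x, h₁, h₂⟩ := h
  exact ⟨U, BasedFunctor.comp x e,
    (repWith_iff_of_equiv _ (BasedFunctor.comp x e) x (BasedFunctor.id _) e isEquivOver_id he (Iso.refl _)).2 h₁,
    (repWith_iff_of_equiv _ (BasedFunctor.comp x e) x (BasedFunctor.id _) e isEquivOver_id he (Iso.refl _)).2 h₂⟩

theorem isDM_of_equiv {e : 𝒳 ⥤ᵇ 𝒴} (he : FibCat.IsEquivOver e) (h : AlgSt.IsDM Scheme.fppfPrecoverage 𝒳) :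
    AlgSt.IsDM Scheme.fppfPrecoverage 𝒴 :=
  ⟨isAlgStack_of_equiv he h.1, hasAtlas_of_equiv he h.2⟩

theorem isDM_of_space {P : PSp S} (hP : IsAlgSpaceP P) :
    AlgSt.IsDM Scheme.fppfPrecoverage (Stk.ofPsh P) := by
  obtain ⟨W, π, he, hs, hsu⟩ := exists_chart_atlas hP
  exact ⟨⟨isStack_ofSheaf hP.1, repByAlgSp1_diag_of_rep (repByAlgSp1_toSelf hP), hasAtlas_of_point hs hsu⟩,
    hasAtlas_of_point he hsu⟩

/-- categories representable over algebraic stacks are algebraic stacks -/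
theorem isAlgStack_of_rep (h𝒳 : FibCat.IsFibGrpd 𝒳.p) (h𝒴 : IsAlgStack Scheme.fppfPrecoverage 𝒴)
    {j : 𝒳 ⥤ᵇ 𝒴} (hj : RepByAlgSp1 j) : IsAlgStack Scheme.fppfPrecoverage 𝒳 := by
  refine ⟨isStack_of_rep h𝒳 h𝒴.isStack hj, ?_, ?_⟩
  · rw [← comp_toSelf j]
    exact repByAlgSp1_of_with (repWith_diag_comp h𝒳 h𝒴.isStack.1 cls_top _ _
      (repByAlgSpWith_top_iff.2 (repByAlgSp1_diag_of_rep hj)) (repByAlgSpWith_top_iff.2 h𝒴.diag))
  · obtain ⟨U, x, h₁, h₂⟩ := exists_atlas h𝒴.atlas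
    exact hasAtlas_of_space h𝒳 (isFibGrpd_fp (isFibGrpd_ofSpace _) h𝒳 h𝒴.isStack.1 x j)
      (repByAlgSp_fp_yon hj U x) (repWith_fpSnd _ x j h₁) (repWith_fpSnd _ x j h₂)

end Groth.Agent.AlgStLib

end
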