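import Groth.Agent.AlgStLib.SpQuotRep
import Groth.Agent.AlgStLib.Stacks

/-!
# Properties of sheaf torsors which are local on the base
-/

set_option autoImplicit false
set_option backward.isDefEq.respectTransparency false
set_option backward.isDefEq.respectTransparency.types false
universe u

noncomputable section

namespace Groth.Agent.AlgStLib.SpQuot

open CategoryTheory CategoryTheory.Limits MonoidalCategory CartesianMonoidalCategory MonObj GrpObj AlgebraicGeometry
open _root_.AlgSp _root_.AlgSt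

variable {S : Scheme.{u}} {B : Sp S} {G : Over B} [GrpObj G] {X : Over B} {aX : GAction G X}
  {Q : MorphismProperty (Sp S)}

theorem prop_π (hb : BCStable Q) (hl : IsLocalOnBase (IsFppfCover (S := S)) Q) (hB : IsAlgSpace B)
    (hG : IsAlgSpace G.left) (h : Q G.hom) (A : SpQuotObj Scheme.fppfPrecoverage G aX) : Q A.π.left := by
  obtain ⟨R, hR, hs⟩ := A.loc
  obtain ⟨I, Z, f, rfl⟩ := R.exists_eq_ofArrows
  obtain ⟨hsurj, hprop⟩ := (Scheme.ofArrows_mem_precoverage_iff _).1 hR
  choose i hi using hsurj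
  choose s hs using fun x => hs (f (i x)) ⟨i x⟩
  let m : ∀ x, Over.mk (f (i x) ≫ A.base.hom) ⟶ A.base := fun x => Over.homMk (f (i x)) rfl
  have hP : ∀ x, IsAlgSpace (pullObj A (m x)).P.left := fun x => isAlgSpace_pullObj_P hB hG A (m x) (s x) (hs x)
  refine (hl _ _ (IsAlgSpace.yon_obj A.base) (fun x => IsAlgSpace.yon_obj _)
    (isFppfCover_of_family (fun x => Z (i x)) (fun x => f (i x)) (fun x => (hprop (i x)).1)
      (fun x => (hprop (i x)).2) hi) A.π.left (isAlgSpace_P hB hG A) (fun x => (pullObj A (m x)).P.left)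
    (fun x => (pullObj A (m x)).π.left) (fun x => (pullHom A (m x)).top.left) hP
    (fun x => isPullback_left (pullHom A (m x)).cart)).2 fun x => ?_
  obtain ⟨e, he⟩ := exists_triv A (m x) (s x) (hs x)
  have sq : IsPullback (e.inv.left ≫ pullback.fst G.hom ((yon S).map (m x) ≫ A.b)) (pullObj A (m x)).π.left G.hom
      ((yon S).map (m x) ≫ A.b) := by
    refine (IsPullback.of_hasPullback G.hom ((yon S).map (m x) ≫ A.b)).of_iso ((Over.forget B).mapIso e)
      (Iso.refl _) (Iso.refl _) (Iso.refl _) ?_ ?_ (by simp) (by simp)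
    · show pullback.fst _ _ ≫ 𝟙 _ = e.hom.left ≫ e.inv.left ≫ pullback.fst _ _
      rw [← Category.assoc, ← Over.comp_left, Iso.hom_inv_id, Category.comp_id]
      exact (Category.id_comp _).symm
    · show pullback.snd _ _ ≫ 𝟙 _ = e.hom.left ≫ (pullObj A (m x)).π.left
      rw [← Over.comp_left, he]
      exact Category.comp_id _
  exact hb hG hB (hP x) (IsAlgSpace.yon_obj _) _ _ _ _ sq h

theorem repWith_spQuotMap_of_group (hb : BCStable Q) (hl : IsLocalOnBase (IsFppfCover (S := S)) Q)
    (hB : IsAlgSpace B) (hG : IsAlgSpace G.left) (h : Q G.hom) :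
    AlgSt.RepByAlgSpWith Q (AlgSt.spQuotMap Scheme.fppfPrecoverage G aX) :=
  repWith_spQuotMap hB hG Q fun A {U} e => by
    refine hb (isAlgSpace_P hB hG A) (IsAlgSpace.yon_obj _) (isAlgSpace_P hB hG A) (IsAlgSpace.yon_obj U)
      A.π.left ((yon S).map e.inv) _ (𝟙 _) (IsPullback.of_horiz_isIso ⟨?_⟩) (prop_π hb hl hB hG h A)
    simp [← Functor.map_comp]

theorem isSurjectiveMor_hom : AlgSp.IsSurjectiveMor G.hom := fun z => by
  refine ⟨Points.map η[G].left z, ?_⟩
  rw [← Points.map_comp]
  have : η[G].left ≫ G.hom = 𝟙 B := (Over.w η[G]).trans rfl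
  rw [this]
  exact Points.map_id (F := B) z

end Groth.Agent.AlgStLib.SpQuot

end
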