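import Groth.Agent.AlgStLib.SheafGlue
import Groth.Agent.AlgStLib.StackCrit
import Groth.Agent.AlgStLib.SpQuotFib

/-!
# Quotient categories with sheaf torsors are stacks
-/

set_option autoImplicit false
set_option backward.isDefEq.respectTransparency false
set_option backward.isDefEq.respectTransparency.types false
universe u

noncomputable section

namespace Groth.Agent.AlgStLib.SpQuot

open CategoryTheory CategoryTheory.Limits MonoidalCategory CartesianMonoidalCategory MonObj GrpObj AlgebraicGeometry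
open _root_.AlgSp _root_.AlgSt Groth.Agent.FibCatRep

variable {S : Scheme.{u}} {B : Sp S} {G : Over B} [GrpObj G] {X : Over B} {aX : GAction G X}
  {U : Over S} {R : Sieve U} (H : Stk.sieveCat R ⥤ᵇ SpQuotSt Scheme.fppfPrecoverage G aX)

/-- the member torsor -/
abbrev mem (w : SheafGlue.Idx R) : SpQuotObj Scheme.fppfPrecoverage G aX := H.obj w

/-- the identification of the base of a member -/
abbrev memEq (w : SheafGlue.Idx R) : (mem H w).base ⟶ w.obj.left := eqToHom (H.w_obj w)

/-- the structure map of a member -/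
abbrev memτ (w : SheafGlue.Idx R) : (mem H w).P.left ⟶ (yon S).obj w.obj.left :=
  (mem H w).π.left ≫ (yon S).map (memEq H w)

/-- a transition map -/
abbrev memMap {w' w : SheafGlue.Idx R} (m : w' ⟶ w) : mem H w' ⟶ mem H w := H.map m

lemma memMap_base {w' w : SheafGlue.Idx R} (m : w' ⟶ w) :
    (memMap H m).base ≫ memEq H w = memEq H w' ≫ m.hom.left := by
  have h : (memMap H m).base = memEq H w' ≫ m.hom.left ≫ eqToHom (H.w_obj w).symm := map_map H m
  rw [h]
  simp [memEq]

lemma memMap_sq {w' w : SheafGlue.Idx R} (m : w' ⟶ w) :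
    IsPullback (memMap H m).top.left (memτ H w') (memτ H w) ((yon S).map m.hom.left) :=
  (isPullback_left (memMap H m).cart).paste_vert (IsPullback.of_vert_isIso ⟨by
    show (yon S).map (memMap H m).base ≫ (yon S).map (memEq H w) = _
    rw [← Functor.map_comp, memMap_base, Functor.map_comp]⟩)

lemma memτ_whisker {w' w : SheafGlue.Idx R} (m : w' ⟶ w) {K : Over B} :
    IsPullback (K ◁ (memMap H m).top).left ((snd K _).left ≫ memτ H w') ((snd K _).left ≫ memτ H w)
      ((yon S).map m.hom.left) :=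
  (isPullback_left (isPullback_whiskerLeft' (memMap H m).top)).paste_vert (memMap_sq H m)

variable (hR : R ∈ AlgSp.J S U)

section desc

/-- a torsor with an identification of its base with `U`, receiving the members -/
abbrev coneτ (c : StackCrit.Cone H) : c.pt.P.left ⟶ (yon S).obj U :=
  c.pt.π.left ≫ (yon S).map (eqToHom c.hpt)

/-- the map of a cone -/
abbrev coneq (c : StackCrit.Cone H) (w : SheafGlue.Idx R) : mem H w ⟶ c.pt := c.q w

variable {H}

lemma coneq_base (c : StackCrit.Cone H) (w : SheafGlue.Idx R) :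
    (coneq H c w).base ≫ eqToHom c.hpt = memEq H w ≫ w.obj.hom := by
  have h : (coneq H c w).base = memEq H w ≫ w.obj.hom ≫ eqToHom c.hpt.symm := c.hq w
  rw [h]
  simp

lemma cone_sq (c : StackCrit.Cone H) (w : SheafGlue.Idx R) :
    IsPullback (coneq H c w).top.left (memτ H w) (coneτ H c) ((yon S).map w.obj.hom) :=
  (isPullback_left (coneq H c w).cart).paste_vert (IsPullback.of_vert_isIso ⟨by
    show (yon S).map (coneq H c w).base ≫ (yon S).map (eqToHom c.hpt) = _
    rw [← Functor.map_comp, coneq_base, Functor.map_comp]⟩)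

lemma cone_sqTensor (c : StackCrit.Cone H) (K : Over B) (w : SheafGlue.Idx R) :
    IsPullback (K ◁ (coneq H c w).top).left ((snd K _).left ≫ memτ H w) ((snd K _).left ≫ coneτ H c)
      ((yon S).map w.obj.hom) :=
  (isPullback_left (isPullback_whiskerLeft' (coneq H c w).top)).paste_vert (cone_sq c w)

lemma coneq_nat (c : StackCrit.Cone H) {w' w : SheafGlue.Idx R} (m : w' ⟶ w) :
    (memMap H m).top ≫ (coneq H c w).top = (coneq H c w').top :=
  congrArg SpQuotObj.Hom.top (c.nat m)

/-- the candidate maps determine each other -/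
lemma eq_memMap (c : StackCrit.Cone H) {w' w : SheafGlue.Idx R} (m : w' ⟶ w)
    (d : (mem H w').P.left ⟶ (mem H w).P.left) (h₁ : d ≫ (coneq H c w).top.left = (coneq H c w').top.left)
    (h₂ : d ≫ memτ H w = memτ H w' ≫ (yon S).map m.hom.left) : d = (memMap H m).top.left :=
  (cone_sq c w).hom_ext (h₁.trans (by rw [← Over.comp_left, coneq_nat])) (h₂.trans (memMap_sq H m).w.symm)

include hR

lemma cone_b (c c' : StackCrit.Cone H) :
    (yon S).map (eqToHom (c.hpt.trans c'.hpt.symm)) ≫ c'.pt.b = c.pt.b := by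
  have key : ∀ (d : StackCrit.Cone H) (w : SheafGlue.Idx R),
      (yon S).map w.obj.hom ≫ (yon S).map (eqToHom d.hpt.symm) ≫ d.pt.b =
        (yon S).map (eqToHom (H.w_obj w).symm) ≫ (mem H w).b := fun d w => by
    rw [← (coneq H d w).wb, ← Category.assoc, ← Functor.map_comp, ← Category.assoc, ← Functor.map_comp]
    congr 2
    rw [show (coneq H d w).base = memEq H w ≫ w.obj.hom ≫ eqToHom d.hpt.symm from d.hq w]
    simp
  have h := SheafGlue.yon_ext hR (a := (yon S).map (eqToHom c'.hpt.symm) ≫ c'.pt.b)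
    (b := (yon S).map (eqToHom c.hpt.symm) ≫ c.pt.b) fun w => (key c' w).trans (key c w).symm
  rw [← eqToHom_trans c.hpt c'.hpt.symm, Functor.map_comp, Category.assoc, h, ← Category.assoc,
    ← Functor.map_comp, eqToHom_trans, eqToHom_refl, CategoryTheory.Functor.map_id, Category.id_comp]

lemma map_coneτ (c c' : StackCrit.Cone H) {a : c.pt.P.left ⟶ c'.pt.P.left}
    (ha : ∀ w, (coneq H c w).top.left ≫ a = (coneq H c' w).top.left) : a ≫ coneτ H c' = coneτ H c :=
  (SheafGlue.existsUnique_desc hR (cone_sq c) (fun w => memτ H w ≫ (yon S).map w.obj.hom)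
    (fun w' w m d _ h₂ => ((Category.assoc _ _ _).symm.trans (congrArg (· ≫ (yon S).map w.obj.hom) h₂)).trans
      ((Category.assoc _ _ _).trans (congrArg (memτ H w' ≫ ·)
        (((yon S).map_comp m.hom.left w.obj.hom).symm.trans (congrArg (yon S).map (Over.w m.hom))))))).unique
    (fun w => ((Category.assoc _ _ _).symm.trans (congrArg (· ≫ coneτ H c') (ha w))).trans (cone_sq c' w).w)
    (fun w => (cone_sq c w).w)

/-- the universal map between two cones on sheaves over `B` -/
lemma existsUnique_top (c c' : StackCrit.Cone H) :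
    ∃! t : c.pt.P ⟶ c'.pt.P, ∀ w, (coneq H c w).top ≫ t = (coneq H c' w).top := by
  obtain ⟨a, ha, hu⟩ := SheafGlue.existsUnique_desc hR (cone_sq c) (fun w => (coneq H c' w).top.left)
    (fun w' w m d h₁ h₂ => by rw [eq_memMap c m d h₁ h₂, ← Over.comp_left, coneq_nat])
  have hτ : a ≫ coneτ H c' = coneτ H c := map_coneτ hR c c' ha
  have h := hτ =≫ (yon S).map (eqToHom c'.hpt.symm)
  simp only [coneτ, Category.assoc, ← Functor.map_comp, eqToHom_trans, eqToHom_refl,
    CategoryTheory.Functor.map_id, Category.comp_id] at h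
  have hB : a ≫ c'.pt.P.hom = c.pt.P.hom := by
    calc a ≫ c'.pt.P.hom = a ≫ c'.pt.π.left ≫ c'.pt.b := congrArg (a ≫ ·) (Over.w c'.pt.π).symm
      _ = (a ≫ c'.pt.π.left) ≫ c'.pt.b := (Category.assoc _ _ _).symm
      _ = (c.pt.π.left ≫ (yon S).map (eqToHom (c.hpt.trans c'.hpt.symm))) ≫ c'.pt.b := congrArg (· ≫ c'.pt.b) h
      _ = c.pt.π.left ≫ c.pt.b := (Category.assoc _ _ _).trans (congrArg (c.pt.π.left ≫ ·) (cone_b hR c c'))
      _ = c.pt.P.hom := Over.w c.pt.π
  exact ⟨Over.homMk a hB, fun w => Over.OverMorphism.ext (ha w),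
    fun t ht => Over.OverMorphism.ext (hu _ fun w => congrArg CommaMorphism.left (ht w))⟩

theorem existsUnique_hom (c c' : StackCrit.Cone H) :
    ∃! φ : c.pt ⟶ c'.pt, (SpQuotSt Scheme.fppfPrecoverage G aX).p.map φ = eqToHom (c.hpt.trans c'.hpt.symm) ∧
      ∀ w, c.q w ≫ φ = c'.q w := by
  obtain ⟨t, ht, htu⟩ := existsUnique_top hR c c'
  obtain ⟨t', ht', -⟩ := existsUnique_top hR c' c
  have hid : ∀ (d : StackCrit.Cone H) (s : d.pt.P ⟶ d.pt.P),
      (∀ w, (coneq H d w).top ≫ s = (coneq H d w).top) → s = 𝟙 _ := fun d s hs =>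
    (existsUnique_top hR d d).unique hs (fun w => Category.comp_id _)
  haveI : IsIso t := ⟨t', hid c _ fun w => by rw [← Category.assoc, ht, ht'],
    hid c' _ fun w => by rw [← Category.assoc, ht', ht]⟩
  have hτ : t ≫ c'.pt.π = c.pt.π ≫ bHom (eqToHom (c.hpt.trans c'.hpt.symm)) (cone_b hR c c') := by
    refine Over.OverMorphism.ext ?_
    show t.left ≫ c'.pt.π.left = c.pt.π.left ≫ (yon S).map (eqToHom (c.hpt.trans c'.hpt.symm))
    have h : t.left ≫ coneτ H c' = coneτ H c :=
      map_coneτ hR c c' fun w => congrArg CommaMorphism.left (ht w)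
    have h' := h =≫ (yon S).map (eqToHom c'.hpt.symm)
    simp only [coneτ, Category.assoc, ← Functor.map_comp, eqToHom_trans, eqToHom_refl,
      CategoryTheory.Functor.map_id, Category.comp_id] at h'
    exact h'
  have heqv : c.pt.act.act ≫ t = (G ◁ t) ≫ c'.pt.act.act := by
    refine Over.OverMorphism.ext ?_
    have e : ∀ w, (G ◁ (coneq H c w).top) ≫ c.pt.act.act ≫ t = (G ◁ (coneq H c w).top) ≫ (G ◁ t) ≫ c'.pt.act.act :=
      fun w => by
        rw [← reassoc_of% (coneq H c w).eqv, ht, (coneq H c' w).eqv, ← MonoidalCategory.whiskerLeft_comp_assoc, ht]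
    exact (SheafGlue.existsUnique_desc hR (cone_sqTensor c G)
      (fun w => ((G ◁ (coneq H c w).top) ≫ c.pt.act.act ≫ t).left)
      (fun w' w m d h₁ _ => by
        show d ≫ (G ◁ (coneq H c w).top).left ≫ _ = _
        rw [reassoc_of% h₁]; rfl)).unique (fun w => rfl)
      (fun w => (congrArg CommaMorphism.left (e w)).symm)
  have hφ : t ≫ c'.pt.φ = c.pt.φ := by
    refine Over.OverMorphism.ext ?_
    exact (SheafGlue.existsUnique_desc hR (cone_sq c) (fun w => (mem H w).φ.left)
      (fun w' w m d h₁ h₂ => by rw [eq_memMap c m d h₁ h₂, ← Over.comp_left, (memMap H m).wφ])).unique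
      (fun w => congrArg CommaMorphism.left (show (coneq H c w).top ≫ t ≫ c'.pt.φ = (mem H w).φ by
        rw [reassoc_of% (ht w), (coneq H c' w).wφ]))
      (fun w => congrArg CommaMorphism.left (coneq H c w).wφ)
  haveI : IsIso (bHom (eqToHom (c.hpt.trans c'.hpt.symm)) (cone_b hR c c')) := by
    haveI : IsIso ((Over.forget B).map (bHom (eqToHom (c.hpt.trans c'.hpt.symm)) (cone_b hR c c'))) := by
      show IsIso ((yon S).map (eqToHom (c.hpt.trans c'.hpt.symm)))
      infer_instance
    exact isIso_of_reflects_iso _ (Over.forget B)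
  refine ⟨⟨eqToHom (c.hpt.trans c'.hpt.symm), cone_b hR c c', t, heqv, IsPullback.of_horiz_isIso ⟨hτ⟩, hφ⟩,
    ⟨rfl, fun w => SpQuotObj.hom_ext ?_ (ht w)⟩, fun ψ hψ => SpQuotObj.hom_ext hψ.1 ?_⟩
  · show (coneq H c w).base ≫ eqToHom (c.hpt.trans c'.hpt.symm) = (coneq H c' w).base
    rw [show (coneq H c w).base = memEq H w ≫ w.obj.hom ≫ eqToHom c.hpt.symm from c.hq w,
      show (coneq H c' w).base = memEq H w ≫ w.obj.hom ≫ eqToHom c'.hpt.symm from c'.hq w]
    simp
  · exact htu _ fun w => congrArg SpQuotObj.Hom.top (hψ.2 w)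

end desc

section glue

/-- the diagram of total sheaves -/
def datum : SheafGlue.Datum R where
  D := H.toFunctor ⋙
    { obj := fun A : SpQuotObj Scheme.fppfPrecoverage G aX => A.P.left, map := fun f => f.top.left,
      map_id := fun _ => rfl, map_comp := fun _ _ => rfl }
  τ := memτ H
  cart m := memMap_sq H m

include hR

lemma hasSecLoc_glued {P : Sp S} (π : P ⟶ (yon S).obj U) (q : ∀ w : SheafGlue.Idx R, (mem H w).P.left ⟶ P)
    (hq : ∀ w, q w ≫ π = memτ H w ≫ (yon S).map w.obj.hom) : HasSecLoc Scheme.fppfPrecoverage π := by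
  have hR' := (GrothendieckTopology.mem_over_iff (J := Scheme.fppfTopology) (Y := U) R).1 hR
  obtain ⟨R₀, hR₀, hle⟩ := (Precoverage.mem_toGrothendieck_iff_of_isStableUnderComposition
    (J := Scheme.fppfPrecoverage)).1 hR'
  obtain ⟨I, Z, f, rfl⟩ := R₀.exists_eq_ofArrows
  let w : I → SheafGlue.Idx R := fun i => SheafGlue.idx (Over.homMk (f i) rfl : Over.mk (f i ≫ U.hom) ⟶ U)
    ((Sieve.overEquiv_iff (Y := U) R (f i)).1 (hle _ _ ⟨i⟩))
  have key : ∀ i, ∃ R₁ ∈ Scheme.fppfPrecoverage (Z i), ∀ ⦃Z' : Scheme.{u}⦄ (g : Z' ⟶ Z i), R₁ g →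
      ∃ s : (yon S).obj (Over.mk ((g ≫ f i) ≫ U.hom)) ⟶ P,
        s ≫ π = (yon S).map (Over.homMk (g ≫ f i) rfl : Over.mk ((g ≫ f i) ≫ U.hom) ⟶ U) := by
    intro i
    have ew : (mem H (w i)).base = Over.mk (f i ≫ U.hom) := H.w_obj (w i)
    let e : Z i ⟶ (mem H (w i)).base.left := (eqToHom ew.symm).left
    have he : e ≫ (mem H (w i)).base.hom = f i ≫ U.hom := Over.w (eqToHom ew.symm)
    obtain ⟨R₁, hR₁, hs₁⟩ := (mem H (w i)).loc
    refine ⟨_, Precoverage.pullbackArrows_mem (J := Scheme.fppfPrecoverage) e hR₁, fun Z' g hg => ?_⟩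
    cases hg with
    | mk W i' hi' =>
      obtain ⟨s, hs⟩ := hs₁ i' hi'
      let a : Over.mk ((pullback.snd i' e ≫ f i) ≫ U.hom) ⟶ Over.mk (i' ≫ (mem H (w i)).base.hom) :=
        Over.homMk (pullback.fst i' e) (by
          show pullback.fst i' e ≫ i' ≫ (mem H (w i)).base.hom = (pullback.snd i' e ≫ f i) ≫ U.hom
          rw [pullback.condition_assoc, he, Category.assoc])
      refine ⟨(yon S).map a ≫ s ≫ q (w i), ?_⟩
      have h₂ : s ≫ memτ H (w i) = (yon S).map (Over.homMk i' rfl) ≫ (yon S).map (memEq H (w i)) :=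
        (Category.assoc _ _ _).symm.trans (congrArg (· ≫ _) hs)
      simp only [Category.assoc, hq]
      rw [reassoc_of% h₂, ← Functor.map_comp, ← Functor.map_comp, ← Functor.map_comp]
      refine congrArg _ (Over.OverMorphism.ext ?_)
      have hee : e ≫ (memEq H (w i)).left = 𝟙 (Z i) := by
        show (eqToHom ew.symm).left ≫ (eqToHom (H.w_obj (w i))).left = _
        rw [← Over.comp_left, eqToHom_trans]
        rfl
      show pullback.fst i' e ≫ i' ≫ (memEq H (w i)).left ≫ f i = pullback.snd i' e ≫ f i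
      rw [pullback.condition_assoc, reassoc_of% hee]
  choose R₁ hR₁ hs using key
  choose J W g hR₁' using fun i => (R₁ i).exists_eq_ofArrows
  refine ⟨_, Precoverage.comp_mem_coverings f hR₀ g (fun i => hR₁' i ▸ hR₁ i), ?_⟩
  rintro Z' k ⟨⟨i, j⟩⟩
  exact hs i (g i j) (by rw [hR₁' i]; exact ⟨j⟩)

theorem exists_cone : Nonempty (StackCrit.Cone H) := by
  obtain ⟨P, π, q, qnat, qsq⟩ := SheafGlue.exists_glue (datum H) hR
  obtain ⟨b, hb⟩ := SheafGlue.yon_desc hR
    (fun w => (yon S).map (eqToHom (H.w_obj w).symm) ≫ (mem H w).b) (fun {w' w} m => by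
      show (yon S).map m.hom.left ≫ (yon S).map (eqToHom (H.w_obj w).symm) ≫ (mem H w).b =
        (yon S).map (eqToHom (H.w_obj w').symm) ≫ (mem H w').b
      rw [← (memMap H m).wb, ← Category.assoc, ← Functor.map_comp, ← Category.assoc, ← Functor.map_comp]
      congr 2
      rw [show (memMap H m).base = memEq H w' ≫ m.hom.left ≫ eqToHom (H.w_obj w).symm from map_map H m]
      simp [memEq])
  let T : Over B := Over.mk (π ≫ b)
  let πB : T ⟶ Over.mk b := Over.homMk π rfl
  have hQ : ∀ w, q w ≫ π ≫ b = (mem H w).P.hom := fun w => by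
    calc q w ≫ π ≫ b = (q w ≫ π) ≫ b := (Category.assoc _ _ _).symm
      _ = (memτ H w ≫ (yon S).map w.obj.hom) ≫ b := congrArg (· ≫ b) (qsq w).w
      _ = memτ H w ≫ (yon S).map (eqToHom (H.w_obj w).symm) ≫ (mem H w).b :=
        (Category.assoc _ _ _).trans (congrArg (memτ H w ≫ ·) (hb w))
      _ = (mem H w).π.left ≫ (mem H w).b := by
        simp only [memτ, Category.assoc, ← Functor.map_comp_assoc, eqToHom_trans, eqToHom_refl,
          CategoryTheory.Functor.map_id, Category.id_comp]
      _ = (mem H w).P.hom := Over.w (mem H w).π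
  let Q : ∀ w : SheafGlue.Idx R, (mem H w).P ⟶ T := fun w => Over.homMk (q w) (hQ w)
  have Qnat : ∀ {w' w : SheafGlue.Idx R} (m : w' ⟶ w), (memMap H m).top ≫ Q w = Q w' := fun m =>
    Over.OverMorphism.ext (qnat m)
  -- the base maps of the members
  have wb : ∀ w : SheafGlue.Idx R, (yon S).map (memEq H w ≫ w.obj.hom) ≫ b = (mem H w).b := fun w => by
    refine ((congrArg (· ≫ b) ((yon S).map_comp _ _)).trans (Category.assoc _ _ _)).trans
      ((congrArg ((yon S).map (memEq H w) ≫ ·) (hb w)).trans ?_)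
    simp only [memEq, ← Functor.map_comp_assoc, eqToHom_trans, eqToHom_refl, CategoryTheory.Functor.map_id,
      Category.id_comp]
  have sq : ∀ w, IsPullback (Q w).left (memτ H w) π ((yon S).map w.obj.hom) := qsq
  have sqK : ∀ (K : Over B) (w : SheafGlue.Idx R), IsPullback (K ◁ Q w).left ((snd K _).left ≫ memτ H w)
      ((snd K T).left ≫ π) ((yon S).map w.obj.hom) := fun K w =>
    (isPullback_left (isPullback_whiskerLeft' (Q w))).paste_vert (sq w)
  have natK : ∀ (K : Over B) {w' w : SheafGlue.Idx R} (m : w' ⟶ w) (d : (K ⊗ (mem H w').P).left ⟶ (K ⊗ (mem H w).P).left),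
      d ≫ (K ◁ Q w).left = (K ◁ Q w').left →
      d ≫ (snd K _).left ≫ memτ H w = ((snd K _).left ≫ memτ H w') ≫ (yon S).map m.hom.left →
      d = (K ◁ (memMap H m).top).left := fun K {w' w} m d h₁ h₂ => by
    refine (sqK K w).hom_ext (h₁.trans ?_) (h₂.trans (memτ_whisker H m).w.symm)
    rw [← Over.comp_left, ← MonoidalCategory.whiskerLeft_comp, Qnat]
  -- maps out of a product with `T` are determined on the members
  have extK : ∀ {K : Over B} {Z : Over B} (f g : K ⊗ T ⟶ Z),
      (∀ w, (K ◁ Q w) ≫ f = (K ◁ Q w) ≫ g) → f = g := fun {K Z} f g h =>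
    Over.OverMorphism.ext ((SheafGlue.existsUnique_desc hR (sqK K) (fun w => ((K ◁ Q w) ≫ f).left)
      (fun w' w m d h₁ _ => (Category.assoc _ _ _).symm.trans (congrArg (· ≫ f.left) h₁))).unique
      (fun _ => rfl) (fun w => (congrArg CommaMorphism.left (h w)).symm))
  obtain ⟨a, ha, -⟩ := SheafGlue.existsUnique_desc hR (sqK G) (fun w => ((mem H w).act.act ≫ Q w).left)
    (fun w' w m d h₁ h₂ => by
      rw [natK G m d h₁ h₂, ← Over.comp_left, ← reassoc_of% (memMap H m).eqv, Qnat])
  have haπ : a ≫ π = (snd G T).left ≫ π :=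
    (SheafGlue.existsUnique_desc hR (sqK G) (fun w => ((snd G _).left ≫ memτ H w) ≫ (yon S).map w.obj.hom)
      (fun w' w m d _ h₂ => ((Category.assoc _ _ _).symm.trans (congrArg (· ≫ (yon S).map w.obj.hom) h₂)).trans
        ((Category.assoc _ _ _).trans (congrArg (((snd G _).left ≫ memτ H w') ≫ ·)
          (((yon S).map_comp m.hom.left w.obj.hom).symm.trans (congrArg (yon S).map (Over.w m.hom))))))).unique
      (fun w => by
        calc (G ◁ Q w).left ≫ a ≫ π = ((G ◁ Q w).left ≫ a) ≫ π := (Category.assoc _ _ _).symm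
          _ = ((mem H w).act.act ≫ Q w).left ≫ π := congrArg (· ≫ π) (ha w)
          _ = (mem H w).act.act.left ≫ memτ H w ≫ (yon S).map w.obj.hom :=
            (Category.assoc _ _ _).trans (congrArg ((mem H w).act.act.left ≫ ·) (sq w).w)
          _ = _ := by
            have e : (mem H w).act.act.left ≫ (mem H w).π.left = (snd G _).left ≫ (mem H w).π.left :=
              congrArg CommaMorphism.left (mem H w).cart.w
            simp only [memτ, Category.assoc]
            rw [reassoc_of% e])
      (fun w => (sqK G w).w)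
  let act₀ : G ⊗ T ⟶ T := Over.homMk a (by
    calc a ≫ π ≫ b = (a ≫ π) ≫ b := (Category.assoc _ _ _).symm
      _ = (snd G T).left ≫ π ≫ b := (congrArg (· ≫ b) haπ).trans (Category.assoc _ _ _)
      _ = (G ⊗ T).hom := Over.w (snd G T))
  have hact : ∀ w, (G ◁ Q w) ≫ act₀ = (mem H w).act.act ≫ Q w := fun w => Over.OverMorphism.ext (ha w)
  let act : GAction G T :=
    { act := act₀
      one_act := extK _ _ fun w => by
        rw [whisker_exchange_assoc, hact, reassoc_of% (mem H w).act.one_act, leftUnitor_naturality]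
      mul_act := extK _ _ fun w => by
        rw [whisker_exchange_assoc, hact, reassoc_of% (mem H w).act.mul_act, associator_naturality_right_assoc,
          ← MonoidalCategory.whiskerLeft_comp_assoc, hact, MonoidalCategory.whiskerLeft_comp_assoc, hact] }
  -- the equivariant map
  obtain ⟨φ₀, hφ₀, -⟩ := SheafGlue.existsUnique_desc hR sq (fun w => (mem H w).φ.left) (fun w' w m d h₁ h₂ => by
    have hd : d = (memMap H m).top.left := (sq w).hom_ext
      (h₁.trans (congrArg CommaMorphism.left (Qnat m)).symm) (h₂.trans (memMap_sq H m).w.symm)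
    rw [hd, ← Over.comp_left, (memMap H m).wφ])
  let φ : T ⟶ X := Over.homMk φ₀ ((SheafGlue.existsUnique_desc hR sq (fun w => (mem H w).P.hom)
    (fun w' w m d h₁ h₂ => by
      have hd : d = (memMap H m).top.left := (sq w).hom_ext
        (h₁.trans (congrArg CommaMorphism.left (Qnat m)).symm) (h₂.trans (memMap_sq H m).w.symm)
      rw [hd]; exact Over.w _)).unique
    (fun w => ((Category.assoc _ _ _).symm.trans (congrArg (· ≫ X.hom) (hφ₀ w))).trans (Over.w (mem H w).φ))
    (fun w => Over.w (Q w)))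
  have hφ : ∀ w, Q w ≫ φ = (mem H w).φ := fun w => Over.OverMorphism.ext (hφ₀ w)
  -- the pseudo-torsor property
  have hc : IsPullback act₀.left (snd G T).left π π :=
    SheafGlue.isPullback_local hR haπ (fun w => sq w) (qM := fun w => (G ◁ Q w).left)
      (fw := fun w => (mem H w).act.act.left) (gw := fun w => (snd G _).left) (fun w => sqK G w)
      (fun w => (isPullback_left (mem H w).cart).of_iso (Iso.refl _) (Iso.refl _) (Iso.refl _)
        ((yon S).mapIso (eqToIso (H.w_obj w))) (by simp) (by simp) (by simp [memτ]) (by simp [memτ]))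
      (fun w => congrArg CommaMorphism.left (hact w))
      (fun w => congrArg CommaMorphism.left (whiskerLeft_snd G (Q w)))
  have hcB : IsPullback act₀ (snd G T) πB πB :=
    IsPullback.of_map (Over.forget B) (Over.OverMorphism.ext haπ) hc
  -- local sections
  have hloc : HasSecLoc Scheme.fppfPrecoverage π := by
    exact hasSecLoc_glued H hR π q (fun w => (qsq w).w)
  let A : SpQuotObj Scheme.fppfPrecoverage G aX :=
    { base := U, b := b, P := T, act := act, π := πB, cart := hcB, loc := hloc, φ := φ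
      eqv := extK _ _ fun w => by
        show (G ◁ Q w) ≫ act₀ ≫ φ = (G ◁ Q w) ≫ (G ◁ φ) ≫ aX.act
        rw [reassoc_of% (hact w), hφ, (mem H w).eqv, ← MonoidalCategory.whiskerLeft_comp_assoc, hφ] }
  let qA : ∀ w : SheafGlue.Idx R, mem H w ⟶ A := fun w =>
    { base := memEq H w ≫ w.obj.hom
      wb := wb w
      top := Q w
      eqv := (hact w).symm
      cart := IsPullback.of_map (Over.forget B) (Over.OverMorphism.ext (by
          show q w ≫ π = (mem H w).π.left ≫ (yon S).map (memEq H w ≫ w.obj.hom)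
          rw [(qsq w).w, Functor.map_comp]
          exact Category.assoc _ _ _)) (by
          refine IsPullback.of_bot (h₂₁ := (yon S).map (memEq H w ≫ w.obj.hom)) (v₂₁ := (yon S).map (memEq H w))
            (v₂₂ := 𝟙 _) (h₃₁ := (yon S).map w.obj.hom) ?_ ?_ (IsPullback.of_vert_isIso ⟨by
              rw [Category.comp_id, Functor.map_comp]⟩)
          · show IsPullback (q w) (memτ H w) (π ≫ 𝟙 _) _
            rw [Category.comp_id]
            exact qsq w
          · show q w ≫ π = _
            rw [(qsq w).w, Functor.map_comp]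
            exact Category.assoc _ _ _)
      wφ := hφ w }
  exact ⟨{ pt := A, hpt := rfl, q := qA,
           hq := fun w => (congrArg (memEq H w ≫ ·) (Category.comp_id w.obj.hom)).symm,
           nat := fun {w' w} m => SpQuotObj.hom_ext (by
             show (memMap H m).base ≫ memEq H w ≫ w.obj.hom = memEq H w' ≫ w'.obj.hom
             rw [← Category.assoc, memMap_base, Category.assoc]
             exact congrArg (memEq H w' ≫ ·) (Over.w m.hom)) (Qnat m) }⟩

end glue

omit hR in
/-- quotient categories with sheaf torsors are stacks -/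
theorem isStack (G : Over B) [GrpObj G] (aX : GAction G X) :
    Stk.IsStack (AlgSp.J S) (SpQuotSt Scheme.fppfPrecoverage G aX) :=
  ⟨isFibGrpd G aX, fun _ _ hR => StackCrit.isStackFor_of_cones (isFibGrpd G aX)
    (fun _ c c' => existsUnique_hom hR c c') (fun H => exists_cone H hR)⟩

end Groth.Agent.AlgStLib.SpQuot

end
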