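import Groth.Agent.AlgStLib.SpTorsorSpace
import Groth.Agent.AlgStLib.SpQuotStack

/-!
# The canonical map to a quotient stack of sheaf torsors is representable by torsors
-/

set_option autoImplicit false
set_option backward.isDefEq.respectTransparency false
set_option backward.isDefEq.respectTransparency.types false
universe u

noncomputable section

namespace Groth.Agent.AlgStLib.SpQuot

open CategoryTheory CategoryTheory.Limits MonoidalCategory CartesianMonoidalCategory MonObj GrpObj AlgebraicGeometry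
open _root_.AlgSp _root_.AlgSt Opposite Groth.Agent.FibCatRep

variable {S : Scheme.{u}} {B : Sp S} {G X : Over B} [GrpObj G] (aX : GAction G X)

/-- the action on points -/
def smul {T : Over B} (g : T ⟶ G) (x : T ⟶ X) : T ⟶ X := lift g x ≫ aX.act

lemma comp_smul {T U : Over B} (v : U ⟶ T) (g : T ⟶ G) (x : T ⟶ X) :
    v ≫ smul aX g x = smul aX (v ≫ g) (v ≫ x) := by
  rw [smul, smul, comp_lift_assoc]

lemma mul_smul {T : Over B} (g h : T ⟶ G) (x : T ⟶ X) :
    smul aX (g * h) x = smul aX g (smul aX h x) := by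
  have := lift (lift g h) x ≫= aX.mul_act
  rw [lift_whiskerRight_assoc, ← Hom.mul_def] at this
  rw [smul, this, lift_lift_associator_hom_assoc, lift_whiskerLeft_assoc]
  rfl

lemma one_smul {T : Over B} (x : T ⟶ X) : smul aX (1 : T ⟶ G) x = x := by
  have := lift (toUnit T) x ≫= aX.one_act
  rw [lift_whiskerRight_assoc, lift_leftUnitor_hom, ← Hom.one_def] at this
  exact this

variable {aX}

local notation "qm" => AlgSt.spQuotMap Scheme.fppfPrecoverage G aX

lemma eltEqToHom_hom {F : Sp S} {c d : (ofSp F).obj} (he : c = d) :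
    (eqToHom he).hom = eqToHom (congrArg Stk.EltObj.base he) := by subst he; rfl

/-- the scheme of a point, over the base sheaf -/
abbrev ptOver (a : (ofSp X.left).obj) : Over B := Over.mk (secYon a ≫ X.hom)

lemma map_preimage' {T T' : Over S} (f : (yon S).obj T ⟶ (yon S).obj T') :
    (yon S).map ((yon S).preimage f) = f := (yon S).map_preimage f

lemma preimage_w {T : Over S} {A : SpQuotObj Scheme.fppfPrecoverage G aX} {b : (yon S).obj T ⟶ B}
    (q : Over.mk b ⟶ Over.mk A.b) : (yon S).map ((yon S).preimage q.left) ≫ A.b = b := by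
  rw [map_preimage']
  exact Over.w q

/-- a point of the total space trivialises the torsor over it -/
def trivHom (A : SpQuotObj Scheme.fppfPrecoverage G aX) (a : (ofSp X.left).obj) (p : ptOver a ⟶ A.P)
    (hp : p ≫ A.φ = secOver a) : (qm).obj a ⟶ A where
  base := (yon S).preimage (p ≫ A.π).left
  wb := preimage_w (p ≫ A.π)
  top := (G ◁ p) ≫ A.act.act
  eqv := by
    show (spLeftMul G (ptOver a)).act ≫ (G ◁ p) ≫ A.act.act = (G ◁ ((G ◁ p) ≫ A.act.act)) ≫ A.act.act
    have e₁ : (spLeftMul G (ptOver a)).act ≫ (G ◁ p) ≫ A.act.act = smul A.act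
        (fst G (G ⊗ ptOver a) * (snd G (G ⊗ ptOver a) ≫ fst G (ptOver a)))
        (snd G (G ⊗ ptOver a) ≫ snd G (ptOver a) ≫ p) := by
      simp only [spLeftMul, lift_whiskerLeft_assoc, Category.assoc]
      rfl
    have e₂ : (G ◁ ((G ◁ p) ≫ A.act.act)) ≫ A.act.act = smul A.act (fst G (G ⊗ ptOver a))
        (snd G (G ⊗ ptOver a) ≫ smul A.act (fst G (ptOver a)) (snd G (ptOver a) ≫ p)) := by
      show _ = lift (fst G (G ⊗ ptOver a)) (snd G (G ⊗ ptOver a) ≫
        lift (fst G (ptOver a)) (snd G (ptOver a) ≫ p) ≫ A.act.act) ≫ A.act.act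
      congr 1
    rw [e₁, e₂, comp_smul, ← mul_smul]
  cart := by
    have h : bHom ((yon S).preimage (p ≫ A.π).left) (preimage_w (p ≫ A.π)) = p ≫ A.π :=
      Over.OverMorphism.ext (map_preimage' _)
    show IsPullback _ (snd G (ptOver a)) A.π _
    rw [h]
    exact (isPullback_whiskerLeft' (G := G) p).paste_horiz A.cart
  wφ := by
    show ((G ◁ p) ≫ A.act.act) ≫ A.φ = (G ◁ secOver a) ≫ aX.act
    rw [Category.assoc, A.eqv, ← hp, MonoidalCategory.whiskerLeft_comp, Category.assoc]

/-- the image of the unit section -/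
def unitPt {A : SpQuotObj Scheme.fppfPrecoverage G aX} {a : (ofSp X.left).obj} (h : (qm).obj a ⟶ A) :
    ptOver a ⟶ A.P :=
  lift (1 : ptOver a ⟶ G) (𝟙 (ptOver a)) ≫ h.top

lemma unitPt_trivHom (A : SpQuotObj Scheme.fppfPrecoverage G aX) (a : (ofSp X.left).obj) (p : ptOver a ⟶ A.P)
    (hp : p ≫ A.φ = secOver a) : unitPt (trivHom A a p hp) = p := by
  show lift (1 : ptOver a ⟶ G) (𝟙 (ptOver a)) ≫ (G ◁ p) ≫ A.act.act = p
  rw [lift_whiskerLeft_assoc, Category.id_comp]
  exact one_smul A.act p

lemma unitPt_φ {A : SpQuotObj Scheme.fppfPrecoverage G aX} {a : (ofSp X.left).obj} (h : (qm).obj a ⟶ A) :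
    unitPt h ≫ A.φ = secOver a := by
  have hw : h.top ≫ A.φ = (G ◁ secOver a) ≫ aX.act := h.wφ
  rw [unitPt, Category.assoc, hw, lift_whiskerLeft_assoc, Category.id_comp]
  exact one_smul aX _

lemma unitPt_π {A : SpQuotObj Scheme.fppfPrecoverage G aX} {a : (ofSp X.left).obj} (h : (qm).obj a ⟶ A) :
    (unitPt h ≫ A.π).left = (yon S).map h.base := by
  have hw : h.top ≫ A.π = snd G (ptOver a) ≫ bHom h.base h.wb := h.cart.w
  rw [unitPt, Category.assoc, hw, lift_snd_assoc, Category.id_comp]
  rfl

lemma top_eq {A : SpQuotObj Scheme.fppfPrecoverage G aX} {a : (ofSp X.left).obj} (h : (qm).obj a ⟶ A) :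
    h.top = (G ◁ unitPt h) ≫ A.act.act := by
  have he : (spLeftMul G (ptOver a)).act ≫ h.top = (G ◁ h.top) ≫ A.act.act := h.eqv
  have hid : lift (fst G (ptOver a)) (lift (1 : G ⊗ ptOver a ⟶ G) (snd G (ptOver a))) ≫
      (spLeftMul G (ptOver a)).act = 𝟙 _ := by
    simp only [spLeftMul, comp_lift, comp_mul, lift_fst, lift_snd, lift_snd_assoc, _root_.mul_one, lift_fst_snd]
  have e : lift (1 : G ⊗ ptOver a ⟶ G) (snd G (ptOver a)) =
      snd G (ptOver a) ≫ lift (1 : ptOver a ⟶ G) (𝟙 _) := by
    rw [comp_lift, comp_one, Category.comp_id]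
  have := lift (fst G (ptOver a)) (lift (1 : G ⊗ ptOver a ⟶ G) (snd G (ptOver a))) ≫= he
  rw [reassoc_of% hid, lift_whiskerLeft_assoc, e, Category.assoc] at this
  rw [this]
  show _ = (G ◁ (lift (1 : ptOver a ⟶ G) (𝟙 _) ≫ h.top)) ≫ A.act.act
  congr 1

lemma hom_ext_unitPt {A : SpQuotObj Scheme.fppfPrecoverage G aX} {a : (ofSp X.left).obj}
    {h h' : (qm).obj a ⟶ A} (e : unitPt h = unitPt h') : h = h' :=
  SpQuotObj.hom_ext ((yon S).map_injective (by rw [← unitPt_π h, e, unitPt_π]))
    (by rw [top_eq h, top_eq h', e])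

lemma unitPt_map {A : SpQuotObj Scheme.fppfPrecoverage G aX} {a a' : (ofSp X.left).obj} (f : a ⟶ a')
    (h : (qm).obj a' ⟶ A) : (unitPt ((qm).map f ≫ h)).left = (yon S).map f.hom ≫ (unitPt h).left := by
  let k : ptOver a ⟶ ptOver a' :=
    bHom f.hom (show (yon S).map f.hom ≫ secYon a' ≫ X.hom = secYon a ≫ X.hom by rw [← Category.assoc, secYon_comp])
  have : unitPt ((qm).map f ≫ h) = k ≫ unitPt h := by
    show lift (1 : ptOver a ⟶ G) (𝟙 _) ≫ (G ◁ k) ≫ h.top = k ≫ lift (1 : ptOver a' ⟶ G) (𝟙 _) ≫ h.top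
    rw [lift_whiskerLeft_assoc, comp_lift_assoc, comp_one, Category.id_comp, Category.comp_id]
  rw [this, Over.comp_left]
  rfl

lemma secYon_map_injective {F : Over B} {a a' : (ofSp F.left).obj} (f : a.base ⟶ a'.base)
    (h : (yon S).map f ≫ secYon a' = secYon a) : F.left.obj.map f.op a'.sec = a.sec := by
  apply (GrothendieckTopology.uliftYonedaEquiv.{u + 1} (AlgSp.J S) (F := F.left)).symm.injective
  rw [← GrothendieckTopology.uliftYonedaEquiv_symm_naturality_left.{u + 1}]
  exact h

variable {U : Over S} (y : FibCat.overCat U ⥤ᵇ AlgSt.SpQuotSt Scheme.fppfPrecoverage G aX)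

/-- the torsor classified by a point -/
abbrev torsor : SpQuotObj Scheme.fppfPrecoverage G aX := y.obj (StackCrit.top U)

/-- its structure map to `U` -/
abbrev torsorτ : (torsor y).P.left ⟶ (yon S).obj U :=
  (torsor y).π.left ≫ (yon S).map (eqToHom (y.w_obj (StackCrit.top U)))

/-- pullback of the classified torsor to a slice object -/
abbrev toTorsor (z : Over U) : y.obj z ⟶ torsor y := y.map (StackCrit.toTop z)

lemma toTorsor_base (z : Over U) :
    (toTorsor y z).base = eqToHom (y.w_obj z) ≫ z.hom ≫ eqToHom (y.w_obj (StackCrit.top U)).symm :=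
  map_map y (StackCrit.toTop z)

variable (a : (ofSp (torsor y).P.left).obj)

/-- the image in `X` of a point of the torsor -/
abbrev imgPt : (ofSp X.left).obj := (ofSpMap (torsor y).φ.left).obj a

lemma secYon_imgPt : secYon (imgPt y a) = secYon a ≫ (torsor y).φ.left :=
  (GrothendieckTopology.uliftYonedaEquiv_symm_naturality_right.{u + 1} (AlgSp.J S) a.base
    (torsor y).φ.left a.sec).symm

/-- a point of the torsor over the base sheaf -/
abbrev thePt : ptOver (imgPt y a) ⟶ (torsor y).P :=
  Over.homMk (secYon a) (by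
    show secYon a ≫ (torsor y).P.hom = secYon (imgPt y a) ≫ X.hom
    rw [secYon_imgPt, Category.assoc, Over.w (torsor y).φ])

lemma thePt_φ : thePt y a ≫ (torsor y).φ = secOver (imgPt y a) :=
  Over.OverMorphism.ext (secYon_imgPt y a).symm

/-- the base point in `U` -/
abbrev slicePt : Over U := Over.mk ((yon S).preimage (secYon a ≫ torsorτ y))

/-- the trivialisation at a point of the torsor -/
abbrev trivAt : (qm).obj (imgPt y a) ⟶ torsor y := trivHom (torsor y) (imgPt y a) (thePt y a) (thePt_φ y a)

lemma exists_comparison :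
    ∃! χ : (qm).obj (imgPt y a) ⟶ y.obj (slicePt y a),
      (AlgSt.SpQuotSt Scheme.fppfPrecoverage G aX).p.map χ = eqToHom (y.w_obj (slicePt y a)).symm ∧
        χ ≫ toTorsor y _ = trivAt y a :=
  existsUnique_cart (isFibGrpd G aX) (toTorsor y _) (trivAt y a) _ (by
    show _ ≫ (toTorsor y _).base = (yon S).preimage (secYon a ≫ (torsor y).π.left)
    rw [toTorsor_base]
    apply (yon S).map_injective
    simp [torsorτ])

/-- the isomorphism of torsors at a point of the total space -/
def comparison : y.obj (slicePt y a) ≅ (qm).obj (imgPt y a) :=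
  haveI : IsIso (exists_comparison y a).choose := by
    haveI : IsIso ((AlgSt.SpQuotSt Scheme.fppfPrecoverage G aX).p.map (exists_comparison y a).choose) := by
      rw [(exists_comparison y a).choose_spec.1.1]
      infer_instance
    exact isIso_of_map (isFibGrpd G aX) _
  (asIso (exists_comparison y a).choose).symm

lemma comparison_inv_comp : (comparison y a).inv ≫ toTorsor y _ = trivAt y a :=
  (exists_comparison y a).choose_spec.1.2

lemma comparison_inv_base : (AlgSt.SpQuotSt Scheme.fppfPrecoverage G aX).p.map (comparison y a).inv =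
      eqToHom (y.w_obj (slicePt y a)).symm :=
  (exists_comparison y a).choose_spec.1.1

lemma comparison_hom_base : (AlgSt.SpQuotSt Scheme.fppfPrecoverage G aX).p.map (comparison y a).hom =
      eqToHom (y.w_obj (slicePt y a)) :=
  (congrArg _ (IsIso.Iso.inv_inv (comparison y a)).symm).trans
    (map_inv_of_eqToHom _ (comparison_inv_base y a))

variable {a} {a' : (ofSp (torsor y).P.left).obj}

/-- a morphism of points gives a morphism of slice objects -/
abbrev sliceMap (m : a ⟶ a') : slicePt y a ⟶ slicePt y a' :=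
  Over.homMk m.hom ((yon S).map_injective (by
    show (yon S).map (m.hom ≫ (yon S).preimage (secYon a' ≫ torsorτ y)) =
      (yon S).map ((yon S).preimage (secYon a ≫ torsorτ y))
    rw [Functor.map_comp, map_preimage', map_preimage', ← Category.assoc, secYon_comp]))

lemma comparison_nat (m : a ⟶ a') : y.map (sliceMap y m) ≫ (comparison y a').hom =
    (comparison y a).hom ≫ (qm).map ((ofSpMap (torsor y).φ.left).map m) := by
  rw [← Iso.inv_comp_eq, ← Category.assoc, ← Iso.eq_comp_inv]
  refine cancel (isFibGrpd G aX) (toTorsor y _) ?_ ?_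
  · rw [Functor.map_comp, Functor.map_comp, comparison_inv_base, comparison_inv_base, map_map]
    simp
    rfl
  · have e : sliceMap y m ≫ StackCrit.toTop (slicePt y a') = StackCrit.toTop (slicePt y a) :=
      Over.OverMorphism.ext (Over.w (sliceMap y m))
    rw [Category.assoc, Category.assoc, comparison_inv_comp, ← Functor.map_comp, e, comparison_inv_comp]
    apply hom_ext_unitPt
    apply Over.OverMorphism.ext
    rw [unitPt_map, unitPt_trivHom, unitPt_trivHom]
    exact (secYon_comp m).symm

variable (a)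

/-- the comparison of the total space with the fibre product -/
def fibreFun : AlgSt.ofSp (torsor y).P.left ⥤ᵇ FibCat.fp y qm where
  toFunctor :=
    { obj := fun a => ⟨{ fst := slicePt y a
                         snd := imgPt y a
                         iso := comparison y a },
        IsHomLift.of_fac' _ _ _ (y.w_obj _) rfl ((comparison_hom_base y a).trans (by simp))⟩
      map := fun {a a'} m => ObjectProperty.homMk
        { fst := sliceMap y m
          snd := (ofSpMap (torsor y).φ.left).map m
          w := comparison_nat y m }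
      map_id := fun a =>
        ObjectProperty.hom_ext _ (CategoricalPullback.hom_ext (Over.OverMorphism.ext rfl) (Stk.EltObj.hom_ext rfl))
      map_comp := fun m m' => by
        exact ObjectProperty.hom_ext _ (CategoricalPullback.hom_ext (Over.OverMorphism.ext rfl) (Stk.EltObj.hom_ext rfl)) }
  w := rfl

theorem isEquivOver_fibreFun : FibCat.IsEquivOver (fibreFun y) := by
  haveI : (fibreFun y).toFunctor.Faithful := ⟨fun {a a'} m m' h =>
    Stk.EltObj.hom_ext (congrArg CommaMorphism.left (congrArg (fun t => t.hom.fst) h :))⟩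
  haveI : (fibreFun y).toFunctor.Full := ⟨fun {a a'} φ => by
    let f : a.base ⟶ a'.base := φ.hom.fst.left
    let n : imgPt y a ⟶ imgPt y a' := φ.hom.snd
    have hw : y.map φ.hom.fst ≫ (comparison y a').hom = (comparison y a).hom ≫ (qm).map n := φ.hom.w
    rw [← Iso.inv_comp_eq, ← Category.assoc, ← Iso.eq_comp_inv] at hw
    have e : φ.hom.fst ≫ StackCrit.toTop (slicePt y a') = StackCrit.toTop (slicePt y a) :=
      Over.OverMorphism.ext (Over.w φ.hom.fst)
    have h₁ := ((Category.assoc _ _ _).symm.trans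
      (congrArg (· ≫ toTorsor y (slicePt y a')) hw)).trans (Category.assoc _ _ _)
    have hc : y.map φ.hom.fst ≫ toTorsor y (slicePt y a') = toTorsor y (slicePt y a) :=
      (y.map_comp _ _).symm.trans (congrArg y.map e)
    have h₂ : trivAt y a = (qm).map n ≫ trivAt y a' := by
      rw [← comparison_inv_comp, ← comparison_inv_comp, ← hc]
      exact h₁
    have hm : (yon S).map n.hom ≫ secYon a' = secYon a := by
      have := congrArg (fun h => (unitPt h).left) h₂
      rw [unitPt_map, unitPt_trivHom, unitPt_trivHom] at this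
      exact this.symm
    have hf : f = n.hom := by
      have h : n.hom = 𝟙 _ ≫ f ≫ 𝟙 _ := map_snd φ
      rw [Category.id_comp, Category.comp_id] at h
      exact h.symm
    have hs : (torsor y).P.left.obj.map n.hom.op a'.sec = a.sec := secYon_map_injective (F := (torsor y).P) (a := a) (a' := a') n.hom hm
    refine ⟨⟨n.hom, hs⟩, ?_⟩
    apply ObjectProperty.hom_ext
    apply CategoricalPullback.hom_ext
    · exact Over.OverMorphism.ext hf.symm
    · exact Stk.EltObj.hom_ext rfl⟩
  refine isEquivOver_of_fullyFaithful _ fun o => ?_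
  let z : Over U := o.obj.fst
  let x : (ofSp X.left).obj := o.obj.snd
  let i : y.obj z ≅ (qm).obj x := o.obj.iso
  let h : (qm).obj x ⟶ torsor y := i.inv ≫ toTorsor y z
  let a : (ofSp (torsor y).P.left).obj := ⟨x.base, (AlgSp.J S).uliftYonedaEquiv (unitPt h).left⟩
  obtain ⟨q, hq⟩ := map_iso_hom o
  have hxz : x.base = z.left := q.symm.trans (y.w_obj z)
  have hib : i.inv.base = eqToHom q.symm :=
    (congrArg _ (IsIso.Iso.inv_hom i).symm).trans (map_inv_of_eqToHom _ hq)
  have ha : secYon a = (unitPt h).left := Equiv.symm_apply_apply _ _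
  have hs : eqToHom hxz ≫ z.hom = (yon S).preimage (secYon a ≫ torsorτ y) := by
    apply (yon S).map_injective
    rw [map_preimage', ha, torsorτ, ← Category.assoc, ← Over.comp_left, unitPt_π,
      SpQuotObj.comp_base, toTorsor_base, hib]
    simp
  let e₁ : slicePt y a ≅ z := Over.isoMk (eqToIso hxz) hs
  have hx : imgPt y a = x := by
    have : secYon (imgPt y a) = secYon x := by
      rw [secYon_imgPt, ha]
      exact congrArg CommaMorphism.left (unitPt_φ h)
    exact congrArg (fun s => (⟨x.base, s⟩ : (ofSp X.left).obj)) ((AlgSp.J S).uliftYonedaEquiv.symm.injective this)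
  let e₂ : imgPt y a ≅ x := eqToIso hx
  refine ⟨a, ObjectProperty.isoMk _ (CategoricalPullback.mkIso e₁ e₂ ?_), hxz.trans rfl, ?_⟩
  · show y.map e₁.hom ≫ i.hom = (comparison y a).hom ≫ (qm).map e₂.hom
    rw [← Iso.inv_comp_eq, ← Category.assoc, ← Iso.eq_comp_inv]
    refine cancel (isFibGrpd G aX) (toTorsor y _) ?_ ?_
    · rw [Functor.map_comp, Functor.map_comp, comparison_inv_base, map_map, map_map]
      show _ = _ ≫ i.inv.base
      rw [hib]
      simp [e₁, e₂]
      show eqToHom hxz ≫ _ = _
      rw [eqToHom_trans]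
      exact (eqToHom_trans _ _).symm.trans (congrArg (· ≫ _) (eltEqToHom_hom hx).symm)
    · have e : e₁.hom ≫ StackCrit.toTop z = StackCrit.toTop (slicePt y a) :=
        Over.OverMorphism.ext (Over.w e₁.hom)
      rw [Category.assoc, Category.assoc, ← Functor.map_comp, e, comparison_inv_comp]
      apply hom_ext_unitPt
      apply Over.OverMorphism.ext
      rw [unitPt_map, unitPt_trivHom]
      show secYon a = (yon S).map (eqToHom hx).hom ≫ (unitPt h).left
      rw [eltEqToHom_hom, eqToHom_refl]
      exact ha.trans ((congrArg (· ≫ (unitPt h).left) ((yon S).map_id _)).trans (Category.id_comp _)).symm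
  · rfl

lemma spMapOfOver_fibreFun :
    AlgSt.spMapOfOver (BasedFunctor.comp (fibreFun y) (FibCat.fpFst y qm)) = torsorτ y := by
  refine SheafGlue.hom_ext' fun V v => ?_
  rw [SheafGlue.app, spMapOfOver_app]
  refine Eq.trans (ULift.ext _ _ (Category.id_comp _)) ?_
  show (⟨(yon S).preimage (secYon (⟨V, v⟩ : (ofSp (torsor y).P.left).obj) ≫ torsorτ y)⟩ :
    ULift.{u + 1} (V ⟶ U)) = _
  generalize hg : (yon S).preimage (secYon (⟨V, v⟩ : (ofSp (torsor y).P.left).obj) ≫ torsorτ y) = g
  have hm : (yon S).map g = secYon (⟨V, v⟩ : (ofSp (torsor y).P.left).obj) ≫ torsorτ y := by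
    rw [← hg, map_preimage']
  have := congrArg (GrothendieckTopology.uliftYonedaEquiv.{u + 1} (AlgSp.J S)) hm
  rw [GrothendieckTopology.uliftYonedaEquiv_comp, Equiv.apply_symm_apply] at this
  exact (show (⟨g⟩ : ULift.{u + 1} (V ⟶ U)) = ⟨𝟙 V ≫ g⟩ from ULift.ext _ _ (Category.id_comp g).symm).trans this

theorem repWith_spQuotMap (hB : IsAlgSpace B) (hG : IsAlgSpace G.left) (Q : MorphismProperty (Sp S))
    (h : ∀ A : SpQuotObj Scheme.fppfPrecoverage G aX, ∀ {U : Over S} (e : A.base ≅ U),
      Q (A.π.left ≫ (yon S).map e.hom)) :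
    AlgSt.RepByAlgSpWith Q qm := fun U y =>
  ⟨⟨(torsor y).P.left, isAlgSpace_P hB hG (torsor y)⟩, fibreFun y, isEquivOver_fibreFun y,
    by rw [spMapOfOver_fibreFun]; exact h (torsor y) (eqToIso (y.w_obj (StackCrit.top U)))⟩

end Groth.Agent.AlgStLib.SpQuot

end
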