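import Groth.Agent.AlgStLib.SpQuotFib
import Groth.Agent.S10138
import Groth.Agent.AlgSpLib.Space
import Groth.Agent.AlgSpLib.EtST
import Groth.Agent.AlgSpLib.LocP
import Groth.Agent.AlgSpLib.Points
import Groth.Agent.FibCatRep.Cart
import Groth.Prelude.Def_AlgSt3

/-!
# Sheaf torsors under group algebraic spaces are algebraic spaces
-/

set_option autoImplicit false
set_option backward.isDefEq.respectTransparency false
set_option backward.isDefEq.respectTransparency.types false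
universe u

noncomputable section

namespace Groth.Agent.AlgStLib.SpQuot

open CategoryTheory CategoryTheory.Limits MonoidalCategory CartesianMonoidalCategory MonObj GrpObj AlgebraicGeometry
open _root_.AlgSp _root_.AlgSt

variable {S : Scheme.{u}} {B : Sp S} {G : Over B} [GrpObj G] {X : Over B} {aX : GAction G X}

/-- the trivialisation given by a section of the structure map -/
lemma isIso_triv (A : SpQuotObj Scheme.fppfPrecoverage G aX) (σ : Over.mk A.b ⟶ A.P) (hσ : σ ≫ A.π = 𝟙 _) :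
    IsIso ((G ◁ σ) ≫ A.act.act) ∧ ((G ◁ σ) ≫ A.act.act) ≫ A.π = snd G _ := by
  have sq := (isPullback_whiskerLeft' (G := G) σ).paste_horiz A.cart
  rw [hσ] at sq
  exact ⟨sq.isIso_fst_of_isIso, by rw [sq.w, Category.comp_id]⟩

/-- over the members of the covering the torsor is the base change of the group -/
lemma exists_triv (A : SpQuotObj Scheme.fppfPrecoverage G aX) {T' : Over S} (f : T' ⟶ A.base)
    (s : (yon S).obj T' ⟶ A.P.left) (hs : s ≫ A.π.left = (yon S).map f) :
    ∃ e : G ⊗ Over.mk ((yon S).map f ≫ A.b) ≅ (pullObj A f).P, e.hom ≫ (pullObj A f).π = snd G _ := by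
  have hB : s ≫ A.P.hom = (yon S).map f ≫ A.b := by
    rw [← Over.w A.π, ← Category.assoc]
    exact congrArg (· ≫ A.b) hs
  let s' : Over.mk ((yon S).map f ≫ A.b) ⟶ A.P := Over.homMk s hB
  let σ : Over.mk ((yon S).map f ≫ A.b) ⟶ (pullObj A f).P := pullback.lift s' (𝟙 _)
    (by rw [Category.id_comp]; exact Over.OverMorphism.ext hs)
  obtain ⟨h₁, h₂⟩ := isIso_triv (pullObj A f) σ (pullback.lift_snd _ _ _)
  exact ⟨@asIso _ _ _ _ _ h₁, h₂⟩

lemma isAlgSpace_pullObj_P (hB : IsAlgSpace B) (hG : IsAlgSpace G.left)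
    (A : SpQuotObj Scheme.fppfPrecoverage G aX) {T' : Over S} (f : T' ⟶ A.base)
    (s : (yon S).obj T' ⟶ A.P.left) (hs : s ≫ A.π.left = (yon S).map f) :
    IsAlgSpace (pullObj A f).P.left := by
  obtain ⟨e, -⟩ := exists_triv A f s hs
  refine IsAlgSpace.of_iso ?_ ((Over.forget B).mapIso e)
  exact Groth.Agent.AlgSpLib.isAlgSpace_of_isPullback_space hB hG (IsAlgSpace.yon_obj T')
    (IsPullback.of_hasPullback G.hom ((yon S).map f ≫ A.b))

lemma isFppfCover_of_family {T : Over S} (Z : T.left → Scheme.{u}) (f : ∀ x, Z x ⟶ T.left)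
    (hfl : ∀ x, Flat (f x)) (hfp : ∀ x, LocallyOfFinitePresentation (f x))
    (hi : ∀ x : T.left, x ∈ Set.range (f x)) :
    IsFppfCover (fun x => (yon S).obj (Over.mk (f x ≫ T.hom)))
      (fun x => (yon S).map (Over.homMk (f x) rfl : Over.mk (f x ≫ T.hom) ⟶ T)) := by
  have hT : IsAlgSpace ((yon S).obj T) := IsAlgSpace.yon_obj _
  refine ⟨fun x => ?_, fun p => ?_⟩
  · have h₁ : RepWith @Flat ((yon S).map (Over.homMk (f x) rfl : Over.mk (f x ≫ T.hom) ⟶ T)) :=
      (repWith_yon_map_iff _ _).2 (hfl x)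
    have h₂ : RepWith @LocallyOfFinitePresentation ((yon S).map (Over.homMk (f x) rfl : Over.mk (f x ≫ T.hom) ⟶ T)) :=
      (repWith_yon_map_iff _ _).2 (hfp x)
    exact ⟨(Groth.Agent.AlgSpLib.locP_iff_repWith Groth.Agent.AlgSpLib.etST_flat hT h₁.1).2 h₁,
      (Groth.Agent.AlgSpLib.locP_iff_repWith Groth.Agent.AlgSpLib.etST_lfp hT h₁.1).2 h₂⟩
  · obtain ⟨T₀, ξ, t, rfl⟩ := Groth.Agent.AlgSpLib.exists_ofPt p
    obtain ⟨φ, rfl⟩ := (yon S).map_surjective ξ
    obtain ⟨z, hz⟩ := hi (φ.left t)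
    refine ⟨φ.left t, Points.ofPt ((yon S).map (𝟙 (Over.mk (f (φ.left t) ≫ T.hom)))) z, ?_⟩
    rw [Points.map_ofPt, ← Functor.map_comp, Category.id_comp, Groth.Agent.AlgSpLib.ofScheme_map,
      Groth.Agent.AlgSpLib.ofScheme_map]
    exact congrArg _ hz

theorem isAlgSpace_P (hB : IsAlgSpace B) (hG : IsAlgSpace G.left) (A : SpQuotObj Scheme.fppfPrecoverage G aX) :
    IsAlgSpace A.P.left := by
  obtain ⟨R, hR, hs⟩ := A.loc
  obtain ⟨I, Z, f, rfl⟩ := R.exists_eq_ofArrows
  obtain ⟨hsurj, hprop⟩ := (Scheme.ofArrows_mem_precoverage_iff _).1 hR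
  choose i hi using hsurj
  choose s hs using fun x => hs (f (i x)) ⟨i x⟩
  refine Groth.Agent.S10138.result S ⟨_, IsAlgSpace.yon_obj A.base⟩
    (fun x => ⟨(yon S).obj (Over.mk (f (i x) ≫ A.base.hom)), IsAlgSpace.yon_obj _⟩) _
    (isFppfCover_of_family (fun x => Z (i x)) (fun x => f (i x)) (fun x => (hprop (i x)).1)
      (fun x => (hprop (i x)).2) hi) A.P.left A.π.left fun x P fst snd sq => ?_
  let m : Over.mk (f (i x) ≫ A.base.hom) ⟶ A.base := Over.homMk (f (i x)) rfl
  have h₁ : IsAlgSpace (pullObj A m).P.left := isAlgSpace_pullObj_P hB hG A m (s x) (hs x)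
  have h₂ : IsPullback (pullHom A m).top.left (pullObj A m).π.left A.π.left ((yon S).map m) :=
    isPullback_left (pullHom A m).cart
  exact IsAlgSpace.of_iso h₁ (h₂.isoIsPullback _ _ sq)

/-- a full subcategory containing every object is everything -/
theorem isEquivOver_subIncl {C : BasedCategory.{u + 1, u + 2} (Over S)} (Q : C.obj → Prop) (h : ∀ a, Q a) :
    FibCat.IsEquivOver (AlgSt.subIncl C Q) :=
  haveI : (AlgSt.subIncl C Q).toFunctor.Full := inferInstanceAs (ObjectProperty.ι Q).Full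
  haveI : (AlgSt.subIncl C Q).toFunctor.Faithful := inferInstanceAs (ObjectProperty.ι Q).Faithful
  Groth.Agent.FibCatRep.isEquivOver_of_fullyFaithful _ fun a =>
    ⟨⟨a, h a⟩, Iso.refl _, rfl, C.p.map_id a⟩

end Groth.Agent.AlgStLib.SpQuot

end
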