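import Groth.Agent.AlgStLib.QC2
import Groth.Agent.AlgStLib.QuotSpectral

/-!
# The space of points of an algebraic stack with quasi-compact diagonal is locally spectral
-/

set_option autoImplicit false
set_option backward.isDefEq.respectTransparency false
set_option backward.isDefEq.respectTransparency.types false
set_option linter.style.haveILetI false
universe u

noncomputable section

namespace Groth.Agent.AlgStLib

open CategoryTheory CategoryTheory.Limits AlgebraicGeometry Opposite Groth.Agent.FibCatRep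
  Groth.Agent.FibCat2Misc Groth.Agent.AlgSpLib Groth.Agent.StkBasic Groth.Agent.SpQS
open _root_.AlgSp _root_.AlgSt

variable {S : Scheme.{u}} {𝒳 : AlgSt.Cat S}

/-- an affine scheme parametrising the pairs of points with the same image -/
theorem exists_affine_pair_chart (h𝒳 : FibCat.IsFibGrpd 𝒳.p) {U V : Over S} (x : FibCat.overCat U ⥤ᵇ 𝒳)
    (y : FibCat.overCat V ⥤ᵇ 𝒳) (hx : RepByAlgSp1 x) (hq : AlgSt.IsQuasiCompact (FibCat.fp y x)) :
    ∃ (W : Over S) (a : W ⟶ U) (b : W ⟶ V), IsAffine W.left ∧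
      Nonempty (BasedFunctor.comp (AlgSt.overMap b) y ≅ BasedFunctor.comp (AlgSt.overMap a) x) ∧
      (∀ (t : ↥U.left) (s : ↥V.left), AlgSt.Points.ofChart x t = AlgSt.Points.ofChart y s →
        ∃ w : ↥W.left, a.left w = t ∧ b.left w = s) := by
  obtain ⟨F, e, he⟩ := hx V y
  haveI := compactSpace_of_isQuasiCompactSp
    ((isQuasiCompact_ofSp_iff F).1 ((isQuasiCompact_iff_of_equiv he (isAlgStack_ofSp F)).2 hq))
  obtain ⟨W, π, hW, hce, hcs⟩ := exists_affine_chart_of_compact F.property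
  let c := π
  obtain ⟨k, hk, -, ⟨j⟩⟩ := isEquivOver_symm he
  let p₁ := BasedFunctor.comp e (FibCat.fpFst y x)
  let p₂ := BasedFunctor.comp e (FibCat.fpSnd y x)
  let C := BasedFunctor.comp (ofOverCat W) (Stk.ofPshMap c.hom)
  obtain ⟨b, hb, ⟨ib⟩⟩ := exists_map_of_chart c p₁
  obtain ⟨a, ha, ⟨ia⟩⟩ := exists_map_of_chart c p₂
  refine ⟨W, a, b, hW, ⟨?_⟩, fun t s hts => ?_⟩
  · exact ((post _ y).mapIso ib).symm ≪≫
      (Stk.restr (BasedFunctor.comp C e) 𝒳).mapIso (FibCat.fpIso y x) ≪≫ (post _ x).mapIso ia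
  · obtain ⟨K, α, β, κ, ⟨i⟩, rfl, rfl⟩ := exists_common_point h𝒳 hts
    let L : FibCat.overCat K ⥤ᵇ FibCat.fp y x := FibCat.fpLift (AlgSt.overMap β) (AlgSt.overMap α) i.symm
    let l : (yon S).obj K ⟶ F.obj :=
      ObjectProperty.homMk (mapOf (BasedFunctor.comp (BasedFunctor.comp (toOverCat K) L) k))
    have hl : ∀ {T : Over S} (Φ : FibCat.fp y x ⥤ᵇ FibCat.overCat T) (γ : K ⟶ T)
        (_ : BasedFunctor.comp L Φ ≅ AlgSt.overMap γ),
        l ≫ spMapOfOver (BasedFunctor.comp e Φ) = (yon S).map γ := by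
      intro T Φ γ iΦ
      refine ObjectProperty.hom_ext _ ?_
      show l.hom ≫ (spMapOfOver (BasedFunctor.comp e Φ)).hom = _
      rw [spMapOfOver_hom]
      refine (mapOf_comp _ _).symm.trans ((mapOf_congr ((post _ (BasedFunctor.comp Φ (ofOverCat T))).mapIso
        ((Stk.restr (BasedFunctor.comp (toOverCat K) L) _).mapIso j) ≪≫
        (post _ (ofOverCat T)).mapIso ((Stk.restr (toOverCat K) _).mapIso iΦ))).trans ?_)
      ext Z g
      exact ULift.ext _ _ (by
        show 𝟙 _ ≫ g.down ≫ γ = g.down ≫ γ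
        rw [Category.id_comp])
    obtain ⟨K', f₁, f₂, sqK, hsK⟩ := exists_repWith hcs l
    obtain ⟨g₁, hg₁⟩ := exists_map_eq f₁
    haveI : Surjective f₂.left := hsK
    obtain ⟨v, hv⟩ := f₂.left.surjective κ
    have eb : g₁ ≫ b = f₂ ≫ β := (yon S).map_injective (by
      rw [Functor.map_comp, Functor.map_comp, hb, hg₁, sqK.w_assoc, hl (FibCat.fpFst y x) β (Iso.refl _)])
    have ea : g₁ ≫ a = f₂ ≫ α := (yon S).map_injective (by
      rw [Functor.map_comp, Functor.map_comp, ha, hg₁, sqK.w_assoc, hl (FibCat.fpSnd y x) α (Iso.refl _)])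
    refine ⟨g₁.left v, ?_, ?_⟩
    · show (g₁ ≫ a).left v = α.left κ
      rw [ea, ← hv]
      rfl
    · show (g₁ ≫ b).left v = β.left κ
      rw [eb, ← hv]
      rfl

/-- the image of an affine chart is spectral -/
theorem spectralSpace_range [QuasiSeparatedSpace S] (h𝒳 : IsAlgStack Scheme.fppfPrecoverage 𝒳)
    (hΔ : RepByAlgSpWith AlgSp.IsQuasiCompactMor (FibCat.diag (FibCat.toSelf 𝒳))) {U : Over S} [IsAffine U.left]
    (x : FibCat.overCat U ⥤ᵇ 𝒳) (hx : RepByAlgSpWith (LocP @Smooth) x) :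
    SpectralSpace (Set.range (AlgSt.Points.ofChart x)) := by
  have hU := isAlgStack_overCat U
  have hq : AlgSt.IsQuasiCompactMor Scheme.fppfPrecoverage x := by
    refine isQuasiCompactMor_of_comp hU h𝒳 isAlgStack_self ?_ hΔ
    rw [comp_toSelf]
    exact isQuasiCompactMor_toSelf_overCat U
  obtain ⟨W, a, b, hW, ⟨i⟩, hp⟩ := exists_affine_pair_chart h𝒳.isStack.1 x x (repByAlgSp1_of_with hx)
    (isQuasiCompact_fp_overCat hq U x)
  haveI := hW
  let f : U.left → Set.range (AlgSt.Points.ofChart x) := Set.rangeFactorization (AlgSt.Points.ofChart x)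
  have hrel : ∀ t s : U.left, f t = f s ↔ ∃ w, a.left w = t ∧ b.left w = s := fun t s =>
    ⟨fun h => hp t s (congrArg Subtype.val h), fun ⟨w, hw, hw'⟩ => Subtype.ext (by
      show AlgSt.Points.ofChart x t = AlgSt.Points.ofChart x s
      rw [← hw, ← hw', ← ofChart_overMap, ← ofChart_overMap, ofChart_congr i])⟩
  have e : ∀ O : Set U.left, f ⁻¹' (f '' O) = b.left '' (a.left ⁻¹' O) := by
    intro O
    ext s
    constructor
    · rintro ⟨t, ht, h⟩
      obtain ⟨w, rfl, rfl⟩ := (hrel t s).1 h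
      exact ⟨w, ht, rfl⟩
    · rintro ⟨w, hw, rfl⟩
      exact ⟨a.left w, hw, (hrel _ _).2 ⟨w, rfl, rfl⟩⟩
  haveI : QuasiCompact a.left := inferInstance
  haveI : QuasiCompact b.left := inferInstance
  have hcb := SpecSpLib.continuous_cons_of_isSpectralMap b.left.isSpectralMap
  have hca := SpecSpLib.continuous_cons_of_isSpectralMap a.left.isSpectralMap
  haveI : SpectralSpace U.left := {}
  haveI : SpectralSpace W.left := {}
  refine QuotSpectral.spectralSpace_of_open_surjective (f := f) (continuous_ofChart h𝒳 x).rangeFactorization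
    (fun O hO => ?_) (Set.rangeFactorization_surjective (f := AlgSt.Points.ofChart x)) (fun O hO hOc => ?_) fun t => ?_
  · have ho := isOpenMap_ofChart h𝒳.isStack.1 x (repWith_flat_of_smooth hx) (repWith_lfp_of_smooth hx) O hO
    rw [show f '' O = Subtype.val ⁻¹' (AlgSt.Points.ofChart x '' O) by
      ext ⟨p, hp'⟩
      exact ⟨fun ⟨t, ht, h⟩ => ⟨t, ht, congrArg Subtype.val h⟩, fun ⟨t, ht, h⟩ => ⟨t, ht, Subtype.ext h⟩⟩]
    exact ho.preimage continuous_subtype_val
  · rw [e]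
    exact (a.left.isSpectralMap.isCompact_preimage_of_isOpen hO hOc).image b.left.continuous
  · have et : f ⁻¹' {f t} = b.left '' (a.left ⁻¹' {t}) := by rw [← e, Set.image_singleton]
    rw [et]
    refine SpecSpLib.isClosed_image_cons hcb ?_
    have ht := @isOpen_compl_singleton _ (constructibleTopology U.left)
      (@T2Space.t1Space _ (constructibleTopology U.left) ConsTop.t2Space_cons) t
    exact @IsOpen.preimage _ _ (constructibleTopology W.left) (constructibleTopology U.left) _ hca _ ht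

/-- finitely many affine opens of an open surjective chart -/
theorem exists_affine_etale_refinement [CompactSpace (AlgSt.Points 𝒳)] {U : Over S} (x : FibCat.overCat U ⥤ᵇ 𝒳)
    (ho : IsOpenMap (AlgSt.Points.ofChart x)) (hs : Function.Surjective (AlgSt.Points.ofChart x)) :
    ∃ (U' : Over S) (d : U' ⟶ U), IsAffine U'.left ∧ Etale d.left ∧
      Function.Surjective (AlgSt.Points.ofChart (BasedFunctor.comp (AlgSt.overMap d) x)) := by
  let ι := {Z : U.left.Opens // IsAffineOpen Z}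
  obtain ⟨s, hs'⟩ := isCompact_univ.elim_finite_subcover
    (fun Z : ι => AlgSt.Points.ofChart x '' (Z.1 : Set U.left)) (fun Z => ho _ Z.1.isOpen) (fun p _ => by
      obtain ⟨t, rfl⟩ := hs p
      obtain ⟨Z, hZ, htZ, -⟩ := TopologicalSpace.Opens.isBasis_iff_nbhd.mp U.left.isBasis_affineOpens
        (TopologicalSpace.Opens.mem_top t)
      exact Set.mem_iUnion.mpr ⟨⟨Z, hZ⟩, t, htZ, rfl⟩)
  let q : (∐ fun Z : s => Z.1.1.toScheme) ⟶ U.left := Sigma.desc fun Z => Z.1.1.ι
  haveI : ∀ Z : s, IsAffine Z.1.1.toScheme := fun Z => Z.1.2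
  let U' : Over S := Over.mk (q ≫ U.hom)
  let d : U' ⟶ U := Over.homMk q rfl
  refine ⟨U', d, inferInstanceAs (IsAffine (∐ fun Z : s => Z.1.1.toScheme)),
    (IsZariskiLocalAtSource.iff_of_openCover (P := @Etale) (sigmaOpenCover fun Z : s => Z.1.1.toScheme)).2
      (fun Z => by
        show Etale (Sigma.ι _ Z ≫ q)
        rw [Sigma.ι_desc]
        infer_instance), fun p => ?_⟩
  obtain ⟨Z, hZ⟩ := Set.mem_iUnion.mp (hs' (Set.mem_univ p))
  obtain ⟨hZs, t, ht, rfl⟩ := Set.mem_iUnion.mp hZ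
  refine ⟨Sigma.ι (fun Z : s => Z.1.1.toScheme) ⟨Z, hZs⟩ ⟨t, ht⟩, ?_⟩
  rw [ofChart_overMap]
  congr 1
  show (Sigma.ι (fun Z : s => Z.1.1.toScheme) ⟨Z, hZs⟩ ≫ q) ⟨t, ht⟩ = t
  rw [Sigma.ι_desc]
  rfl

/-- the points of an algebraic stack with quasi-compact diagonal form a locally spectral sober space -/
theorem locally_spectral [QuasiSeparatedSpace S] (h𝒳 : IsAlgStack Scheme.fppfPrecoverage 𝒳)
    (hΔ : RepByAlgSpWith AlgSp.IsQuasiCompactMor (FibCat.diag (FibCat.toSelf 𝒳))) :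
    (∀ p : AlgSt.Points 𝒳, ∃ O : Set (AlgSt.Points 𝒳), IsOpen O ∧ p ∈ O ∧ SpectralSpace ↥O) ∧
      QuasiSober (AlgSt.Points 𝒳) ∧ T0Space (AlgSt.Points 𝒳) := by
  have main : ∀ p : AlgSt.Points 𝒳, ∃ O : Set (AlgSt.Points 𝒳), IsOpen O ∧ p ∈ O ∧ SpectralSpace ↥O := by
    intro p
    obtain ⟨U, x, hx, hxs⟩ := h𝒳.atlas
    obtain ⟨t, rfl⟩ := exists_point_of_surjective h𝒳.isStack.1 x hxs p
    obtain ⟨Z, hZ, htZ, -⟩ := TopologicalSpace.Opens.isBasis_iff_nbhd.mp U.left.isBasis_affineOpens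
      (TopologicalSpace.Opens.mem_top t)
    haveI : IsAffine (Scheme.Opens.toScheme Z) := hZ
    let d : Over.mk ((Scheme.Opens.ι Z) ≫ U.hom) ⟶ U := Over.homMk (Scheme.Opens.ι Z) rfl
    let x' := BasedFunctor.comp (AlgSt.overMap d) x
    haveI : IsAffine (Over.mk ((Scheme.Opens.ι Z) ≫ U.hom)).left := hZ
    haveI : Etale d.left := inferInstanceAs (Etale (Scheme.Opens.ι Z))
    have hx' : RepByAlgSpWith (LocP @Smooth) x' :=
      repWith_comp (isFibGrpd_overCat _) (isFibGrpd_overCat _) cls_smooth.bc cls_smooth.comp cls_smooth.loc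
        (repWith_smooth_overMap d) hx
    refine ⟨Set.range (AlgSt.Points.ofChart x'), ?_, ⟨⟨t, htZ⟩, ?_⟩, spectralSpace_range h𝒳 hΔ x' hx'⟩
    · exact (isOpenMap_ofChart h𝒳.isStack.1 x' (repWith_flat_of_smooth hx') (repWith_lfp_of_smooth hx')).isOpen_range
    · exact ofChart_overMap x d _
  refine ⟨main, ⟨fun {C} hC hCc => ?_⟩, T0Space.of_open_cover fun p => ?_⟩
  · obtain ⟨p, hp⟩ := hC.nonempty
    obtain ⟨O, hO, hpO, hsp⟩ := main p
    haveI := hsp
    obtain ⟨g, hg⟩ := QuasiSober.sober (S := (Subtype.val : O → _) ⁻¹' C)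
      (hC.preimage hO.isOpenEmbedding_subtypeVal (by simpa using ⟨p, hp, hpO⟩))
      (hCc.preimage continuous_subtype_val)
    refine ⟨g.1, ?_⟩
    have hgC : g.1 ∈ C := hg.mem
    refine subset_antisymm (closure_minimal (Set.singleton_subset_iff.2 hgC) hCc) ?_
    refine (subset_closure_inter_of_isPreirreducible_of_isOpen hC.isPreirreducible hO ⟨p, hp, hpO⟩).trans
      (closure_minimal ?_ isClosed_closure)
    rintro q ⟨hqC, hqO⟩
    exact closure_mono (by simp) (image_closure_subset_closure_image continuous_subtype_val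
      (s := {g}) ⟨⟨q, hqO⟩, hg.def ▸ hqC, rfl⟩)
  · obtain ⟨O, hO, hpO, hsp⟩ := main p
    exact ⟨O, hpO, hO, inferInstance⟩

theorem spectralSpace_of_qc [QuasiSeparatedSpace S] (h𝒳 : IsAlgStack Scheme.fppfPrecoverage 𝒳)
    (hqc : AlgSt.IsQuasiCompact 𝒳)
    (hΔ : RepByAlgSpWith AlgSp.IsQuasiCompactMor (FibCat.diag (FibCat.toSelf 𝒳))) :
    SpectralSpace (AlgSt.Points 𝒳) := by
  haveI := (isQuasiCompact_iff_compactSpace h𝒳).1 hqc
  obtain ⟨U, x, hx, hxs⟩ := h𝒳.atlas
  obtain ⟨U', d, hU', hde, hd⟩ := exists_affine_etale_refinement x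
    (isOpenMap_ofChart h𝒳.isStack.1 x (repWith_flat_of_smooth hx) (repWith_lfp_of_smooth hx))
    (fun p => exists_point_of_surjective h𝒳.isStack.1 x hxs p)
  haveI := hU'
  haveI := hde
  have hx' : RepByAlgSpWith (LocP @Smooth) (BasedFunctor.comp (AlgSt.overMap d) x) :=
    repWith_comp (isFibGrpd_overCat _) (isFibGrpd_overCat _) cls_smooth.bc cls_smooth.comp cls_smooth.loc
      (repWith_smooth_overMap d) hx
  haveI := spectralSpace_range h𝒳 hΔ _ hx'
  exact ((Homeomorph.setCongr (Set.range_eq_univ.2 hd)).trans (Homeomorph.Set.univ _)).symm.isOpenEmbedding.spectralSpace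

end Groth.Agent.AlgStLib

end
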