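import Groth.Agent.AlgStLib.MonoPoint
import Groth.Agent.AlgStLib.Faithful
import Groth.Agent.AlgStLib.DiagProps
import Groth.Agent.AlgStLib.MorphProps
import Groth.Agent.GerbLib.Basic
import Mathlib.FieldTheory.IsAlgClosed.AlgebraicClosure

/-!
# Trivial automorphisms at geometric points
-/

set_option autoImplicit false
set_option backward.isDefEq.respectTransparency false
set_option backward.isDefEq.respectTransparency.types false
set_option linter.style.haveILetI false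
universe u

noncomputable section

namespace Groth.Agent.AlgStLib

open CategoryTheory CategoryTheory.Limits AlgebraicGeometry Opposite Groth.Agent.FibCatRep
  Groth.Agent.FibCat2Misc Groth.Agent.AlgSpLib Groth.Agent.StkBasic
open _root_.AlgSp _root_.AlgSt

variable {S : Scheme.{u}} {𝒳 𝒴 : AlgSt.Cat S}

theorem isIso_of_openImmersion_surjective {F : Sp S} {U : Over S} (a : F ⟶ (yon S).obj U)
    (ha : RepWith @IsOpenImmersion a) (hs : AlgSp.IsSurjectiveMor a) : IsIso a := by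
  obtain ⟨V, z, v, sq, hv⟩ := exists_repWith ha (𝟙 _)
  haveI : IsOpenImmersion v.left := hv
  haveI : IsIso z := sq.isIso_fst_of_isIso
  haveI : Surjective v.left := ⟨fun t => by
    obtain ⟨y, hy⟩ := hs (AlgSp.Points.ofScheme U t)
    obtain ⟨p, -, hp⟩ := exists_point_of_isPullback sq y (AlgSp.Points.ofScheme U t)
      (hy.trans (AlgSp.Points.map_id _).symm)
    obtain ⟨w, rfl⟩ := (AlgSp.Points.schemeEquiv V).surjective p
    refine ⟨w, (AlgSp.Points.schemeEquiv U).injective ?_⟩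
    refine Eq.trans ?_ hp
    show AlgSp.Points.ofScheme U (v.left w) = AlgSp.Points.map ((yon S).map v) (AlgSp.Points.ofScheme V w)
    rw [← AlgSp.Points.ofPt_eq_map_ofScheme, ofScheme_map]⟩
  haveI : IsIso v.left := by
    rw [isIso_iff_isOpenImmersion_and_epi_base]
    exact ⟨inferInstance, (TopCat.epi_iff_surjective _).2 v.left.surjective⟩
  haveI : IsIso ((Over.forget S).map v) := ‹IsIso v.left›
  haveI : IsIso v := isIso_of_reflects_iso v (Over.forget S)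
  have e : z ≫ a = (yon S).map v := by rw [sq.w, Category.comp_id]
  haveI : IsIso (z ≫ a) := by rw [e]; infer_instance
  exact IsIso.of_isIso_comp_left z a

/-- representable functors with invertible models are equivalences -/
theorem isEquivOver_of_repWith_isIso' (h𝒳g : FibCat.IsFibGrpd 𝒳.p) (h𝒴 : FibCat.IsFibGrpd 𝒴.p)
    {f : 𝒳 ⥤ᵇ 𝒴} (h : RepByAlgSpWith (MorphismProperty.isomorphisms (Sp S)) f) : FibCat.IsEquivOver f := by
  have hm : AlgSt.IsMono f := repWith_mono h fun _ _ g _ hg => by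
    haveI : IsIso g := hg
    exact (inferInstance : Mono g)
  obtain ⟨hfull, hfaith⟩ := fullyFaithful_of_isMono h𝒳g h𝒴 hm
  haveI := hfull
  haveI := hfaith
  refine isEquivOver_of_fullyFaithful f fun η => ?_
  obtain ⟨y, i, hi⟩ := exists_point h𝒴 η
  obtain ⟨V, a, e, he, ⟨j⟩, ha⟩ := exists_model_of_repWith cls_isIso.bc cls_isIso.loc h𝒳g h𝒴 h
    (spOf (𝒴.p.obj η)) y
  haveI : IsIso a.hom := ha
  let ia : AlgSt.ofSp (spOf (𝒴.p.obj η)).obj ⥤ᵇ AlgSt.ofSp V.obj := Stk.ofPshMap (inv a.hom).hom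
  let z := BasedFunctor.comp ia e
  have k : BasedFunctor.comp z (FibCat.fpFst y f) ≅ BasedFunctor.id _ :=
    (Stk.restr ia _).mapIso j ≪≫ isoOfSec (BasedFunctor.comp ia (AlgSt.ofSpMap a.hom)) _ fun o => by
      rw [secOf_comp_ofPshMap, secOf_ofPshMap, secOf_id]
      show a.hom.hom.app _ ((inv a.hom).hom.app _ o.sec) = o.sec
      have hh : (inv a.hom).hom ≫ a.hom.hom = 𝟙 _ := congrArg (fun t => t.hom) (IsIso.inv_hom_id a.hom)
      exact congrArg (fun t => t.app (op o.base) o.sec) hh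
  let w := BasedFunctor.comp z (FibCat.fpSnd y f)
  let E : BasedFunctor.comp w f ≅ y :=
    ((Stk.restr z _).mapIso (FibCat.fpIso y f)).symm ≪≫ (post _ y).mapIso k
  let E₀ := ((BasedNatTrans.forgetful _ _).mapIso E).app (pt (𝒴.p.obj η))
  refine ⟨w.obj (pt _), E₀ ≪≫ i, ((f.w_obj _).trans (w.w_obj (pt _))), ?_⟩
  show 𝒴.p.map (E.hom.toNatTrans.app _ ≫ i.hom) = _
  rw [Functor.map_comp, map_app, hi, eqToHom_trans]

theorem isEquivOver_of_isOpenImm_surjective (h𝒳 : FibCat.IsFibGrpd 𝒳.p)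
    (h𝒴 : FibCat.IsFibGrpd 𝒴.p) {f : 𝒳 ⥤ᵇ 𝒴} (h : AlgSt.IsOpenImm f) (hs : AlgSt.IsSurjective f) :
    FibCat.IsEquivOver f := by
  haveI : (AlgSp.IsSurjectiveMor (S := S)).RespectsIso := respectsIso_of_bc fun _ _ _ _ a f g b sq hg y => by
    obtain ⟨x, hx⟩ := hg (AlgSp.Points.map b y)
    obtain ⟨p, -, hp⟩ := exists_point_of_isPullback sq x y hx
    exact ⟨p, hp⟩
  refine isEquivOver_of_repWith_isIso' h𝒳 h𝒴 (repWith_mono (repWith_and h
    (repWith_surjective_of_isSurjective h𝒳 h𝒴 (repByAlgSp1_of_with h) hs)) ?_)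
  intro F U a _ ha
  exact isIso_of_openImmersion_surjective a ha.1 ha.2

theorem isSurjective_diag_diag (h𝒳 : FibCat.IsFibGrpd 𝒳.p) (h𝒴 : FibCat.IsFibGrpd 𝒴.p) (f : 𝒳 ⥤ᵇ 𝒴)
    (h : ∀ (k : Type u) [Field k] [IsAlgClosed k] (s : Spec (CommRingCat.of k) ⟶ S) (ξ : 𝒳.obj)
      (_ : 𝒳.p.obj ξ = Over.mk s) (a : ξ ⟶ ξ),
      𝒳.p.IsHomLift (𝟙 (𝒳.p.obj ξ)) a → f.map a = 𝟙 (f.obj ξ) → a = 𝟙 ξ) :
    AlgSt.IsSurjective (FibCat.diag (FibCat.diag f)) := by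
  intro w
  obtain ⟨p, rfl⟩ := AlgSt.Points.mk_surjective w
  let P := FibCat.fp (FibCat.diag f) (FibCat.diag f)
  have hP : FibCat.IsFibGrpd P.p := isFibGrpd_fp h𝒳 h𝒳 (isFibGrpd_fp h𝒳 h𝒳 h𝒴 f f) _ _
  letI := p.field
  let k : Type u := AlgebraicClosure p.K
  let ψ : Spec (CommRingCat.of k) ⟶ Spec (CommRingCat.of p.K) :=
    Spec.map (CommRingCat.ofHom (algebraMap p.K k))
  let V : Over S := Over.mk (ψ ≫ p.str)
  let g : V ⟶ P.p.obj p.obj := (Over.homMk ψ rfl : V ⟶ Over.mk p.str) ≫ eqToHom p.lies.symm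
  obtain ⟨η, φ, hφ⟩ := GerbLib.lift_at hP rfl g
  haveI := hφ
  have hη : P.p.obj η = V := IsHomLift.domain_eq P.p g φ
  rw [AlgSt.Points.sound (p := p) (q := ⟨k, ψ ≫ p.str, η, hη⟩)
    ⟨⟨k, ψ ≫ p.str, η, hη⟩, φ, 𝟙 η, trivial⟩]
  obtain ⟨q, hq⟩ := map_iso_hom η
  let x := η.obj.fst
  let x' := η.obj.snd
  let k₁ : x ≅ x' := (FibCat.fpFst f f).toFunctor.mapIso η.obj.iso
  let k₂ : x ≅ x' := (FibCat.fpSnd f f).toFunctor.mapIso η.obj.iso
  have w : f.map k₁.hom ≫ 𝟙 _ = 𝟙 _ ≫ f.map k₂.hom := η.obj.iso.hom.hom.w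
  rw [Category.comp_id, Category.id_comp] at w
  have hx : 𝒳.p.obj x = V := hη
  have hf : f.map (k₁ ≪≫ k₂.symm).hom = 𝟙 (f.obj x) := by
    rw [Iso.trans_hom, Functor.map_comp, w, ← Functor.map_comp, Iso.symm_hom, Iso.hom_inv_id,
      CategoryTheory.Functor.map_id]
  have hp : 𝒳.p.map (k₁ ≪≫ k₂.symm).hom = 𝟙 (𝒳.p.obj x) := by
    have e : 𝒳.p.map k₁.hom = 𝒳.p.map k₂.hom := by
      have := (map_map f k₁.hom).symm.trans ((congrArg 𝒴.p.map w).trans (map_map f k₂.hom))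
      rwa [cancel_epi, cancel_mono] at this
    rw [Iso.trans_hom, Functor.map_comp, e, ← Functor.map_comp, Iso.symm_hom, Iso.hom_inv_id,
      CategoryTheory.Functor.map_id]
  have e := h k (ψ ≫ p.str) x hx (k₁ ≪≫ k₂.symm).hom (IsHomLift.of_fac' _ _ _ rfl rfl (by simpa using hp)) hf
  have e' : k₁.hom = k₂.hom := by
    have := congrArg (· ≫ k₂.hom) e
    simpa using this
  let i : (FibCat.diag (FibCat.diag f)).obj x ≅ η :=
    ObjectProperty.isoMk _ (CategoricalPullback.mkIso (Iso.refl x) k₁ (by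
      refine ObjectProperty.hom_ext _ (CategoricalPullback.hom_ext ?_ ?_)
      · show 𝟙 x ≫ k₁.hom = 𝟙 x ≫ k₁.hom
        rfl
      · show 𝟙 x ≫ k₂.hom = 𝟙 x ≫ k₁.hom
        rw [e']))
  refine ⟨AlgSt.Points.mk ⟨k, ψ ≫ p.str, x, hx⟩, ?_⟩
  rw [AlgSt.Points.map_mk]
  exact AlgSt.Points.sound ⟨⟨k, ψ ≫ p.str, (FibCat.diag (FibCat.diag f)).obj x,
    ((FibCat.diag (FibCat.diag f)).w_obj x).trans hx⟩, 𝟙 _, i.hom, trivial⟩

/-- DM morphisms without automorphisms at geometric points are representable -/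
theorem trivial_of_geomPoints (h𝒳g : FibCat.IsFibGrpd 𝒳.p)
    (h𝒴g : FibCat.IsFibGrpd 𝒴.p) {f : 𝒳 ⥤ᵇ 𝒴} (hf : AlgSt.IsDMMor f)
    (h : ∀ (k : Type u) [Field k] [IsAlgClosed k] (s : Spec (CommRingCat.of k) ⟶ S) (ξ : 𝒳.obj)
      (_ : 𝒳.p.obj ξ = Over.mk s) (a : ξ ⟶ ξ),
      𝒳.p.IsHomLift (𝟙 (𝒳.p.obj ξ)) a → f.map a = 𝟙 (f.obj ξ) → a = 𝟙 ξ) :
    ∀ (a : 𝒳.obj) (φ : a ⟶ a), 𝒳.p.map φ = 𝟙 (𝒳.p.obj a) → f.map φ = 𝟙 (f.obj a) → φ = 𝟙 a := by
  have hP := isFibGrpd_fp h𝒳g h𝒳g (isFibGrpd_fp h𝒳g h𝒳g h𝒴g f f) (FibCat.diag f) (FibCat.diag f)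
  exact trivial_of_isEquivOver_diag_diag h𝒳g (isEquivOver_of_isOpenImm_surjective h𝒳g hP
    (isOpenImm_diag_of_unramified hf) (isSurjective_diag_diag h𝒳g h𝒴g f h))

end Groth.Agent.AlgStLib
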