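import Groth.Agent.AlgStLib.TrivAut
import Groth.Agent.UnramPt.Basic
import Groth.Agent.AlgStLib.Morphisms
import Groth.Agent.AlgStLib.QC2
import Groth.Agent.S12766
import Groth.Prelude.Def_StGerb
import Mathlib.AlgebraicGeometry.PullbackCarrier

/-!
# Stacks with trivial stabilisers at geometric points
-/

set_option autoImplicit false
set_option backward.isDefEq.respectTransparency false
set_option backward.isDefEq.respectTransparency.types false
set_option linter.style.haveILetI false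
universe u

noncomputable section

namespace Groth.Agent.AlgStLib

open CategoryTheory CategoryTheory.Limits AlgebraicGeometry Opposite Groth.Agent.FibCatRep
  Groth.Agent.FibCat2Misc Groth.Agent.AlgSpLib Groth.Agent.StkBasic
open _root_.AlgSp _root_.AlgSt

variable {S : Scheme.{u}} {𝒳 : AlgSt.Cat S}

/-- no automorphisms over geometric points, on all test schemes -/
def TrivStab (𝒳 : AlgSt.Cat S) : Prop :=
  ∀ (k : Type u) [Field k] [IsAlgClosed k] (x : 𝒳.obj) (_ : (𝒳.p.obj x).left ≅ Spec (CommRingCat.of k))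
    (ξ : 𝒳.obj) (_ : ξ ⟶ x) (σ : ξ ⟶ ξ), 𝒳.p.map σ = 𝟙 (𝒳.p.obj ξ) → σ = 𝟙 ξ

theorem isEquivOver_neutralLift (h : TrivStab 𝒳) {k : Type u} [Field k] [IsAlgClosed k] {K : Over S}
    (eK : K.left ≅ Spec (CommRingCat.of k)) (y : Stk.ofPsh ((pyon S).obj K) ⥤ᵇ 𝒳) :
    FibCat.IsEquivOver (FibCat.fpLift (F := y) (G := FibCat.inertiaToBase (FibCat.toSelf 𝒳))
      (BasedFunctor.id _) (BasedFunctor.comp y (FibCat.inertiaNeutral (FibCat.toSelf 𝒳))) (Iso.refl _)) := by
  let L := FibCat.fpLift (F := y) (G := FibCat.inertiaToBase (FibCat.toSelf 𝒳))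
      (BasedFunctor.id _) (BasedFunctor.comp y (FibCat.inertiaNeutral (FibCat.toSelf 𝒳))) (Iso.refl _)
  let x := y.obj (pt K)
  let ex : (𝒳.p.obj x).left ≅ Spec (CommRingCat.of k) :=
    eqToIso (congrArg (fun Z : Over S => Z.left) (y.w_obj (pt K))) ≪≫ eK
  have triv : ∀ η : (FibCat.fp y (FibCat.inertiaToBase (FibCat.toSelf 𝒳))).obj,
      η.obj.snd.aut.hom = 𝟙 η.obj.snd.pt := by
    intro η
    let ξ := η.obj.snd.pt
    let j : y.obj η.obj.fst ≅ ξ := η.obj.iso
    let o := η.obj.fst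
    let m : o ⟶ pt K := ⟨o.sec.down, ULift.ext _ _ (by show o.sec.down ≫ 𝟙 K = o.sec.down; exact Category.comp_id _)⟩
    exact h k x ex ξ (j.inv ≫ y.map m) η.obj.snd.aut.hom η.obj.snd.map_aut
  haveI : L.toFunctor.Faithful := ⟨fun {a b} m m' e => congrArg (fun t => t.hom.fst) e⟩
  haveI : L.toFunctor.Full := ⟨fun {a b} M => by
    let m : a ⟶ b := M.hom.fst
    have w : y.map m ≫ 𝟙 _ = 𝟙 _ ≫ M.hom.snd.hom := M.hom.w
    rw [Category.comp_id, Category.id_comp] at w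
    exact ⟨m, ObjectProperty.hom_ext _ (CategoricalPullback.hom_ext rfl (FibCat.InertiaObj.hom_ext w))⟩⟩
  refine isEquivOver_of_fullyFaithful L fun η => ?_
  let j : y.obj η.obj.fst ≅ η.obj.snd.pt := η.obj.iso
  let j' : (FibCat.inertiaNeutral (FibCat.toSelf 𝒳)).obj (y.obj η.obj.fst) ≅ η.obj.snd :=
    { hom := ⟨j.hom, by
        show 𝟙 (y.obj η.obj.fst) ≫ j.hom = j.hom ≫ η.obj.snd.aut.hom
        rw [triv η, Category.id_comp, Category.comp_id]⟩
      inv := ⟨j.inv, by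
        show η.obj.snd.aut.hom ≫ j.inv = j.inv ≫ 𝟙 (y.obj η.obj.fst)
        rw [triv η, Category.id_comp, Category.comp_id]⟩
      hom_inv_id := FibCat.InertiaObj.hom_ext j.hom_inv_id
      inv_hom_id := FibCat.InertiaObj.hom_ext j.inv_hom_id }
  refine ⟨η.obj.fst, ObjectProperty.isoMk _ (CategoricalPullback.mkIso (Iso.refl _) j' ?_), rfl, ?_⟩
  · show y.map (𝟙 _) ≫ j.hom = 𝟙 _ ≫ j.hom
    rw [y.toFunctor.map_id]
  · exact (Stk.ofPsh ((pyon S).obj K)).p.map_id _

/-- the stabilisers are then unramified -/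
theorem repWith_unramified_inertia (hd : RepByAlgSpWith (LocP @LocallyOfFiniteType) (FibCat.diag (FibCat.toSelf 𝒳)))
    (h : TrivStab 𝒳) :
    RepByAlgSpWith (LocP (@LocallyOfFiniteType ⊓ @FormallyUnramified))
      (FibCat.inertiaToBase (FibCat.toSelf 𝒳)) := by
  let q := FibCat.inertiaToBase (FibCat.toSelf 𝒳)
  have hl : RepByAlgSpWith (LocP @LocallyOfFiniteType) q :=
    repWith_inertia_of_diag hd
  haveI := respectsIso_onSp (cls_lft (S := S)).bc
  haveI := respectsIso_onSp (cls_unramified (S := S)).bc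
  refine repWith_onSp_iff.1 ((repWith_iff _ q).2 fun U y => ?_)
  obtain ⟨P, e, he, h₁, h₂, h₃⟩ := (repWith_iff _ q).1 (repWith_onSp_iff.2 hl) U y
  let π : (⟨P, h₁⟩ : Sp S) ⟶ (yon S).obj U := ObjectProperty.homMk (prjMap e)
  have hlπ : LocP @LocallyOfFiniteType π := h₃ h₂ (IsAlgSpace.yon_obj U)
  refine ⟨P, e, he, h₁, h₂, fun _ _ => ?_⟩
  intro V W a b h' ha hb comm
  obtain ⟨b₀, rfl⟩ := exists_map_eq b
  let c : V ⟶ U := h' ≫ b₀
  have hc : a ≫ π = (yon S).map c := by rw [(yon S).map_comp]; exact comm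
  have hcl : LocallyOfFiniteType c.left := hlπ a (𝟙 _) c ha repWith_id' (by rw [hc, Category.comp_id])
  haveI := hcl
  suffices hu : FormallyUnramified c.left by
    haveI : LocallyOfFiniteType (h'.left ≫ b₀.left) := hcl
    haveI : FormallyUnramified (h'.left ≫ b₀.left) := hu
    exact ⟨locallyOfFiniteType_of_comp h'.left b₀.left, FormallyUnramified.of_comp h'.left b₀.left⟩
  have hloc : ∀ v : ↥V.left, ∃ O : V.left.Opens, v ∈ O ∧ FormallyUnramified (O.ι ≫ c.left) := by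
    intro v
    let k : Type u := AlgebraicClosure (U.left.residueField (c.left v))
    let t : Spec (CommRingCat.of k) ⟶ U.left :=
      Spec.map (CommRingCat.ofHom (algebraMap (U.left.residueField (c.left v)) k)) ≫
        U.left.fromSpecResidueField (c.left v)
    let K : Over S := Over.mk (t ≫ U.hom)
    let t' : K ⟶ U := Over.homMk t rfl
    have sq := IsPullback.of_hasPullback π ((yon S).map t')
    obtain ⟨e', he', hsnd⟩ := exists_model_baseChange ((yon S).map t').hom he (sq.map (sheafToPresheaf (J S) _))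
    let yK : Stk.ofPsh ((pyon S).obj K) ⥤ᵇ 𝒳 := BasedFunctor.comp (Stk.ofPshMap ((yon S).map t').hom) y
    let e₀ := FibCat.fpLift (F := yK) (G := q) (BasedFunctor.id _)
      (BasedFunctor.comp yK (FibCat.inertiaNeutral (FibCat.toSelf 𝒳))) (Iso.refl _)
    obtain ⟨i, hi⟩ := exists_iso_of_models (isEquivOver_neutralLift h (K := K) (Iso.refl _) yK) he'
    have e1 : i.hom = (pullback.snd π ((yon S).map t')).hom := by
      refine ((Category.comp_id _).symm.trans ?_).trans hsnd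
      refine Eq.trans ?_ (hi (FibCat.fpFst yK q))
      exact congrArg (i.hom ≫ ·) mapOf_id.symm
    haveI : IsIso ((sheafToPresheaf (J S) _).map (pullback.snd π ((yon S).map t'))) := by
      show IsIso (pullback.snd π ((yon S).map t')).hom
      rw [← e1]
      infer_instance
    haveI : IsIso (pullback.snd π ((yon S).map t')) := isIso_of_fully_faithful (sheafToPresheaf (J S) _) _
    let r : (yon S).obj K ⟶ (⟨P, h₁⟩ : Sp S) := inv (pullback.snd π ((yon S).map t')) ≫ pullback.fst π _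
    have hr : r ≫ π = (yon S).map t' := by
      rw [Category.assoc, pullback.condition, IsIso.inv_hom_id_assoc]
    have sqP : IsPullback (𝟙 ((yon S).obj K)) r ((yon S).map t') π :=
      IsPullback.of_iso sq.flip (asIso (pullback.snd π ((yon S).map t'))) (Iso.refl _) (Iso.refl _) (Iso.refl _)
        (by simp) (by simp [r]) (by simp) (by simp)
    let VK : Over S := Over.mk (pullback.fst c.left t ≫ V.hom)
    let p₁ : VK ⟶ V := Over.homMk (pullback.fst c.left t) rfl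
    let p₂ : VK ⟶ K := Over.homMk (pullback.snd c.left t) (by
      show pullback.snd c.left t ≫ t ≫ U.hom = pullback.fst c.left t ≫ V.hom
      rw [← pullback.condition_assoc, Over.w c])
    have sqV : IsPullback ((yon S).map p₁) ((yon S).map p₂) ((yon S).map c) ((yon S).map t') :=
      isPullback_yon_iff.2 (IsPullback.of_hasPullback _ _)
    have w : (yon S).map p₂ ≫ r = (yon S).map p₁ ≫ a := by
      obtain ⟨l, hl₁, hl₂⟩ : ∃ l, l ≫ 𝟙 _ = (yon S).map p₂ ∧ l ≫ r = (yon S).map p₁ ≫ a :=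
        ⟨sqP.lift ((yon S).map p₂) ((yon S).map p₁ ≫ a) (by rw [Category.assoc, hc, sqV.w]),
          sqP.lift_fst _ _ _, sqP.lift_snd _ _ _⟩
      rw [Category.comp_id] at hl₁
      rw [← hl₁]
      exact hl₂
    have sqE : IsPullback ((yon S).map p₂) ((yon S).map p₁) r a :=
      IsPullback.of_right (by rw [Category.comp_id, hc]; exact sqV.flip) w sqP
    haveI : Etale (pullback.snd c.left t) := (repWith_yon_iff p₂).1 (repWith_baseChange sqE.flip ha)
    obtain ⟨z⟩ : Nonempty ↥(Spec (CommRingCat.of k)) := inferInstanceAs (Nonempty (PrimeSpectrum k))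
    have hz : c.left v = t z := (Scheme.fromSpecResidueField_apply _ _).symm
    obtain ⟨x', hx', -⟩ := Scheme.Pullback.exists_preimage_pullback v z hz
    obtain ⟨O, hO, hOu⟩ := UnramPt.exists_nhd_of_baseChange c.left t x' ⊤ trivial inferInstance
    exact ⟨O, by rwa [hx'] at hO, hOu⟩
  choose O hvO hO using hloc
  exact IsZariskiLocalAtSource.of_iSup_eq_top O
    (top_le_iff.1 fun v _ => TopologicalSpace.Opens.mem_iSup.2 ⟨v, hvO v⟩) hO

theorem isSurjective_diag_diag_of_trivStab (h𝒳 : FibCat.IsFibGrpd 𝒳.p) (h : TrivStab 𝒳) :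
    ∀ (k : Type u) [Field k] [IsAlgClosed k] (s : Spec (CommRingCat.of k) ⟶ S) (ξ : 𝒳.obj)
      (_ : 𝒳.p.obj ξ = Over.mk s) (a : ξ ⟶ ξ),
      𝒳.p.IsHomLift (𝟙 (𝒳.p.obj ξ)) a → (FibCat.toSelf 𝒳).map a = 𝟙 ((FibCat.toSelf 𝒳).obj ξ) → a = 𝟙 ξ :=
  fun k _ _ _ ξ hξ a _ hp =>
    h k ξ (eqToIso (congrArg (fun Z : Over S => Z.left) hξ)) ξ (𝟙 ξ) a hp

/-- stacks with trivial stabilisers have no automorphisms -/
theorem faithful_of_trivStab' (h𝒳 : FibCat.IsFibGrpd 𝒳.p)
    (hl : RepByAlgSpWith (LocP @LocallyOfFiniteType) (FibCat.diag (FibCat.toSelf 𝒳))) (h : TrivStab 𝒳) :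
    (FibCat.toSelf 𝒳).toFunctor.Faithful := by
  have hd : AlgSt.IsDMMor (FibCat.toSelf 𝒳) :=
    unramified_of_isOpenImm_diag hl
      (repWith_neutral_iff.1 (repWith_neutral_of_diag
        (isOpenImm_diag_of_unramified (repWith_unramified_inertia hl h))))
  exact faithful_of_trivial h𝒳 isFibGrpd_selfOver
    (trivial_of_geomPoints h𝒳 isFibGrpd_selfOver hd (isSurjective_diag_diag_of_trivStab h𝒳 h))

theorem faithful_of_trivStab (h𝒳 : IsAlgStack Scheme.fppfPrecoverage 𝒳) (h : TrivStab 𝒳) :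
    (FibCat.toSelf 𝒳).toFunctor.Faithful :=
  faithful_of_trivStab' h𝒳.isStack.1 (repWith_lft_diag h𝒳 isAlgStack_self _) h

/-- stacks without automorphisms are spaces -/
theorem repByAlgSp_of_faithful (h𝒳 : IsAlgStack Scheme.fppfPrecoverage 𝒳)
    [(FibCat.toSelf 𝒳).toFunctor.Faithful] : RepByAlgSp 𝒳 := by
  have h1 := repByAlgSp1_of_faithful h𝒳 isAlgStack_self (FibCat.toSelf 𝒳)
  have hb : RepByAlgSp (FibCat.selfOver (Over S)) :=
    ⟨spOf (base S), FibCat.toSelf _, isEquivOver_toSelf_base⟩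
  have h2 := Groth.Agent.S12766.result h𝒳.isStack.1 isAlgStack_self.isStack.1 isAlgStack_self.isStack.1
    (FibCat.toSelf 𝒳) (BasedFunctor.id _) h1 hb
  exact (repByAlgSp_iff_of_equiv (isEquivOver_fpSnd_id (FibCat.toSelf 𝒳))).1 h2

theorem eq_id_of_repByAlgSp (h : RepByAlgSp 𝒳) (ξ : 𝒳.obj) (σ : ξ ⟶ ξ) (hσ : 𝒳.p.map σ = 𝟙 (𝒳.p.obj ξ)) :
    σ = 𝟙 ξ := by
  obtain ⟨F, e, he⟩ := h
  obtain ⟨k, hk, -, -⟩ := isEquivOver_symm he
  haveI := (isEquivOver_data hk).1
  haveI : k.toFunctor.Faithful := inferInstance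
  refine k.toFunctor.map_injective (Stk.EltObj.hom_ext ?_)
  rw [CategoryTheory.Functor.map_id]
  have := map_map k σ
  rw [hσ] at this
  simpa using this

/-- etale algebraic stacks without automorphisms are spaces -/
theorem repByAlgSp_of_faithful_etale (h𝒳 : IsAlgStack Scheme.etalePrecoverage 𝒳)
    [hf : (FibCat.toSelf 𝒳).toFunctor.Faithful] : RepByAlgSp 𝒳 := by
  obtain ⟨U, x, h₁, h₂⟩ := exists_atlas h𝒳.atlas
  have hset : FibCat.IsFibSetoid 𝒳.p := isFibSetoid_iff.2 ⟨h𝒳.isStack.1, hf⟩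
  obtain ⟨P, e, he⟩ := exists_psh hset
  obtain ⟨k, hk, -, ⟨j⟩⟩ := isEquivOver_symm he
  let Φ := BasedFunctor.comp x k
  let i : BasedFunctor.comp (Stk.ofPshMap (mapOf Φ)) e ≅ x :=
    (post _ e).mapIso (mapOfIso Φ) ≪≫ (Stk.restr x _).mapIso j
  haveI := respectsIso_onSp (bcStable_smooth (S := S))
  haveI := respectsIso_onSp (bcStable_surjective (S := S))
  have tr : ∀ (Q : MorphismProperty (Sp S)) [Q.RespectsIso], RepByAlgSpWith Q x →
      RepBySpWith Q (mapOf Φ) := fun Q _ h => (repWith_ofPshMap_iff Q _).1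
    ((repWith_iff_of_equiv Q x (Stk.ofPshMap (mapOf Φ)) (BasedFunctor.id _) e isEquivOver_id he i).1 h)
  have t₁ := tr _ (repWith_onSp_iff.2 h₁)
  have t₂ := tr _ (repWith_onSp_iff.2 h₂)
  have hsh : Presheaf.IsSheaf (Bootstrap.Jet S) P :=
    (isSheaf_iff_isSheaf_of_type _ _).2 ((isStack_ofPsh_iff _).1 (isStack_of_equiv hk _ h𝒳.isStack))
  have hP : IsAlgSpaceP P := Bootstrap.isAlgSpaceP_of_smooth_cover hsh (IsAlgSpace.yon_obj U) (mapOf Φ)
    fun V ξ P' fst snd sq => by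
      obtain ⟨a, b, c⟩ := t₁ ξ fst snd sq
      obtain ⟨a', b', c'⟩ := t₂ ξ fst snd sq
      exact ⟨a, b, c' b (IsAlgSpace.yon_obj _), c b (IsAlgSpace.yon_obj _)⟩
  exact repByAlgSp_of_model he hP

theorem faithful_of_trivStab_etale (h𝒳 : IsAlgStack Scheme.etalePrecoverage 𝒳) (h : TrivStab 𝒳) :
    (FibCat.toSelf 𝒳).toFunctor.Faithful := by
  obtain ⟨U, x, h₁, h₂⟩ := exists_atlas h𝒳.atlas
  exact faithful_of_trivStab' h𝒳.isStack.1 (repWith_diag_of_cover cls_lft (fun g hg => repWith_lft_diag_of_rep hg)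
    h𝒳.isStack.1 h𝒳.diag (isAlgSpaceP_yon U)
    (lifts_of_fppf (repWith_flat_of_smooth h₁) (repWith_lfp_of_smooth h₁) h₂) (repWith_lft_of_smooth h₁)) h

/-- automorphism groups of functors out of geometric points -/
theorem trivStab_of_autO (h𝒳 : FibCat.IsFibGrpd 𝒳.p)
    (h : ∀ (k : Type u) [Field k] (sk : Spec (CommRingCat.of k) ⟶ S)
      (x : FibCat.overCat (Over.mk sk) ⥤ᵇ 𝒳) (T : Over (Over.mk sk)), Subsingleton (Gerb.AutO (x.obj T))) :
    TrivStab 𝒳 := by
  intro k _ _ x e ξ φ σ hσ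
  obtain ⟨y, i, -⟩ := exists_point h𝒳 x
  obtain ⟨a, m, χ, hc, hχ, -⟩ := exists_iso_pt h𝒳 i φ
  let K := 𝒳.p.obj x
  let K' : Over S := Over.mk (e.inv ≫ K.hom)
  let ε : K' ≅ K := Over.isoMk e.symm rfl
  let y' : FibCat.overCat K' ⥤ᵇ 𝒳 :=
    BasedFunctor.comp (AlgSt.ofOverCat K') (BasedFunctor.comp (Stk.ofPshMap ((pyon S).map ε.hom)) y)
  let T : Over K' := Over.mk (a.sec.down ≫ ε.inv)
  have hT : y'.obj T = y.obj a := by
    show y.obj ⟨a.base, ⟨(a.sec.down ≫ ε.inv) ≫ ε.hom⟩⟩ = y.obj a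
    rw [Category.assoc, Iso.inv_hom_id, Category.comp_id]
    rfl
  let c : y'.obj T ≅ ξ := eqToIso hT ≪≫ χ
  haveI := h k (e.inv ≫ K.hom) y' T
  have hσi : IsIso (𝒳.p.map σ) := by rw [hσ]; infer_instance
  haveI := hσi
  haveI := isIso_of_map h𝒳 σ
  let τ := c ≪≫ asIso σ ≪≫ c.symm
  have hp : 𝒳.p.map τ.hom = 𝟙 _ := by
    show 𝒳.p.map (c.hom ≫ σ ≫ c.inv) = _
    rw [Functor.map_comp, Functor.map_comp, hσ, Category.id_comp, ← Functor.map_comp, Iso.hom_inv_id,
      CategoryTheory.Functor.map_id]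
  have hp' : 𝒳.p.map τ.inv = 𝟙 _ := by
    have h2 : 𝒳.p.map τ.hom ≫ 𝒳.p.map τ.inv = 𝟙 _ := by
      rw [← Functor.map_comp, Iso.hom_inv_id, CategoryTheory.Functor.map_id]
    rwa [hp, Category.id_comp] at h2
  let α : Gerb.AutO (y'.obj T) :=
    { hom := ⟨τ.hom, IsHomLift.of_fac' _ _ _ rfl rfl (by simpa using hp)⟩
      inv := ⟨τ.inv, IsHomLift.of_fac' _ _ _ rfl rfl (by simpa using hp')⟩
      hom_inv_id := Functor.Fiber.hom_ext τ.hom_inv_id
      inv_hom_id := Functor.Fiber.hom_ext τ.inv_hom_id }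
  have := congrArg (fun b : Gerb.AutO (y'.obj T) => b.hom.1) (Subsingleton.elim α 1)
  change c.hom ≫ σ ≫ c.inv = 𝟙 _ at this
  have h3 := congrArg (fun t => c.inv ≫ t ≫ c.hom) this
  simpa using h3

theorem autO_subsingleton_of_repByAlgSp (h : RepByAlgSp 𝒳) (z : 𝒳.obj) : Subsingleton (Gerb.AutO z) :=
  ⟨fun a b => by
    have key : ∀ c : Gerb.AutO z, c.hom.1 = 𝟙 z := fun c => by
      haveI := c.hom.2
      exact eq_id_of_repByAlgSp h z _ (by simpa using IsHomLift.fac' 𝒳.p (𝟙 (𝒳.p.obj z)) c.hom.1)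
    exact Iso.ext (Functor.Fiber.hom_ext ((key a).trans (key b).symm))⟩

end Groth.Agent.AlgStLib

end
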