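import Groth.Agent.AlgStLib.Descent
import Groth.Agent.AlgStLib.OfPsh
import Groth.Agent.AlgSpLib.QCompact
import Groth.Agent.AlgSpLib.SheafLemmas
import Groth.Agent.Bootstrap.QuotSp
import Groth.Agent.FpqcSheaf.Desc
import Groth.Prelude.Def_StCoarse
import Mathlib.CategoryTheory.Sites.RegularEpi

/-!
# Categorical moduli spaces are local on the target
-/

set_option autoImplicit false
set_option backward.isDefEq.respectTransparency false
set_option backward.isDefEq.respectTransparency.types false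
set_option linter.style.haveILetI false
universe u

namespace Groth.Agent.AlgStLib

open CategoryTheory CategoryTheory.Limits AlgebraicGeometry Opposite Groth.Agent.AlgSpLib Groth.Agent.StkBasic
  Groth.Agent.FibCatRep
  Groth.Agent.FibCat2Misc
open _root_.AlgSp _root_.AlgSt

variable {S : Scheme.{u}} {𝒳 𝒵 : AlgSt.Cat S} {M N : Sp S}

/-- being a categorical moduli space is invariant under equivalences of the source -/
theorem isCatModuli_of_equiv {q : 𝒳 ⥤ᵇ ofSp M} {q' : 𝒵 ⥤ᵇ ofSp M} {e : 𝒵 ⥤ᵇ 𝒳} (he : FibCat.IsEquivOver e)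
    (i : BasedFunctor.comp e q ≅ q') (h : IsCatModuli q) : IsCatModuli q' := by
  obtain ⟨k, -, ⟨a⟩, ⟨b⟩⟩ := isEquivOver_symm he
  refine ⟨h.1, fun N' hN φ => ?_⟩
  obtain ⟨g, ⟨j⟩, hg⟩ := h.2 N' hN (BasedFunctor.comp k φ)
  refine ⟨g, ⟨((post _ (ofSpMap g)).mapIso i).symm ≪≫ (Stk.restr e _).mapIso j ≪≫ (post _ φ).mapIso a⟩,
    fun g' ⟨j'⟩ => hg g' ⟨?_⟩⟩
  exact ((post _ (ofSpMap g')).mapIso ((post _ q).mapIso b)).symm ≪≫
    (post _ (ofSpMap g')).mapIso ((Stk.restr k _).mapIso i) ≪≫ (Stk.restr k _).mapIso j'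

/-- the section of a functor at an object is read on a point through it -/
lemma secOf_eq_mapOf (Φ : 𝒵 ⥤ᵇ ofSp M) {x : 𝒵.obj} {s : ofSch (𝒵.p.obj x) ⥤ᵇ 𝒵} (i : s.obj (pt _) ≅ x)
    (hi : 𝒵.p.map i.hom = eqToHom (s.w_obj _)) :
    (mapOf (BasedFunctor.comp s Φ)).app (op (𝒵.p.obj x)) ⟨𝟙 _⟩ = secOf Φ x := by
  refine (mapOf_app (BasedFunctor.comp s Φ) (pt _)).trans ?_
  rw [secOf_comp, ← secOf_map Φ i.hom, hi, ← Functor.map_comp_apply, ← op_comp, eqToHom_trans, eqToHom_refl]
  exact FunctorToTypes.map_id_apply M.obj _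

variable {π : 𝒵 ⥤ᵇ ofSp M} {φ : 𝒵 ⥤ᵇ ofSp N} {W T : Over S} {w : (yon S).obj W ⟶ M} {g : (yon S).obj W ⟶ N}

/-- a factorisation over `W` evaluated at a point -/
lemma factor_apply
    (hg : Nonempty (BasedFunctor.comp (FibCat.fpFst (ofSpMap w) π) (ofSpMap g) ≅
      BasedFunctor.comp (FibCat.fpSnd (ofSpMap w) π) φ))
    (s : ofSch T ⥤ᵇ 𝒵) (a : T ⟶ W) (ha : ((yon S).map a ≫ w).hom = mapOf (BasedFunctor.comp s π)) :
    ((yon S).map a ≫ g).hom = mapOf (BasedFunctor.comp s φ) := by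
  obtain ⟨j⟩ := hg
  let i : BasedFunctor.comp (ofSpMap ((yon S).map a)) (ofSpMap w) ≅ BasedFunctor.comp s π :=
    eqToIso (show ofSpMap ((yon S).map a ≫ w) = Stk.ofPshMap (mapOf (BasedFunctor.comp s π)) by
      rw [← ha]) ≪≫ mapOfIso (BasedFunctor.comp s π)
  let L : ofSch T ⥤ᵇ FibCat.fp (ofSpMap w) π := FibCat.fpLift (ofSpMap ((yon S).map a)) s i
  exact (mapOf_ofPshMap _).symm.trans (mapOf_congr ((Stk.restr L _).mapIso j))

/-- factorisations restrict -/
lemma factor_restrict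
    (hg : Nonempty (BasedFunctor.comp (FibCat.fpFst (ofSpMap w) π) (ofSpMap g) ≅
      BasedFunctor.comp (FibCat.fpSnd (ofSpMap w) π) φ))
    (a : T ⟶ W) :
    Nonempty (BasedFunctor.comp (FibCat.fpFst (ofSpMap ((yon S).map a ≫ w)) π) (ofSpMap ((yon S).map a ≫ g)) ≅
      BasedFunctor.comp (FibCat.fpSnd (ofSpMap ((yon S).map a ≫ w)) π) φ) := by
  obtain ⟨j⟩ := hg
  let L : FibCat.fp (ofSpMap ((yon S).map a ≫ w)) π ⥤ᵇ FibCat.fp (ofSpMap w) π :=
    FibCat.fpLift (BasedFunctor.comp (FibCat.fpFst (ofSpMap ((yon S).map a ≫ w)) π) (ofSpMap ((yon S).map a)))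
      (FibCat.fpSnd (ofSpMap ((yon S).map a ≫ w)) π) (FibCat.fpIso (ofSpMap ((yon S).map a ≫ w)) π)
  exact ⟨(Stk.restr L _).mapIso j⟩

/-- categorical moduli spaces may be tested on affine schemes etale over the target -/
theorem isCatModuli_of_affine_etale (hM : IsAlgSpace M) (h𝒵 : FibCat.IsFibGrpd 𝒵.p) (π : 𝒵 ⥤ᵇ ofSp M)
    (h : ∀ (W : Over S), IsAffine W.left → ∀ w : (yon S).obj W ⟶ M, RepWith @Etale w →
      IsCatModuli (FibCat.fpFst (ofSpMap w) π)) : IsCatModuli π := by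
  refine ⟨hM, fun N hN φ => ?_⟩
  obtain ⟨V, p, κ, O, hpe, hps, hO, -, hOcov⟩ := exists_affine_chart_family hM
  let Z : κ → Scheme.{u} := fun k => (O k : Scheme.{u})
  let f : ∀ k, Z k ⟶ S := fun k => (O k).ι ≫ V.hom
  let ik : ∀ k, Over.mk (f k) ⟶ V := fun k => Over.homMk (O k).ι rfl
  let wk : ∀ k, (yon S).obj (Over.mk (f k)) ⟶ M := fun k => (yon S).map (ik k) ≫ p
  have hwk : ∀ k, RepWith @Etale (wk k) := fun k =>
    AlgSpLib.repWith_comp ((repWith_yon_iff _).2 (show Etale (O k).ι from inferInstance)) hpe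
  haveI : ∀ k, IsAffine (Over.mk (f k)).left := fun k => (hO k : IsAffine (O k).toScheme)
  choose g hg hgu using fun k =>
    (h _ inferInstance (wk k) (hwk k)).2 N hN (BasedFunctor.comp (FibCat.fpSnd (ofSpMap (wk k)) π) φ)
  -- the local factorisations agree
  have compat : ∀ (k l : κ) (R : Over S) (x : R ⟶ Over.mk (f k)) (y : R ⟶ Over.mk (f l)),
      (yon S).map x ≫ wk k = (yon S).map y ≫ wk l → (yon S).map x ≫ g k = (yon S).map y ≫ g l := by
    intro k l R x y e
    obtain ⟨P, p₁, p₂, sqP⟩ := exists_pullback hM.diag (wk k) (wk l)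
    have hp₁ : Etale p₁.left := (hwk l).2 (wk k) _ p₁ sqP.flip
    have key : (yon S).map p₁ ≫ g k = (yon S).map p₂ ≫ g l := by
      refine AlgSpLib.hom_ext_cover (R := Presieve.ofArrows P.left.affineCover.X P.left.affineCover.f)
        (Scheme.zariskiPrecoverage_le_fppfPrecoverage _ P.left.affineCover.mem₀) ?_
      rintro _ _ ⟨j⟩
      let q : Over.mk (P.left.affineCover.f j ≫ P.hom) ⟶ P := Over.homMk (P.left.affineCover.f j) rfl
      haveI : IsAffine (Over.mk (P.left.affineCover.f j ≫ P.hom)).left :=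
        inferInstanceAs (IsAffine (P.left.affineCover.X j))
      haveI := hp₁
      have hw : RepWith @Etale ((yon S).map (q ≫ p₁) ≫ wk k) :=
        AlgSpLib.repWith_comp ((repWith_yon_iff _).2
          (show Etale (P.left.affineCover.f j ≫ p₁.left) from inferInstance)) (hwk k)
      have eq₀ : (yon S).map (q ≫ p₂) ≫ wk l = (yon S).map (q ≫ p₁) ≫ wk k := by
        rw [Functor.map_comp, Functor.map_comp, Category.assoc, Category.assoc, sqP.w]
      obtain ⟨γ, -, hγ⟩ := (h _ inferInstance _ hw).2 N hN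
        (BasedFunctor.comp (FibCat.fpSnd (ofSpMap ((yon S).map (q ≫ p₁) ≫ wk k)) π) φ)
      have h₂ := factor_restrict (hg l) (q ≫ p₂)
      rw [eq₀] at h₂
      rw [← Category.assoc, ← Category.assoc, ← Functor.map_comp, ← Functor.map_comp]
      exact (hγ _ (factor_restrict (hg k) (q ≫ p₁))).trans (hγ _ h₂).symm
    obtain ⟨m, hm⟩ := (yon S).map_surjective (sqP.lift _ _ e)
    have hm₁ : m ≫ p₁ = x := (yon S).map_injective (by rw [Functor.map_comp, hm]; exact sqP.lift_fst _ _ e)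
    have hm₂ : m ≫ p₂ = y := (yon S).map_injective (by rw [Functor.map_comp, hm]; exact sqP.lift_snd _ _ e)
    rw [← hm₁, ← hm₂, Functor.map_comp, Functor.map_comp, Category.assoc, Category.assoc, key]
  -- the chart made of the affine pieces
  let W : Over S := Over.mk (Sigma.desc f)
  let ω : W ⟶ V := Over.homMk (Sigma.desc fun k => (O k).ι) (by
    refine Sigma.hom_ext _ _ fun k => ?_
    exact (Sigma.ι_desc_assoc _ _ _).trans (Sigma.ι_desc f k).symm)
  have hι : ∀ k, sigmaInj f k ≫ ω = ik k := fun k => Over.OverMorphism.ext (Sigma.ι_desc _ k)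
  let c : (yon S).obj W ⟶ M := (yon S).map ω ≫ p
  have hck : ∀ k, (yon S).map (sigmaInj f k) ≫ c = wk k := fun k => by
    rw [← Category.assoc, ← Functor.map_comp, hι]
  have hωe : Etale ω.left :=
    (IsZariskiLocalAtSource.iff_of_openCover (P := @Etale) (sigmaOpenCover Z)).2 fun k => by
      rw [show (sigmaOpenCover Z).f k ≫ ω.left = (O k).ι from Sigma.ι_desc _ k]
      infer_instance
  have hωs : Surjective ω.left := ⟨fun v => by
    obtain ⟨k, hk⟩ := hOcov v
    exact ⟨Sigma.ι Z k ⟨v, hk⟩, congr($(Sigma.ι_desc (fun k => (O k).ι) k) ⟨v, hk⟩)⟩⟩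
  have hce : RepWith @Etale c := AlgSpLib.repWith_comp ((repWith_yon_iff _).2 hωe) hpe
  have hcs : RepWith @Surjective c := AlgSpLib.repWith_comp ((repWith_yon_iff _).2 hωs) hps
  haveI := Bootstrap.isLocallySurjective_of_atlas hce hcs
  haveI : Epi c := (Sheaf.isLocallySurjective_iff_epi c).1 inferInstance
  obtain ⟨GW, hGW⟩ := exists_sigma_hom f g
  obtain ⟨R, r₁, r₂, sqR⟩ := exists_pullback hM.diag c c
  have hGR : (yon S).map r₁ ≫ GW = (yon S).map r₂ ≫ GW := by
    refine FpqcSheaf.hom_ext_pieces r₁ fun k R' e x ex => ?_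
    refine FpqcSheaf.hom_ext_pieces (e ≫ r₂) fun l R'' e' y ey => ?_
    rw [← Category.assoc ((yon S).map e), ← Category.assoc ((yon S).map e), ← Functor.map_comp,
      ← Functor.map_comp, ← Category.assoc ((yon S).map e'), ← Category.assoc ((yon S).map e'),
      ← Functor.map_comp, ← Functor.map_comp, ex, ey, ← Category.assoc e', (yon S).map_comp (e' ≫ x),
      (yon S).map_comp y, Category.assoc, Category.assoc, hGW, hGW]
    refine compat k l _ _ _ ?_
    rw [← hck, ← hck, ← Category.assoc ((yon S).map (e' ≫ x)), ← Category.assoc ((yon S).map y),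
      ← (yon S).map_comp (e' ≫ x) (sigmaInj f k), ← (yon S).map_comp y (sigmaInj f l), Category.assoc e', ← ex, ← ey,
      (yon S).map_comp e' (e ≫ r₁), (yon S).map_comp e' (e ≫ r₂), (yon S).map_comp e r₁, (yon S).map_comp e r₂,
      Category.assoc ((yon S).map e'), Category.assoc ((yon S).map e'), Category.assoc ((yon S).map e),
      Category.assoc ((yon S).map e), sqR.w]
  haveI : IsRegularEpi c := IsRegularEpiCategory.regularEpiOfEpi c
  have hk : IsKernelPair c ((yon S).map r₁) ((yon S).map r₂) := sqR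
  obtain ⟨G, hG⟩ := Cofork.IsColimit.desc' hk.toCoequalizer' GW hGR
  replace hG : c ≫ G = GW := hG
  have hkG : ∀ k, wk k ≫ G = g k := fun k => by rw [← hck, Category.assoc, hG, hGW]
  refine ⟨G, ⟨isoOfSec _ _ fun x => ?_⟩, fun G' ⟨j⟩ => ?_⟩
  · obtain ⟨s, i, hi⟩ := exists_point h𝒵 x
    rw [← secOf_eq_mapOf (BasedFunctor.comp π (ofSpMap G)) i hi, ← secOf_eq_mapOf φ i hi]
    suffices e : mapOf (BasedFunctor.comp s (BasedFunctor.comp π (ofSpMap G))) =
        mapOf (BasedFunctor.comp s φ) by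
      rw [e]
    let ξ : (yon S).obj (𝒵.p.obj x) ⟶ M := ObjectProperty.homMk (mapOf (BasedFunctor.comp s π))
    let ψ : (yon S).obj (𝒵.p.obj x) ⟶ N := ObjectProperty.homMk (mapOf (BasedFunctor.comp s φ))
    suffices e : ξ ≫ G = ψ by
      refine Eq.trans ?_ (congrArg InducedCategory.Hom.hom e)
      exact (mapOf_comp (BasedFunctor.comp s π) (ofSpMap G)).trans (congrArg _ (mapOf_ofPshMap G.hom))
    obtain ⟨R', t, a, sqT⟩ := exists_pullback hM.diag ξ c
    have hte : Etale t.left := hce.2 ξ _ t sqT.flip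
    have hts : Surjective t.left := hcs.2 ξ _ t sqT.flip
    haveI := hte
    haveI := hts
    haveI := (flat_lfp_of_etale t.left hte).2
    haveI : Epi ((yon S).map t) := epi_yon_map t
    rw [← cancel_epi ((yon S).map t)]
    refine FpqcSheaf.hom_ext_pieces a fun k R'' e x' ex => ?_
    rw [← Category.assoc ((yon S).map e), ← Category.assoc ((yon S).map e), ← Functor.map_comp,
      ← Category.assoc]
    have hw : (yon S).map x' ≫ wk k = (yon S).map (e ≫ t) ≫ ξ := by
      rw [← hck, ← Category.assoc, ← Functor.map_comp, ← ex, Functor.map_comp, Category.assoc, ← sqT.w,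
        ← Category.assoc, ← Functor.map_comp]
    rw [← hw, Category.assoc, hkG]
    refine ObjectProperty.hom_ext _ ?_
    refine (factor_apply (hg k) (BasedFunctor.comp (ofSpMap ((yon S).map (e ≫ t))) s) x' ?_).trans ?_
    · rw [hw]
      exact (((mapOf_comp (ofSpMap ((yon S).map (e ≫ t))) (BasedFunctor.comp s π)).trans
        (congrArg (· ≫ _) (mapOf_ofPshMap _)))).symm
    · exact (mapOf_comp (ofSpMap ((yon S).map (e ≫ t))) (BasedFunctor.comp s φ)).trans
        (congrArg (· ≫ _) (mapOf_ofPshMap _))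
  · rw [← cancel_epi c, hG]
    refine FpqcSheaf.hom_ext_pieces (𝟙 W) fun k R' e x ex => ?_
    rw [Category.comp_id] at ex
    rw [ex, (yon S).map_comp x (sigmaInj f k), Category.assoc ((yon S).map x) ((yon S).map (sigmaInj f k)),
      Category.assoc ((yon S).map x) ((yon S).map (sigmaInj f k)), hGW,
      ← Category.assoc ((yon S).map (sigmaInj f k)) c, hck]
    refine congrArg ((yon S).map x ≫ ·) (hgu k _ ⟨?_⟩)
    exact (post _ (ofSpMap G')).mapIso (FibCat.fpIso (ofSpMap (wk k)) π) ≪≫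
      (Stk.restr (FibCat.fpSnd (ofSpMap (wk k)) π) _).mapIso j

/-- categorical moduli spaces on affine schemes flat over the target are uniform -/
theorem isUnifCatModuli_of_affine_flat (h𝒳 : FibCat.IsFibGrpd 𝒳.p) {Y : Sp S} (hY : IsAlgSpace Y)
    (f : 𝒳 ⥤ᵇ ofSp Y)
    (hf : ∀ (Y' : Over S), IsAffine Y'.left → ∀ g : (yon S).obj Y' ⟶ Y, LocP @Flat g →
      IsCatModuli (FibCat.fpFst (ofSpMap g) f)) : IsUnifCatModuli f := by
  have hfl : ∀ {A : Sp S}, IsAlgSpace A → ∀ {W : Over S} (w : (yon S).obj W ⟶ A),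
      RepWith @Etale w → LocP @Flat w := fun hA _ w hw =>
    (locP_iff_repWith etST_flat hA hw.1).2 (AlgSpLib.repWith_mono (fun _ _ r hr => by
      have : Etale r := hr
      infer_instance) hw)
  refine ⟨isCatModuli_of_affine_etale hY h𝒳 f fun W hW w hw => hf W hW w (hfl hY w hw),
    fun M' hM' g hg => ?_⟩
  refine isCatModuli_of_affine_etale hM' (isFibGrpd_fp (isFibGrpd_ofSpace _) h𝒳 (isFibGrpd_ofSpace _) _ f) _
    fun W hW w hw => ?_
  exact isCatModuli_of_equiv (e := pasteFun (ofSpMap w) (ofSpMap g) f) (isEquivOver_pasteFun _ _ _)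
    (Iso.refl _) (hf W hW (w ≫ g) (locP_comp etST_flat hM' hY (hfl hM' w hw) hg))

end Groth.Agent.AlgStLib
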