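import Groth.Agent.AlgStLib.LocQResults

/-!
# Universal topological properties of representable functors
-/

set_option autoImplicit false
set_option backward.isDefEq.respectTransparency false
set_option backward.isDefEq.respectTransparency.types false
set_option linter.style.haveILetI false
universe u

noncomputable section

namespace Groth.Agent.AlgStLib

open CategoryTheory CategoryTheory.Limits AlgebraicGeometry Opposite Groth.Agent.FibCatRep
  Groth.Agent.FibCat2Misc Groth.Agent.AlgSpLib Groth.Agent.StkBasic Topology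
open _root_.AlgSp _root_.AlgSt

variable {S : Scheme.{u}} {𝒳 𝒴 𝒵 : AlgSt.Cat S}

/-- a field valued point of a sheaf as a field valued point of its category -/
def toFPt {F : Sp S} (p : AlgSp.FieldPt F) : AlgSt.FPt (AlgSt.ofSp F) :=
  { K := p.K, str := p.str, obj := ⟨Over.mk p.str, p.val⟩, lies := rfl }

theorem rel_toFPt {F : Sp S} {p q : AlgSp.FieldPt F} (h : AlgSp.FieldPt.Rel p q) :
    AlgSt.FPt.Rel (toFPt p) (toFPt q) := by
  obtain ⟨Ω, hΩ, w, a, b, e⟩ := h
  exact ⟨{ K := Ω, str := w, obj := ⟨Over.mk w, F.obj.map a.op p.val⟩, lies := rfl }, ⟨a, rfl⟩, ⟨b, e.symm⟩, trivial⟩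

/-- the points of an algebraic space as points of its category -/
def stPts (F : Sp S) : AlgSp.Points F → AlgSt.Points (AlgSt.ofSp F) :=
  Quotient.lift (fun p => AlgSt.Points.mk (toFPt p)) fun _ _ h => AlgSt.Points.sound (rel_toFPt h)

theorem bijective_stPts (F : Sp S) : Function.Bijective (stPts F) := by
  constructor
  · intro x y
    induction x using AlgSp.Points.ind with
    | h p =>
      induction y using AlgSp.Points.ind with
      | h q =>
        intro e
        obtain ⟨r, a, b, -⟩ := (mk_eq_iff (isFibGrpd_ofSpace F.obj)).1 e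
        obtain ⟨K, str, ⟨Z, z⟩, lies⟩ := r
        obtain rfl : Z = Over.mk str := lies
        obtain ⟨a, ha⟩ := a
        obtain ⟨b, hb⟩ := b
        exact AlgSp.Points.sound ⟨K, inferInstance, str, a, b, ha.trans hb.symm⟩
  · intro x
    obtain ⟨⟨K, str, ⟨Z, z⟩, lies⟩, rfl⟩ := AlgSt.Points.mk_surjective x
    obtain rfl : Z = Over.mk str := lies
    exact ⟨AlgSp.Points.mk ⟨K, str, z⟩, rfl⟩

theorem map_stPts {F G : Sp S} (a : F ⟶ G) (x : AlgSp.Points F) :
    AlgSt.Points.map (AlgSt.ofSpMap a) (stPts F x) = stPts G (AlgSp.Points.map a x) := by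
  induction x using AlgSp.Points.ind
  rfl

theorem isHomeomorph_stPts (F : AlgSp.Space S) : IsHomeomorph (stPts F.obj) := by
  have hF : IsAlgStack Scheme.fppfPrecoverage (AlgSt.ofSp F.obj) :=
    (isDM_of_space ((isAlgSpaceP_obj_iff _).2 F.property)).1
  have key : ∀ {T : Over S} (g : (yon S).obj T ⟶ F.obj) (t : ↥T.left),
      stPts F.obj (AlgSp.Points.ofPt g t) =
        AlgSt.Points.ofChart (BasedFunctor.comp (ofOverCat T) (Stk.ofPshMap g.hom)) t := fun g t => rfl
  obtain ⟨W, d, hde, hds⟩ := F.property.atlas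
  refine ⟨continuous_def.2 fun O hO => ?_, fun O hO => ?_, bijective_stPts _⟩
  · refine (isQuotientMap_ofPt hde hds).isOpen_preimage.1 ?_
    have := (continuous_ofChart hF (BasedFunctor.comp (ofOverCat W) (Stk.ofPshMap d.hom))).isOpen_preimage O hO
    exact this
  · refine AlgSt.Points.isOpen_iff.2 fun T x _ => ?_
    let m : (yon S).obj T ⟶ F.obj := ObjectProperty.homMk (mapOf (BasedFunctor.comp (toOverCat T) x))
    have i : BasedFunctor.comp (ofOverCat T) (Stk.ofPshMap m.hom) ≅ x :=
      (Stk.restr (ofOverCat T) _).mapIso (mapOfIso (BasedFunctor.comp (toOverCat T) x))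
    have e : AlgSt.Points.ofChart x ⁻¹' (stPts F.obj '' O) = AlgSp.Points.ofPt m ⁻¹' O := by
      ext t
      rw [Set.mem_preimage, Set.mem_preimage, ← ofChart_congr i t, ← key]
      exact (bijective_stPts _).1.mem_set_image
    rw [e]
    exact (AlgSp.Points.continuous_ofPt m).isOpen_preimage O hO

theorem map_eq_stPts {F W : Sp S} (Φ : AlgSt.ofSp F ⥤ᵇ AlgSt.ofSp W) (x : AlgSp.Points F) :
    AlgSt.Points.map Φ (stPts F x) =
      stPts W (AlgSp.Points.map (ObjectProperty.homMk (mapOf Φ) : F ⟶ W) x) := by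
  rw [← map_stPts]
  exact map_congr_points (mapOfIso Φ).symm _

theorem isHomeomorph_map_of_equiv {e : 𝒳 ⥤ᵇ 𝒴} (he : FibCat.IsEquivOver e)
    (h𝒳 : IsAlgStack Scheme.fppfPrecoverage 𝒳) : IsHomeomorph (AlgSt.Points.map e) := by
  obtain ⟨k, ⟨i⟩, ⟨j⟩⟩ := he
  let E : AlgSt.Points 𝒳 ≃ₜ AlgSt.Points 𝒴 :=
    { toFun := AlgSt.Points.map e
      invFun := AlgSt.Points.map k
      left_inv := fun p => by rw [← map_comp_points, map_congr_points i, map_id_points]
      right_inv := fun p => by rw [← map_comp_points, map_congr_points j, map_id_points]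
      continuous_toFun := continuous_map (isAlgStack_of_equiv ⟨k, ⟨i⟩, ⟨j⟩⟩ h𝒳) e
      continuous_invFun := continuous_map h𝒳 k }
  exact E.isHomeomorph

theorem isOpenMap_map_of_smooth (h𝒳 : IsAlgStack Scheme.fppfPrecoverage 𝒳)
    (h𝒴 : IsAlgStack Scheme.fppfPrecoverage 𝒴) {f : 𝒳 ⥤ᵇ 𝒴} (hf : RepByAlgSpWith (LocP @Smooth) f) :
    IsOpenMap (AlgSt.Points.map f) :=
  isOpenMor_of_flat_lfp h𝒳 h𝒴
    (locQ_of_repWith st_flat cls_flat.bc cls_flat.loc h𝒳 h𝒴 (repWith_flat_of_smooth hf))
    (locQ_of_repWith st_lfp cls_lfp.bc cls_lfp.loc h𝒳 h𝒴 (repWith_lfp_of_smooth hf))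

/-- a kind of property of maps of spaces -/
abbrev TopP : Type (u + 2) :=
  ∀ {A B : Type (u + 1)} [TopologicalSpace A] [TopologicalSpace B], (A → B) → Prop

/-- invariance under homeomorphisms and descent along open surjective squares -/
structure GoodTopP (T : TopP.{u}) : Prop where
  conj : ∀ {A B A' B' : Type (u + 1)} [TopologicalSpace A] [TopologicalSpace B] [TopologicalSpace A']
    [TopologicalSpace B'] (h : A → B) (h' : A' → B') (a : A → A') (b : B → B'), IsHomeomorph a →
      IsHomeomorph b → (∀ x, h' (a x) = b (h x)) → (T h ↔ T h')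
  descend : ∀ {A B A' B' : Type (u + 1)} [TopologicalSpace A] [TopologicalSpace B] [TopologicalSpace A']
    [TopologicalSpace B'] (h : A → B) (g : A' → B') (p : A → A') (z : B → B'), IsOpenQuotientMap p →
      IsOpenQuotientMap z → Continuous g → (∀ x, g (p x) = z (h x)) →
      (∀ x v, g x = z v → ∃ a, p a = x ∧ h a = v) → T h → T g

theorem map_model (f : 𝒳 ⥤ᵇ 𝒴) {F W : Sp S} {y : AlgSt.ofSp W ⥤ᵇ 𝒴}
    (e : AlgSt.ofSp F ⥤ᵇ FibCat.fp y f) (a : F ⟶ W) (ha : a.hom = prjMap e) (x : AlgSp.Points F) :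
    AlgSt.Points.map (FibCat.fpFst y f) (AlgSt.Points.map e (stPts F x)) = stPts W (AlgSp.Points.map a x) := by
  rw [← map_comp_points, map_eq_stPts]
  exact congrArg (fun m => stPts W (AlgSp.Points.map m x)) (ObjectProperty.hom_ext _ ha.symm)

theorem univSp_iff_of_good {T : TopP.{u}} (hT : GoodTopP T) (Q : MorphismProperty (Sp S))
    (hQ : ∀ {F G : Sp S} (a : F ⟶ G), Q a ↔ T (AlgSp.Points.map a))
    (h𝒳 : IsAlgStack Scheme.fppfPrecoverage 𝒳) (h𝒴 : IsAlgStack Scheme.fppfPrecoverage 𝒴)
    (f : 𝒳 ⥤ᵇ 𝒴) (hf : RepByAlgSp1 f) :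
    RepByAlgSpWith (AlgSp.UnivSp Q) f ↔ ∀ (𝒵 : AlgSt.Cat S), IsAlgStack Scheme.fppfPrecoverage 𝒵 →
      ∀ (g : 𝒵 ⥤ᵇ 𝒴), T (AlgSt.Points.map (FibCat.fpFst g f)) := by
  constructor
  · intro H 𝒵 h𝒵 g
    obtain ⟨V, z, hz, hz'⟩ := h𝒵.atlas
    obtain ⟨F, e, he, hu⟩ := H V (BasedFunctor.comp z g)
    let Φ := BasedFunctor.comp e (FibCat.fpFst (BasedFunctor.comp z g) f)
    have hA := hu (IsAlgSpace.yon_obj V) (𝟙 _) (𝟙 _) (spMapOfOver Φ) IsPullback.of_id_fst
    rw [hQ] at hA
    have hV : IsAlgStack Scheme.fppfPrecoverage (FibCat.overCat V) :=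
      isAlgStack_of_equiv (isEquivOver_toOverCat V) (isAlgStack_spOf V)
    have hF : IsAlgStack Scheme.fppfPrecoverage (AlgSt.ofSp F.obj) :=
      (isDM_of_space ((isAlgSpaceP_obj_iff _).2 F.property)).1
    have hfp := isAlgStack_fp h𝒴.isStack h𝒴.diag h𝒵 h𝒳 g f
    have hfp' := isAlgStack_fp h𝒴.isStack h𝒴.diag hV h𝒳 (BasedFunctor.comp z g) f
    let p := prodFst g f z
    have hh : T (AlgSt.Points.map (FibCat.fpFst (BasedFunctor.comp z g) f)) := by
      refine (hT.conj (AlgSp.Points.map (spMapOfOver Φ)) _ (fun x => AlgSt.Points.map e (stPts F.obj x))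
        (fun x => AlgSt.Points.map (toOverCat V) (stPts ((yon S).obj V) x))
        ((isHomeomorph_map_of_equiv he hF).comp (isHomeomorph_stPts F))
        ((isHomeomorph_map_of_equiv (isEquivOver_toOverCat V) (isAlgStack_spOf V)).comp
          (isHomeomorph_stPts (spOf V))) fun x => ?_).1 hA
      have i : BasedFunctor.comp (BasedFunctor.comp Φ (ofOverCat V)) (toOverCat V) ≅ Φ := Iso.refl _
      have hm : (ObjectProperty.homMk (mapOf (BasedFunctor.comp Φ (ofOverCat V))) : F.obj ⟶ (yon S).obj V) =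
          spMapOfOver Φ := ObjectProperty.hom_ext _ (spMapOfOver_hom Φ).symm
      rw [← hm, ← map_eq_stPts, ← map_comp_points, ← map_comp_points]
      exact (map_congr_points i _).symm
    have hp₁ : RepByAlgSpWith (LocP @Smooth) p := repWith_prodFst g f z hz
    refine hT.descend _ _ (AlgSt.Points.map p) (AlgSt.Points.map z)
      ⟨isSurjective_of_repWith hfp'.isStack.1 hfp.isStack.1 (repWith_prodFst g f z hz'), continuous_map hfp p,
        isOpenMap_map_of_smooth hfp' hfp hp₁⟩
      ⟨isSurjective_of_repWith hV.isStack.1 h𝒵.isStack.1 hz', continuous_map h𝒵 z,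
        isOpenMap_map_of_smooth hV h𝒵 hz⟩
      (continuous_map h𝒵 _) (fun x => by rw [← map_comp_points, ← map_comp_points]; rfl)
      (fun x v hxv => ?_) hh
    obtain ⟨w, hw₁, hw₂⟩ := exists_points_fp hfp.isStack.1 h𝒵.isStack.1 hV.isStack.1 (FibCat.fpFst g f) z v x hxv.symm
    refine ⟨AlgSt.Points.map (pasteFun z g f) w, ?_, ?_⟩
    · rw [← map_comp_points, map_congr_points (fpExt (a := BasedFunctor.comp (pasteFun z g f) p) (b := FibCat.fpSnd z (FibCat.fpFst g f))
        (FibCat.fpIso z (FibCat.fpFst g f)) (Iso.refl _) fun o => ?_) w]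
      · exact hw₂
      · show g.map o.obj.iso.hom ≫ o.obj.snd.obj.iso.hom =
          (g.map o.obj.iso.hom ≫ o.obj.snd.obj.iso.hom) ≫ f.map (𝟙 _)
        rw [f.toFunctor.map_id]
        exact (Category.comp_id _).symm
    · rw [← map_comp_points]
      exact hw₁
  · intro H U y
    let y₀ := BasedFunctor.comp (toOverCat U) y
    obtain ⟨F, e, he⟩ := repByAlgSp_fp_yon hf U y₀
    refine ⟨F, BasedFunctor.comp e (slFun U y f), isEquivOver_comp he (isEquivOver_slFun U y f), ?_⟩
    intro Z Z' hZ g fst snd sq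
    have hsnd : (spMapOfOver (BasedFunctor.comp (BasedFunctor.comp e (slFun U y f)) (FibCat.fpFst y f))).hom =
        prjMap e := prjMap_slFun e
    have sq' := sq.map (sheafToPresheaf (J S) (Type (u + 1)))
    obtain ⟨e', he', hprj⟩ := exists_model_baseChange (f := f) g.hom he (P' := Z'.obj) (fst := fst.hom)
      (snd := snd.hom) (hsnd ▸ sq')
    have hZ' : IsAlgSpace Z' :=
      isAlgSpace_of_isPullback_space (IsAlgSpace.yon_obj U) F.property hZ sq
    have hZs : IsAlgStack Scheme.fppfPrecoverage (AlgSt.ofSp Z) :=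
      (isDM_of_space ((isAlgSpaceP_obj_iff _).2 hZ)).1
    have hZs' : IsAlgStack Scheme.fppfPrecoverage (AlgSt.ofSp Z') :=
      (isDM_of_space ((isAlgSpaceP_obj_iff _).2 hZ')).1
    rw [hQ]
    exact (hT.conj (AlgSp.Points.map snd) _ (fun x => AlgSt.Points.map e' (stPts Z' x)) (stPts Z)
      ((isHomeomorph_map_of_equiv he' hZs').comp (isHomeomorph_stPts ⟨Z', hZ'⟩)) (isHomeomorph_stPts ⟨Z, hZ⟩)
      (fun x => map_model f e' snd hprj.symm x)).2 (H (AlgSt.ofSp Z) hZs _)

theorem goodTopP_open : GoodTopP.{u} @IsOpenMap where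
  conj h h' a b ha hb e := by
    have e' : h' ∘ a = b ∘ h := funext e
    refine ⟨fun hh O hO => ?_, fun hh O hO => ?_⟩
    · have : h' '' O = b '' (h '' (a ⁻¹' O)) := by
        rw [← Set.image_comp, ← e', Set.image_comp, Set.image_preimage_eq _ ha.bijective.2]
      rw [this]
      exact hb.isOpenMap _ (hh _ (hO.preimage ha.continuous))
    · have : h '' O = b ⁻¹' (h' '' (a '' O)) := by
        rw [← Set.image_comp, e', Set.image_comp, Set.preimage_image_eq _ hb.bijective.1]
      rw [this]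
      exact (hh _ (ha.isOpenMap _ hO)).preimage hb.continuous
  descend h g p z hp hz _ e _ hh := fun O hO => by
    have : g '' O = z '' (h '' (p ⁻¹' O)) := by
      rw [← Set.image_comp, ← show g ∘ p = z ∘ h from funext e, Set.image_comp,
        Set.image_preimage_eq _ hp.surjective]
    rw [this]
    exact hz.isOpenMap _ (hh _ (hO.preimage hp.continuous))

theorem goodTopP_closed : GoodTopP.{u} @IsClosedMap where
  conj h h' a b ha hb e := by
    have e' : h' ∘ a = b ∘ h := funext e
    refine ⟨fun hh O hO => ?_, fun hh O hO => ?_⟩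
    · have : h' '' O = b '' (h '' (a ⁻¹' O)) := by
        rw [← Set.image_comp, ← e', Set.image_comp, Set.image_preimage_eq _ ha.bijective.2]
      rw [this]
      exact hb.isClosedMap _ (hh _ (hO.preimage ha.continuous))
    · have : h '' O = b ⁻¹' (h' '' (a '' O)) := by
        rw [← Set.image_comp, e', Set.image_comp, Set.preimage_image_eq _ hb.bijective.1]
      rw [this]
      exact (hh _ (ha.isClosedMap _ hO)).preimage hb.continuous
  descend h g p z hp hz _ e hc hh := fun C hC => by
    refine hz.isQuotientMap.isClosed_preimage.1 ?_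
    have : z ⁻¹' (g '' C) = h '' (p ⁻¹' C) := by
      ext v
      constructor
      · rintro ⟨x, hx, hxv⟩
        obtain ⟨a, rfl, rfl⟩ := hc x v hxv
        exact ⟨a, hx, rfl⟩
      · rintro ⟨a, ha, rfl⟩
        exact ⟨p a, ha, e a⟩
    rw [this]
    exact hh _ (hC.preimage hp.continuous)

theorem goodTopP_quotient : GoodTopP.{u} @IsQuotientMap where
  conj h h' a b ha hb e := by
    refine ⟨fun hh => ?_, fun hh => ?_⟩
    · have : h' = hb.homeomorph ∘ h ∘ ha.homeomorph.symm := funext fun x => by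
        obtain ⟨x, rfl⟩ := ha.bijective.2 x
        rw [e]
        exact congrArg b (congrArg h (ha.homeomorph.symm_apply_apply x).symm)
      rw [this]
      exact hb.homeomorph.isQuotientMap.comp (hh.comp ha.homeomorph.symm.isQuotientMap)
    · have : h = hb.homeomorph.symm ∘ h' ∘ ha.homeomorph := funext fun x => by
        show h x = hb.homeomorph.symm (h' (a x))
        rw [e]
        exact (hb.homeomorph.symm_apply_apply (h x)).symm
      rw [this]
      exact hb.homeomorph.symm.isQuotientMap.comp (hh.comp ha.homeomorph.isQuotientMap)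
  descend h g p z hp hz hg e _ hh :=
    IsQuotientMap.of_comp hp.continuous hg
      ((show g ∘ p = z ∘ h from funext e) ▸ hz.isQuotientMap.comp hh)

theorem goodTopP_injective : GoodTopP.{u} (fun {_ _} _ _ f => Function.Injective f) where
  conj h h' a b ha hb e := by
    refine ⟨fun hh x y exy => ?_, fun hh x y exy => ?_⟩
    · obtain ⟨x, rfl⟩ := ha.bijective.2 x
      obtain ⟨y, rfl⟩ := ha.bijective.2 y
      rw [e, e] at exy
      rw [hh (hb.bijective.1 exy)]
    · exact ha.bijective.1 (hh (by rw [e, e, exy]))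
  descend h g p z hp hz _ e hc hh := fun x x' exx => by
    obtain ⟨v, hv⟩ := hz.surjective (g x)
    obtain ⟨a, rfl, ha⟩ := hc x v hv.symm
    obtain ⟨a', rfl, ha'⟩ := hc x' v (exx ▸ hv.symm)
    rw [hh (ha.trans ha'.symm)]

theorem goodTopP_homeo : GoodTopP.{u} @IsHomeomorph where
  conj h h' a b ha hb e := by
    refine ⟨fun hh => ?_, fun hh => ?_⟩
    · have : h' = b ∘ h ∘ ha.homeomorph.symm := funext fun x => by
        obtain ⟨x, rfl⟩ := ha.bijective.2 x
        rw [e]
        exact congrArg b (congrArg h (ha.homeomorph.symm_apply_apply x).symm)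
      rw [this]
      exact hb.comp (hh.comp ha.homeomorph.symm.isHomeomorph)
    · have : h = hb.homeomorph.symm ∘ h' ∘ a := funext fun x => by
        show h x = hb.homeomorph.symm (h' (a x))
        rw [e]
        exact (hb.homeomorph.symm_apply_apply (h x)).symm
      rw [this]
      exact hb.homeomorph.symm.isHomeomorph.comp (hh.comp ha)
  descend h g p z hp hz hg e hc hh :=
    ⟨hg, goodTopP_open.descend h g p z hp hz hg e hc hh.isOpenMap,
      goodTopP_injective.descend h g p z hp hz hg e hc hh.bijective.1,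
      (goodTopP_quotient.descend h g p z hp hz hg e hc
        (hh.homeomorph.isQuotientMap : IsQuotientMap hh.homeomorph)).surjective⟩

end Groth.Agent.AlgStLib

end
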