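import Groth.Agent.AlgStLib.QC
import Groth.Agent.AlgStLib.LocQResults
import Groth.Agent.AlgStLib.AlgClosedLift
import Groth.Agent.EtaPt.Core
import Mathlib.RingTheory.Flat.TorsionFree
import Mathlib.RingTheory.Ideal.MinimalPrime.Localization

/-!
# Lifting valuation rings along flat morphisms of stacks
-/

set_option autoImplicit false
set_option backward.isDefEq.respectTransparency false
set_option backward.isDefEq.respectTransparency.types false
set_option linter.style.haveILetI false
universe u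

noncomputable section

namespace Groth.Agent.AlgStLib

open CategoryTheory CategoryTheory.Limits AlgebraicGeometry Opposite Groth.Agent.FibCatRep
  Groth.Agent.FibCat2Misc Groth.Agent.AlgSpLib Groth.Agent.StkBasic
open _root_.AlgSp _root_.AlgSt

variable {S : Scheme.{u}} {𝒳 𝒴 : AlgSt.Cat S}

/-- flat algebras over a valuation ring: extensions of valuation rings below a given prime -/
theorem exists_valuationRing_of_flat {A R : Type u} [CommRing A] [IsDomain A] [ValuationRing A] [CommRing R]
    (φ : A →+* R) (hflat : φ.Flat) (P : Ideal R) [P.IsPrime]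
    (hP : P.comap φ = IsLocalRing.maximalIdeal A) :
    ∃ (A' : Type u) (_ : CommRing A') (_ : IsDomain A') (_ : ValuationRing A') (ψ : R →+* A'),
      Function.Injective (ψ.comp φ) ∧ IsLocalHom (ψ.comp φ) := by
  obtain ⟨q, hq, hqP⟩ := Ideal.exists_minimalPrimes_le (I := (⊥ : Ideal R)) (J := P) bot_le
  haveI : q.IsPrime := hq.1.1
  let L := FractionRing (R ⧸ q)
  let j : R →+* L := (algebraMap (R ⧸ q) L).comp (Ideal.Quotient.mk q)
  have hj : RingHom.ker j = q := by
    ext r
    rw [RingHom.mem_ker, RingHom.comp_apply,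
      map_eq_zero_iff _ (IsFractionRing.injective (R ⧸ q) L), Ideal.Quotient.eq_zero_iff_mem]
  obtain ⟨V, g, hg, hker⟩ := Groth.Agent.EtaPtLib.exists_valuation j P (hj.trans_le hqP)
  refine ⟨V, inferInstance, inferInstance, inferInstance, g, ?_, ⟨fun a ha => ?_⟩⟩
  · rw [injective_iff_map_eq_zero]
    intro a ha
    by_contra h0
    letI := φ.toAlgebra
    haveI : Module.Flat A R := hflat
    have hreg : IsSMulRegular R a :=
      Module.Flat.isSMulRegular_of_nonZeroDivisors (mem_nonZeroDivisors_of_ne_zero h0)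
    have hmem : φ a ∈ nonZeroDivisors R := by
      refine mem_nonZeroDivisors_iff_right.2 fun r hr => ?_
      refine hreg ?_
      show a • r = a • 0
      rw [smul_zero, Algebra.smul_def, show algebraMap A R a = φ a from rfl, mul_comm, hr]
    refine Set.disjoint_left.1 (Ideal.disjoint_nonZeroDivisors_of_mem_minimalPrimes hq) ?_ hmem
    show φ a ∈ q
    rw [← hj, RingHom.mem_ker, ← hg, RingHom.comp_apply]
    rw [RingHom.comp_apply] at ha
    rw [ha, map_zero]
  · by_contra hna
    have : φ a ∈ P := by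
      rw [← Ideal.mem_comap, hP]
      exact hna
    rw [← hker, RingHom.mem_ker, RingHom.comp_apply, IsLocalRing.residue_eq_zero_iff] at this
    exact this ha

/-- equal composites with a chart of the slice -/
theorem ofChart_id_injective {U : Over S} {s t : ↥U.left}
    (h : AlgSt.Points.ofChart (BasedFunctor.id (FibCat.overCat U)) s =
      AlgSt.Points.ofChart (BasedFunctor.id (FibCat.overCat U)) t) : s = t := by
  obtain ⟨K, α, β, k, ⟨i⟩, hα, hβ⟩ := exists_common_point (isFibGrpd_overCat U) h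
  have e : α = β := by
    let m : (Over.map α).obj (Over.mk (𝟙 K)) ⟶ (Over.map β).obj (Over.mk (𝟙 K)) :=
      i.hom.toNatTrans.app (Over.mk (𝟙 K))
    have hm : m.left = eqToHom rfl := map_app i.hom (Over.mk (𝟙 K))
    have := Over.w m
    rw [hm] at this
    simpa using this.symm
  subst e
  exact hα.symm.trans hβ

/-- extensions of valuation rings lift along flat morphisms -/
theorem exists_valuationRing_lift (h𝒳 : IsAlgStack Scheme.fppfPrecoverage 𝒳)
    (h𝒴 : IsAlgStack Scheme.fppfPrecoverage 𝒴) (f : 𝒳 ⥤ᵇ 𝒴) (hf : LocQ (LocP @Flat) f)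
    (A : Type u) [CommRing A] [IsDomain A] [ValuationRing A] (sA : Spec (CommRingCat.of A) ⟶ S)
    (a : FibCat.overCat (Over.mk sA) ⥤ᵇ 𝒴)
    (ha : AlgSt.Points.ofChart a (IsLocalRing.closedPoint A) ∈ Set.range (AlgSt.Points.map f)) :
    ∃ (A' : Type u) (_ : CommRing A') (_ : IsDomain A') (_ : ValuationRing A') (φ : A →+* A'),
      Function.Injective φ ∧ IsLocalHom φ ∧
      ∃ x : FibCat.overCat (Over.mk (Spec.map (CommRingCat.ofHom φ) ≫ sA)) ⥤ᵇ 𝒳,
        Nonempty (BasedFunctor.comp x f ≅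
          BasedFunctor.comp (AlgSt.overMap (Over.homMk (Spec.map (CommRingCat.ofHom φ)) rfl :
            Over.mk (Spec.map (CommRingCat.ofHom φ) ≫ sA) ⟶ Over.mk sA)) a) := by
  let T : Over S := Over.mk sA
  let idT := BasedFunctor.id (FibCat.overCat T)
  have hT : IsAlgStack Scheme.fppfPrecoverage (FibCat.overCat T) :=
    isAlgStack_of_equiv (isEquivOver_toOverCat T) (isDM_of_space (isAlgSpaceP_yon T)).1
  have h𝒵 : IsAlgStack Scheme.fppfPrecoverage (FibCat.fp a f) := algFp h𝒴 hT h𝒳 a f
  have hf' : LocQ (LocP @Flat) (FibCat.fpFst a f) :=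
    locQ_fpFst_of_bc st_flat cls_flat.bc h𝒳 h𝒴 hT hf
  haveI : Etale (𝟙 T : T ⟶ T).left := inferInstanceAs (Etale (𝟙 T.left))
  have hy : RepByAlgSpWith (LocP @Smooth) idT := repWith_congr _ (overMapId T) (repWith_smooth_overMap (𝟙 T))
  have hy' : RepByAlgSpWith AlgSp.IsSurjectiveMor idT :=
    repWith_surjective_of_isSurjective (isFibGrpd_overCat T) (isFibGrpd_overCat T) (repByAlgSp1_of_with hy)
      fun p => ⟨p, map_id_points p⟩
  obtain ⟨U, h, x, α, hx, hx', hL⟩ := exists_good_square h𝒵 hT (FibCat.fpFst a f) T idT hy hy'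
  have hflat : Flat h.left := (locP_yon_iff etST_flat h).1
    ((locQ_iff_forall st_flat h𝒵 hT (FibCat.fpFst a f)).1 hf' U T x idT h α hx hy hL)
  -- a point over the closed point
  obtain ⟨q, hq⟩ := ha
  obtain ⟨w, hw, -⟩ := exists_points_fp h𝒳.isStack.1 h𝒴.isStack.1 (isFibGrpd_overCat T) f a
    (AlgSt.Points.ofChart idT (IsLocalRing.closedPoint A)) q hq.symm
  obtain ⟨p, hp⟩ := isSurjective_of_repWith (isFibGrpd_overCat U) h𝒵.isStack.1 hx' w
  obtain ⟨t, rfl⟩ := exists_ofChart_id p
  have ht : h.left t = IsLocalRing.closedPoint A := ofChart_id_injective (U := T) <| by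
    rw [← ofChart_overMap, ← hw, ← hp]
    exact (ofChart_congr α t).symm
  obtain ⟨_, ⟨V, hV, rfl⟩, htV, -⟩ :=
    U.left.isBasis_affineOpens.exists_subset_of_mem_open (Set.mem_univ t) isOpen_univ
  obtain ⟨φR, hφR⟩ := Spec.map_surjective (hV.fromSpec ≫ h.left : Spec Γ(U.left, V) ⟶ Spec (CommRingCat.of A))
  have hflR : φR.hom.Flat := by
    rw [← HasRingHomProperty.Spec_iff (P := @Flat), hφR]
    infer_instance
  let P := hV.primeIdealOf ⟨t, htV⟩
  have hP : P.asIdeal.comap φR.hom = IsLocalRing.maximalIdeal A := by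
    have e : Spec.map φR P = IsLocalRing.closedPoint A := by
      rw [hφR, Scheme.Hom.comp_apply, hV.fromSpec_primeIdealOf]
      exact ht
    exact congrArg PrimeSpectrum.asIdeal e
  obtain ⟨A', _, _, _, ψ, hinj, hloc⟩ := exists_valuationRing_of_flat φR.hom hflR P.asIdeal hP
  let φ : A →+* A' := ψ.comp φR.hom
  refine ⟨A', inferInstance, inferInstance, inferInstance, φ, hinj, hloc, ?_⟩
  let T' : Over S := Over.mk (Spec.map (CommRingCat.ofHom φ) ≫ sA)
  have key : (Spec.map (CommRingCat.ofHom ψ) ≫ hV.fromSpec) ≫ h.left = Spec.map (CommRingCat.ofHom φ) := by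
    rw [Category.assoc, ← hφR, ← Spec.map_comp]
    rfl
  let z : T' ⟶ U := Over.homMk (Spec.map (CommRingCat.ofHom ψ) ≫ hV.fromSpec) (by
    show _ ≫ U.hom = Spec.map (CommRingCat.ofHom φ) ≫ sA
    rw [← key, ← Over.w h, Category.assoc, Category.assoc]
    rfl)
  have hz : (Over.homMk (Spec.map (CommRingCat.ofHom φ)) rfl : T' ⟶ T) = z ≫ h :=
    Over.OverMorphism.ext key.symm
  refine ⟨BasedFunctor.comp (BasedFunctor.comp (AlgSt.overMap z) x) (FibCat.fpSnd a f), ⟨?_⟩⟩
  exact ((Stk.restr (BasedFunctor.comp (AlgSt.overMap z) x) _).mapIso (FibCat.fpIso a f)).symm ≪≫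
    (post _ a).mapIso ((Stk.restr (AlgSt.overMap z) _).mapIso α ≪≫ overMapComp z h ≪≫
      eqToIso (congrArg AlgSt.overMap hz.symm))

end Groth.Agent.AlgStLib
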