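import Groth.Agent.AlgStLib.ValLift
import Groth.Agent.AlgStLib.QC2
import Groth.Agent.SubDescent.FlatEmb
import Groth.Agent.ValLib.FieldPoint

/-!
# Valuation rings witnessing points in the closure of the image of a quasi-compact morphism
-/

set_option autoImplicit false
set_option backward.isDefEq.respectTransparency false
set_option backward.isDefEq.respectTransparency.types false
set_option linter.style.haveILetI false
universe u

noncomputable section

namespace Groth.Agent.AlgStLib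

open CategoryTheory CategoryTheory.Limits AlgebraicGeometry Opposite Groth.Agent.FibCatRep
  Groth.Agent.FibCat2Misc Groth.Agent.AlgSpLib Groth.Agent.StkBasic
open _root_.AlgSp _root_.AlgSt

variable {S : Scheme.{u}} {𝒳 𝒴 : AlgSt.Cat S}

/-- points of the closure of the image of a quasi-compact morphism are specializations along valuation rings -/
theorem exists_valuationRing_witness (h𝒳 : IsAlgStack Scheme.fppfPrecoverage 𝒳)
    (h𝒴 : IsAlgStack Scheme.fppfPrecoverage 𝒴) (f : 𝒳 ⥤ᵇ 𝒴)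
    (hf : AlgSt.IsQuasiCompactMor Scheme.fppfPrecoverage f)
    (y : AlgSt.Points 𝒴) (hy : y ∈ closure (Set.range (AlgSt.Points.map f))) :
    ∃ (A : Type u) (_ : CommRing A) (_ : IsDomain A) (_ : ValuationRing A) (sA : Spec (CommRingCat.of A) ⟶ S)
      (a : FibCat.overCat (Over.mk sA) ⥤ᵇ 𝒴)
      (x : FibCat.overCat (Over.mk (Spec.map (CommRingCat.ofHom (algebraMap A (FractionRing A))) ≫ sA)) ⥤ᵇ 𝒳),
      Nonempty (BasedFunctor.comp x f ≅
        BasedFunctor.comp (AlgSt.overMap (Over.homMk (Spec.map (CommRingCat.ofHom (algebraMap A (FractionRing A)))) rfl :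
          Over.mk (Spec.map (CommRingCat.ofHom (algebraMap A (FractionRing A))) ≫ sA) ⟶ Over.mk sA)) a) ∧
      AlgSt.Points.ofChart a (IsLocalRing.closedPoint A) = y := by
  obtain ⟨V, y₀, hs, hsu⟩ := h𝒴.atlas
  obtain ⟨p, hp⟩ := isSurjective_of_repWith (isFibGrpd_overCat V) h𝒴.isStack.1 hsu y
  obtain ⟨t, rfl⟩ := exists_ofChart_id p
  rw [map_ofChart] at hp
  obtain ⟨O, hO, htO, -⟩ :=
    exists_isAffineOpen_mem_and_subset (X := V.left) (x := t) (U := ⊤) trivial
  let V₀ : Over S := Over.mk (O.ι ≫ V.hom)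
  let d : V₀ ⟶ V := Over.homMk O.ι rfl
  haveI : IsAffine V₀.left := hO
  haveI : Etale d.left := inferInstanceAs (Etale O.ι)
  let v₀ : FibCat.overCat V₀ ⥤ᵇ 𝒴 := BasedFunctor.comp (AlgSt.overMap d) y₀
  have hv₀ : RepByAlgSpWith (LocP @Smooth) v₀ :=
    repWith_comp (isFibGrpd_overCat V₀) (isFibGrpd_overCat V) cls_smooth.bc cls_smooth.comp cls_smooth.loc
      (repWith_smooth_overMap d) hs
  let t₀ : ↥V₀.left := ⟨t, htO⟩
  have ht₀ : AlgSt.Points.ofChart v₀ t₀ = y := by
    rw [ofChart_overMap]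
    exact hp
  have hcl : t₀ ∈ closure (AlgSt.Points.ofChart v₀ ⁻¹' Set.range (AlgSt.Points.map f)) := by
    rw [← (isOpenMap_ofChart h𝒴.isStack.1 v₀ (repWith_flat_of_smooth hv₀)
      (repWith_lfp_of_smooth hv₀)).preimage_closure_eq_closure_preimage (continuous_ofChart h𝒴 v₀)]
    exact (congrArg (· ∈ closure (Set.range (AlgSt.Points.map f))) ht₀).mpr hy
  obtain ⟨U, x, hU, -, hxs⟩ := isQuasiCompact_fp_overCat hf V₀ v₀
  obtain ⟨h, ⟨i⟩⟩ := exists_overMap_iso (BasedFunctor.comp x (FibCat.fpFst v₀ f))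
  have hsub : AlgSt.Points.ofChart v₀ ⁻¹' Set.range (AlgSt.Points.map f) ⊆ h.left '' Set.univ := fun v' hv' => by
    obtain ⟨q, hq⟩ := hv'
    obtain ⟨w, hw, -⟩ := exists_points_fp h𝒳.isStack.1 h𝒴.isStack.1 (isFibGrpd_overCat V₀) f v₀
      (AlgSt.Points.ofChart (BasedFunctor.id (FibCat.overCat V₀)) v') q hq.symm
    obtain ⟨p', hp'⟩ := isSurjective_of_repWith (isFibGrpd_overCat U)
      (isFibGrpd_fp (isFibGrpd_overCat V₀) h𝒳.isStack.1 h𝒴.isStack.1 v₀ f) hxs w
    obtain ⟨u₀, rfl⟩ := exists_ofChart_id p'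
    refine ⟨u₀, trivial, ofChart_id_injective (U := V₀) ?_⟩
    rw [← ofChart_overMap, ← hw, ← hp']
    exact (ofChart_congr i u₀).symm
  haveI := hU
  haveI : IsAffineHom h.left := inferInstance
  obtain ⟨u₀, -, hu₀⟩ :=
    SubDescent.exists_specializes_of_mem_closure_image h.left isClosed_univ (closure_mono hsub hcl)
  let m : Spec (U.left.residueField u₀) ⟶ V₀.left := U.left.fromSpecResidueField u₀ ≫ h.left
  obtain ⟨B, c, hc, hBc⟩ := ValLib.exists_valuation_of_specializes (L := U.left.residueField u₀) m (w := t₀) (by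
    refine (congrArg (· ⤳ t₀) ?_).mpr hu₀
    exact (Scheme.Hom.comp_apply _ _ _).trans (congrArg _ (Scheme.fromSpecResidueField_apply u₀ _)))
  let sA : Spec (CommRingCat.of B) ⟶ S := c ≫ V₀.hom
  let a : FibCat.overCat (Over.mk sA) ⥤ᵇ 𝒴 :=
    BasedFunctor.comp (AlgSt.overMap (Over.homMk c rfl : Over.mk sA ⟶ V₀)) v₀
  let e : U.left.residueField u₀ →+* FractionRing B :=
    (FractionRing.algEquiv B (U.left.residueField u₀)).symm.toAlgHom.toRingHom
  have he : e.comp (algebraMap B (U.left.residueField u₀)) = algebraMap B (FractionRing B) :=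
    RingHom.ext fun b => (FractionRing.algEquiv B (U.left.residueField u₀)).symm.commutes b
  have key : (Spec.map (CommRingCat.ofHom e) ≫ U.left.fromSpecResidueField u₀) ≫ h.left =
      Spec.map (CommRingCat.ofHom (algebraMap B (FractionRing B))) ≫ c := by
    rw [Category.assoc, show U.left.fromSpecResidueField u₀ ≫ h.left =
      Spec.map (CommRingCat.ofHom (algebraMap B (U.left.residueField u₀))) ≫ c from hBc.symm,
      ← Spec.map_comp_assoc, ← CommRingCat.ofHom_comp, he]
  let T' : Over S := Over.mk (Spec.map (CommRingCat.ofHom (algebraMap B (FractionRing B))) ≫ sA)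
  let z : T' ⟶ U := Over.homMk (Spec.map (CommRingCat.ofHom e) ≫ U.left.fromSpecResidueField u₀) (by
    show (Spec.map (CommRingCat.ofHom e) ≫ U.left.fromSpecResidueField u₀) ≫ U.hom =
      Spec.map (CommRingCat.ofHom (algebraMap B (FractionRing B))) ≫ c ≫ V₀.hom
    rw [← Category.assoc, ← key, Category.assoc, Category.assoc, Category.assoc, Over.w h])
  have hz : z ≫ h = (Over.homMk (Spec.map (CommRingCat.ofHom (algebraMap B (FractionRing B)))) rfl :
      T' ⟶ Over.mk sA) ≫ (Over.homMk c rfl : Over.mk sA ⟶ V₀) := Over.OverMorphism.ext key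
  refine ⟨B, inferInstance, inferInstance, inferInstance, sA, a,
    BasedFunctor.comp (BasedFunctor.comp (AlgSt.overMap z) x) (FibCat.fpSnd v₀ f), ⟨?_⟩, ?_⟩
  · exact ((Stk.restr (BasedFunctor.comp (AlgSt.overMap z) x) _).mapIso (FibCat.fpIso v₀ f)).symm ≪≫
      (post _ v₀).mapIso ((Stk.restr (AlgSt.overMap z) _).mapIso i ≪≫ overMapComp z h ≪≫
        eqToIso (congrArg AlgSt.overMap hz) ≪≫ (overMapComp _ _).symm)
  · refine Eq.trans ?_ ht₀
    rw [ofChart_overMap]
    exact congrArg _ hc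

end Groth.Agent.AlgStLib
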